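import Cfsg.Agent.Lib.Fusion.Transfer

/-!
Abelian Sylow and Hall subgroups: transfer consequences, conjugacy of abelian Hall subgroups,
normal complements of nilpotent Hall subgroups controlling their own fusion.
-/

set_option autoImplicit false

namespace CfsgLib.Fusion.Abelian

open Subgroup
open scoped commutatorElement IsMulCommutative Pointwise
open CfsgLib.Fusion.Basic CfsgLib.Fusion.Transfer

variable {G : Type*} [Group G] {p : ℕ}

theorem card_focal_quotient_dvd (H : Subgroup G) :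
    Nat.card (H ⧸ H.focalSubgroupOf) ∣ ⁅H, H⁆.relIndex H :=
  relIndex_dvd_of_le_left H (commutator_le_focalSubgroup H)

theorem ker_transferFocal_inf [Finite G] (H : Subgroup G)
    (h : Nat.Coprime H.index (⁅H, H⁆.relIndex H)) :
    H.transferFocal.ker ⊓ H = H.focalSubgroup := by
  apply le_antisymm
  · rintro x ⟨hk, hx⟩
    have h1 := H.transferFocal_eq_pow ⟨x, hx⟩
    rw [MonoidHom.mem_ker.mp hk] at h1
    have h2 : ((⟨x, hx⟩ : H) : H ⧸ H.focalSubgroupOf) = 1 :=
      orderOf_eq_one_iff.mp (Nat.eq_one_of_dvd_coprimes h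
        (orderOf_dvd_of_pow_eq_one h1.symm)
        ((_root_.orderOf_dvd_natCard _).trans (card_focal_quotient_dvd H)))
    exact (QuotientGroup.eq_one_iff (⟨x, hx⟩ : H)).mp h2
  · exact le_inf (H.focalSubgroup_le_commutator.trans
      (Abelianization.commutator_subset_ker _)) H.focalSubgroup_le

theorem transferFocal_surjective_of_coprime [Finite G] (H : Subgroup G)
    (h : Nat.Coprime H.index (⁅H, H⁆.relIndex H)) (q : H ⧸ H.focalSubgroupOf) :
    ∃ x : H, H.transferFocal x = q := by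
  have hco : (Nat.card (H ⧸ H.focalSubgroupOf)).Coprime H.index :=
    (h.coprime_dvd_right (card_focal_quotient_dvd H)).symm
  obtain ⟨r, rfl⟩ := (powCoprime hco).surjective q
  obtain ⟨x, rfl⟩ := QuotientGroup.mk_surjective r
  exact ⟨x, H.transferFocal_eq_pow x⟩

theorem focal_of_coprime [Finite G] (H : Subgroup G)
    (h : Nat.Coprime H.index (⁅H, H⁆.relIndex H)) :
    H.focalSubgroup = _root_.commutator G ⊓ H ∧
      H.transferFocal.ker ⊔ H = ⊤ := by
  refine ⟨le_antisymm (le_inf H.focalSubgroup_le_commutator H.focalSubgroup_le)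
    ((inf_le_inf_right _ (Abelianization.commutator_subset_ker _)).trans
      (ker_transferFocal_inf H h).le), eq_top_iff.mpr fun g _ => ?_⟩
  obtain ⟨x, hx⟩ := transferFocal_surjective_of_coprime H h (H.transferFocal g)
  rw [show g = (g * (x : G)⁻¹) * x by group]
  refine mul_mem_sup ?_ x.2
  rw [MonoidHom.mem_ker, map_mul, map_inv, hx, mul_inv_cancel]

/-- An abelian Hall subgroup meets `G' ∩ Z(G)` trivially. -/
theorem inf_commutator_inf_center [Finite G] (H : Subgroup G) (hc : IsMulCommutative H)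
    (hHall : Nat.Coprime (Nat.card H) H.index) :
    H ⊓ _root_.commutator G ⊓ center G = ⊥ := by
  rw [eq_bot_iff]
  rintro x ⟨⟨hxH, hxG⟩, hxZ⟩
  have h1 := transfer_eq_pow_of_central (MonoidHom.id H) (x := ⟨x, hxH⟩) hxZ
  rw [MonoidHom.mem_ker.mp (Abelianization.commutator_subset_ker
    (MonoidHom.transfer (MonoidHom.id H)) hxG)] at h1
  have h3 : orderOf (⟨x, hxH⟩ : H) = 1 := Nat.eq_one_of_dvd_coprimes hHall (_root_.orderOf_dvd_natCard _)
    (orderOf_dvd_of_pow_eq_one h1.symm)
  simpa using congrArg Subtype.val (orderOf_eq_one_iff.mp h3)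

theorem coprime_relIndex_commutator [Finite G] (A : Subgroup G) (N : Subgroup G)
    (hHall : Nat.Coprime (Nat.card A) A.index) : Nat.Coprime A.index (N.relIndex A) :=
  (hHall.coprime_dvd_left (relIndex_dvd_card N A)).symm

/-- An abelian normal Hall subgroup is `[A, G] × (A ∩ Z(G))`. -/
theorem normal_hall_decomp [Finite G] (A : Subgroup G) [A.Normal] (hc : IsMulCommutative A)
    (hHall : Nat.Coprime (Nat.card A) A.index) :
    ⁅A, (⊤ : Subgroup G)⁆ = _root_.commutator G ⊓ A ∧
      (_root_.commutator G ⊓ A) ⊓ (center G ⊓ A) = ⊥ ∧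
      (_root_.commutator G ⊓ A) ⊔ (center G ⊓ A) = A := by
  have hle : ⁅A, (⊤ : Subgroup G)⁆ ≤ _root_.commutator G ⊓ A :=
    le_inf (commutator_mono le_top le_rfl) (commutator_le_left _ _)
  have hfoc : A.focalSubgroup ≤ ⁅A, (⊤ : Subgroup G)⁆ := by
    rw [focalSubgroup_def, closure_le]
    rintro _ ⟨-, x, hx, u, rfl⟩
    exact commutator_mem_commutator hx (mem_top u)
  have hf := focal_of_coprime A (coprime_relIndex_commutator A _ hHall)
  have h1 : ⁅A, (⊤ : Subgroup G)⁆ = _root_.commutator G ⊓ A :=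
    le_antisymm hle (hf.1 ▸ hfoc)
  refine ⟨h1, ?_, le_antisymm (sup_le inf_le_right inf_le_right) fun a ha => ?_⟩
  · rw [eq_bot_iff]
    intro x hx
    have := inf_commutator_inf_center A hc hHall
    exact this.le ⟨⟨hx.1.2, hx.1.1⟩, hx.2.1⟩
  classical
  have : Fintype (G ⧸ A) := Fintype.ofFinite _
  let c0 : G → A := fun x => ⟨x⁻¹ * a * x, by
    simpa using (inferInstance : A.Normal).conj_mem a ha x⁻¹⟩
  let c : G ⧸ A → A := fun q => Quotient.liftOn' q c0 fun x y hxy => by
    have hy : x⁻¹ * y ∈ A := QuotientGroup.leftRel_apply.mp hxy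
    have hcomm : (x⁻¹ * a * x) * (x⁻¹ * y) = (x⁻¹ * y) * (x⁻¹ * a * x) :=
      congrArg Subtype.val (hc.is_comm.comm (c0 x) ⟨_, hy⟩)
    refine Subtype.ext ?_
    show x⁻¹ * a * x = y⁻¹ * a * y
    calc x⁻¹ * a * x = (x⁻¹ * y)⁻¹ * ((x⁻¹ * y) * (x⁻¹ * a * x)) := by group
      _ = (x⁻¹ * y)⁻¹ * ((x⁻¹ * a * x) * (x⁻¹ * y)) := by rw [hcomm]
      _ = y⁻¹ * a * y := by group
  let b : A := ∏ q : G ⧸ A, c q
  have hb : (b : G) ∈ center G := by
    rw [mem_center_iff]
    intro g
    let ψ : A →* A := ((MulAut.conjNormal g⁻¹ : MulAut A)).toMonoidHom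
    have hψ : ψ b = b := by
      show ψ (∏ q : G ⧸ A, c q) = _
      rw [map_prod]
      refine Fintype.prod_equiv (Equiv.mulRight (QuotientGroup.mk g : G ⧸ A)) _ _ fun q => ?_
      induction q using QuotientGroup.induction_on with
      | H x =>
        refine Subtype.ext ?_
        show ((MulAut.conjNormal g⁻¹ (c0 x) : A) : G) = (x * g)⁻¹ * a * (x * g)
        rw [MulAut.conjNormal_apply]
        simp only [c0]
        group
    have h2 : g⁻¹ * (b : G) * g⁻¹⁻¹ = b := by
      rw [← MulAut.conjNormal_apply]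
      exact congrArg Subtype.val hψ
    calc g * (b : G) = g * (g⁻¹ * (b : G) * g⁻¹⁻¹) := by rw [h2]
      _ = b * g := by group
  let M : Subgroup A := ((_root_.commutator G ⊓ A) ⊔ (center G ⊓ A)).subgroupOf A
  have hmod : ∀ q, QuotientGroup.mk' M (c q) = QuotientGroup.mk' M ⟨a, ha⟩ := by
    intro q
    induction q using QuotientGroup.induction_on with
    | H x =>
      refine ((QuotientGroup.eq (s := M)).mpr (?_ : (⟨a, ha⟩ : A)⁻¹ * c0 x ∈ M)).symm
      refine mem_sup_left ?_
      show a⁻¹ * (x⁻¹ * a * x) ∈ _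
      refine ⟨?_, A.mul_mem (A.inv_mem ha) (c0 x).2⟩
      rw [show a⁻¹ * (x⁻¹ * a * x) = ⁅a⁻¹, x⁻¹⁆ by rw [commutatorElement_def]; group]
      exact commutator_mem_commutator (mem_top _) (mem_top _)
  have hb' : QuotientGroup.mk' M b = 1 :=
    (QuotientGroup.eq_one_iff b).mpr (mem_sup_right ⟨hb, b.2⟩)
  rw [show QuotientGroup.mk' M b = ∏ q, QuotientGroup.mk' M (c q) from map_prod _ _ _] at hb'
  simp only [hmod, Finset.prod_const, Finset.card_univ] at hb'
  rw [← Nat.card_eq_fintype_card] at hb'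
  have hone := Nat.eq_one_of_dvd_coprimes hHall
    ((orderOf_map_dvd (QuotientGroup.mk' M) (⟨a, ha⟩ : A)).trans (_root_.orderOf_dvd_natCard _))
    (orderOf_dvd_of_pow_eq_one hb')
  exact (QuotientGroup.eq_one_iff (⟨a, ha⟩ : A)).mp (orderOf_eq_one_iff.mp hone)

/-- Burnside: a Sylow subgroup centralised by its normalizer. -/
theorem npc_of_normalizer_le_centralizer [Finite G] [Fact p.Prime] (P : Sylow p G)
    (h : normalizer (P : Set G) ≤ centralizer (P : Set G)) :
    Cfsg.HasNormalPComplement p G :=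
  ⟨P, _, inferInstance, MonoidHom.ker_transferSylow_isComplement' P h⟩

/-- An abelian Sylow subgroup none of whose possible automorphisms has order dividing `|G|`. -/
theorem npc_of_arith [Finite G] [Fact p.Prime] (P : Sylow p G) (hP : IsMulCommutative P)
    (h : ∀ q : ℕ, q.Prime → q ∣ Nat.card G → q ≠ p →
      ∀ d, d ∣ Nat.card P → d < Nat.card P → ¬ q ∣ Nat.card P - d) :
    Cfsg.HasNormalPComplement p G := by
  refine npc_of_normalizer_le_centralizer P ?_
  by_contra hle
  set f := (P : Subgroup G).normalizerMonoidHom with hf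
  have hne : Nontrivial f.range := by
    rw [nontrivial_iff_ne_bot, Ne, MonoidHom.range_eq_bot_iff]
    intro h1
    apply hle
    intro g hg
    have h2 : (⟨g, hg⟩ : normalizer ((P : Subgroup G) : Set G)) ∈ f.ker := by
      rw [h1]; exact MonoidHom.mem_ker.mpr rfl
    rw [hf, normalizerMonoidHom_ker] at h2
    exact h2
  obtain ⟨q, hq, hqr⟩ := Nat.exists_prime_and_dvd Finite.one_lt_card.ne'
    (n := Nat.card f.range)
  have hqG : q ∣ Nat.card G :=
    (hqr.trans (card_range_dvd f)).trans (card_subgroup_dvd_card _)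
  have hqp : q ≠ p := by
    rintro rfl
    have h3 : Nat.card f.range ∣ (P : Subgroup G).index := by
      rw [← index_ker]
      refine (index_dvd_of_le (H := (P : Subgroup G).subgroupOf _) ?_).trans
        (relIndex_dvd_index_of_le le_normalizer)
      rw [hf, normalizerMonoidHom_ker]
      intro x hx
      exact Subgroup.le_centralizer (P : Subgroup G) hx
    exact P.not_dvd_index (hqr.trans h3)
  have := Fact.mk hq
  obtain ⟨φ, hφ⟩ := exists_prime_orderOf_dvd_card' q hqr
  have hφ' : orderOf (φ : MulAut P) = q := by rw [Subgroup.orderOf_coe, hφ]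
  set α : MulAut P := (φ : MulAut P)
  let F : Subgroup P := (α.toMonoidHom).eqLocus (MonoidHom.id _)
  have hZ : IsPGroup q (zpowers α) :=
    IsPGroup.of_card (n := 1) (by rw [Nat.card_zpowers, hφ', pow_one])
  have hmod := hZ.card_modEq_card_fixedPoints P
  have hfix : MulAction.fixedPoints (zpowers α) P = (F : Set P) := by
    ext x
    refine ⟨fun hx => hx ⟨α, mem_zpowers α⟩, fun hx a => ?_⟩
    obtain ⟨_, k, rfl⟩ := a
    have : zpowers α ≤ MulAction.stabilizer (MulAut P) x :=
      zpowers_le.mpr (show α • x = x from hx)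
    exact this ⟨k, rfl⟩
  rw [hfix] at hmod
  have hlt : Nat.card F < Nat.card P := by
    refine lt_of_le_of_ne (Nat.card_le_card_of_injective _ F.subtype_injective) fun he => ?_
    have htop : F = ⊤ := eq_top_of_card_eq F he
    have : α = 1 := by
      ext x
      have : x ∈ F := htop ▸ mem_top x
      exact congrArg Subtype.val (show α x = x from this)
    rw [this, orderOf_one] at hφ'
    exact hq.ne_one hφ'.symm
  exact h q hq hqG hqp (Nat.card F) (card_subgroup_dvd_card F) hlt
    ((Nat.modEq_iff_dvd' hlt.le).mp hmod.symm)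

/-! ### Hall subgroups -/

theorem sup_centralizer_eq_top [Finite G] [Group.IsNilpotent G] [Fact p.Prime] (P : Sylow p G) :
    (P : Subgroup G) ⊔ centralizer (P : Set G) = ⊤ := by
  by_contra hne
  obtain ⟨q, hq, hqd⟩ := Nat.exists_prime_and_dvd (mt index_eq_one.mp hne)
  have := Fact.mk hq
  have hnormal : ∀ (r : ℕ) [Fact r.Prime] (Q : Sylow r G), (Q : Subgroup G).Normal := fun r _ Q =>
    Q.normal_of_normalizerCondition Group.normalizerCondition_of_isNilpotent
  obtain ⟨Q⟩ : Nonempty (Sylow q G) := inferInstance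
  have hQ : (Q : Subgroup G) ≤ (P : Subgroup G) ⊔ centralizer (P : Set G) := by
    by_cases hqp : q = p
    · subst hqp
      have := hnormal q P
      have := Sylow.unique_of_normal P this
      rw [Subsingleton.elim Q P]
      exact le_sup_left
    · refine le_trans ?_ le_sup_right
      intro x hx y hy
      exact Subgroup.commute_of_normal_of_disjoint _ _ (hnormal p P) (hnormal q Q)
        (IsPGroup.disjoint_of_ne p q (Ne.symm hqp) _ _ P.2 Q.2) y x hy hx
  exact Q.not_dvd_index (hqd.trans (index_dvd_of_le hQ))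

theorem exists_pow_mul_pow {g : G} [Finite G] {a b : ℕ} (hab : Nat.Coprime a b)
    (hg : orderOf g ∣ a * b) : ∃ i j : ℤ, g = g ^ ((a : ℤ) * i) * g ^ ((b : ℤ) * j) := by
  refine ⟨Nat.gcdA a b, Nat.gcdB a b, ?_⟩
  have := Nat.gcd_eq_gcd_ab a b
  rw [hab.gcd_eq_one] at this
  rw [← zpow_add, ← this]
  simp

theorem conj_of_abelian_hall_aux : ∀ (n : ℕ) {G : Type*} [Group G] [Finite G]
    (H K : Subgroup G), IsMulCommutative H → IsMulCommutative K →
    Nat.card H = n → Nat.card K = n → Nat.Coprime n H.index →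
    ∃ g : G, ∀ x, x ∈ H → g * x * g⁻¹ ∈ K := by
  intro n
  induction n using Nat.strong_induction_on with
  | h n ih =>
  intro G _ _ H K hH hK hcH hcK hco
  rcases Nat.lt_or_ge 1 n with hn | hn
  swap
  · refine ⟨1, fun x hx => ?_⟩
    have : H = ⊥ := Subgroup.eq_bot_of_card_le H (hcH ▸ hn)
    rw [this, mem_bot] at hx
    simp [hx]
  obtain ⟨q, hq, hqn⟩ := Nat.exists_prime_and_dvd hn.ne'
  have := Fact.mk hq
  obtain ⟨k, m, hm, hnm⟩ := Nat.exists_eq_pow_mul_and_not_dvd (by omega : n ≠ 0) q hq.ne_one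
  obtain ⟨SH⟩ : Nonempty (Sylow q H) := inferInstance
  obtain ⟨SK⟩ : Nonempty (Sylow q K) := inferInstance
  have hindexK : K.index = H.index := by
    have h1 := H.card_mul_index
    rw [← K.card_mul_index, hcH, hcK] at h1
    exact (Nat.eq_of_mul_eq_mul_left (by omega) h1).symm
  have hqH : ¬ q ∣ H.index := fun hd =>
    hq.ne_one (Nat.eq_one_of_dvd_coprimes hco hqn hd)
  have hsyl : ∀ (L : Subgroup G), ¬ q ∣ L.index → ∀ (S : Sylow q L),
      ¬ q ∣ ((S : Subgroup L).map L.subtype).index := by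
    intro L hL S hd
    rw [index_map_subtype] at hd
    rcases hq.dvd_mul.mp hd with h | h
    · exact S.not_dvd_index h
    · exact hL h
  let TH : Sylow q G := (SH.2.map H.subtype).toSylow (hsyl H hqH SH)
  let TK : Sylow q G := (SK.2.map K.subtype).toSylow (hsyl K (hindexK ▸ hqH) SK)
  obtain ⟨g₁, hg₁⟩ := MulAction.exists_smul_eq G TH TK
  -- move `H` so that the Sylow subgroups agree
  set H₁ := H.map (MulAut.conj g₁).toMonoidHom with hH₁
  let C := centralizer ((TK : Subgroup G) : Set G)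
  have hTKK : (TK : Subgroup G) ≤ K := map_subtype_le _
  have hTKH₁ : (TK : Subgroup G) ≤ H₁ := by
    rw [← hg₁]
    rintro _ ⟨u, hu, rfl⟩
    exact ⟨u, map_subtype_le (SH : Subgroup H) hu, rfl⟩
  have hH₁c : IsMulCommutative H₁ := by
    refine ⟨⟨?_⟩⟩
    rintro ⟨_, a, ha, rfl⟩ ⟨_, b, hb, rfl⟩
    refine Subtype.ext ?_
    show (MulAut.conj g₁).toMonoidHom a * _ = _ * _
    rw [← map_mul, show a * b = b * a from congrArg Subtype.val (hH.is_comm.comm ⟨a, ha⟩ ⟨b, hb⟩),
      map_mul]
  have hcH₁ : Nat.card H₁ = n := by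
    rw [hH₁, card_map_of_injective (MulAut.conj g₁).injective, hcH]
  have hTKcard : Nat.card TK = q ^ k := by
    obtain ⟨e, he⟩ := TK.2.exists_card_eq
    have h1 : Nat.card TK ∣ q ^ k * m := hnm ▸ hcK ▸ card_dvd_of_le hTKK
    have h2 : q ^ k ∣ Nat.card TK :=
      TK.pow_dvd_card_of_pow_dvd_card ((dvd_mul_right _ m).trans
        (hnm ▸ hcK ▸ card_subgroup_dvd_card K))
    rw [he] at h1 h2 ⊢
    exact congrArg (q ^ ·) (le_antisymm ((Nat.pow_dvd_pow_iff_le_right hq.one_lt).mp
      (Nat.Coprime.dvd_of_dvd_mul_right (((Nat.Prime.coprime_iff_not_dvd hq).mpr hm).pow_left e)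
        h1)) ((Nat.pow_dvd_pow_iff_le_right hq.one_lt).mp h2))
  have hk : 0 < k := by
    rcases Nat.eq_zero_or_pos k with rfl | h
    · rw [pow_zero, one_mul] at hnm
      exact absurd (hnm ▸ hqn) hm
    · exact h
  have hmlt : m < n := by
    rw [hnm]
    exact lt_mul_of_one_lt_left (Nat.pos_of_ne_zero fun h => by simp [h] at hnm; omega)
      (Nat.one_lt_pow hk.ne' hq.one_lt)
  -- the `q'`-parts, as subgroups of `C`
  let part (L : Subgroup G) (hL : IsMulCommutative L) : Subgroup C :=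
    ((L.subgroupOf C) ⊓
      { carrier := {x : C | x ^ m = 1 ∧ (x : G) ∈ L}
        one_mem' := ⟨one_pow m, L.one_mem⟩
        mul_mem' := fun {a b} ha hb => ⟨by
          have hab : Commute a b := Subtype.ext
            (congrArg Subtype.val (hL.is_comm.comm ⟨(a : G), ha.2⟩ ⟨(b : G), hb.2⟩) :)
          rw [hab.mul_pow, ha.1, hb.1, one_mul], L.mul_mem ha.2 hb.2⟩
        inv_mem' := fun {a} ha => ⟨by rw [inv_pow, ha.1, inv_one], L.inv_mem ha.2⟩ })
  have hLC : ∀ L : Subgroup G, IsMulCommutative L → (TK : Subgroup G) ≤ L → L ≤ C :=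
    fun L hL hle => (Subgroup.le_centralizer L).trans (centralizer_le hle)
  have hsplit : ∀ (L : Subgroup G) (hL : IsMulCommutative L), (TK : Subgroup G) ≤ L →
      Nat.card L = n → IsMulCommutative (part L hL) ∧ Nat.card (part L hL) = m ∧
        ∀ x ∈ L, ∃ u ∈ (TK : Subgroup G), ∃ y ∈ part L hL, x = u * (y : G) := by
    intro L hL hle hcL
    have hcomm : IsMulCommutative (part L hL) := ⟨⟨fun a b => Subtype.ext (Subtype.ext
      (congrArg Subtype.val (hL.is_comm.comm ⟨_, a.2.1⟩ ⟨_, b.2.1⟩) :))⟩⟩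
    have hdec : ∀ x ∈ L, ∃ u ∈ (TK : Subgroup G), ∃ y ∈ part L hL, x = u * (y : G) := by
      intro x hx
      have hox : orderOf x ∣ m * q ^ k := by
        rw [mul_comm, ← hnm, ← hcL]; exact Subgroup.orderOf_dvd_natCard L hx
      obtain ⟨i, j, hij⟩ := exists_pow_mul_pow
        (((Nat.Prime.coprime_iff_not_dvd hq).mpr hm).pow_left k).symm hox
      have hyL : x ^ (((q ^ k : ℕ) : ℤ) * j) ∈ L := zpow_mem hx _
      refine ⟨x ^ ((m : ℤ) * i), ?_, ⟨_, hLC L hL hle hyL⟩, ⟨hyL, ?_, hyL⟩, hij⟩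
      · -- a `q`-element of the abelian group `L` lies in its Sylow subgroup
        have huL : x ^ ((m : ℤ) * i) ∈ L := zpow_mem hx _
        have hu1 : (x ^ ((m : ℤ) * i)) ^ (q ^ k) = 1 := by
          rw [← zpow_natCast, ← zpow_mul,
            show (m : ℤ) * i * ((q ^ k : ℕ) : ℤ) = ((m * q ^ k : ℕ) : ℤ) * i by push_cast; ring,
            zpow_mul, zpow_natCast, orderOf_dvd_iff_pow_eq_one.mp hox, one_zpow]
        have hp' : IsPGroup q ((TK : Subgroup G) ⊔ zpowers (x ^ ((m : ℤ) * i)) : Subgroup G) := by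
          refine IsPGroup.to_sup_of_normal_right' TK.2 ?_ ?_
          · intro w
            obtain ⟨_, l, rfl⟩ := w
            refine ⟨k, Subtype.ext ?_⟩
            show ((x ^ ((m : ℤ) * i)) ^ l) ^ q ^ k = 1
            rw [← zpow_natCast, zpow_comm, zpow_natCast, hu1, one_zpow]
          · intro w hw
            refine mem_normalizer_iff.mpr fun z => ?_
            have hwz : ∀ z ∈ zpowers (x ^ ((m : ℤ) * i)), w * z * w⁻¹ = z := by
              intro z hz
              have := congrArg Subtype.val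
                (hL.is_comm.comm ⟨w, hle hw⟩ ⟨z, zpowers_le.mpr huL hz⟩)
              rw [show w * z = z * w from this, mul_inv_cancel_right]
            refine ⟨fun hz => by rwa [hwz z hz], fun hz => ?_⟩
            have := hwz _ hz
            have h2 : w * z * w⁻¹ = z := mul_right_cancel (b := w⁻¹) (mul_left_cancel (a := w)
              (by simpa [mul_assoc] using this))
            rwa [h2] at hz
        rw [← TK.3 hp' le_sup_left]
        exact mem_sup_right (mem_zpowers _)
      · refine Subtype.ext ?_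
        show (x ^ (((q ^ k : ℕ) : ℤ) * j)) ^ m = 1
        rw [← zpow_natCast, ← zpow_mul,
          show ((q ^ k : ℕ) : ℤ) * j * (m : ℤ) = ((m * q ^ k : ℕ) : ℤ) * j by push_cast; ring,
          zpow_mul, zpow_natCast, orderOf_dvd_iff_pow_eq_one.mp hox, one_zpow]
    refine ⟨hcomm, ?_, hdec⟩
    let ev : ↥(TK : Subgroup G) × part L hL → L := fun uy =>
      ⟨(uy.1 : G) * ((uy.2 : C) : G), L.mul_mem (hle uy.1.2) uy.2.2.1⟩
    have hev : Function.Bijective ev := by
      refine ⟨?_, fun x => ?_⟩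
      · rintro ⟨u, y⟩ ⟨u', y'⟩ he
        have he' : (u : G) * ((y : C) : G) = (u' : G) * ((y' : C) : G) := congrArg Subtype.val he
        have hd : ((u⁻¹ * u' : (TK : Subgroup G)) : G) = (((y * y'⁻¹ : part L hL) : C) : G) := by
          have := congrArg (fun t => (u : G)⁻¹ * t * ((y' : C) : G)⁻¹) he'
          simpa [mul_assoc] using this.symm
        have h1 : orderOf ((u⁻¹ * u' : (TK : Subgroup G)) : G) ∣ q ^ k := by
          rw [← hTKcard]; exact Subgroup.orderOf_dvd_natCard _ (u⁻¹ * u').2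
        have h2 : orderOf ((u⁻¹ * u' : (TK : Subgroup G)) : G) ∣ m := by
          rw [hd]
          exact orderOf_dvd_of_pow_eq_one (congrArg Subtype.val (y * y'⁻¹).2.2.1)
        have h3 := orderOf_eq_one_iff.mp (Nat.eq_one_of_dvd_coprimes
          (((Nat.Prime.coprime_iff_not_dvd hq).mpr hm).pow_left k) h1 h2)
        have hu : u = u' := inv_mul_eq_one.mp (Subtype.ext h3)
        subst hu
        exact Prod.ext rfl (Subtype.ext (Subtype.ext (mul_left_cancel he')))
      · obtain ⟨u, hu, y, hy, he⟩ := hdec x x.2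
        exact ⟨(⟨u, hu⟩, ⟨y, hy⟩), Subtype.ext he.symm⟩
    have h1 := Nat.card_congr (Equiv.ofBijective ev hev)
    rw [Nat.card_prod, hcL, hnm] at h1
    rw [show Nat.card (TK : Subgroup G) = q ^ k from hTKcard] at h1
    exact Nat.eq_of_mul_eq_mul_left (pow_pos hq.pos k) h1
  obtain ⟨hc1, hn1, hd1⟩ := hsplit H₁ hH₁c hTKH₁ hcH₁
  obtain ⟨hc2, hn2, -⟩ := hsplit K hK hTKK hcK
  have hindex : Nat.Coprime m (part H₁ hH₁c).index := by
    have hmn : m ∣ n := hnm ▸ dvd_mul_left _ _
    refine Nat.Coprime.coprime_dvd_right ?_ (Nat.Coprime.mul_right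
      (((Nat.Prime.coprime_iff_not_dvd hq).mpr hm).pow_left k).symm
      (hco.coprime_dvd_left hmn))
    have hC : Nat.card C ∣ n * H.index := hcH ▸ H.card_mul_index ▸ card_subgroup_dvd_card C
    rw [← (part H₁ hH₁c).card_mul_index, hn1, hnm, mul_comm (q ^ k) m, mul_assoc] at hC
    exact (mul_dvd_mul_iff_left (fun h => by simp [h] at hnm; omega)).mp hC
  obtain ⟨c, hc⟩ := ih m hmlt (part H₁ hH₁c) (part K hK) hc1 hc2 hn1 hn2 hindex
  refine ⟨(c : G) * g₁, fun x hx => ?_⟩
  obtain ⟨u, hu, y, hy, he⟩ := hd1 (g₁ * x * g₁⁻¹) ⟨x, hx, rfl⟩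
  have hcu : (c : G) * u * (c : G)⁻¹ = u := by
    rw [← c.2 u hu, mul_inv_cancel_right]
  have h5 : (c : G) * g₁ * x * ((c : G) * g₁)⁻¹ =
      ((c : G) * u * (c : G)⁻¹) * ((c : G) * (y : G) * (c : G)⁻¹) := by
    rw [show (c : G) * g₁ * x * ((c : G) * g₁)⁻¹ = (c : G) * (g₁ * x * g₁⁻¹) * (c : G)⁻¹ by group,
      he]
    group
  rw [h5, hcu]
  exact mul_mem (hTKK hu) (hc y hy).1

/-- Two abelian Hall subgroups of the same order are conjugate. -/
theorem conj_of_abelian_hall [Finite G] (H K : Subgroup G) (hH : IsMulCommutative H)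
    (hK : IsMulCommutative K) (hHall : Nat.Coprime (Nat.card H) H.index)
    (hcard : Nat.card K = Nat.card H) :
    ∃ g : G, ∀ x, x ∈ H ↔ g * x * g⁻¹ ∈ K := by
  obtain ⟨g, hg⟩ := conj_of_abelian_hall_aux _ H K hH hK rfl hcard hHall
  refine ⟨g, fun x => ⟨hg x, fun hx => ?_⟩⟩
  have hmap : H.map (MulAut.conj g).toMonoidHom = K := by
    refine eq_of_le_of_card_ge (by rintro _ ⟨y, hy, rfl⟩; exact hg y hy) ?_
    rw [hcard, card_map_of_injective (MulAut.conj g).injective]
  obtain ⟨y, hy, he⟩ := hmap ▸ hx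
  have : y = x := by simpa using he
  exact this ▸ hy

/-- A nilpotent Hall subgroup controlling its own fusion has a normal complement. -/
theorem exists_complement_of_controls [Finite G] (H : Subgroup G) (hH : Group.IsNilpotent H)
    (hHall : Nat.Coprime (Nat.card H) H.index)
    (hf : ∀ x ∈ H, ∀ y ∈ H, (∃ g : G, g * x * g⁻¹ = y) → ∃ h ∈ H, h * x * h⁻¹ = y) :
    ∃ N : Subgroup G, N.Normal ∧ N.IsComplement' H := by
  let N : Subgroup G := ⨅ p ∈ (Nat.card H).primeFactors, Cfsg.pResidual p G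
  have hNn : N.Normal := normal_iInf_normal fun p => normal_iInf_normal fun _ => inferInstance
  have hnpc : ∀ p ∈ (Nat.card H).primeFactors, Nat.Coprime (Nat.card (Cfsg.pResidual p G)) p := by
    intro p hp
    have := Fact.mk (Nat.prime_of_mem_primeFactors hp)
    have hpH : p ∣ Nat.card H := Nat.dvd_of_mem_primeFactors hp
    obtain ⟨S⟩ : Nonempty (Sylow p H) := inferInstance
    have hnd : ¬ p ∣ ((S : Subgroup H).map H.subtype).index := by
      intro hd
      rw [index_map_subtype] at hd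
      rcases (Fact.out : p.Prime).dvd_mul.mp hd with h | h
      · exact S.not_dvd_index h
      · exact (Fact.out : p.Prime).ne_one (Nat.eq_one_of_dvd_coprimes hHall hpH h)
    let P : Sylow p G := (S.2.map H.subtype).toSylow hnd
    refine npc_iff_coprime.mp (npc_of_controls_self P ?_)
    rintro _ ⟨x, hxS, rfl⟩ g ⟨y, hyS, hy⟩
    obtain ⟨h, hh, he⟩ := hf (x : G) x.2 (y : G) y.2 ⟨g, hy.symm⟩
    have hdec : (⟨h, hh⟩ : H) ∈ (S : Subgroup H) ⊔ centralizer (S : Set H) := by
      rw [sup_centralizer_eq_top S]; exact mem_top _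
    have hSn : (S : Subgroup H).Normal :=
      S.normal_of_normalizerCondition Group.normalizerCondition_of_isNilpotent
    obtain ⟨u, hu, c, hc, huc⟩ : ∃ u ∈ (S : Subgroup H), ∃ c ∈ centralizer (S : Set H),
        (⟨h, hh⟩ : H) = u * c := by
      have h6 : (⟨h, hh⟩ : H) ∈
          (((S : Subgroup H) ⊔ centralizer (S : Set H) : Subgroup H) : Set H) := hdec
      rw [normal_mul] at h6
      obtain ⟨u, hu, c, hc, e⟩ := Set.mem_mul.mp h6
      exact ⟨u, hu, c, hc, e.symm⟩
    refine ⟨u, ⟨u, hu, rfl⟩, ?_⟩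
    show (u : G) * (x : G) * (u : G)⁻¹ = g * (x : G) * g⁻¹
    rw [show g * (x : G) * g⁻¹ = (y : G) from hy.symm, ← he,
      show h = (u : G) * c from congrArg Subtype.val huc]
    have hcx : (c : G) * x * (c : G)⁻¹ = x := by
      have e : (c : G) * x = x * c := (congrArg Subtype.val (hc x hxS)).symm
      rw [e, mul_inv_cancel_right]
    calc (u : G) * x * (u : G)⁻¹ = (u : G) * ((c : G) * x * (c : G)⁻¹) * (u : G)⁻¹ := by rw [hcx]
      _ = _ := by group
  have hNle : ∀ p ∈ (Nat.card H).primeFactors, N ≤ Cfsg.pResidual p G := fun p hp => iInf₂_le p hp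
  refine ⟨N, hNn, isComplement'_of_disjoint_and_mul_eq_univ ?_ ?_⟩
  · rw [disjoint_iff]
    refine eq_bot_of_card_eq _ (Nat.eq_one_of_dvd_coprimes (?_ : Nat.Coprime (Nat.card N) (Nat.card H))
      (card_dvd_of_le inf_le_left) (card_dvd_of_le inf_le_right))
    refine Nat.coprime_of_dvd fun q hq hqN hqH => ?_
    have hq' : q ∈ (Nat.card H).primeFactors :=
      Nat.mem_primeFactors.mpr ⟨hq, hqH, Nat.card_pos.ne'⟩
    exact hq.ne_one (Nat.eq_one_of_dvd_coprimes (hnpc q hq')
      (hqN.trans (card_dvd_of_le (hNle q hq'))) dvd_rfl)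
  · rw [← normal_mul]
    suffices N ⊔ H = ⊤ by rw [this]; rfl
    rw [← index_eq_one]
    refine Nat.eq_one_of_dvd_coprimes ?_ (index_dvd_of_le le_sup_left) (index_dvd_of_le le_sup_right)
    refine Nat.coprime_of_dvd fun q hq hqN hqH => ?_
    have := Fact.mk hq
    obtain ⟨Q⟩ : Nonempty (Sylow q G) := inferInstance
    refine Q.not_dvd_index (hqN.trans (index_dvd_of_le ?_))
    refine le_iInf₂ fun p hp => fun x hx => mem_pResidual_of_coprime ?_
    obtain ⟨e, he⟩ := Q.2.exists_card_eq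
    refine Nat.Coprime.coprime_dvd_left (he ▸ Subgroup.orderOf_dvd_natCard _ hx)
      (((Nat.coprime_primes hq (Nat.prime_of_mem_primeFactors hp)).mpr ?_).pow_left e)
    rintro rfl
    exact hq.ne_one (Nat.eq_one_of_dvd_coprimes hHall (Nat.dvd_of_mem_primeFactors hp) hqH)

end CfsgLib.Fusion.Abelian
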