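import Cfsg.Agent.Lib.Fusion.Transfer

/-!
Alperin's fusion theorem for finite groups (tame intersections) and the normal p-complement
theorem of Frobenius.
-/

set_option autoImplicit false

namespace CfsgLib.Fusion.Alperin

open Subgroup
open scoped Pointwise
open CfsgLib.Fusion.Basic CfsgLib.Fusion.Transfer

variable {G : Type*} [Group G] {p : ℕ}

/-- `H` conjugated by `x` on the right, `x⁻¹ H x`. -/
def rconj (x : G) (H : Subgroup G) : Subgroup G := H.map (MulAut.conj x⁻¹).toMonoidHom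

theorem coe_rconj (x : G) (H : Subgroup G) :
    (rconj x H : Set G) = (fun a => x⁻¹ * a * x) '' (H : Set G) := by
  rw [rconj, coe_map]
  exact Set.image_congr fun a _ => by simp

theorem mem_rconj {x a : G} {H : Subgroup G} : a ∈ rconj x H ↔ x * a * x⁻¹ ∈ H := by
  rw [← SetLike.mem_coe, coe_rconj]
  refine ⟨?_, fun h => ⟨_, h, by group⟩⟩
  rintro ⟨b, hb, rfl⟩
  rwa [show x * (x⁻¹ * b * x) * x⁻¹ = b by group]

theorem rconj_mul (x y : G) (H : Subgroup G) : rconj (x * y) H = rconj y (rconj x H) := by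
  ext a
  simp only [mem_rconj, mul_assoc, mul_inv_rev]

theorem card_rconj (x : G) (H : Subgroup G) : Nat.card (rconj x H) = Nat.card H :=
  card_map_of_injective (MulAut.conj x⁻¹).injective

theorem rconj_inf (x : G) (H K : Subgroup G) : rconj x (H ⊓ K) = rconj x H ⊓ rconj x K := by
  ext a; simp [mem_rconj]

theorem rconj_mono {x : G} {H K : Subgroup G} (h : H ≤ K) : rconj x H ≤ rconj x K := map_mono h

theorem rconj_eq_self_of_mem {x : G} {H : Subgroup G} (hx : x ∈ normalizer (H : Set G)) :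
    rconj x H = H := by
  ext a
  rw [mem_rconj]
  exact (mem_normalizer_iff.mp hx a).symm

theorem mem_normalizer_of_rconj_eq {x : G} {H : Subgroup G} (h : rconj x H = H) :
    x ∈ normalizer (H : Set G) :=
  mem_normalizer_iff.mpr fun a => by rw [← mem_rconj, h]

theorem rconj_normalizer (x : G) (D : Subgroup G) :
    rconj x (normalizer (D : Set G)) = normalizer (rconj x D : Set G) := by
  ext a
  rw [mem_rconj, mem_normalizer_iff, mem_normalizer_iff]
  constructor
  · intro h b
    simp only [mem_rconj]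
    rw [h (x * b * x⁻¹), show x * a * x⁻¹ * (x * b * x⁻¹) * (x * a * x⁻¹)⁻¹ =
      x * (a * b * a⁻¹) * x⁻¹ by group]
  · intro h b
    have h2 := h (x⁻¹ * b * x)
    simp only [mem_rconj] at h2
    rwa [show x * (x⁻¹ * b * x) * x⁻¹ = b by group,
      show x * (a * (x⁻¹ * b * x) * a⁻¹) * x⁻¹ = x * a * x⁻¹ * b * (x * a * x⁻¹)⁻¹ by group] at h2

theorem coe_inv_smul (x : G) (R : Sylow p G) :
    ((x⁻¹ • R : Sylow p G) : Subgroup G) = rconj x (R : Subgroup G) := rfl

theorem relIndex_rconj (x : G) (H K : Subgroup G) :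
    (rconj x H).relIndex (rconj x K) = H.relIndex K :=
  relIndex_map_map_of_injective H K (MulAut.conj x⁻¹).injective

/-- The intersection of the Sylow subgroups `P`, `Q` is tame. -/
def Tame (P Q : Sylow p G) : Prop :=
  ¬ p ∣ ((P : Subgroup G) ⊓ normalizer ((((P : Subgroup G) ⊓ (Q : Subgroup G)) : Subgroup G) : Set G)).relIndex
      (normalizer ((((P : Subgroup G) ⊓ (Q : Subgroup G)) : Subgroup G) : Set G)) ∧
  ¬ p ∣ ((Q : Subgroup G) ⊓ normalizer ((((P : Subgroup G) ⊓ (Q : Subgroup G)) : Subgroup G) : Set G)).relIndex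
      (normalizer ((((P : Subgroup G) ⊓ (Q : Subgroup G)) : Subgroup G) : Set G))

/-- `Chain P A g`: conjugation of `A` by `g` factors through normalizers of tame intersections. -/
inductive Chain (P : Sylow p G) : Set G → G → Prop
  | nil (A : Set G) : A ⊆ (P : Set G) → Chain P A 1
  | cons (A : Set G) (Q : Sylow p G) (x g : G) : Tame P Q →
      x ∈ normalizer ((((P : Subgroup G) ⊓ (Q : Subgroup G)) : Subgroup G) : Set G) →
      A ⊆ (((P : Subgroup G) ⊓ (Q : Subgroup G) : Subgroup G) : Set G) →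
      Chain P ((fun a => x⁻¹ * a * x) '' A) g → Chain P A (x * g)

theorem image_mul (x y : G) (A : Set G) :
    (fun a => (x * y)⁻¹ * a * (x * y)) '' A =
      (fun a => y⁻¹ * a * y) '' ((fun a => x⁻¹ * a * x) '' A) := by
  rw [← Set.image_comp]
  exact Set.image_congr fun a _ => by simp [mul_assoc]

theorem Chain.mono {P : Sylow p G} {A : Set G} {g : G} (h : Chain P A g) :
    ∀ {B : Set G}, B ⊆ A → Chain P B g := by
  induction h with
  | nil A hA => exact fun hB => Chain.nil _ (hB.trans hA)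
  | cons A Q x g ht hx hA _ ih =>
    exact fun hB => Chain.cons _ Q x g ht hx (hB.trans hA) (ih (Set.image_mono hB))

theorem Chain.image_subset {P : Sylow p G} {A : Set G} {g : G} (h : Chain P A g) :
    (fun a => g⁻¹ * a * g) '' A ⊆ (P : Set G) := by
  induction h with
  | nil A hA => simpa using hA
  | cons A Q x g ht hx hA _ ih => rwa [image_mul]

theorem Chain.append {P : Sylow p G} {A : Set G} {g : G} (h : Chain P A g) {g' : G}
    (h' : Chain P ((fun a => g⁻¹ * a * g) '' A) g') : Chain P A (g * g') := by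
  induction h with
  | nil A hA => simpa using h'
  | cons A Q x g ht hx hA _ ih =>
    rw [mul_assoc]
    exact Chain.cons A Q x _ ht hx hA (ih (by rwa [← image_mul]))

theorem Chain.rconj_le {P : Sylow p G} {D : Subgroup G} {g : G} (h : Chain P (D : Set G) g) :
    rconj g D ≤ (P : Subgroup G) := by
  intro a ha
  refine h.image_subset ?_
  rwa [← coe_rconj]

variable [Finite G] [Fact p.Prime]

theorem exists_gt_of_lt_sylow (P : Sylow p G) {D : Subgroup G} (h : D < (P : Subgroup G)) :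
    D < (P : Subgroup G) ⊓ normalizer (D : Set G) := by
  refine lt_of_le_of_ne (le_inf h.le le_normalizer) fun he => ?_
  have hnil : Group.IsNilpotent P := P.2.isNilpotent
  have hlt : D.subgroupOf P < ⊤ := by
    rw [lt_top_iff_ne_top, Ne, subgroupOf_eq_top]
    exact not_le_of_gt h
  obtain ⟨u, hu, hu'⟩ := SetLike.exists_of_lt
    (Group.normalizerCondition_of_isNilpotent (D.subgroupOf P) hlt)
  refine hu' ?_
  show (u : G) ∈ D
  rw [he]
  refine ⟨u.2, mem_normalizer_iff.mpr fun z => ?_⟩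
  constructor
  · intro hz
    exact (mem_normalizer_iff.mp hu ⟨z, h.le hz⟩).mp hz
  · intro hz
    have hz' : z ∈ (P : Subgroup G) := by
      have h3 := (P : Subgroup G).mul_mem ((P : Subgroup G).mul_mem ((P : Subgroup G).inv_mem u.2)
        (h.le hz)) u.2
      rwa [show (u : G)⁻¹ * ((u : G) * z * (u : G)⁻¹) * u = z by group] at h3
    exact (mem_normalizer_iff.mp hu ⟨z, hz'⟩).mpr hz

/-- Reachability of `P` from `R` keeping `P ⊓ R` inside `P`. -/
def Reach (P R : Sylow p G) : Prop :=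
  ∃ x : G, Chain P (((P : Subgroup G) ⊓ (R : Subgroup G) : Subgroup G) : Set G) x ∧ x⁻¹ • R = P

theorem reach_step {P R : Sylow p G} {x : G}
    (ih : ∀ R' : Sylow p G, Nat.card ((P : Subgroup G) ⊓ (R : Subgroup G) : Subgroup G) <
      Nat.card ((P : Subgroup G) ⊓ (R' : Subgroup G) : Subgroup G) → Reach P R')
    (hc : Chain P (((P : Subgroup G) ⊓ (R : Subgroup G) : Subgroup G) : Set G) x)
    (hlt : Nat.card ((P : Subgroup G) ⊓ (R : Subgroup G) : Subgroup G) <
      Nat.card ((P : Subgroup G) ⊓ ((x⁻¹ • R : Sylow p G) : Subgroup G) : Subgroup G)) :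
    Reach P R := by
  obtain ⟨y, hy, hy'⟩ := ih _ hlt
  refine ⟨x * y, hc.append (hy.mono ?_), by rw [mul_inv_rev, mul_smul, hy']⟩
  rw [← coe_rconj]
  exact SetLike.coe_subset_coe.mpr
    (le_inf hc.rconj_le (coe_inv_smul x R ▸ rconj_mono inf_le_right))

theorem card_lt_of_rconj_le {P R : Sylow p G} {x : G} {E : Subgroup G}
    (hgt : (P : Subgroup G) ⊓ (R : Subgroup G) < E)
    (hP : rconj x E ≤ (P : Subgroup G)) (hR : E ≤ (R : Subgroup G)) :
    Nat.card ((P : Subgroup G) ⊓ (R : Subgroup G) : Subgroup G) <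
      Nat.card ((P : Subgroup G) ⊓ ((x⁻¹ • R : Sylow p G) : Subgroup G) : Subgroup G) := by
  calc _ < Nat.card E := by
        by_contra hc
        exact hgt.ne (eq_of_le_of_card_ge hgt.le (not_lt.mp hc))
    _ = Nat.card (rconj x E) := (card_rconj x E).symm
    _ ≤ _ := card_le_of_le (le_inf hP (coe_inv_smul x R ▸ rconj_mono hR))

theorem reach_of_sylow_normalizer {P R : Sylow p G} (hne : R ≠ P)
    (ih : ∀ R' : Sylow p G, Nat.card ((P : Subgroup G) ⊓ (R : Subgroup G) : Subgroup G) <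
      Nat.card ((P : Subgroup G) ⊓ (R' : Subgroup G) : Subgroup G) → Reach P R')
    (hsyl : ¬ p ∣ ((P : Subgroup G) ⊓ normalizer ((((P : Subgroup G) ⊓ (R : Subgroup G)) : Subgroup G) : Set G)).relIndex
      (normalizer ((((P : Subgroup G) ⊓ (R : Subgroup G)) : Subgroup G) : Set G))) :
    Reach P R := by
  have hDR : (P : Subgroup G) ⊓ (R : Subgroup G) < (R : Subgroup G) :=
    lt_of_le_of_ne inf_le_right fun he =>
      hne (Sylow.ext (R.3 P.2 (he ▸ inf_le_left)).symm)
  set D := (P : Subgroup G) ⊓ (R : Subgroup G) with hD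
  set N := normalizer (D : Set G)
  have hR' := exists_gt_of_lt_sylow R hDR
  obtain ⟨L, hL⟩ := ((R.2.to_le inf_le_left).of_equiv
    (subgroupOfEquivOfLe (inf_le_right : (R : Subgroup G) ⊓ N ≤ N)).symm).exists_le_sylow
  let U : Sylow p N := sylowSubgroupOf (inf_le_right : (P : Subgroup G) ⊓ N ≤ N)
    (P.2.to_le inf_le_left) hsyl
  obtain ⟨n, hn⟩ := MulAction.exists_smul_eq N L U
  obtain ⟨T, hT⟩ := (L.2.map N.subtype).exists_le_sylow
  have hRT : (R : Subgroup G) ⊓ N ≤ (T : Subgroup G) := fun r hr =>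
    hT ⟨⟨r, hr.2⟩, hL hr, rfl⟩
  have hnU : rconj ((n : G))⁻¹ ((L : Subgroup N).map N.subtype) = (P : Subgroup G) ⊓ N := by
    rw [← map_sylowSubgroupOf (inf_le_right : (P : Subgroup G) ⊓ N ≤ N) (P.2.to_le inf_le_left)
      hsyl]
    show rconj ((n : G))⁻¹ _ = (U : Subgroup N).map N.subtype
    rw [← hn, Sylow.coe_subgroup_smul]
    ext a
    rw [mem_rconj]
    constructor
    · rintro ⟨l, hl, hla⟩
      refine ⟨n * l * n⁻¹, smul_mem_pointwise_smul l (MulAut.conj n) _ hl, ?_⟩
      show (n : G) * (l : G) * (n : G)⁻¹ = a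
      rw [show (l : G) = _ from hla]; group
    · rintro ⟨m, hm, rfl⟩
      have hm : (MulAut.conj n)⁻¹ • m ∈ (L : Subgroup N) :=
        mem_pointwise_smul_iff_inv_smul_mem.mp hm
      refine ⟨n⁻¹ * m * n, by simpa [MulAut.smul_def, -Sylow.coe_coe] using hm, ?_⟩
      show (n : G)⁻¹ * (m : G) * (n : G) = _
      group; rfl
  have hDT : D ≤ (P : Subgroup G) ⊓ (T : Subgroup G) :=
    le_inf inf_le_left ((le_inf inf_le_right le_normalizer).trans hRT)
  rcases lt_or_eq_of_le hDT with hlt | heq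
  · obtain ⟨y, hy, hy'⟩ := ih T (by
      by_contra hc
      exact hlt.ne (eq_of_le_of_card_ge hlt.le (not_lt.mp hc)))
    refine reach_step ih (hy.mono (SetLike.coe_subset_coe.mpr hDT))
      (card_lt_of_rconj_le hR' ?_ inf_le_left)
    have : rconj y (T : Subgroup G) = (P : Subgroup G) := by rw [← coe_inv_smul, hy']
    exact this ▸ rconj_mono hRT
  · have htame : Tame P T := by
      unfold Tame
      rw [← heq]
      refine ⟨hsyl, fun h => L.not_dvd_index (h.trans ?_)⟩
      refine index_dvd_of_le (fun l hl => ?_)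
      exact ⟨hT ⟨l, hl, rfl⟩, l.2⟩
    have hn' : ((n : G))⁻¹ ∈ N := inv_mem n.2
    have hnD : ((n : G))⁻¹ ∈
        normalizer ((((P : Subgroup G) ⊓ (T : Subgroup G)) : Subgroup G) : Set G) := by
      rw [← heq]; exact hn'
    have hc : Chain P (D : Set G) ((n : G)⁻¹ * 1) := by
      refine Chain.cons _ T _ 1 htame hnD (SetLike.coe_subset_coe.mpr hDT) (Chain.nil _ ?_)
      rw [← coe_rconj, rconj_eq_self_of_mem hn']
      exact (SetLike.coe_subset_coe.mpr (inf_le_left : D ≤ (P : Subgroup G)))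
    rw [mul_one] at hc
    refine reach_step ih hc (card_lt_of_rconj_le hR' ?_ inf_le_left)
    refine (rconj_mono ?_).trans (hnU.le.trans inf_le_left)
    intro r hr
    exact ⟨⟨r, hr.2⟩, hL hr, rfl⟩

theorem reach (P R : Sylow p G) : Reach P R := by
  suffices ∀ k, ∀ R : Sylow p G,
      Nat.card G - Nat.card ((P : Subgroup G) ⊓ (R : Subgroup G) : Subgroup G) = k → Reach P R from
    this _ R rfl
  intro k
  induction k using Nat.strong_induction_on with
  | h k ihk =>
  intro R hk
  have ih : ∀ R' : Sylow p G, Nat.card ((P : Subgroup G) ⊓ (R : Subgroup G) : Subgroup G) <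
      Nat.card ((P : Subgroup G) ⊓ (R' : Subgroup G) : Subgroup G) → Reach P R' := fun R' h => by
    refine ihk _ ?_ R' rfl
    have := card_le_card_group ((P : Subgroup G) ⊓ (R' : Subgroup G))
    omega
  by_cases hne : R = P
  · subst hne
    exact ⟨1, Chain.nil _ (SetLike.coe_subset_coe.mpr inf_le_left), by simp⟩
  have hDP : (P : Subgroup G) ⊓ (R : Subgroup G) < (P : Subgroup G) :=
    lt_of_le_of_ne inf_le_left fun he => hne (Sylow.ext (P.3 R.2 (he ▸ inf_le_right)))
  set D := (P : Subgroup G) ⊓ (R : Subgroup G) with hD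
  set N := normalizer (D : Set G)
  have hP' := exists_gt_of_lt_sylow P hDP
  obtain ⟨M, hM⟩ := ((P.2.to_le inf_le_left).of_equiv
    (subgroupOfEquivOfLe (inf_le_right : (P : Subgroup G) ⊓ N ≤ N)).symm).exists_le_sylow
  obtain ⟨S, hS⟩ := (M.2.map N.subtype).exists_le_sylow
  have hPS : (P : Subgroup G) ⊓ N ≤ (P : Subgroup G) ⊓ (S : Subgroup G) :=
    le_inf inf_le_left fun u hu => hS ⟨⟨u, hu.2⟩, hM hu, rfl⟩
  obtain ⟨x, hx, hx'⟩ := ih S (by
    refine lt_of_lt_of_le ?_ (card_le_of_le hPS)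
    by_contra hc
    exact hP'.ne (eq_of_le_of_card_ge hP'.le (not_lt.mp hc)))
  have hc : Chain P (D : Set G) x :=
    hx.mono (SetLike.coe_subset_coe.mpr (hP'.le.trans hPS))
  by_cases hlt : Nat.card D <
      Nat.card ((P : Subgroup G) ⊓ ((x⁻¹ • R : Sylow p G) : Subgroup G) : Subgroup G)
  · exact reach_step ih hc hlt
  set R1 := x⁻¹ • R with hR1
  have hD1 : rconj x D = (P : Subgroup G) ⊓ (R1 : Subgroup G) := by
    refine eq_of_le_of_card_ge (le_inf hc.rconj_le (rconj_mono inf_le_right)) ?_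
    rw [card_rconj]
    exact not_lt.mp hlt
  have hcard : Nat.card ((P : Subgroup G) ⊓ (R1 : Subgroup G) : Subgroup G) = Nat.card D := by
    rw [← hD1, card_rconj]
  have hne1 : R1 ≠ P := by
    intro he
    rw [he, inf_idem] at hcard
    exact hDP.ne (eq_of_le_of_card_ge hDP.le hcard.le)
  obtain ⟨y, hy, hy'⟩ := reach_of_sylow_normalizer hne1
    (fun R' h => ih R' (hcard ▸ h)) (by
      rw [← hD1, ← rconj_normalizer]
      intro h
      refine M.not_dvd_index ?_
      have h1 : (rconj x ((M : Subgroup N).map N.subtype)).relIndex (rconj x N) =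
          (M : Subgroup N).index := by
        rw [relIndex_rconj, relIndex, subgroupOf, comap_map_eq_self_of_injective N.subtype_injective]
      rw [← h1]
      refine h.trans (relIndex_dvd_of_le_left _ (le_inf ?_ (rconj_mono (map_subtype_le _))))
      have : rconj x (S : Subgroup G) = (P : Subgroup G) := by rw [← coe_inv_smul, hx']
      exact this ▸ rconj_mono hS)
  refine ⟨x * y, hc.append (hy.mono ?_), by rw [mul_inv_rev, mul_smul, ← hR1, hy']⟩
  rw [← coe_rconj, hD1]

/-- Alperin's fusion theorem. -/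
theorem chain_of_conj (P : Sylow p G) (A : Set G) (g : G) (hA : A ⊆ (P : Set G))
    (hAg : (fun a => g⁻¹ * a * g) '' A ⊆ (P : Set G)) : Chain P A g := by
  obtain ⟨x, hx, hx'⟩ := reach P (g • P)
  have hAD : A ⊆ (((P : Subgroup G) ⊓ ((g • P : Sylow p G) : Subgroup G) : Subgroup G) : Set G) := by
    intro a ha
    refine ⟨hA ha, ?_⟩
    rw [show g • P = (g⁻¹)⁻¹ • P by rw [inv_inv], coe_inv_smul]
    show a ∈ rconj g⁻¹ (P : Subgroup G)
    rw [mem_rconj, inv_inv]
    exact hAg ⟨a, ha, rfl⟩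
  have hn : x⁻¹ * g ∈ normalizer (P : Set G) :=
    Sylow.smul_eq_iff_mem_normalizer.mp (by rw [mul_smul, hx'])
  have htame : Tame P P := by
    unfold Tame
    rw [inf_idem]
    have : (P : Subgroup G) ⊓ normalizer ((P : Subgroup G) : Set G) = P :=
      inf_eq_left.mpr le_normalizer
    rw [this]
    exact ⟨fun h => P.not_dvd_index (h.trans (relIndex_dvd_index_of_le le_normalizer)),
      fun h => P.not_dvd_index (h.trans (relIndex_dvd_index_of_le le_normalizer))⟩
  have h2 := (hx.mono hAD).image_subset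
  have := (hx.mono hAD).append (g' := x⁻¹ * g * 1)
    (Chain.cons _ P _ 1 htame (by rw [inf_idem]; exact hn) (by rw [inf_idem]; exact h2)
      (Chain.nil _ (by
        rw [← image_mul]
        simpa using hAg)))
  simpa using this

/-- The normal p-complement theorem of Frobenius. -/
theorem npc_of_frobenius (P : Sylow p G)
    (h : ∀ Q : Subgroup G, Q ≤ (P : Subgroup G) → ∀ g ∈ normalizer (Q : Set G),
      Nat.Coprime (orderOf g) p → g ∈ centralizer (Q : Set G)) :
    Cfsg.HasNormalPComplement p G := by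
  refine npc_of_controls_self P fun a ha g hga => ?_
  have hch := chain_of_conj P {a} g⁻¹ (Set.singleton_subset_iff.mpr ha)
    (by rw [Set.image_singleton, inv_inv]; exact Set.singleton_subset_iff.mpr hga)
  suffices ∀ (A : Set G) (w : G), Chain P A w → ∃ u ∈ (P : Subgroup G),
      ∀ b ∈ A, u⁻¹ * b * u = w⁻¹ * b * w by
    obtain ⟨u, hu, hb⟩ := this _ _ hch
    refine ⟨u⁻¹, (P : Subgroup G).inv_mem hu, ?_⟩
    simpa using hb a rfl
  intro A w hw
  induction hw with
  | nil A _ => exact ⟨1, one_mem _, fun _ _ => rfl⟩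
  | cons A Q x w ht hx hA _ ih =>
    obtain ⟨v, hv, hvb⟩ := ih
    set N := normalizer ((((P : Subgroup G) ⊓ (Q : Subgroup G)) : Subgroup G) : Set G)
    let U : Sylow p N := sylowSubgroupOf (inf_le_right : (P : Subgroup G) ⊓ N ≤ N)
      (P.2.to_le inf_le_left) ht.1
    obtain ⟨c, hc, u, hu, hxe⟩ := exists_eq_pResidual_mul U ⟨x, hx⟩
    have hu' : (u : G) ∈ (P : Subgroup G) ⊓ N := hu
    refine ⟨(u : G) * v, mul_mem hu'.1 hv, fun b hb => ?_⟩
    have hle : (Cfsg.pResidual p N).map N.subtype ≤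
        centralizer ((((P : Subgroup G) ⊓ (Q : Subgroup G)) : Subgroup G) : Set G) := by
      rw [map_le_iff_le_comap, Cfsg.pResidual, closure_le]
      exact fun y hy => h _ inf_le_left _ y.2 (by rw [Subgroup.coe_subtype, Subgroup.orderOf_coe]; exact hy)
    have hcb : b * (c : G) = c * b := hle ⟨c, hc, rfl⟩ b (hA hb)
    have hxc : x = (c : G) * u := congrArg Subtype.val hxe
    have h1 : x⁻¹ * b * x = (u : G)⁻¹ * b * u := by
      calc x⁻¹ * b * x = (u : G)⁻¹ * ((c : G)⁻¹ * (b * c)) * u := by rw [hxc]; group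
        _ = _ := by rw [hcb, inv_mul_cancel_left]
    calc ((u : G) * v)⁻¹ * b * ((u : G) * v) = v⁻¹ * ((u : G)⁻¹ * b * u) * v := by group
      _ = v⁻¹ * (x⁻¹ * b * x) * v := by rw [h1]
      _ = w⁻¹ * (x⁻¹ * b * x) * w := hvb _ ⟨b, hb, rfl⟩
      _ = _ := by group

theorem centralizes_of_npc (h : Cfsg.HasNormalPComplement p G) {Q : Subgroup G}
    (hQ : IsPGroup p Q) {g : G} (hg : g ∈ normalizer (Q : Set G))
    (ho : Nat.Coprime (orderOf g) p) : g ∈ centralizer (Q : Set G) := by
  intro q hq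
  have hgO : g ∈ Cfsg.pResidual p G := mem_pResidual_of_coprime ho
  have h1 : q * g * q⁻¹ * g⁻¹ ∈ Q ⊓ Cfsg.pResidual p G := by
    refine ⟨?_, (Cfsg.pResidual p G).mul_mem (pResidual_normal.conj_mem g hgO q)
      ((Cfsg.pResidual p G).inv_mem hgO)⟩
    rw [show q * g * q⁻¹ * g⁻¹ = q * (g * q⁻¹ * g⁻¹) by group]
    exact Q.mul_mem hq ((mem_normalizer_iff.mp hg q⁻¹).mp (Q.inv_mem hq))
  rw [inf_eq_bot_of_coprime hQ (npc_iff_coprime.mp h), mem_bot, mul_inv_eq_one,
    mul_inv_eq_iff_eq_mul] at h1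
  exact h1

theorem npc_iff_frobenius (P : Sylow p G) :
    Cfsg.HasNormalPComplement p G ↔ ∀ Q : Subgroup G, Q ≤ (P : Subgroup G) →
      ∀ g ∈ normalizer (Q : Set G), Nat.Coprime (orderOf g) p → g ∈ centralizer (Q : Set G) :=
  ⟨fun h _ hQ _ hg ho => centralizes_of_npc h (P.2.to_le hQ) hg ho, npc_of_frobenius P⟩

/-- Frobenius' theorem, in terms of the p-local subgroups. -/
theorem npc_iff_locals :
    Cfsg.HasNormalPComplement p G ↔ ∀ Q : Subgroup G, IsPGroup p Q → Q ≠ ⊥ →
      Cfsg.HasNormalPComplement p (normalizer (Q : Set G)) := by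
  refine ⟨fun h Q _ _ => npc_subgroup h _, fun h => ?_⟩
  obtain ⟨P⟩ : Nonempty (Sylow p G) := inferInstance
  refine npc_of_frobenius P fun Q hQ g hg ho q hq => ?_
  by_cases hb : Q = ⊥
  · have : q = 1 := by rw [hb] at hq; exact hq
    subst this; simp
  have hN := h Q (P.2.to_le hQ) hb
  set N := normalizer (Q : Set G)
  have := centralizes_of_npc hN (Q := Q.subgroupOf N)
    ((P.2.to_le hQ).of_equiv (subgroupOfEquivOfLe le_normalizer).symm)
    (g := ⟨g, hg⟩) (le_normalizer_comap N.subtype (mem_comap.mpr hg))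
    (by rwa [Subgroup.orderOf_mk]) ⟨q, le_normalizer hq⟩ hq
  exact congrArg Subtype.val this

end CfsgLib.Fusion.Alperin
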