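import Cfsg.Prelude.Def_Transfer
import Mathlib.GroupTheory.Sylow
import Mathlib.GroupTheory.QuotientGroup.Finite
import Mathlib.GroupTheory.Nilpotent

/-!
`O^p(G)` and normal p-complements: basic API.
-/

set_option autoImplicit false

namespace CfsgLib.Fusion.Basic

open Subgroup
open scoped Pointwise

variable {G : Type*} [Group G] {H : Type*} [Group H] {p : ℕ}

/-- An element whose order is prime to `p` lies in `O^p`. -/
theorem mem_pResidual_of_coprime {g : G} (hg : Nat.Coprime (orderOf g) p) :
    g ∈ Cfsg.pResidual p G :=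
  subset_closure hg

theorem orderOf_map_dvd' (f : G →* H) (g : G) : orderOf (f g) ∣ orderOf g :=
  orderOf_map_dvd f g

theorem map_pResidual_le (f : G →* H) :
    (Cfsg.pResidual p G).map f ≤ Cfsg.pResidual p H := by
  rw [Cfsg.pResidual, MonoidHom.map_closure]
  apply closure_mono
  rintro _ ⟨g, hg, rfl⟩
  exact Nat.Coprime.coprime_dvd_left (orderOf_map_dvd f g) hg

instance pResidual_characteristic : (Cfsg.pResidual p G).Characteristic :=
  characteristic_iff_map_le.mpr fun e => map_pResidual_le e.toMonoidHom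

instance pResidual_normal : (Cfsg.pResidual p G).Normal := inferInstance

theorem pResidual_map_subtype_le (K : Subgroup G) :
    (Cfsg.pResidual p K).map K.subtype ≤ Cfsg.pResidual p G :=
  map_pResidual_le K.subtype

theorem pResidual_map_subtype_mono {K L : Subgroup G} (h : K ≤ L) :
    (Cfsg.pResidual p K).map K.subtype ≤ (Cfsg.pResidual p L).map L.subtype := by
  have : K.subtype = L.subtype.comp (Subgroup.inclusion h) := rfl
  rw [this, ← map_map]
  exact map_mono (map_pResidual_le _)

theorem mem_map_pResidual_of_coprime {K : Subgroup G} {g : G} (hgK : g ∈ K)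
    (hg : Nat.Coprime (orderOf g) p) : g ∈ (Cfsg.pResidual p K).map K.subtype :=
  ⟨⟨g, hgK⟩, mem_pResidual_of_coprime (by rwa [Subgroup.orderOf_mk]), rfl⟩

/-- Every element has a `p`-power that has order prime to `p`. -/
theorem exists_pow_coprime [Finite G] [hp : Fact p.Prime] (g : G) :
    ∃ k : ℕ, Nat.Coprime (orderOf (g ^ p ^ k)) p := by
  obtain ⟨k, m, hm, he⟩ :=
    Nat.exists_eq_pow_mul_and_not_dvd (orderOf_pos g).ne' p hp.out.ne_one
  refine ⟨k, ?_⟩
  have : orderOf (g ^ p ^ k) ∣ m := by
    apply orderOf_dvd_of_pow_eq_one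
    rw [← pow_mul, ← he, pow_orderOf_eq_one]
  exact Nat.Coprime.coprime_dvd_left this ((hp.out.coprime_iff_not_dvd.mpr hm).symm)

theorem isPGroup_quotient_pResidual [Finite G] [Fact p.Prime] :
    IsPGroup p (G ⧸ Cfsg.pResidual p G) := by
  intro q
  induction q using QuotientGroup.induction_on with
  | H g =>
    obtain ⟨k, hk⟩ := exists_pow_coprime (p := p) g
    exact ⟨k, by rw [← QuotientGroup.mk_pow, QuotientGroup.eq_one_iff];
                 exact mem_pResidual_of_coprime hk⟩

theorem exists_index_pResidual [Finite G] [Fact p.Prime] :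
    ∃ k, (Cfsg.pResidual p G).index = p ^ k :=
  (isPGroup_quotient_pResidual (G := G)).exists_card_eq

/-- An element of order prime to `p` in a `p`-group is trivial. -/
theorem eq_one_of_isPGroup_of_coprime (hH : IsPGroup p H) {x : H}
    (hx : Nat.Coprime (orderOf x) p) : x = 1 := by
  obtain ⟨k, hk⟩ := hH x
  exact orderOf_eq_one_iff.mp
    (Nat.eq_one_of_dvd_coprimes (hx.pow_right k) dvd_rfl (orderOf_dvd_of_pow_eq_one hk))

/-- `O^p(G)` dies in every `p`-group. -/
theorem pResidual_le_ker (f : G →* H) (hH : IsPGroup p H) : Cfsg.pResidual p G ≤ f.ker :=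
  (closure_le _).mpr fun _ hg =>
    eq_one_of_isPGroup_of_coprime hH (Nat.Coprime.coprime_dvd_left (orderOf_map_dvd f _) hg)

theorem pResidual_le_of_isPGroup_quotient {N : Subgroup G} [N.Normal]
    (h : IsPGroup p (G ⧸ N)) : Cfsg.pResidual p G ≤ N := by
  simpa using pResidual_le_ker (QuotientGroup.mk' N) h

theorem isPGroup_quotient_of_index_eq_pow {N : Subgroup G} [N.Normal] {k : ℕ}
    (h : N.index = p ^ k) : IsPGroup p (G ⧸ N) :=
  IsPGroup.of_card (n := k) h

theorem pResidual_le_of_index_eq_pow {N : Subgroup G} [N.Normal] {k : ℕ}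
    (h : N.index = p ^ k) : Cfsg.pResidual p G ≤ N :=
  pResidual_le_of_isPGroup_quotient (isPGroup_quotient_of_index_eq_pow h)

theorem sup_eq_top_of_index [Finite G] [Fact p.Prime] {K U : Subgroup G} {k : ℕ}
    (hK : K.index = p ^ k) (hU : ¬ p ∣ U.index) : K ⊔ U = ⊤ := by
  rw [← index_eq_one]
  exact Nat.eq_one_of_dvd_coprimes
    (Nat.Coprime.pow_left k ((Fact.out : p.Prime).coprime_iff_not_dvd.mpr hU))
    (hK ▸ index_dvd_of_le le_sup_left) (index_dvd_of_le le_sup_right)

theorem pResidual_sup_sylow [Finite G] [Fact p.Prime] (P : Sylow p G) :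
    Cfsg.pResidual p G ⊔ (P : Subgroup G) = ⊤ := by
  obtain ⟨k, hk⟩ := exists_index_pResidual (p := p) (G := G)
  exact sup_eq_top_of_index hk P.not_dvd_index

theorem exists_eq_pResidual_mul [Finite G] [Fact p.Prime] (P : Sylow p G) (g : G) :
    ∃ w ∈ Cfsg.pResidual p G, ∃ u ∈ (P : Subgroup G), g = w * u := by
  have hg : g ∈ ((Cfsg.pResidual p G ⊔ (P : Subgroup G) : Subgroup G) : Set G) := by
    rw [pResidual_sup_sylow P]; exact mem_top g
  rw [normal_mul] at hg
  obtain ⟨w, hw, u, hu, rfl⟩ := Set.mem_mul.mp hg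
  exact ⟨w, hw, u, hu, rfl⟩

theorem map_pResidual_eq [Finite G] [Fact p.Prime] (f : G →* H) (hf : Function.Surjective f) :
    (Cfsg.pResidual p G).map f = Cfsg.pResidual p H := by
  refine le_antisymm (map_pResidual_le f) ?_
  have : ((Cfsg.pResidual p G).map f).Normal := Normal.map inferInstance f hf
  apply pResidual_le_of_isPGroup_quotient
  refine (isPGroup_quotient_pResidual (G := G)).of_surjective
    (QuotientGroup.map _ ((Cfsg.pResidual p G).map f) f (le_comap_map f _)) ?_
  intro q
  induction q using QuotientGroup.induction_on with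
  | H h =>
    obtain ⟨g, rfl⟩ := hf h
    exact ⟨QuotientGroup.mk g, rfl⟩

theorem pResidual_pResidual [Finite G] [Fact p.Prime] :
    Cfsg.pResidual p (Cfsg.pResidual p G) = ⊤ := by
  refine map_injective (Cfsg.pResidual p G).subtype_injective (le_antisymm (map_mono le_top) ?_)
  rw [← MonoidHom.range_eq_map, Subgroup.range_subtype]
  refine (closure_le _).mpr ?_
  exact fun g hg => mem_map_pResidual_of_coprime (mem_pResidual_of_coprime hg) hg

/-! ### Sylow subgroups of normal subgroups and quotients -/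

theorem not_dvd_relIndex_of_normal [Finite G] [Fact p.Prime] (P : Sylow p G) (N : Subgroup G)
    [N.Normal] : ¬ p ∣ ((P : Subgroup G) ⊓ N).relIndex N := by
  rw [inf_relIndex_right]
  intro h
  refine P.not_dvd_index (h.trans ?_)
  have hcalc : (P : Subgroup G).relIndex ((P : Subgroup G) ⊔ N) * N.relIndex (P : Subgroup G) =
      (P : Subgroup G).relIndex N * N.relIndex (P : Subgroup G) := by
    have h1 := relIndex_mul_relIndex ((P : Subgroup G) ⊓ N) (P : Subgroup G)
      ((P : Subgroup G) ⊔ N) inf_le_left le_sup_left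
    have h2 := relIndex_mul_relIndex ((P : Subgroup G) ⊓ N) N
      ((P : Subgroup G) ⊔ N) inf_le_right le_sup_right
    rw [inf_relIndex_left] at h1
    rw [inf_relIndex_right, relIndex_sup_right] at h2
    rw [mul_comm, h1, h2]
  have hne : N.relIndex (P : Subgroup G) ≠ 0 := by
    rw [relIndex]; exact index_ne_zero_of_finite
  rw [← Nat.eq_of_mul_eq_mul_right (Nat.pos_of_ne_zero hne) hcalc]
  exact relIndex_dvd_index_of_le le_sup_left

/-- A `p`-subgroup of `K` of index prime to `p`, as a Sylow subgroup of `K`. -/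
noncomputable def sylowSubgroupOf [Fact p.Prime] {U K : Subgroup G} (hUK : U ≤ K)
    (hU : IsPGroup p U) (hi : ¬ p ∣ U.relIndex K) : Sylow p K :=
  IsPGroup.toSylow (P := U.subgroupOf K) (hU.of_equiv (subgroupOfEquivOfLe hUK).symm) hi

theorem coe_sylowSubgroupOf [Fact p.Prime] {U K : Subgroup G} (hUK : U ≤ K)
    (hU : IsPGroup p U) (hi : ¬ p ∣ U.relIndex K) :
    (sylowSubgroupOf hUK hU hi : Subgroup K) = U.subgroupOf K := rfl

theorem map_sylowSubgroupOf [Fact p.Prime] {U K : Subgroup G} (hUK : U ≤ K)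
    (hU : IsPGroup p U) (hi : ¬ p ∣ U.relIndex K) :
    (sylowSubgroupOf hUK hU hi : Subgroup K).map K.subtype = U := by
  rw [coe_sylowSubgroupOf, map_subgroupOf_eq_of_le hUK]

/-! ### Normal p-complements -/

/-- A Sylow subgroup and a subgroup of order prime to `p` intersect trivially. -/
theorem inf_eq_bot_of_coprime {Q N : Subgroup G} (hQ : IsPGroup p Q)
    (hN : Nat.Coprime (Nat.card N) p) : Q ⊓ N = ⊥ := by
  rw [eq_bot_iff]
  intro x hx
  have : (⟨x, hx.1⟩ : Q) = 1 := by
    apply eq_one_of_isPGroup_of_coprime hQ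
    rw [Subgroup.orderOf_mk]
    exact Nat.Coprime.coprime_dvd_left (Subgroup.orderOf_dvd_natCard N hx.2) hN
  simpa using congrArg Subtype.val this

theorem coprime_card_of_inf_sylow_eq_bot [Finite G] [Fact p.Prime] (P : Sylow p G)
    (N : Subgroup G) [N.Normal] (h : (P : Subgroup G) ⊓ N = ⊥) :
    Nat.Coprime (Nat.card N) p := by
  have h1 := not_dvd_relIndex_of_normal P N
  rw [h, relIndex_bot_left] at h1
  exact ((Fact.out : p.Prime).coprime_iff_not_dvd.mpr h1).symm

theorem npc_iff_coprime [Finite G] [Fact p.Prime] :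
    Cfsg.HasNormalPComplement p G ↔ Nat.Coprime (Nat.card (Cfsg.pResidual p G)) p := by
  constructor
  · rintro ⟨P, N, hN, hC⟩
    obtain ⟨k, hk⟩ := P.2.exists_card_eq
    have h1 : N.index = p ^ k := hC.symm.index_eq_card.trans hk
    have h2 : ¬ p ∣ Nat.card N := hC.index_eq_card ▸ P.not_dvd_index
    exact Nat.Coprime.coprime_dvd_left (card_dvd_of_le (pResidual_le_of_index_eq_pow h1))
      ((Fact.out : p.Prime).coprime_iff_not_dvd.mpr h2).symm
  · intro h
    obtain ⟨P⟩ : Nonempty (Sylow p G) := inferInstance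
    refine ⟨P, Cfsg.pResidual p G, inferInstance,
      isComplement'_of_disjoint_and_mul_eq_univ ?_ ?_⟩
    · rw [disjoint_iff, inf_comm]
      exact inf_eq_bot_of_coprime P.2 h
    · rw [← normal_mul, pResidual_sup_sylow P]; rfl

theorem npc_iff_inf [Finite G] [Fact p.Prime] (P : Sylow p G) :
    Cfsg.HasNormalPComplement p G ↔ (P : Subgroup G) ⊓ Cfsg.pResidual p G = ⊥ :=
  npc_iff_coprime.trans
    ⟨fun h => inf_eq_bot_of_coprime P.2 h, coprime_card_of_inf_sylow_eq_bot P _⟩

theorem npc_of_normal [Finite G] [Fact p.Prime] (N : Subgroup G) [N.Normal]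
    (hN : Nat.Coprime (Nat.card N) p) {k : ℕ} (hk : N.index = p ^ k) :
    Cfsg.HasNormalPComplement p G :=
  npc_iff_coprime.mpr
    (Nat.Coprime.coprime_dvd_left (card_dvd_of_le (pResidual_le_of_index_eq_pow hk)) hN)

theorem npc_of_isPGroup_quotient [Finite G] [Fact p.Prime] (N : Subgroup G) [N.Normal]
    (hN : Nat.Coprime (Nat.card N) p) (hq : IsPGroup p (G ⧸ N)) :
    Cfsg.HasNormalPComplement p G :=
  npc_iff_coprime.mpr
    (Nat.Coprime.coprime_dvd_left (card_dvd_of_le (pResidual_le_of_isPGroup_quotient hq)) hN)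

/-- In a group with a normal p-complement, `O^p(G)` is the set of elements of order prime to `p`. -/
theorem mem_pResidual_iff [Finite G] [Fact p.Prime] (h : Cfsg.HasNormalPComplement p G) {g : G} :
    g ∈ Cfsg.pResidual p G ↔ Nat.Coprime (orderOf g) p :=
  ⟨fun hg => Nat.Coprime.coprime_dvd_left (Subgroup.orderOf_dvd_natCard _ hg)
    (npc_iff_coprime.mp h), mem_pResidual_of_coprime⟩

theorem npc_of_injective [Finite H] [Fact p.Prime] (f : G →* H)
    (hf : Function.Injective f) (h : Cfsg.HasNormalPComplement p H) :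
    Cfsg.HasNormalPComplement p G := by
  have : Finite G := Finite.of_injective f hf
  refine npc_iff_coprime.mpr (Nat.Coprime.coprime_dvd_left ?_ (npc_iff_coprime.mp h))
  rw [Nat.card_congr ((Cfsg.pResidual p G).equivMapOfInjective f hf).toEquiv]
  exact card_dvd_of_le (map_pResidual_le f)

theorem npc_subgroup [Finite G] [Fact p.Prime] (h : Cfsg.HasNormalPComplement p G)
    (K : Subgroup G) : Cfsg.HasNormalPComplement p K :=
  npc_of_injective K.subtype K.subtype_injective h

theorem npc_of_le [Finite G] [Fact p.Prime] {K L : Subgroup G} (hKL : K ≤ L)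
    (h : Cfsg.HasNormalPComplement p L) : Cfsg.HasNormalPComplement p K :=
  npc_of_injective (Subgroup.inclusion hKL) (Subgroup.inclusion_injective hKL) h

theorem npc_of_surjective [Finite G] [Fact p.Prime] (f : G →* H)
    (hf : Function.Surjective f) (h : Cfsg.HasNormalPComplement p G) :
    Cfsg.HasNormalPComplement p H := by
  have : Finite H := Finite.of_surjective f hf
  refine npc_iff_coprime.mpr (Nat.Coprime.coprime_dvd_left ?_ (npc_iff_coprime.mp h))
  rw [← map_pResidual_eq f hf]
  exact card_map_dvd _ f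

theorem npc_quotient [Finite G] [Fact p.Prime] (h : Cfsg.HasNormalPComplement p G)
    (N : Subgroup G) [N.Normal] : Cfsg.HasNormalPComplement p (G ⧸ N) :=
  npc_of_surjective (QuotientGroup.mk' N) (QuotientGroup.mk'_surjective N) h

theorem npc_congr [Finite G] [Fact p.Prime] (e : G ≃* H) :
    Cfsg.HasNormalPComplement p G ↔ Cfsg.HasNormalPComplement p H := by
  have : Finite H := Finite.of_equiv G e.toEquiv
  exact ⟨npc_of_surjective e.toMonoidHom e.surjective,
    npc_of_surjective e.symm.toMonoidHom e.symm.surjective⟩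

theorem npc_of_isPGroup [Finite G] [Fact p.Prime] (h : IsPGroup p G) :
    Cfsg.HasNormalPComplement p G := by
  refine npc_of_isPGroup_quotient ⊥ (by simp) ?_
  exact h.of_equiv QuotientGroup.quotientBot.symm

theorem npc_of_not_dvd [Finite G] [Fact p.Prime] (h : ¬ p ∣ Nat.card G) :
    Cfsg.HasNormalPComplement p G :=
  npc_iff_coprime.mpr (Nat.Coprime.coprime_dvd_left (card_subgroup_dvd_card _)
    ((Fact.out : p.Prime).coprime_iff_not_dvd.mpr h).symm)

/-! ### A nilpotency lemma -/

/-- In a finite `p`-group (any nilpotent group), `R ≤ [R, P] S` with `S` normal forces `R ≤ S`. -/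
theorem le_of_le_commutator_sup [Group.IsNilpotent G] {R S : Subgroup G} [S.Normal]
    (h : R ≤ ⁅R, (⊤ : Subgroup G)⁆ ⊔ S) : R ≤ S := by
  have h' : R.map (QuotientGroup.mk' S) ≤
      ⁅R.map (QuotientGroup.mk' S), (⊤ : Subgroup (G ⧸ S))⁆ := by
    refine (map_mono h).trans ?_
    rw [Subgroup.map_sup, map_commutator, QuotientGroup.map_mk'_self, sup_bot_eq,
      map_top_of_surjective _ (QuotientGroup.mk'_surjective S)]
  have hn : ∀ n, R.map (QuotientGroup.mk' S) ≤
      (⊤ : Subgroup (G ⧸ S)).lowerCentralSeries n := by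
    intro n
    induction n with
    | zero => simp
    | succ n ih => exact h'.trans (commutator_mono ih le_rfl)
  obtain ⟨n, hn'⟩ := _root_.nilpotent_iff_lowerCentralSeries.mp
    (inferInstance : Group.IsNilpotent (G ⧸ S))
  have h2 := hn n
  rw [hn', le_bot_iff, Subgroup.map_eq_bot_iff, QuotientGroup.ker_mk'] at h2
  exact h2

end CfsgLib.Fusion.Basic
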