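import Cfsg.Prelude.Def_Local
import Cfsg.Agent.Lib.Fusion.Abelian
import Cfsg.Agent.Lib.Solvable.Cores
import Cfsg.Agent.Lib.Components.Constrained
import Mathlib.GroupTheory.Solvable

/-!
`p`-solvable groups: closure properties, minimal normal subgroups, the lemma of Hall and Higman.
-/

set_option autoImplicit false

namespace CfsgLib.Fusion.PSolvable

open Subgroup
open CfsgLib.Fusion.Basic CfsgLib.Solvable

variable {G : Type*} [Group G] {H : Type*} [Group H] {p : ℕ}

theorem of_relIndex {n : ℕ} (S : Fin (n + 1) → Subgroup G) (h0 : S 0 = ⊥)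
    (hl : S (Fin.last n) = ⊤) (hm : Monotone S) (hn : ∀ i, (S i).Normal)
    (h : ∀ i : Fin n, (∃ m : ℕ, (S i.castSucc).relIndex (S i.succ) ∣ p ^ m) ∨
      ((S i.castSucc).relIndex (S i.succ)).Coprime p) (hp : p.Prime) : Cfsg.IsPSolvable p G := by
  refine ⟨n, S, h0, hl, hm, hn, fun i => ?_⟩
  rcases h i with ⟨m, hdvd⟩ | h
  · obtain ⟨k, -, hk⟩ := (Nat.dvd_prime_pow hp).mp hdvd
    exact Or.inl ⟨k, hk⟩
  · exact Or.inr h

theorem relIndex_comap_dvd (f : H →* G) {A B : Subgroup G} [A.Normal] (hAB : A ≤ B) :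
    (A.comap f).relIndex (B.comap f) ∣ A.relIndex B := by
  rw [relIndex_comap]
  have h : (B.comap f).map f ≤ B := map_comap_le f B
  have : (A.subgroupOf B).Normal := Normal.subgroupOf inferInstance B
  rw [← relIndex_subgroupOf h]
  exact relIndex_dvd_index_of_normal _ _

theorem psolvable_of_injective [hp : Fact p.Prime] (f : H →* G) (hf : Function.Injective f)
    (hG : Cfsg.IsPSolvable p G) : Cfsg.IsPSolvable p H := by
  obtain ⟨n, S, h0, hl, hm, hn, hfac⟩ := hG
  refine of_relIndex (fun i => (S i).comap f) ?_ ?_ (fun i j hij => comap_mono (hm hij))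
    (fun i => (hn i).comap f) (fun i => ?_) hp.out
  · show (S 0).comap f = ⊥
    rw [h0, MonoidHom.comap_bot, (MonoidHom.ker_eq_bot_iff f).mpr hf]
  · show (S (Fin.last n)).comap f = ⊤
    rw [hl, comap_top]
  · have := hn i.castSucc
    have hd := relIndex_comap_dvd f (hm (Fin.castSucc_le_succ i))
    rcases hfac i with ⟨m, hm'⟩ | h
    · exact Or.inl ⟨m, hm' ▸ hd⟩
    · exact Or.inr (Nat.Coprime.coprime_dvd_left hd h)

theorem psolvable_subgroup [Fact p.Prime] (hG : Cfsg.IsPSolvable p G) (K : Subgroup G) :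
    Cfsg.IsPSolvable p K :=
  psolvable_of_injective K.subtype K.subtype_injective hG

theorem psolvable_of_le [Fact p.Prime] {K L : Subgroup G} (h : K ≤ L)
    (hL : Cfsg.IsPSolvable p L) : Cfsg.IsPSolvable p K :=
  psolvable_of_injective (inclusion h) (inclusion_injective h) hL

theorem psolvable_of_surjective [Finite G] [hp : Fact p.Prime] (f : G →* H)
    (hf : Function.Surjective f) (hG : Cfsg.IsPSolvable p G) : Cfsg.IsPSolvable p H := by
  obtain ⟨n, S, h0, hl, hm, hn, hfac⟩ := hG
  refine of_relIndex (fun i => (S i).map f) ?_ ?_ (fun i j hij => map_mono (hm hij))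
    (fun i => (hn i).map f hf) (fun i => ?_) hp.out
  · show (S 0).map f = ⊥
    rw [h0, Subgroup.map_bot]
  · show (S (Fin.last n)).map f = ⊤
    rw [hl, map_top_of_surjective f hf]
  · have hd : ((S i.castSucc).map f).relIndex ((S i.succ).map f) ∣
        (S i.castSucc).relIndex (S i.succ) := by
      have := hn i.castSucc
      rw [relIndex_map_map]
      have h2 : S i.succ ⊔ f.ker = S i.succ ⊔ (S i.castSucc ⊔ f.ker) := by
        rw [← sup_assoc, sup_eq_left.mpr (hm (Fin.castSucc_le_succ i))]
      rw [h2, relIndex_sup_right]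
      exact relIndex_dvd_of_le_left _ le_sup_left
    rcases hfac i with ⟨m, hm'⟩ | h
    · exact Or.inl ⟨m, hm' ▸ hd⟩
    · exact Or.inr (Nat.Coprime.coprime_dvd_left hd h)

theorem psolvable_quotient [Finite G] [Fact p.Prime] (hG : Cfsg.IsPSolvable p G) (N : Subgroup G)
    [N.Normal] : Cfsg.IsPSolvable p (G ⧸ N) :=
  psolvable_of_surjective (QuotientGroup.mk' N) (QuotientGroup.mk'_surjective N) hG

theorem psolvable_congr [Finite G] [Fact p.Prime] (e : G ≃* H) :
    Cfsg.IsPSolvable p G ↔ Cfsg.IsPSolvable p H := by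
  have : Finite H := Finite.of_equiv G e.toEquiv
  exact ⟨psolvable_of_surjective e.toMonoidHom e.surjective,
    psolvable_of_surjective e.symm.toMonoidHom e.symm.surjective⟩

/-- A normal `p`- or `p'`-subgroup with `p`-solvable quotient. -/
theorem psolvable_cons [Finite G] [hp : Fact p.Prime] (N : Subgroup G) [N.Normal]
    (hN : IsPGroup p N ∨ (Nat.card N).Coprime p) (hQ : Cfsg.IsPSolvable p (G ⧸ N)) :
    Cfsg.IsPSolvable p G := by
  obtain ⟨n, S, h0, hl, hm, hn, hfac⟩ := hQ
  let q := QuotientGroup.mk' N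
  have hq : Function.Surjective q := QuotientGroup.mk'_surjective N
  refine of_relIndex (n := n + 1) (Fin.cons ⊥ fun i => (S i).comap q) rfl ?_ ?_ ?_ ?_ hp.out
  · rw [← Fin.succ_last, Fin.cons_succ, hl, comap_top]
  · intro i j hij
    induction i using Fin.cases with
    | zero => simp
    | succ a =>
      induction j using Fin.cases with
      | zero => exact absurd hij (not_le.mpr (Fin.succ_pos a))
      | succ b =>
        simp only [Fin.cons_succ]
        exact comap_mono (hm (Fin.succ_le_succ_iff.mp hij))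
  · intro i
    induction i using Fin.cases with
    | zero => simp only [Fin.cons_zero]; infer_instance
    | succ a => simp only [Fin.cons_succ]; exact (hn a).comap q
  · intro i
    induction i using Fin.cases with
    | zero =>
      simp only [Fin.castSucc_zero, Fin.cons_zero, Fin.cons_succ, relIndex_bot_left]
      rw [h0, MonoidHom.comap_bot, QuotientGroup.ker_mk']
      rcases hN with h | h
      · obtain ⟨k, hk⟩ := h.exists_card_eq
        exact Or.inl ⟨k, hk ▸ dvd_rfl⟩
      · exact Or.inr h
    | succ a =>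
      simp only [← Fin.succ_castSucc, Fin.cons_succ]
      rw [relIndex_comap, map_comap_eq_self_of_surjective hq]
      rcases hfac a with ⟨m, hm'⟩ | h
      · exact Or.inl ⟨m, hm' ▸ dvd_rfl⟩
      · exact Or.inr h

theorem psolvable_of_subsingleton [Subsingleton G] : Cfsg.IsPSolvable p G :=
  ⟨0, fun _ => ⊥, rfl, Subsingleton.elim _ _, fun _ _ _ => le_rfl, fun _ => inferInstance,
    fun i => i.elim0⟩

theorem psolvable_of_isPGroup [Finite G] [Fact p.Prime] (h : IsPGroup p G) :
    Cfsg.IsPSolvable p G := by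
  have : Subsingleton (G ⧸ (⊤ : Subgroup G)) := QuotientGroup.subsingleton_quotient_top
  exact psolvable_cons (⊤ : Subgroup G) (Or.inl (h.to_subgroup ⊤)) psolvable_of_subsingleton

theorem psolvable_of_coprime [Finite G] [Fact p.Prime] (h : (Nat.card G).Coprime p) :
    Cfsg.IsPSolvable p G := by
  have : Subsingleton (G ⧸ (⊤ : Subgroup G)) := QuotientGroup.subsingleton_quotient_top
  exact psolvable_cons (⊤ : Subgroup G) (Or.inr (by rwa [card_top])) psolvable_of_subsingleton

/-- A minimal normal subgroup of a `p`-solvable group is a `p`-group or a `p'`-group. -/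
theorem minimal_normal_dichotomy [Finite G] [Fact p.Prime] (hG : Cfsg.IsPSolvable p G)
    (N : Subgroup G) [N.Normal]
    (hmin : ∀ M : Subgroup G, M.Normal → M ≤ N → M = ⊥ ∨ M = N) :
    IsPGroup p N ∨ (Nat.card N).Coprime p := by
  obtain ⟨n, S, h0, hl, hm, hn, hfac⟩ := hG
  rcases eq_or_ne N ⊥ with rfl | hne
  · exact Or.inl IsPGroup.of_bot
  obtain ⟨i, hi1, hi2⟩ : ∃ i : Fin n, ¬ N ≤ S i.castSucc ∧ N ≤ S i.succ := by
    have hex : ∀ j : Fin (n + 1), N ≤ S j →
        ∃ i : Fin n, ¬ N ≤ S i.castSucc ∧ N ≤ S i.succ := by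
      intro j
      induction j using Fin.induction with
      | zero => intro h; exact absurd (le_bot_iff.mp (h0 ▸ h)) hne
      | succ j ih =>
        intro h
        by_cases hj : N ≤ S j.castSucc
        · exact ih hj
        · exact ⟨j, hj, h⟩
    exact hex (Fin.last n) (hl ▸ le_top)
  have := hn i.castSucc
  have hbot : N ⊓ S i.castSucc = ⊥ :=
    (hmin _ inferInstance inf_le_left).resolve_right fun h => hi1 (h ▸ inf_le_right)
  have hd : Nat.card N ∣ (S i.castSucc).relIndex (S i.succ) := by
    have h1 : Nat.card N = (S i.castSucc).relIndex N := by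
      rw [← inf_relIndex_right, inf_comm, hbot, relIndex_bot_left]
    rw [h1, ← relIndex_subgroupOf hi2]
    have : ((S i.castSucc).subgroupOf (S i.succ)).Normal := Normal.subgroupOf inferInstance _
    exact relIndex_dvd_index_of_normal _ _
  rcases hfac i with ⟨m, hm'⟩ | h
  · exact Or.inl (IsPGroup.of_card_dvd_pow (hm' ▸ hd))
  · exact Or.inr (Nat.Coprime.coprime_dvd_left hd h)

theorem exists_minimal_dichotomy [Finite G] [Fact p.Prime] (hG : Cfsg.IsPSolvable p G)
    {K : Subgroup G} [K.Normal] (hK : K ≠ ⊥) :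
    ∃ N : Subgroup G, N.Normal ∧ N ≤ K ∧ N ≠ ⊥ ∧ (IsPGroup p N ∨ (Nat.card N).Coprime p) := by
  classical
  obtain ⟨N, hN, hmin⟩ := Set.exists_min_image
    {N : Subgroup G | N.Normal ∧ N ≤ K ∧ N ≠ ⊥} (fun N : Subgroup G => Nat.card N)
    (Set.toFinite _) ⟨K, inferInstance, le_rfl, hK⟩
  have := hN.1
  refine ⟨N, hN.1, hN.2.1, hN.2.2, minimal_normal_dichotomy hG N fun M hM hMN => ?_⟩
  by_cases hb : M = ⊥
  · exact Or.inl hb
  · exact Or.inr (eq_of_le_of_card_ge hMN (hmin M ⟨hM, hMN.trans hN.2.1, hb⟩))

theorem pCore_or_pPrimeCore_ne_bot [Finite G] [Fact p.Prime] [Nontrivial G]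
    (hG : Cfsg.IsPSolvable p G) : Cfsg.pCore p G ≠ ⊥ ∨ Cfsg.pPrimeCore p G ≠ ⊥ := by
  obtain ⟨N, hN, -, hne, h⟩ := exists_minimal_dichotomy hG (K := ⊤) top_ne_bot
  rcases h with h | h
  · exact Or.inl fun hb => hne (le_bot_iff.mp (hb ▸ Cores.le_pCore h))
  · exact Or.inr fun hb => hne (le_bot_iff.mp (hb ▸ Cores.le_pPrimeCore h))

/-- The lemma of Hall and Higman. -/
theorem centralizer_pCore_le [Finite G] [Fact p.Prime] (hG : Cfsg.IsPSolvable p G)
    (hO : Cfsg.pPrimeCore p G = ⊥) :
    centralizer (Cfsg.pCore p G : Set G) ≤ Cfsg.pCore p G := by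
  set R := Cfsg.pCore p G
  set C := centralizer (R : Set G) with hC
  by_contra hne
  set q := QuotientGroup.mk' (R ⊓ C) with hq
  have hq' : Function.Surjective q := QuotientGroup.mk'_surjective _
  have hCn : (C.map q).Normal := Normal.map inferInstance q hq'
  have hCne : C.map q ≠ ⊥ := fun h => hne (by
    rw [Subgroup.map_eq_bot_iff, QuotientGroup.ker_mk'] at h
    exact h.trans inf_le_left)
  obtain ⟨N, hN, hNC, hNne, hNpp⟩ := exists_minimal_dichotomy (psolvable_quotient hG (R ⊓ C)) hCne
  set M := N.comap q with hM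
  have hMn : M.Normal := hN.comap q
  have hMC : M ≤ C := by
    rw [hM]
    refine (comap_mono hNC).trans ?_
    rw [comap_map_eq, QuotientGroup.ker_mk']
    exact sup_le le_rfl inf_le_right
  have hZM : R ⊓ C ≤ M := fun z hz => by
    show q z ∈ N
    rw [show q z = 1 from (QuotientGroup.eq_one_iff z).mpr hz]
    exact one_mem N
  refine hNne (le_bot_iff.mp ?_)
  rw [← map_comap_eq_self_of_surjective hq' N, ← hM, Subgroup.map_le_iff_le_comap,
    MonoidHom.comap_bot, QuotientGroup.ker_mk']
  refine le_inf ?_ hMC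
  rcases hNpp with h | h
  · refine Cores.le_pCore ?_
    exact h.comap_of_ker_isPGroup q (by
      rw [QuotientGroup.ker_mk']; exact (Cores.isPGroup_pCore p).to_le inf_le_left)
  · -- the Sylow subgroup `R ⊓ C` of `M` is central
    let U : Sylow p M := sylowSubgroupOf hZM ((Cores.isPGroup_pCore p).to_le inf_le_left) (by
      have h2 : (R ⊓ C).relIndex M = Nat.card N := by
        have hker : R ⊓ C = (⊥ : Subgroup (G ⧸ R ⊓ C)).comap q := by
          rw [MonoidHom.comap_bot]; exact (QuotientGroup.ker_mk' _).symm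
        calc (R ⊓ C).relIndex M = ((⊥ : Subgroup (G ⧸ R ⊓ C)).comap q).relIndex (N.comap q) := by
              rw [← hker]
          _ = Nat.card N := by
              rw [relIndex_comap, map_comap_eq_self_of_surjective hq', relIndex_bot_left]
      rw [h2]
      exact (Fact.out : p.Prime).coprime_iff_not_dvd.mp h.symm)
    have hnpc : Cfsg.HasNormalPComplement p M :=
      Abelian.npc_of_normalizer_le_centralizer U fun c _ z hz =>
        Subtype.ext (hMC c.2 z (hz : (z : G) ∈ R ⊓ C).1)
    have hbot : (Cfsg.pResidual p M).map M.subtype ≤ Cfsg.pPrimeCore p G := by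
      have : ((Cfsg.pResidual p M).map M.subtype).Normal := inferInstance
      refine Cores.le_pPrimeCore ?_
      rw [card_map_of_injective M.subtype_injective]
      exact npc_iff_coprime.mp hnpc
    rw [hO, le_bot_iff, Subgroup.map_eq_bot_iff, Subgroup.ker_subtype, le_bot_iff] at hbot
    have htop := pResidual_sup_sylow U
    rw [hbot, bot_sup_eq, coe_sylowSubgroupOf, subgroupOf_eq_top] at htop
    exact htop.trans inf_le_left

theorem isPConstrained [Finite G] [Fact p.Prime] (hG : Cfsg.IsPSolvable p G) :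
    Cfsg.IsPConstrained p G := by
  rw [CfsgLib.Components.isPConstrained_iff, CfsgLib.Components.pLayer_eq_bot_iff,
    ← CfsgLib.Components.centralizer_pCore_le_iff_layer
      CfsgLib.Components.pPrimeCore_quotient_eq_bot]
  exact centralizer_pCore_le (psolvable_quotient hG _) CfsgLib.Components.pPrimeCore_quotient_eq_bot

theorem psolvable_of_extension [Fact p.Prime] : ∀ (n : ℕ) {G : Type*} [Group G] [Finite G],
    Nat.card G = n → ∀ (N : Subgroup G) [N.Normal], Cfsg.IsPSolvable p N →
      Cfsg.IsPSolvable p (G ⧸ N) → Cfsg.IsPSolvable p G := by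
  intro n
  induction n using Nat.strong_induction_on with
  | h n ih =>
  intro G _ _ hn N _ hN hQ
  by_cases hb : N = ⊥
  · subst hb
    exact (psolvable_congr (QuotientGroup.quotientBot (G := G))).mp hQ
  obtain ⟨M, hM, hmin⟩ := Set.exists_min_image
    {M : Subgroup G | M.Normal ∧ M ≤ N ∧ M ≠ ⊥} (fun M : Subgroup G => Nat.card M)
    (Set.toFinite _) ⟨N, inferInstance, le_rfl, hb⟩
  obtain ⟨hMn, hMN, hMne⟩ := hM
  have : Nontrivial M := (nontrivial_iff_ne_bot M).mpr hMne
  have hdich : IsPGroup p M ∨ (Nat.card M).Coprime p := by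
    have key : ∀ K : Subgroup M, K.Characteristic → K ≠ ⊥ → M = K.map M.subtype := fun K hK hne =>
      (eq_of_le_of_card_ge (map_subtype_le K) (hmin _ ⟨inferInstance,
        (map_subtype_le K).trans hMN, fun h => hne ((map_eq_bot_iff_of_injective K
          M.subtype_injective).mp h)⟩)).symm
    rcases pCore_or_pPrimeCore_ne_bot (psolvable_of_le hMN hN) with h | h
    · have hchar : (Cfsg.pCore p M).Characteristic :=
        characteristic_iff_map_eq.mpr fun e => Cores.map_pCore e p
      rw [key _ hchar h]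
      exact Or.inl ((Cores.isPGroup_pCore p).map _)
    · have hchar : (Cfsg.pPrimeCore p M).Characteristic :=
        characteristic_iff_map_le.mpr fun e =>
          CfsgLib.Components.pPrimeCore_map_le p e.toMonoidHom e.surjective
      rw [key _ hchar h, card_map_of_injective M.subtype_injective]
      exact Or.inr (Cores.coprime_card_pPrimeCore p)
  set q := QuotientGroup.mk' M
  have hlt : Nat.card (G ⧸ M) < n := hn ▸ Solvable.Basic.card_quotient_lt M hMne
  have : (N.map q).Normal := Normal.map inferInstance q (QuotientGroup.mk'_surjective M)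
  refine psolvable_cons M hdich (ih _ hlt rfl (N.map q) ?_ ?_)
  · exact psolvable_of_surjective (q.subgroupMap N) (MonoidHom.subgroupMap_surjective q N) hN
  · exact (psolvable_congr (QuotientGroup.quotientQuotientEquivQuotient M N hMN)).mpr hQ

theorem psolvable_of_normal [Finite G] [Fact p.Prime] (N : Subgroup G) [N.Normal]
    (hN : Cfsg.IsPSolvable p N) (hQ : Cfsg.IsPSolvable p (G ⧸ N)) : Cfsg.IsPSolvable p G :=
  psolvable_of_extension _ rfl N hN hQ

theorem psolvable_of_solvable [Finite G] [Fact p.Prime] [Group.IsSolvable G] :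
    Cfsg.IsPSolvable p G := by
  suffices ∀ (n : ℕ) {G : Type _} [Group G] [Finite G] [Group.IsSolvable G],
      Nat.card G = n → Cfsg.IsPSolvable p G from this _ rfl
  intro n
  induction n using Nat.strong_induction_on with
  | h n ih =>
  intro G _ _ _ hn
  rcases subsingleton_or_nontrivial G with _ | _
  · exact psolvable_of_subsingleton
  obtain ⟨N, q, hq, hN, hne, -, -, hNq, -⟩ := Solvable.Basic.exists_minimal_normal_pgroup
    (G := G) (H := ⊤) top_ne_bot
  have := hN
  refine psolvable_cons N ?_ (ih _ (hn ▸ Solvable.Basic.card_quotient_lt N hne) rfl)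
  rcases eq_or_ne q p with rfl | hqp
  · exact Or.inl hNq
  · have := Fact.mk hq
    obtain ⟨k, hk⟩ := hNq.exists_card_eq
    exact Or.inr (hk ▸ ((Nat.coprime_primes hq Fact.out).mpr hqp).pow_left k)

theorem psolvable_of_npc [Finite G] [Fact p.Prime] (h : Cfsg.HasNormalPComplement p G) :
    Cfsg.IsPSolvable p G :=
  psolvable_cons (Cfsg.pResidual p G) (Or.inr (npc_iff_coprime.mp h))
    (psolvable_of_isPGroup isPGroup_quotient_pResidual)

/-- A `p`-solvable perfect group with simple central quotient has order prime to `p`. -/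
theorem coprime_of_quasisimple [Finite G] [Fact p.Prime] (hG : Cfsg.IsPSolvable p G)
    (hQ : Cfsg.IsQuasisimple G) : (Nat.card G).Coprime p := by
  obtain ⟨hperf, hsimple⟩ := hQ
  have hres : Cfsg.pResidual p G = ⊤ := CfsgLib.Components.pResidual_eq_top_of_perfect
  obtain ⟨N, hN, -, hNne, h⟩ := exists_minimal_dichotomy (psolvable_quotient hG (center G))
    (K := ⊤) (by
      have := hsimple.toNontrivial
      exact top_ne_bot)
  obtain rfl : N = ⊤ := (hN.eq_bot_or_eq_top).resolve_left hNne
  have hcop : (Nat.card (G ⧸ center G)).Coprime p := by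
    rcases h with h | h
    · exfalso
      have hle := pResidual_le_of_isPGroup_quotient (N := center G) (h.of_equiv Subgroup.topEquiv)
      rw [hres, top_le_iff] at hle
      exact not_subsingleton (G ⧸ center G) (by rw [hle]; exact QuotientGroup.subsingleton_quotient_top)
    · rwa [card_top] at h
  obtain ⟨P⟩ : Nonempty (Sylow p G) := inferInstance
  have hPZ : (P : Subgroup G) ≤ center G := by
    intro x hx
    rw [← QuotientGroup.eq_one_iff]
    obtain ⟨k, hk⟩ := P.2 ⟨x, hx⟩
    refine orderOf_eq_one_iff.mp (Nat.eq_one_of_dvd_coprimes (hcop.pow_right k)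
      (_root_.orderOf_dvd_natCard _) ?_)
    apply orderOf_dvd_of_pow_eq_one
    rw [← QuotientGroup.mk_pow, show x ^ p ^ k = 1 by simpa using congrArg Subtype.val hk]
    rfl
  have hnpc : Cfsg.HasNormalPComplement p G :=
    Abelian.npc_of_normalizer_le_centralizer P fun g _ x hx =>
      (mem_center_iff.mp (hPZ hx) g).symm
  have := npc_iff_coprime.mp hnpc
  rwa [hres, card_top] at this

end CfsgLib.Fusion.PSolvable
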