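import Cfsg.Agent.Lib.Fusion.Basic
import Mathlib.GroupTheory.Transfer
import Mathlib.GroupTheory.Focal
import Mathlib.GroupTheory.Frattini

/-!
Transfer to abelian groups, Burnside's fusion lemma, control of fusion, Tate's theorem.
-/

set_option autoImplicit false

namespace CfsgLib.Fusion.Transfer

open Subgroup
open scoped commutatorElement
open CfsgLib.Fusion.Basic

variable {G : Type*} [Group G] {p : ℕ}

/-- Transfer of a fusion-invariant homomorphism restricts to the power map. -/
theorem transfer_eq_pow_of_invariant {H : Subgroup G} [H.FiniteIndex] {A : Type*} [CommGroup A]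
    (φ : H →* A)
    (key : ∀ (x : H) (g : G) (hx : g⁻¹ * (x : G) * g ∈ H), φ ⟨_, hx⟩ = φ x) (x : H) :
    MonoidHom.transfer φ (x : G) = φ x ^ H.index := by
  classical
  have : Fintype (Quotient (MulAction.orbitRel (zpowers (x : G)) (G ⧸ H))) := Fintype.ofFinite _
  rw [index_eq_sum_minimalPeriod H (x : G), ← Finset.prod_pow_eq_pow_sum,
    MonoidHom.transfer_eq_prod_quotient_orbitRel_zpowers_quot]
  apply Finset.prod_congr rfl
  intro q _
  rw [← map_pow]
  exact key (x ^ Function.minimalPeriod ((x : G) • ·) q.out) q.out.out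
    (QuotientGroup.out_conj_pow_minimalPeriod_mem H (x : G) q.out)

/-- A central element of a finite group maps to its power under any transfer. -/
theorem transfer_eq_pow_of_central {H : Subgroup G} [H.FiniteIndex] {A : Type*} [CommGroup A]
    (φ : H →* A) {x : H} (hx : (x : G) ∈ center G) :
    MonoidHom.transfer φ (x : G) = φ x ^ H.index := by
  rw [MonoidHom.transfer_eq_pow φ (x : G) ?_, ← map_pow]
  · rfl
  · intro k g _
    have := (Subgroup.pow_mem _ hx k : (x : G) ^ k ∈ center G)
    rw [mul_assoc, ← mem_center_iff.mp this g, inv_mul_cancel_left]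

open scoped Pointwise in
/-- Frattini-style: if `P` and its conjugate lie in `N`, they are conjugate inside `N`. -/
theorem exists_mem_mul_mem_normalizer [Finite G] [Fact p.Prime] (P : Sylow p G) (N : Subgroup G)
    (g : G) (h1 : (P : Subgroup G) ≤ N) (h2 : ∀ u ∈ P, g * u * g⁻¹ ∈ N) :
    ∃ c ∈ N, c * g ∈ normalizer (P : Set G) := by
  have h2' : ((g • P : Sylow p G) : Subgroup G) ≤ N := by
    rintro _ ⟨u, hu, rfl⟩
    exact h2 u hu
  obtain ⟨c, hc⟩ := MulAction.exists_smul_eq N ((g • P).subtype h2') (P.subtype h1)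
  simp_rw [Sylow.smul_subtype, Subgroup.smul_def, smul_smul] at hc
  exact ⟨c, c.2, Sylow.smul_eq_iff_mem_normalizer.mp (Sylow.subtype_injective hc)⟩

/-- Burnside's fusion lemma for normal subsets of a Sylow subgroup. -/
theorem burnside_sets [Finite G] [Fact p.Prime] (P : Sylow p G) {X Y : Set G}
    (hX : ∀ u ∈ P, (fun y => u * y * u⁻¹) '' X = X)
    (hY : ∀ u ∈ P, (fun y => u * y * u⁻¹) '' Y = Y) (g : G)
    (hg : (fun y => g * y * g⁻¹) '' X = Y) :
    ∃ n ∈ normalizer (P : Set G), (fun y => n * y * n⁻¹) '' X = Y := by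
  let N : Subgroup G :=
    { carrier := {c | (fun y => c * y * c⁻¹) '' Y = Y}
      one_mem' := by simp
      mul_mem' := fun {a b} ha hb => by
        have : (fun y => a * b * y * (a * b)⁻¹) =
            (fun y => a * y * a⁻¹) ∘ (fun y => b * y * b⁻¹) := by
          funext y; simp [mul_assoc]
        show (fun y => a * b * y * (a * b)⁻¹) '' Y = Y
        rw [this, Set.image_comp]
        rw [show (fun y => b * y * b⁻¹) '' Y = Y from hb]
        exact ha
      inv_mem' := fun {a} ha => by
        show (fun y => a⁻¹ * y * a⁻¹⁻¹) '' Y = Y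
        conv_lhs => rw [← show (fun y => a * y * a⁻¹) '' Y = Y from ha]
        rw [← Set.image_comp]
        convert Set.image_id Y using 2
        simp [mul_assoc] }
  have h2 : ∀ u ∈ P, g * u * g⁻¹ ∈ N := by
    intro u hu
    show (fun y => g * u * g⁻¹ * y * (g * u * g⁻¹)⁻¹) '' Y = Y
    rw [← hg, ← Set.image_comp]
    conv_rhs => rw [← hX u hu, ← Set.image_comp]
    congr 1
    funext y; simp [mul_assoc]
  obtain ⟨c, hc, hcn⟩ := exists_mem_mul_mem_normalizer P N g hY h2
  refine ⟨c * g, hcn, ?_⟩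
  conv_rhs => rw [← show (fun y => c * y * c⁻¹) '' Y = Y from hc, ← hg, ← Set.image_comp]
  congr 1
  funext y; simp [mul_assoc]

/-- Burnside's fusion lemma for elements of the centre of a Sylow subgroup. -/
theorem burnside_central [Finite G] [Fact p.Prime] (P : Sylow p G) {x y : G}
    (hx : x ∈ centralizer (P : Set G)) (hy : y ∈ centralizer (P : Set G))
    (h : ∃ g : G, g * x * g⁻¹ = y) :
    ∃ n ∈ normalizer (P : Set G), n * x * n⁻¹ = y := by
  obtain ⟨g, hg⟩ := h
  obtain ⟨n, hn, he⟩ := burnside_sets P (X := {x}) (Y := {y})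
    (fun u hu => by simp [hx u hu]) (fun u hu => by simp [hy u hu]) g (by simp [hg])
  exact ⟨n, hn, by simpa using he⟩

/-- `H` controls the fusion of elements of `P` in `G`. -/
def Controls (P H : Subgroup G) : Prop :=
  ∀ x ∈ P, ∀ g : G, g * x * g⁻¹ ∈ P → ∃ h ∈ H, h * x * h⁻¹ = g * x * g⁻¹

/-- The Sylow subgroup `P` of `G` inside an overgroup `H`, mapped back. -/
theorem map_sylow_subtype (P : Sylow p G) {H : Subgroup G} (h : (P : Subgroup G) ≤ H) :
    ((P.subtype h : Sylow p H) : Subgroup H).map H.subtype = P := by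
  rw [Sylow.coe_subtype, map_subgroupOf_eq_of_le h]

theorem focalSubgroup_eq_of_controls {P H : Subgroup G} (hPH : P ≤ H) (hc : Controls P H) :
    P.focalSubgroup = (P.subgroupOf H).focalSubgroup.map H.subtype := by
  apply le_antisymm
  · rw [focalSubgroup_def, closure_le]
    rintro _ ⟨hz, x, hx, u, rfl⟩
    have h1 : u * x⁻¹ * u⁻¹ ∈ P := by
      have := P.mul_mem (P.inv_mem hx) hz
      simpa [commutatorElement_def, mul_assoc] using this
    obtain ⟨v, hv, he⟩ := hc x⁻¹ (P.inv_mem hx) u h1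
    have he' : ⁅x, u⁆ = ⁅x, v⁆ := by
      simp [commutatorElement_def, mul_assoc] at he ⊢
      exact he.symm
    refine ⟨⟨⁅x, u⁆, hPH hz⟩, ?_, rfl⟩
    refine subset_closure ⟨hz, ⟨x, hPH hx⟩, hx, ⟨v, hv⟩, ?_⟩
    ext
    simpa [commutatorElement_def] using he'
  · rw [map_le_iff_le_comap, focalSubgroup_def, closure_le]
    rintro _ ⟨hz, x, hx, u, rfl⟩
    exact subset_closure ⟨hz, (x : G), hx, (u : G), by simp [commutatorElement_def]⟩

/-- Control of fusion implies control of the abelian p-quotient. -/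
theorem commutator_inf_eq_of_controls [Finite G] [Fact p.Prime] (P : Sylow p G) {H : Subgroup G}
    (hPH : (P : Subgroup G) ≤ H) (hc : Controls (P : Subgroup G) H) :
    _root_.commutator G ⊓ (P : Subgroup G) = ⁅H, H⁆ ⊓ (P : Subgroup G) := by
  refine le_antisymm ?_ (inf_le_inf_right _ (commutator_mono le_top le_top))
  rw [Subgroup.commutator_inf_eq_focalSubgroup P, focalSubgroup_eq_of_controls hPH hc]
  refine le_inf ?_ ?_
  · refine (map_mono (focalSubgroup_le_commutator _)).trans ?_
    exact (map_subtype_commutator H).le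
  · refine (map_mono (focalSubgroup_le _)).trans ?_
    rw [map_subgroupOf_eq_of_le hPH]

/-- Control of fusion implies control of `O^p`: the hyperfocal form of the theorem of Tate. -/
theorem inf_pResidual_eq_of_controls [Finite G] [Fact p.Prime] (P : Sylow p G) {H : Subgroup G}
    (hPH : (P : Subgroup G) ≤ H) (hc : Controls (P : Subgroup G) H) :
    (P : Subgroup G) ⊓ Cfsg.pResidual p G =
      (P : Subgroup G) ⊓ (Cfsg.pResidual p H).map H.subtype := by
  refine le_antisymm (le_inf inf_le_left ?_) (inf_le_inf_left _ (pResidual_map_subtype_le H))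
  set O := Cfsg.pResidual p G
  set O' := (Cfsg.pResidual p H).map H.subtype
  let R : Subgroup P := O.subgroupOf P
  let S : Subgroup P := O'.subgroupOf P
  let Q : Sylow p H := P.subtype hPH
  have hO'n : ∀ h ∈ H, ∀ w ∈ O', h * w * h⁻¹ ∈ O' := by
    rintro h hh _ ⟨w, hw, rfl⟩
    exact ⟨⟨h, hh⟩ * w * ⟨h, hh⟩⁻¹, pResidual_normal.conj_mem w hw _, rfl⟩
  have : S.Normal := ⟨fun s hs u => hO'n u (hPH u.2) s hs⟩
  have : R.Normal := Normal.subgroupOf inferInstance _
  let M : Subgroup P := ⁅R, (⊤ : Subgroup P)⁆ ⊔ S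
  have hRM : R ≤ M → (P : Subgroup G) ⊓ O ≤ O' := by
    intro h
    have hnil : Group.IsNilpotent P := P.2.isNilpotent
    intro x hx
    exact le_of_le_commutator_sup h (show (⟨x, hx.1⟩ : P) ∈ R from hx.2)
  apply hRM
  have : M.Normal := sup_normal _ _
  -- an abelian quotient of the Sylow subgroup of `O`
  let PO : Subgroup O := (P : Subgroup G).subgroupOf O
  let toP : PO →* P :=
    { toFun := fun x => ⟨((x : O) : G), x.2⟩
      map_one' := rfl
      map_mul' := fun _ _ => rfl }
  let ψ : PO →* (P ⧸ M) := (QuotientGroup.mk' M).comp toP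
  have hcomm : ∀ a b : ψ.range, a * b = b * a := by
    rintro ⟨_, a, rfl⟩ ⟨_, b, rfl⟩
    refine Subtype.ext ?_
    show ψ a * ψ b = ψ b * ψ a
    apply commutatorElement_eq_one_iff_mul_comm.mp
    rw [show ψ a = QuotientGroup.mk' M (toP a) from rfl,
      show ψ b = QuotientGroup.mk' M (toP b) from rfl, ← map_commutatorElement,
      QuotientGroup.mk'_apply, QuotientGroup.eq_one_iff]
    exact mem_sup_left (commutator_mem_commutator (show toP a ∈ R from (a : O).2) (mem_top _))
  let : CommGroup ψ.range := { (inferInstance : Group ψ.range) with mul_comm := hcomm }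
  let φ : PO →* ψ.range := ψ.rangeRestrict
  have key : ∀ (x : PO) (g : O) (hx : g⁻¹ * (x : O) * g ∈ PO), φ ⟨_, hx⟩ = φ x := by
    intro x g hx
    refine Subtype.ext ?_
    show QuotientGroup.mk' M (toP ⟨_, hx⟩) = QuotientGroup.mk' M (toP x)
    set a : G := ((x : O) : G) with ha_def
    have ha : a ∈ (P : Subgroup G) := x.2
    have hb : (g : G)⁻¹ * a * g ∈ (P : Subgroup G) := hx
    obtain ⟨h, hh, he⟩ := hc a ha (g : G)⁻¹ (by simpa using hb)
    rw [inv_inv] at he
    obtain ⟨w, hw, u, hu, hwu⟩ := exists_eq_pResidual_mul Q ⟨h⁻¹, H.inv_mem hh⟩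
    have hu' : (u : G) ∈ (P : Subgroup G) := hu
    have hw' : (w : G) ∈ O' := ⟨w, hw, rfl⟩
    have hhu : h⁻¹ = (w : G) * u := congrArg Subtype.val hwu
    have hh' : h = (u : G)⁻¹ * (w : G)⁻¹ := by rw [← inv_inv h, hhu, mul_inv_rev]
    -- `z = w⁻¹ a w` lies in `P ∩ O`, is congruent to `a` mod `S`, and is `P`-conjugate to `b`
    have hz : (w : G)⁻¹ * a * w = (u : G) * ((g : G)⁻¹ * a * g) * (u : G)⁻¹ := by
      rw [← he, hh']; group
    have hzP : (w : G)⁻¹ * a * w ∈ (P : Subgroup G) := by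
      rw [hz]; exact mul_mem (mul_mem hu' hb) (inv_mem hu')
    let A : P := ⟨a, ha⟩
    let U : P := ⟨(u : G), hu'⟩
    let Z : P := ⟨(w : G)⁻¹ * a * w, hzP⟩
    let B : P := ⟨(g : G)⁻¹ * a * g, hb⟩
    show QuotientGroup.mk' M B = QuotientGroup.mk' M A
    have h1 : QuotientGroup.mk' M Z = QuotientGroup.mk' M A := by
      refine (QuotientGroup.eq.mpr (mem_sup_right ?_)).symm
      show a⁻¹ * ((w : G)⁻¹ * a * w) ∈ O'
      have h3 : a⁻¹ * (w : G)⁻¹ * a⁻¹⁻¹ ∈ O' := hO'n a⁻¹ (inv_mem (hPH ha)) _ (inv_mem hw')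
      convert mul_mem h3 hw' using 1
      group
    have hBR : B ∈ R := O.mul_mem (O.mul_mem (O.inv_mem g.2) (x : O).2) g.2
    have h2 : QuotientGroup.mk' M Z = QuotientGroup.mk' M B := by
      have hZ : Z = U * B * U⁻¹ := Subtype.ext hz
      rw [hZ]
      refine (QuotientGroup.eq.mpr (mem_sup_left ?_)).symm
      have : ⁅B⁻¹, U⁆ ∈ ⁅R, (⊤ : Subgroup P)⁆ :=
        commutator_mem_commutator (inv_mem hBR) (mem_top U)
      have e : B⁻¹ * (U * B * U⁻¹) = ⁅B⁻¹, U⁆ := by rw [commutatorElement_def]; group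
      rw [e]
      exact this
    exact h2.symm.trans h1
  have hrange : IsPGroup p ψ.range := (P.2.to_quotient M).to_subgroup _
  intro r hr
  let x : PO := ⟨⟨(r : G), hr⟩, r.2⟩
  have h0 : MonoidHom.transfer φ (x : O) = 1 := by
    have := pResidual_le_ker (MonoidHom.transfer φ) hrange
    rw [pResidual_pResidual] at this
    exact this (mem_top _)
  rw [transfer_eq_pow_of_invariant φ key] at h0
  have hidx : ¬ p ∣ PO.index := by
    have := not_dvd_relIndex_of_normal P O
    rwa [inf_relIndex_right] at this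
  have h1 : φ x = 1 := by
    apply eq_one_of_isPGroup_of_coprime hrange
    exact Nat.Coprime.coprime_dvd_left (orderOf_dvd_of_pow_eq_one h0)
      ((Fact.out : p.Prime).coprime_iff_not_dvd.mpr hidx).symm
  have h2 : QuotientGroup.mk' M (toP x) = 1 := congrArg Subtype.val h1
  exact (QuotientGroup.eq_one_iff _).mp h2

/-- A Sylow subgroup that controls its own fusion has a normal complement. -/
theorem npc_of_controls_self [Finite G] [Fact p.Prime] (P : Sylow p G)
    (hc : Controls (P : Subgroup G) P) : Cfsg.HasNormalPComplement p G := by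
  rw [npc_iff_inf P, inf_pResidual_eq_of_controls P le_rfl hc, eq_bot_iff]
  rintro _ ⟨-, w, hw, rfl⟩
  have := (pResidual_le_ker (MonoidHom.id P) P.2) hw
  simp_all

/-- If the normalizer of `Z ≤ Z(P)`, weakly closed in `P`, then it controls fusion in `P`. -/
theorem controls_of_weaklyClosed [Finite G] [Fact p.Prime] (P : Sylow p G) {Z : Subgroup G}
    (hZ : Z ≤ centralizer (P : Set G)) (hW : Cfsg.IsWeaklyClosed Z P) :
    (P : Subgroup G) ≤ normalizer (Z : Set G) ∧
      Controls (P : Subgroup G) (normalizer (Z : Set G)) := by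
  have hPZ : ∀ a : G, (∀ z ∈ Z, a * z * a⁻¹ ∈ (P : Subgroup G)) →
      a ∈ normalizer (Z : Set G) := by
    intro a ha
    have hmap := hW.2 a (by rintro _ ⟨z, hz, rfl⟩; exact ha z hz)
    rw [Subgroup.mem_normalizer_iff]
    intro z
    constructor
    · intro hz
      rw [← hmap]
      exact ⟨z, hz, rfl⟩
    · intro hz
      rw [← hmap] at hz
      obtain ⟨z', hz', he⟩ := hz
      have : z' = z := by simpa using he
      exact this ▸ hz'
  refine ⟨fun u hu => hPZ u fun z hz =>
    P.mul_mem (P.mul_mem hu (hW.1 hz)) (P.inv_mem hu), ?_⟩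
  intro x hx g hy
  set y := g * x * g⁻¹ with hy_def
  have hZC : Z ≤ centralizer {y} := fun z hz =>
    mem_centralizer_singleton_iff.mpr (hZ hz y hy).symm
  have hgZC : Z.map (MulAut.conj g).toMonoidHom ≤ centralizer {y} := by
    rintro _ ⟨z, hz, rfl⟩
    rw [mem_centralizer_singleton_iff]
    have : z * x = x * z := (hZ hz x hx).symm
    simp only [hy_def, MulEquiv.coe_toMonoidHom, MulAut.conj_apply]
    rw [show g * z * g⁻¹ * (g * x * g⁻¹) = g * (z * x) * g⁻¹ by group, this]
    group
  set C := centralizer ({y} : Set G)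
  have hZp : IsPGroup p Z := P.2.to_le hW.1
  obtain ⟨S, hS⟩ := (hZp.of_equiv (subgroupOfEquivOfLe hZC).symm).exists_le_sylow
  obtain ⟨T, hT⟩ := (((hZp.map (MulAut.conj g).toMonoidHom)).of_equiv
    (subgroupOfEquivOfLe hgZC).symm).exists_le_sylow
  obtain ⟨c, hc⟩ := MulAction.exists_smul_eq C T S
  obtain ⟨U, hU⟩ := (S.2.map C.subtype).exists_le_sylow
  obtain ⟨d, hd⟩ := MulAction.exists_smul_eq G U P
  have hUP : ∀ u ∈ (U : Subgroup G), d * u * d⁻¹ ∈ (P : Subgroup G) := by
    intro u hu
    rw [← hd]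
    exact ⟨u, hu, rfl⟩
  have hd1 : d ∈ normalizer (Z : Set G) :=
    hPZ d fun z hz => hUP z (hU ⟨⟨z, hZC hz⟩, hS hz, rfl⟩)
  have hd2 : d * (c : G) * g ∈ normalizer (Z : Set G) := by
    refine hPZ _ fun z hz => ?_
    have hmem : (⟨g * z * g⁻¹, hgZC ⟨z, hz, rfl⟩⟩ : C) ∈ (T : Subgroup C) :=
      hT ⟨z, hz, rfl⟩
    have h2 : c * ⟨g * z * g⁻¹, hgZC ⟨z, hz, rfl⟩⟩ * c⁻¹ ∈ (S : Subgroup C) := by
      rw [← hc]; exact ⟨_, hmem, rfl⟩
    have h3 := hUP _ (hU ⟨_, h2, rfl⟩)
    have h4 : d * (c : G) * g * z * (d * (c : G) * g)⁻¹ =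
        d * ((c : G) * (g * z * g⁻¹) * (c : G)⁻¹) * d⁻¹ := by group
    rw [h4]
    exact h3
  have h5 : (c : G) * g ∈ normalizer (Z : Set G) := by
    simpa [mul_assoc] using mul_mem (inv_mem hd1) hd2
  refine ⟨(c : G) * g, h5, ?_⟩
  have hcy : (c : G) * y = y * c := mem_centralizer_singleton_iff.mp c.2
  calc (c : G) * g * x * ((c : G) * g)⁻¹ = (c : G) * y * (c : G)⁻¹ := by rw [hy_def]; group
    _ = y := by rw [hcy]; group

/-- The normalizer of an abelian Sylow subgroup controls its fusion. -/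
theorem controls_normalizer_of_comm [Finite G] [Fact p.Prime] (P : Sylow p G)
    (hP : IsMulCommutative P) : Controls (P : Subgroup G) (normalizer (P : Set G)) := by
  intro x hx g hg
  have hcc : ∀ z ∈ (P : Subgroup G), z ∈ centralizer (P : Set G) := fun z hz =>
    Subgroup.le_centralizer (P : Subgroup G) hz
  exact burnside_central P (hcc x hx) (hcc _ hg) ⟨g, rfl⟩

/-- A central `p`-subgroup that splits from a Sylow subgroup is a retract of the whole group. -/
theorem exists_retraction [Finite G] [Fact p.Prime] (P : Sylow p G) {Z : Subgroup G}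
    (hZc : Z ≤ center G) (hZP : Z ≤ (P : Subgroup G)) (π : P →* Z)
    (hπ : ∀ z : Z, π (Subgroup.inclusion hZP z) = z) :
    ∃ τ : G →* Z, ∀ z : Z, τ z = z := by
  let : CommGroup Z :=
    { (inferInstance : Group Z) with
      mul_comm := fun a b => Subtype.ext (mem_center_iff.mp (hZc b.2) a) }
  have hZp : IsPGroup p Z := P.2.to_le hZP
  have hco : (Nat.card Z).Coprime (P : Subgroup G).index := by
    obtain ⟨k, hk⟩ := hZp.exists_card_eq
    rw [hk]
    exact Nat.Coprime.pow_left k ((Fact.out : p.Prime).coprime_iff_not_dvd.mpr P.not_dvd_index)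
  let inv : Z →* Z :=
    { toFun := fun z => (powCoprime hco).symm z
      map_one' := by rw [Equiv.symm_apply_eq]; exact (one_pow _).symm
      map_mul' := fun a b => by
        rw [Equiv.symm_apply_eq, powCoprime_apply, mul_pow,
          ← powCoprime_apply hco, ← powCoprime_apply hco, Equiv.apply_symm_apply,
          Equiv.apply_symm_apply] }
  refine ⟨inv.comp (MonoidHom.transfer π), fun z => ?_⟩
  have := transfer_eq_pow_of_central π (x := Subgroup.inclusion hZP z) (hZc z.2)
  rw [hπ] at this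
  show (powCoprime hco).symm (MonoidHom.transfer π (z : G)) = z
  rw [Equiv.symm_apply_eq, powCoprime_apply]
  exact this

end CfsgLib.Fusion.Transfer
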