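import Cfsg.Agent.Lib.Fusion.Transfer

/-!
Tate's criterion: `P ∩ O^p(G) ≤ Φ(P)` forces a normal p-complement.
-/

set_option autoImplicit false

namespace CfsgLib.Fusion.Tate

open Subgroup
open scoped commutatorElement
open CfsgLib.Fusion.Basic CfsgLib.Fusion.Transfer

variable {G : Type*} [Group G] {p : ℕ}

theorem npc_of_inf_pResidual_le_frattini [Finite G] [Fact p.Prime] (P : Sylow p G)
    (h : ((P : Subgroup G) ⊓ Cfsg.pResidual p G) ≤ (frattini P).map (P : Subgroup G).subtype) :
    Cfsg.HasNormalPComplement p G := by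
  set O := Cfsg.pResidual p G
  let S : Subgroup P := O.subgroupOf P
  have : S.Normal := Normal.subgroupOf inferInstance _
  have hSF : S ≤ frattini P := by
    intro s hs
    obtain ⟨t, ht, he⟩ := h ⟨s.2, hs⟩
    exact (Subtype.ext he : t = s) ▸ ht
  let T : Subgroup P := ⁅S, (⊤ : Subgroup P)⁆
  have hTS : T ≤ S := commutator_le_left _ _
  suffices S ≤ T by
    have hnil : Group.IsNilpotent P := P.2.isNilpotent
    have hbot : S ≤ ⊥ := le_of_le_commutator_sup (le_trans this le_sup_left)
    rw [npc_iff_inf P, eq_bot_iff]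
    intro x hx
    have := hbot (show (⟨x, hx.1⟩ : P) ∈ S from hx.2)
    simpa using this
  have : T.Normal := commutator_normal _ _
  let πG : P →* G ⧸ O := (QuotientGroup.mk' O).comp (P : Subgroup G).subtype
  have hTker : T ≤ πG.ker := fun t ht => (QuotientGroup.eq_one_iff _).mpr (hTS ht)
  let f : P ⧸ T →* G ⧸ O := QuotientGroup.lift T πG hTker
  have hf : ∀ q : G ⧸ O, ∃ e, f e = q := by
    intro q
    induction q using QuotientGroup.induction_on with
    | H g =>
      obtain ⟨w, hw, u, hu, rfl⟩ := exists_eq_pResidual_mul P g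
      refine ⟨QuotientGroup.mk (⟨u, hu⟩ : P), ?_⟩
      show QuotientGroup.mk' O u = QuotientGroup.mk' O (w * u)
      rw [map_mul, show QuotientGroup.mk' O w = 1 from (QuotientGroup.eq_one_iff w).mpr hw, one_mul]
  have hfker : ∀ e, f e = 1 → e ∈ center (P ⧸ T) := by
    intro e he
    induction e using QuotientGroup.induction_on with
    | H s =>
      have hs : s ∈ S := show (s : G) ∈ O from (QuotientGroup.eq_one_iff (N := O) (s : G)).mp he
      rw [mem_center_iff]
      intro e'
      induction e' using QuotientGroup.induction_on with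
      | H a =>
        symm
        apply commutatorElement_eq_one_iff_mul_comm.mp
        show ⁅QuotientGroup.mk' T s, QuotientGroup.mk' T a⁆ = 1
        rw [← map_commutatorElement]
        exact (QuotientGroup.eq_one_iff _).mpr (commutator_mem_commutator hs (mem_top a))
  -- the pullback of the central extension along `G → G ⧸ O`
  let X : Subgroup (G × (P ⧸ T)) :=
    ((QuotientGroup.mk' O).comp (MonoidHom.fst _ _)).eqLocus (f.comp (MonoidHom.snd _ _))
  let pr : X →* G := (MonoidHom.fst _ _).comp X.subtype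
  let PX : Subgroup X := (P : Subgroup G).comap pr
  have hpr : Function.Surjective pr := fun g => by
    obtain ⟨e, he⟩ := hf (QuotientGroup.mk' O g)
    exact ⟨⟨(g, e), he.symm⟩, rfl⟩
  have hE : IsPGroup p (P ⧸ T) := P.2.to_quotient T
  have hkerP : IsPGroup p pr.ker := by
    let sn : pr.ker →* P ⧸ T := ((MonoidHom.snd _ _).comp X.subtype).comp pr.ker.subtype
    refine hE.of_injective sn fun a b hab => ?_
    refine Subtype.ext (Subtype.ext (Prod.ext ?_ hab))
    exact (MonoidHom.mem_ker.mp a.2).trans (MonoidHom.mem_ker.mp b.2).symm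
  have hPX : IsPGroup p PX := P.2.comap_of_ker_isPGroup pr hkerP
  have hidx : ¬ p ∣ PX.index := by
    rw [index_comap_of_surjective _ hpr]; exact P.not_dvd_index
  let PXs : Sylow p X := hPX.toSylow hidx
  let Z : Subgroup X := pr.ker
  have hZc : Z ≤ center X := by
    intro z hz
    rw [mem_center_iff]
    intro x
    have hz1 : (z : G × (P ⧸ T)).1 = 1 := hz
    have hz2 : f (z : G × (P ⧸ T)).2 = 1 := by
      rw [show f (z : G × (P ⧸ T)).2 = QuotientGroup.mk' O (z : G × (P ⧸ T)).1 from z.2.symm, hz1,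
        map_one]
    refine Subtype.ext (Prod.ext ?_ ?_)
    · simp [hz1]
    · exact mem_center_iff.mp (hfker _ hz2) _
  have hZP : Z ≤ PX := fun z hz => by
    show pr z ∈ (P : Subgroup G)
    rw [MonoidHom.mem_ker.mp hz]
    exact one_mem _
  let sec : PX →* P ⧸ T := (QuotientGroup.mk' T).comp
    { toFun := fun x => (⟨pr x, x.2⟩ : P)
      map_one' := rfl
      map_mul' := fun _ _ => rfl }
  let snd' : PX →* P ⧸ T := ((MonoidHom.snd _ _).comp X.subtype).comp PX.subtype
  have hdiff : ∀ x : PX, f (snd' x * (sec x)⁻¹) = 1 := by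
    intro x
    rw [map_mul, map_inv, mul_inv_eq_one]
    exact ((x : X).2).symm
  have hcen : ∀ x : PX, snd' x * (sec x)⁻¹ ∈ center (P ⧸ T) := fun x => hfker _ (hdiff x)
  let π : PX →* Z :=
    { toFun := fun x => ⟨⟨(1, snd' x * (sec x)⁻¹), by
          show QuotientGroup.mk' O (1 : G) = f _
          rw [map_one]; exact (hdiff x).symm⟩, rfl⟩
      map_one' := by
        refine Subtype.ext (Subtype.ext (Prod.ext rfl ?_))
        simp
      map_mul' := fun a b => by
        refine Subtype.ext (Subtype.ext (Prod.ext (one_mul (1 : G)).symm ?_))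
        show snd' (a * b) * (sec (a * b))⁻¹ = (snd' a * (sec a)⁻¹) * (snd' b * (sec b)⁻¹)
        have hc := mem_center_iff.mp (hcen b) (sec a)⁻¹
        rw [map_mul, map_mul, mul_inv_rev, mul_assoc, ← mul_assoc (snd' b), ← hc, ← mul_assoc] }
  have hπ : ∀ z : Z, π (Subgroup.inclusion hZP z) = z := by
    intro z
    have hz1 : ((z : X) : G × (P ⧸ T)).1 = 1 := z.2
    refine Subtype.ext (Subtype.ext (Prod.ext hz1.symm ?_))
    show snd' (Subgroup.inclusion hZP z) * (sec (Subgroup.inclusion hZP z))⁻¹ = _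
    have : (⟨pr (z : X), hZP z.2⟩ : P) = 1 := Subtype.ext hz1
    have hs : sec (Subgroup.inclusion hZP z) = 1 := by
      show QuotientGroup.mk' T (⟨pr (z : X), hZP z.2⟩ : P) = 1
      rw [this, map_one]
    rw [hs, inv_one, mul_one]
    rfl
  obtain ⟨τ, hτ⟩ := exists_retraction PXs hZc hZP π hπ
  -- the kernel of the retraction is mapped onto `P ⧸ T`, killing `O`
  let R : Subgroup X := τ.ker
  have hR : ∀ x : X, x * ((τ x : Z) : X)⁻¹ ∈ R := by
    intro x
    rw [MonoidHom.mem_ker, map_mul, map_inv, hτ (τ x), mul_inv_cancel]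
  have hinj : ∀ x ∈ R, pr x = 1 → x = 1 := by
    intro x hx hx1
    have := hτ ⟨x, hx1⟩
    rw [MonoidHom.mem_ker.mp hx] at this
    exact (congrArg Subtype.val this).symm
  let rr : R →* G := pr.comp R.subtype
  have hrr : Function.Bijective rr := by
    refine ⟨(injective_iff_map_eq_one rr).mpr fun x hx => Subtype.ext (hinj x x.2 hx), fun g => ?_⟩
    obtain ⟨x, rfl⟩ := hpr g
    refine ⟨⟨_, hR x⟩, ?_⟩
    show pr (x * ((τ x : Z) : X)⁻¹) = pr x
    rw [map_mul, map_inv, MonoidHom.mem_ker.mp (τ x).2, inv_one, mul_one]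
  let e : R ≃* G := MulEquiv.ofBijective rr hrr
  let s : G →* P ⧸ T := (((MonoidHom.snd _ _).comp X.subtype).comp R.subtype).comp e.symm.toMonoidHom
  have hs : ∀ g, f (s g) = QuotientGroup.mk' O g := by
    intro g
    conv_rhs => rw [← e.apply_symm_apply g]
    exact ((e.symm g : X).2).symm
  -- surjectivity, by the Frattini property
  let S' : Subgroup P := s.range.comap (QuotientGroup.mk' T)
  have hS' : S' ⊔ frattini P = ⊤ := by
    rw [eq_top_iff]
    intro a _
    obtain ⟨b, hb⟩ := QuotientGroup.mk'_surjective T (s (a : G))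
    have hbS' : b ∈ S' := ⟨_, hb.symm⟩
    have hd : b⁻¹ * a ∈ S := by
      show ((b⁻¹ * a : P) : G) ∈ O
      have h1 : f (QuotientGroup.mk' T b) = QuotientGroup.mk' O (a : G) := by rw [hb, hs]
      have h2 : f (QuotientGroup.mk' T b) = QuotientGroup.mk' O (b : G) := rfl
      rw [← QuotientGroup.eq_one_iff]
      show QuotientGroup.mk' O ((b : G)⁻¹ * a) = 1
      rw [map_mul, map_inv, ← h2, h1, inv_mul_cancel]
    have h3 : b * (b⁻¹ * a) ∈ S' ⊔ frattini P :=
      mul_mem (mem_sup_left hbS') (mem_sup_right (hSF hd))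
    simpa using h3
  have htop : S' = ⊤ := frattini_nongenerating hS'
  intro x hx
  have hxT : QuotientGroup.mk' T x ∈ s.range := by
    have : x ∈ S' := by rw [htop]; exact mem_top x
    exact this
  obtain ⟨g, hg⟩ := hxT
  have hgO : g ∈ O := by
    rw [← QuotientGroup.eq_one_iff]
    show QuotientGroup.mk' O g = 1
    rw [← hs, hg]
    exact (QuotientGroup.eq_one_iff _).mpr hx
  have : s g = 1 := MonoidHom.mem_ker.mp (pResidual_le_ker s hE hgO)
  rw [hg] at this
  exact (QuotientGroup.eq_one_iff _).mp this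

/-- Tate: a normal subgroup meeting `P` inside `Φ(P)` has a normal p-complement. -/
theorem npc_of_normal_inf_le_frattini [Finite G] [Fact p.Prime] (P : Sylow p G) (N : Subgroup G)
    [N.Normal] (h : N ⊓ (P : Subgroup G) ≤ (frattini P).map (P : Subgroup G).subtype) :
    Cfsg.HasNormalPComplement p N := by
  set M := N ⊔ (P : Subgroup G) with hM
  have hPM : (P : Subgroup G) ≤ M := le_sup_right
  let Q : Sylow p M := P.subtype hPM
  refine npc_of_le (le_sup_left : N ≤ M) (npc_of_inf_pResidual_le_frattini Q ?_)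
  have hO : Cfsg.pResidual p M ≤ N.subgroupOf M := by
    obtain ⟨k, hk⟩ := P.2.exists_card_eq
    have h1 : (N.subgroupOf M).index ∣ Nat.card P := by
      show N.relIndex M ∣ _
      rw [hM, sup_comm, relIndex_sup_right]
      exact relIndex_dvd_card _ _
    rw [hk] at h1
    obtain ⟨i, -, hi⟩ := (Nat.dvd_prime_pow Fact.out).mp h1
    exact pResidual_le_of_index_eq_pow hi
  let e : Q ≃* P :=
    { toFun := fun x => ⟨((x : M) : G), x.2⟩
      invFun := fun x => ⟨⟨(x : G), hPM x.2⟩, x.2⟩
      left_inv := fun _ => rfl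
      right_inv := fun _ => rfl
      map_mul' := fun _ _ => rfl }
  intro x hx
  obtain ⟨t, ht, he⟩ := h ⟨hO hx.2, hx.1⟩
  refine ⟨e.symm t, ?_, Subtype.ext he⟩
  -- the Frattini subgroup is carried by isomorphisms
  have hmap : (frattini P).map e.symm.toMonoidHom ≤ frattini Q :=
    map_le_iff_le_comap.mpr (frattini_le_comap_frattini_of_surjective e.symm.surjective)
  exact hmap (mem_map_of_mem _ ht)

end CfsgLib.Fusion.Tate
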