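import Cfsg.Prelude.Def_PLocal
import Cfsg.Agent.Lib.Fusion.Basic

/-!
Elementary abelian subgroups of maximal order and the Thompson subgroup.
-/

set_option autoImplicit false

namespace CfsgLib.Fusion.Thompson

open Subgroup
open scoped Pointwise

variable {G : Type*} [Group G] {H : Type*} [Group H] {p : ℕ}

theorem isEA_map (f : G →* H) {A : Subgroup G} (hA : Cfsg.IsElementaryAbelian p A) :
    Cfsg.IsElementaryAbelian p (A.map f) := by
  refine ⟨IsMulCommutative.of_comm ?_, ?_⟩
  · rintro ⟨_, a, ha, rfl⟩ ⟨_, b, hb, rfl⟩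
    refine Subtype.ext ?_
    show f a * f b = f b * f a
    rw [← map_mul, ← map_mul, show a * b = b * a from
      congrArg Subtype.val (hA.1.is_comm.comm ⟨a, ha⟩ ⟨b, hb⟩)]
  · rintro _ ⟨a, ha, rfl⟩
    rw [← map_pow, hA.2 a ha, map_one]

theorem isEA_le {A B : Subgroup G} (hA : Cfsg.IsElementaryAbelian p A) (h : B ≤ A) :
    Cfsg.IsElementaryAbelian p B :=
  ⟨IsMulCommutative.of_comm fun a b => Subtype.ext
      (congrArg Subtype.val (hA.1.is_comm.comm ⟨a, h a.2⟩ ⟨b, h b.2⟩) :),
    fun b hb => hA.2 b (h hb)⟩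

theorem isEA_subgroupOf {A : Subgroup G} (hA : Cfsg.IsElementaryAbelian p A) (U : Subgroup G) :
    Cfsg.IsElementaryAbelian p (A.subgroupOf U) :=
  ⟨IsMulCommutative.of_comm fun a b => Subtype.ext (Subtype.ext
      (congrArg Subtype.val (hA.1.is_comm.comm ⟨_, a.2⟩ ⟨_, b.2⟩) :)),
    fun a ha => Subtype.ext (hA.2 _ ha)⟩

theorem isEA_bot : Cfsg.IsElementaryAbelian p (⊥ : Subgroup G) :=
  ⟨IsMulCommutative.of_comm fun _ _ => Subsingleton.elim _ _, fun a ha => by
    rw [mem_bot] at ha; rw [ha, one_pow]⟩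

theorem mul_comm_of_isEA {A : Subgroup G} (hA : Cfsg.IsElementaryAbelian p A) {a b : G}
    (ha : a ∈ A) (hb : b ∈ A) : a * b = b * a :=
  congrArg Subtype.val (hA.1.is_comm.comm ⟨a, ha⟩ ⟨b, hb⟩)

theorem isPGroup_isEA {A : Subgroup G} (hA : Cfsg.IsElementaryAbelian p A) : IsPGroup p A :=
  fun a => ⟨1, Subtype.ext (by simpa using hA.2 a a.2)⟩

theorem exists_maxEA [Finite G] : ∃ A, A ∈ Cfsg.maxElementaryAbelianSubgroups p G := by
  obtain ⟨A, hA, hmax⟩ := Set.exists_max_image {A : Subgroup G | Cfsg.IsElementaryAbelian p A}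
    (fun A : Subgroup G => Nat.card A) (Set.toFinite _) ⟨⊥, isEA_bot⟩
  exact ⟨A, hA, hmax⟩

theorem maxEA_map_equiv (e : G ≃* H) {A : Subgroup G}
    (hA : A ∈ Cfsg.maxElementaryAbelianSubgroups p G) :
    A.map e.toMonoidHom ∈ Cfsg.maxElementaryAbelianSubgroups p H := by
  refine ⟨isEA_map _ hA.1, fun B hB => ?_⟩
  rw [card_map_of_injective (f := e.toMonoidHom) e.injective,
    ← card_map_of_injective (f := e.symm.toMonoidHom) (K := B) e.symm.injective]
  exact hA.2 _ (isEA_map _ hB)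

theorem map_thompson_equiv (e : G ≃* H) :
    (Cfsg.thompsonSubgroup p G).map e.toMonoidHom = Cfsg.thompsonSubgroup p H := by
  apply le_antisymm
  · rw [map_le_iff_le_comap]
    exact sSup_le fun A hA => map_le_iff_le_comap.mp (le_sSup (maxEA_map_equiv e hA))
  · refine sSup_le fun B hB => ?_
    intro x hx
    refine ⟨e.symm x, le_sSup (maxEA_map_equiv e.symm hB) ⟨x, hx, rfl⟩, ?_⟩
    simp

instance thompson_characteristic : (Cfsg.thompsonSubgroup p G).Characteristic :=
  characteristic_iff_map_eq.mpr fun e => map_thompson_equiv e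

theorem thompsonSubgroupOf_le (U : Subgroup G) : Cfsg.thompsonSubgroupOf p U ≤ U :=
  map_subtype_le _

theorem mem_maxEA_subgroupOf {A U : Subgroup G}
    (hA : A ∈ Cfsg.maxElementaryAbelianSubgroups p G) (hAU : A ≤ U) :
    A.subgroupOf U ∈ Cfsg.maxElementaryAbelianSubgroups p U := by
  refine ⟨isEA_subgroupOf hA.1 U, fun B hB => ?_⟩
  rw [Nat.card_congr (subgroupOfEquivOfLe hAU).toEquiv,
    ← card_map_of_injective (f := U.subtype) (K := B) U.subtype_injective]
  exact hA.2 _ (isEA_map _ hB)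

theorem mem_maxEA_map [Finite G] {U : Subgroup G} {A₀ : Subgroup G}
    (hA₀ : A₀ ∈ Cfsg.maxElementaryAbelianSubgroups p G) (hA₀U : A₀ ≤ U) {B : Subgroup U}
    (hB : B ∈ Cfsg.maxElementaryAbelianSubgroups p U) :
    B.map U.subtype ∈ Cfsg.maxElementaryAbelianSubgroups p G := by
  refine ⟨isEA_map _ hB.1, fun C hC => (hA₀.2 C hC).trans ?_⟩
  rw [card_map_of_injective U.subtype_injective,
    ← Nat.card_congr (subgroupOfEquivOfLe hA₀U).toEquiv]
  exact hB.2 _ (isEA_subgroupOf hA₀.1 U)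

/-- The Thompson subgroup of `U`, when `U` contains some maximal elementary abelian subgroup. -/
theorem thompsonSubgroupOf_eq [Finite G] {U A₀ : Subgroup G}
    (hA₀ : A₀ ∈ Cfsg.maxElementaryAbelianSubgroups p G) (hA₀U : A₀ ≤ U) :
    Cfsg.thompsonSubgroupOf p U =
      sSup {A | A ∈ Cfsg.maxElementaryAbelianSubgroups p G ∧ A ≤ U} := by
  refine le_antisymm ?_ (sSup_le fun A hA => ?_)
  · rw [Cfsg.thompsonSubgroupOf, map_le_iff_le_comap]
    exact sSup_le fun B hB => map_le_iff_le_comap.mp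
      (le_sSup (a := B.map U.subtype) ⟨mem_maxEA_map hA₀ hA₀U hB, map_subtype_le B⟩)
  · intro x hx
    exact ⟨⟨x, hA.2 hx⟩, le_sSup (mem_maxEA_subgroupOf hA.1 hA.2) hx, rfl⟩

theorem thompsonSubgroupOf_eq_of_le [Finite G] {U : Subgroup G}
    (hU : Cfsg.thompsonSubgroup p G ≤ U) :
    Cfsg.thompsonSubgroupOf p U = Cfsg.thompsonSubgroup p G := by
  obtain ⟨A₀, hA₀⟩ := exists_maxEA (p := p) (G := G)
  rw [thompsonSubgroupOf_eq hA₀ ((le_sSup hA₀).trans hU)]
  congr 1
  ext A
  exact ⟨fun h => h.1, fun h => ⟨h, (le_sSup h).trans hU⟩⟩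

theorem exists_maxEA_le_sylow [Finite G] [Fact p.Prime] (S : Sylow p G) :
    ∃ A ∈ Cfsg.maxElementaryAbelianSubgroups p G, A ≤ (S : Subgroup G) := by
  obtain ⟨A₀, hA₀⟩ := exists_maxEA (p := p) (G := G)
  obtain ⟨T, hT⟩ := (isPGroup_isEA hA₀.1).exists_le_sylow
  obtain ⟨d, hd⟩ := MulAction.exists_smul_eq G T S
  refine ⟨_, maxEA_map_equiv (MulAut.conj d) hA₀, ?_⟩
  rw [← hd]
  exact map_mono hT

theorem thompsonSubgroup_eq_iSup [Finite G] [Fact p.Prime] :
    Cfsg.thompsonSubgroup p G = ⨆ S : Sylow p G, Cfsg.thompsonSubgroupOf p (S : Subgroup G) := by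
  refine le_antisymm (sSup_le fun A hA => ?_) (iSup_le fun S => ?_)
  · obtain ⟨T, hT⟩ := (isPGroup_isEA hA.1).exists_le_sylow
    refine le_trans ?_ (le_iSup _ T)
    rw [thompsonSubgroupOf_eq hA hT]
    exact le_sSup ⟨hA, hT⟩
  · obtain ⟨A₀, hA₀, hle⟩ := exists_maxEA_le_sylow S
    rw [thompsonSubgroupOf_eq hA₀ hle]
    exact sSup_le_sSup fun A hA => hA.1

theorem thompsonSubgroupOf_smul [Finite G] [Fact p.Prime] (g : G) (S : Sylow p G) :
    Cfsg.thompsonSubgroupOf p ((g • S : Sylow p G) : Subgroup G) =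
      (Cfsg.thompsonSubgroupOf p (S : Subgroup G)).map (MulAut.conj g).toMonoidHom := by
  have : ((g • S : Sylow p G) : Subgroup G) = (S : Subgroup G).map (MulAut.conj g).toMonoidHom := rfl
  simp only [Cfsg.thompsonSubgroupOf]
  rw [this]
  let e : (S : Subgroup G) ≃* (S : Subgroup G).map (MulAut.conj g).toMonoidHom :=
    (MulAut.conj g).subgroupMap (S : Subgroup G)
  rw [← map_thompson_equiv e, map_map, map_map]
  congr 1

/-- An element of `p`-power one centralising a maximal elementary abelian subgroup lies in it. -/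
theorem mem_of_pow_eq_one_of_centralizes [Finite G] {A : Subgroup G}
    (hA : A ∈ Cfsg.maxElementaryAbelianSubgroups p G) {x : G}
    (hx : x ∈ centralizer (A : Set G)) (hxp : x ^ p = 1) : x ∈ A := by
  have hle : A ≤ centralizer {x} := fun a ha =>
    mem_centralizer_singleton_iff.mpr (hx a ha)
  let B : Subgroup G := A ⊔ zpowers x
  have hcomm : ∀ a ∈ B, ∀ b ∈ B, a * b = b * a := by
    have h1 : B ≤ centralizer (B : Set G) := by
      refine sup_le ?_ ?_
      · intro a ha
        rw [show B = A ⊔ zpowers x from rfl]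
        have : A ⊔ zpowers x ≤ centralizer {a} := sup_le
          (fun b hb => mem_centralizer_singleton_iff.mpr (mul_comm_of_isEA hA.1 hb ha))
          (zpowers_le.mpr (mem_centralizer_singleton_iff.mpr (hx a ha).symm))
        exact fun b hb => mem_centralizer_singleton_iff.mp (this hb)
      · rw [zpowers_le]
        have : A ⊔ zpowers x ≤ centralizer {x} := sup_le hle
          (zpowers_le.mpr (mem_centralizer_singleton_iff.mpr rfl))
        exact fun b hb => mem_centralizer_singleton_iff.mp (this hb)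
    exact fun a ha b hb => h1 hb a ha
  let K : Subgroup B :=
    { carrier := {b | b ^ p = 1}
      one_mem' := one_pow p
      mul_mem' := fun {a b} ha hb => by
        show (a * b) ^ p = 1
        have hab : Commute a b := Subtype.ext (hcomm a a.2 b b.2)
        rw [hab.mul_pow, ha, hb, one_mul]
      inv_mem' := fun {a} ha => by
        show a⁻¹ ^ p = 1
        rw [inv_pow, ha, inv_one] }
  have hBK : B ≤ K.map B.subtype := sup_le
    (fun a ha => ⟨⟨a, mem_sup_left ha⟩, Subtype.ext (hA.1.2 a ha), rfl⟩)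
    (zpowers_le.mpr ⟨⟨x, mem_sup_right (mem_zpowers x)⟩, Subtype.ext hxp, rfl⟩)
  have hB : Cfsg.IsElementaryAbelian p B := by
    refine ⟨IsMulCommutative.of_comm fun a b => Subtype.ext (hcomm a a.2 b b.2), fun b hb => ?_⟩
    obtain ⟨k, hk, rfl⟩ := hBK hb
    exact congrArg Subtype.val hk
  have h := eq_of_le_of_card_ge (le_sup_left : A ≤ B) (hA.2 B hB)
  rw [h]
  exact mem_sup_right (mem_zpowers x)

theorem mem_of_mem_centralizer_thompson [Finite G] {A : Subgroup G}
    (hA : A ∈ Cfsg.maxElementaryAbelianSubgroups p G) {x : G}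
    (hx : x ∈ centralizer (Cfsg.thompsonSubgroup p G : Set G)) (hxp : x ^ p = 1) : x ∈ A :=
  mem_of_pow_eq_one_of_centralizes hA
    (centralizer_le (SetLike.coe_subset_coe.mpr (le_sSup hA : A ≤ Cfsg.thompsonSubgroup p G)) hx) hxp

theorem thompsonSubgroupOf_map_conj (g : G) (U : Subgroup G) :
    Cfsg.thompsonSubgroupOf p (U.map (MulAut.conj g).toMonoidHom) =
      (Cfsg.thompsonSubgroupOf p U).map (MulAut.conj g).toMonoidHom := by
  simp only [Cfsg.thompsonSubgroupOf]
  let e : U ≃* U.map (MulAut.conj g).toMonoidHom := (MulAut.conj g).subgroupMap U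
  rw [← map_thompson_equiv e, map_map, map_map]
  congr 1

theorem normalizer_le_normalizer_thompsonOf (U : Subgroup G) :
    normalizer (U : Set G) ≤ normalizer (Cfsg.thompsonSubgroupOf p U : Set G) := by
  intro n hn
  have hU : U.map (MulAut.conj n).toMonoidHom = U := by
    ext x
    constructor
    · rintro ⟨u, hu, rfl⟩
      exact (mem_normalizer_iff.mp hn u).mp hu
    · intro hx
      refine ⟨n⁻¹ * x * n, ?_, by simp [mul_assoc]⟩
      refine (mem_normalizer_iff.mp hn _).mpr ?_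
      rwa [show n * (n⁻¹ * x * n) * n⁻¹ = x by group]
  have h := thompsonSubgroupOf_map_conj (p := p) n U
  rw [hU] at h
  refine mem_normalizer_iff.mpr fun z => ?_
  conv_rhs => rw [h]
  exact (mem_map_iff_mem (f := (MulAut.conj n).toMonoidHom) (MulAut.conj n).injective).symm

/-- `|N H| |N ∩ H| = |N| |H|` when `H` normalises `N`. -/
theorem card_sup_mul_card_inf [Finite G] {N K : Subgroup G}
    (h : K ≤ normalizer (N : Set G)) :
    Nat.card ↥(N ⊔ K) * Nat.card ↥(N ⊓ K) = Nat.card N * Nat.card K := by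
  set M := N ⊔ K
  have hNM : N ≤ M := le_sup_left
  have hKM : K ≤ M := le_sup_right
  have hn : (N.subgroupOf M).Normal :=
    (normal_subgroupOf_iff_le_normalizer hNM).mpr (sup_le le_normalizer h)
  have h1 : N.relIndex M = N.relIndex K := by
    have h2 : N.subgroupOf M ⊔ K.subgroupOf M = ⊤ := by
      rw [← subgroupOf_sup hNM hKM, subgroupOf_self]
    have h3 := relIndex_sup_right (K.subgroupOf M) (N.subgroupOf M)
    rwa [sup_comm, h2, relIndex_top_right, relIndex_subgroupOf hKM] at h3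
  have h4 : Nat.card M = Nat.card N * N.relIndex K := by
    rw [← h1, ← Nat.card_congr (subgroupOfEquivOfLe hNM).toEquiv]
    exact (card_mul_index _).symm
  have h5 : Nat.card K = Nat.card ↥(N ⊓ K) * N.relIndex K := by
    rw [← inf_relIndex_right N K,
      ← Nat.card_congr (subgroupOfEquivOfLe (inf_le_right : N ⊓ K ≤ K)).toEquiv]
    exact (card_mul_index _).symm
  rw [h4, h5]; ring

end CfsgLib.Fusion.Thompson
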