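/-
Factoring out a normal subgroup of order prime to p.
-/
import Cfsg.Agent.Lib.Components.Constrained
import Cfsg.Agent.Lib.Fusion.Thompson
import Cfsg.Agent.Lib.LocalEven.SylowIn

set_option autoImplicit false
set_option linter.style.haveILetI false

namespace CfsgLib.Fusion.Quotient

open Subgroup CfsgLib.LocalEven.SylowIn

variable {G : Type*} [Group G] {p : ℕ} {N : Subgroup G} [N.Normal]

theorem inj_of_pGroup (hN : (Nat.card N).Coprime p) {R : Subgroup G} (hR : IsPGroup p R) :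
    Function.Injective ((QuotientGroup.mk' N).comp R.subtype) := by
  rw [← MonoidHom.ker_eq_bot_iff, eq_bot_iff]
  intro x hx
  have h1 : (x : G) ∈ R ⊓ N := ⟨x.2, (QuotientGroup.eq_one_iff _).mp hx⟩
  rw [Fusion.Basic.inf_eq_bot_of_coprime hR hN, Subgroup.mem_bot] at h1
  exact Subgroup.mem_bot.mpr (Subtype.ext h1)

/-- A `p`-subgroup is isomorphic to its image modulo a normal `p'`-subgroup. -/
theorem exists_equiv (hN : (Nat.card N).Coprime p) {R : Subgroup G} (hR : IsPGroup p R) :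
    ∃ e : R ≃* R.map (QuotientGroup.mk' N), ∀ x : R, (e x : G ⧸ N) = QuotientGroup.mk' N x := by
  let f : R →* R.map (QuotientGroup.mk' N) :=
    MonoidHom.codRestrict ((QuotientGroup.mk' N).comp R.subtype) _ fun x => ⟨x, x.2, rfl⟩
  exact ⟨MulEquiv.ofBijective f ⟨fun a b h => inj_of_pGroup hN hR (congrArg Subtype.val h :),
    fun ⟨_, x, hx, rfl⟩ => ⟨⟨x, hx⟩, rfl⟩⟩, fun x => rfl⟩

theorem omegaCenter_map (hN : (Nat.card N).Coprime p) {R : Subgroup G} (hR : IsPGroup p R) :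
    Cfsg.omegaOne p (R.map (QuotientGroup.mk' N) ⊓
        centralizer ((R.map (QuotientGroup.mk' N) : Subgroup (G ⧸ N)) : Set (G ⧸ N))) =
      (Cfsg.omegaOne p (R ⊓ centralizer (R : Set G))).map (QuotientGroup.mk' N) := by
  rw [Cfsg.omegaOne, Cfsg.omegaOne, MonoidHom.map_closure]
  congr 1
  ext y
  constructor
  · rintro ⟨⟨⟨x, hx, rfl⟩, hc⟩, hp⟩
    refine ⟨x, ⟨⟨hx, mem_centralizer_iff.mpr fun r hr => ?_⟩, ?_⟩, rfl⟩
    · have h := mem_centralizer_iff.mp hc _ ⟨r, hr, rfl⟩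
      exact congrArg Subtype.val (inj_of_pGroup hN hR (a₁ := ⟨r, hr⟩ * ⟨x, hx⟩) (a₂ := ⟨x, hx⟩ * ⟨r, hr⟩)
        (by simpa using h) :)
    · exact congrArg Subtype.val (inj_of_pGroup hN hR (a₁ := (⟨x, hx⟩ : R) ^ p) (a₂ := 1)
        (by simpa using hp) :)
  · rintro ⟨x, ⟨⟨hx, hc⟩, hp⟩, rfl⟩
    refine ⟨⟨⟨x, hx, rfl⟩, mem_centralizer_iff.mpr ?_⟩, by rw [← map_pow, hp, map_one]⟩
    rintro _ ⟨r, hr, rfl⟩
    rw [← map_mul, ← map_mul, mem_centralizer_iff.mp hc r hr]

theorem thompsonSubgroupOf_map (hN : (Nat.card N).Coprime p) {R : Subgroup G} (hR : IsPGroup p R) :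
    Cfsg.thompsonSubgroupOf p (R.map (QuotientGroup.mk' N)) =
      (Cfsg.thompsonSubgroupOf p R).map (QuotientGroup.mk' N) := by
  obtain ⟨e, he⟩ := exists_equiv hN hR
  simp only [Cfsg.thompsonSubgroupOf]
  rw [← Thompson.map_thompson_equiv (p := p) e, map_map, map_map]
  congr 1
  exact MonoidHom.ext he

/-- The normalizer of the image of a `p`-subgroup is the image of its normalizer. -/
theorem normalizer_map [Finite G] [Fact p.Prime] (hN : (Nat.card N).Coprime p) {R : Subgroup G}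
    (hR : IsPGroup p R) : normalizer ((R.map (QuotientGroup.mk' N) : Subgroup (G ⧸ N)) : Set (G ⧸ N)) =
      (normalizer (R : Set G)).map (QuotientGroup.mk' N) := by
  refine le_antisymm ?_ (Subgroup.le_normalizer_map _)
  intro y hy
  obtain ⟨g, rfl⟩ := QuotientGroup.mk'_surjective N y
  have hsyl : IsSylowIn p R (R ⊔ N) := by
    refine ⟨le_sup_left, hR, fun U hU hUp hRU => le_antisymm (fun u hu => ?_) hRU⟩
    obtain ⟨r, hr, n, hn, rfl⟩ := Subgroup.mem_sup_of_normal_right.mp (hU hu)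
    have h1 : n ∈ U ⊓ N := ⟨by simpa using mul_mem (inv_mem (hRU hr)) hu, hn⟩
    rw [Fusion.Basic.inf_eq_bot_of_coprime hUp hN, Subgroup.mem_bot] at h1
    simpa [h1] using hr
  have hg : g ∈ normalizer ((R ⊔ N : Subgroup G) : Set G) := by
    have h1 : (normalizer ((R.map (QuotientGroup.mk' N) : Subgroup (G ⧸ N)) : Set (G ⧸ N))).comap (QuotientGroup.mk' N) =
        normalizer ((R ⊔ N : Subgroup G) : Set G) := by
      rw [Subgroup.comap_normalizer_eq_of_surjective _ (QuotientGroup.mk'_surjective N), Subgroup.comap_map_eq,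
        QuotientGroup.ker_mk']
    rw [← h1]
    exact hy
  obtain ⟨l, hl, n, hn, rfl⟩ := frattini_argument hsyl le_rfl Subgroup.le_normalizer hg
  obtain ⟨r, hr, m, hm, rfl⟩ := Subgroup.mem_sup_of_normal_right.mp hl
  refine ⟨r * n, mul_mem (Subgroup.le_normalizer hr) hn.2, ?_⟩
  rw [map_mul, map_mul, map_mul, show QuotientGroup.mk' N m = 1 from (QuotientGroup.eq_one_iff m).mpr hm, mul_one]

end CfsgLib.Fusion.Quotient
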