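import Mathlib

/-!
`SL(2, 3)` as the extension of a quaternion group of order `8` by an element of order `3`.
-/

set_option autoImplicit false

namespace CfsgLib.Fusion.QuaternionSL23

/-- The `24` words `a ^ x * b ^ y * g ^ t`. -/
def word {M : Type*} [Monoid M] (a b g : M) (u : ZMod 4 × ZMod 2 × ZMod 3) : M :=
  a ^ u.1.val * b ^ u.2.1.val * g ^ u.2.2.val

/-- The defining relations. -/
structure Rel {M : Type*} [Group M] (a b g : M) : Prop where
  a4 : a ^ 4 = 1
  g3 : g ^ 3 = 1
  b2 : b ^ 2 = a ^ 2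
  ba : b * a = a⁻¹ * b
  ga : g * a * g⁻¹ = b
  gb : g * b * g⁻¹ = a * b

theorem pow_val {M : Type*} [Monoid M] {a : M} {m : ℕ} [NeZero m] (h : a ^ m = 1) (n : ℕ) :
    a ^ (n : ZMod m).val = a ^ n := by
  rw [ZMod.val_natCast]
  conv_rhs => rw [← Nat.mod_add_div n m, pow_add, pow_mul, h, one_pow, mul_one]

variable {M : Type*} [Group M] {a b g : M}

theorem word_LA (h : Rel a b g) (u : ZMod 4 × ZMod 2 × ZMod 3) :
    a * word a b g u = word a b g (u.1 + 1, u.2.1, u.2.2) := by
  have e : u.1 + 1 = ((u.1.val + 1 : ℕ) : ZMod 4) := by simp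
  unfold word
  simp only
  rw [e, pow_val h.a4, pow_succ', mul_assoc, mul_assoc, mul_assoc]

theorem b_pow_a (h : Rel a b g) (n : ℕ) : b * a ^ n = (a ^ n)⁻¹ * b := by
  have e : b * a * b⁻¹ = a⁻¹ := by rw [h.ba, mul_inv_cancel_right]
  rw [← inv_pow, ← e, conj_pow, inv_mul_cancel_right]

theorem inv_pow_val (h : Rel a b g) (x : ZMod 4) : (a ^ x.val)⁻¹ = a ^ (-x).val := by
  refine inv_eq_of_mul_eq_one_right ?_
  rw [← pow_add]
  have e : ((x.val + (-x).val : ℕ) : ZMod 4) = 0 := by simp
  rw [← pow_val h.a4, e]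
  simp

theorem word_LB (h : Rel a b g) (u : ZMod 4 × ZMod 2 × ZMod 3) :
    b * word a b g u = word a b g (2 * (u.2.1.val : ZMod 4) - u.1, u.2.1 + 1, u.2.2) := by
  unfold word
  simp only
  have h2 : u.2.1 = 0 ∨ u.2.1 = 1 := by
    revert u; decide
  rcases h2 with h2 | h2
  · rw [h2]
    simp only [ZMod.val_zero, pow_zero, mul_one, zero_add, Nat.cast_zero, mul_zero, zero_sub,
      ZMod.val_one, pow_one]
    rw [← mul_assoc, b_pow_a h, inv_pow_val h, mul_assoc]
  · rw [h2]
    simp only [ZMod.val_one, pow_one, Nat.cast_one, mul_one]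
    have e : (1 : ZMod 2) + 1 = 0 := by decide
    rw [e, ZMod.val_zero, pow_zero, mul_one, ← mul_assoc, ← mul_assoc, b_pow_a h, inv_pow_val h,
      mul_assoc _ b b, ← pow_two, h.b2]
    have e2 : (2 : ZMod 4) - u.1 = (((-u.1).val + 2 : ℕ) : ZMod 4) := by
      simp [sub_eq_neg_add]
    rw [e2, pow_val h.a4, pow_add]

theorem word_LG (h : Rel a b g) (u : ZMod 4 × ZMod 2 × ZMod 3) :
    g * word a b g u = b ^ u.1.val * ((a * b) ^ u.2.1.val * word a b g (0, 0, u.2.2 + 1)) := by
  unfold word
  simp only [ZMod.val_zero, pow_zero, one_mul]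
  have e : u.2.2 + 1 = ((u.2.2.val + 1 : ℕ) : ZMod 3) := by simp
  rw [e, pow_val h.g3, pow_succ']
  simp only [← h.gb, conj_pow]
  conv_rhs => arg 1; rw [← h.ga, conj_pow]
  group

variable (a b g) in
/-- The `24` words exhaust the group generated by `a`, `b` and `g`. -/
theorem word_surjective (h : Rel a b g) (hgen : Subgroup.closure {a, b, g} = ⊤) [Finite M] :
    Function.Surjective (word a b g) := by
  intro m
  let S : Submonoid M :=
    { carrier := {z | ∀ u, ∃ v, z * word a b g u = word a b g v}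
      one_mem' := fun u => ⟨u, one_mul _⟩
      mul_mem' := fun {x y} hx hy u => by
        obtain ⟨v, hv⟩ := hy u
        obtain ⟨w, hw⟩ := hx v
        exact ⟨w, by rw [mul_assoc, hv, hw]⟩ }
  have hS : S = ⊤ := by
    have h1 : (Subgroup.closure {a, b, g}).toSubmonoid = Submonoid.closure {a, b, g} :=
      Subgroup.closure_toSubmonoid_of_finite
    rw [hgen] at h1
    refine top_le_iff.1 ?_
    rw [← Subgroup.top_toSubmonoid (G := M), h1, Submonoid.closure_le]
    intro z hz
    have hA : a ∈ S := fun u => ⟨_, word_LA h u⟩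
    have hB : b ∈ S := fun u => ⟨_, word_LB h u⟩
    rcases hz with rfl | rfl | rfl
    · exact hA
    · exact hB
    · intro u
      obtain ⟨v, hv⟩ := S.mul_mem (pow_mem hB u.1.val) (pow_mem (S.mul_mem hA hB) u.2.1.val)
        (0, 0, u.2.2 + 1)
      exact ⟨v, by rw [word_LG h u, ← mul_assoc, hv]⟩
  have hm : m ∈ S := hS ▸ Submonoid.mem_top m
  obtain ⟨v, hv⟩ := hm (0, 0, 0)
  exact ⟨v, by simpa [word] using hv.symm⟩

/-- The standard generators of `SL(2, 3)`. -/
def sA : Matrix.SpecialLinearGroup (Fin 2) (ZMod 3) := ⟨!![0, 2; 1, 0], by decide⟩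

/-- The standard generators of `SL(2, 3)`. -/
def sB : Matrix.SpecialLinearGroup (Fin 2) (ZMod 3) := ⟨!![1, 1; 1, 2], by decide⟩

/-- The standard generators of `SL(2, 3)`. -/
def sG : Matrix.SpecialLinearGroup (Fin 2) (ZMod 3) := ⟨!![1, 1; 0, 1], by decide⟩

theorem rel_std : Rel sA sB sG where
  a4 := by decide
  g3 := by decide
  b2 := by decide
  ba := by decide
  ga := by decide
  gb := by decide

theorem word_std_injective : Function.Injective (word sA sB sG) := by
  unfold Function.Injective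
  decide

theorem word_std_surjective : Function.Surjective (word sA sB sG) := by
  unfold Function.Surjective
  decide

/-- A group with the relations, generated by the generators and with `24` distinct words, is
`SL(2, 3)`. -/
theorem nonempty_mulEquiv [Finite M] (h : Rel a b g) (hgen : Subgroup.closure {a, b, g} = ⊤)
    (hinj : Function.Injective (word a b g)) :
    Nonempty (M ≃* Matrix.SpecialLinearGroup (Fin 2) (ZMod 3)) := by
  let eS := Equiv.ofBijective _ ⟨word_std_injective, word_std_surjective⟩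
  let f : Matrix.SpecialLinearGroup (Fin 2) (ZMod 3) → M := fun z => word a b g (eS.symm z)
  have hf : ∀ u, f (word sA sB sG u) = word a b g u := fun u => by
    show word a b g (eS.symm (eS u)) = _
    rw [Equiv.symm_apply_apply]
  let S : Submonoid (Matrix.SpecialLinearGroup (Fin 2) (ZMod 3) × M) :=
    { carrier := {z | ∀ w, f (z.1 * w) = z.2 * f w}
      one_mem' := fun w => by
        show f (1 * w) = 1 * f w
        rw [one_mul, one_mul]
      mul_mem' := fun {x y} hx hy w => by
        show f (x.1 * y.1 * w) = x.2 * y.2 * f w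
        rw [mul_assoc, hx, hy, mul_assoc] }
  have hA : (sA, a) ∈ S := fun w => by
    obtain ⟨u, rfl⟩ := word_std_surjective w
    show f (sA * _) = a * _
    rw [word_LA rel_std, hf, hf, word_LA h]
  have hB : (sB, b) ∈ S := fun w => by
    obtain ⟨u, rfl⟩ := word_std_surjective w
    show f (sB * _) = b * _
    rw [word_LB rel_std, hf, hf, word_LB h]
  have hG : (sG, g) ∈ S := fun w => by
    obtain ⟨u, rfl⟩ := word_std_surjective w
    show f (sG * _) = g * _
    rw [word_LG rel_std, hf, word_LG h]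
    have hh := S.mul_mem (pow_mem hB u.1.val) (pow_mem (S.mul_mem hA hB) u.2.1.val)
      (word sA sB sG (0, 0, u.2.2 + 1))
    rw [Prod.pow_mk, Prod.mk_mul_mk, Prod.pow_mk, Prod.mk_mul_mk, hf] at hh
    rw [← mul_assoc, hh, mul_assoc]
  have hall : ∀ u, (word sA sB sG u, word a b g u) ∈ S := fun u => by
    have h1 := S.mul_mem (S.mul_mem (pow_mem hA u.1.val) (pow_mem hB u.2.1.val))
      (pow_mem hG u.2.2.val)
    simp only [Prod.pow_mk, Prod.mk_mul_mk] at h1
    exact h1
  have hmul : ∀ x y, f (x * y) = f x * f y := by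
    intro x y
    obtain ⟨u, rfl⟩ := word_std_surjective x
    rw [hf]
    exact hall u y
  let φ : Matrix.SpecialLinearGroup (Fin 2) (ZMod 3) →* M := MonoidHom.mk' f hmul
  have hφ : Function.Bijective φ := by
    constructor
    · intro x y hxy
      exact eS.symm.injective (hinj hxy)
    · intro m
      obtain ⟨u, rfl⟩ := word_surjective a b g h hgen m
      exact ⟨word sA sB sG u, hf u⟩
  exact ⟨(MulEquiv.ofBijective φ hφ).symm⟩

end CfsgLib.Fusion.QuaternionSL23

namespace CfsgLib.Fusion.QuaternionSL23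

open QuaternionGroup

/-- The map of `Q₈` to itself determined by images of the two generators. -/
def genMap (u v : QuaternionGroup 2) : QuaternionGroup 2 → QuaternionGroup 2
  | .a i => u ^ i.val
  | .xa i => v * u ^ i.val

set_option synthInstance.maxSize 2000 in
theorem aut_twelve : ∀ u v : QuaternionGroup 2,
    (∀ x y, genMap u v (x * y) = genMap u v x * genMap u v y) →
    (∀ x, genMap u v x = 1 → x = 1) → ∀ x, (genMap u v)^[12] x = x := by
  decide

set_option synthInstance.maxSize 2000 in
/-- An automorphism of order `3` of `Q₈` has a normal form, is not inner and has no inner square. -/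
theorem aut_three : ∀ u v : QuaternionGroup 2,
    (∀ x y, genMap u v (x * y) = genMap u v x * genMap u v y) →
    (∀ x, genMap u v x = 1 → x = 1) → (∀ x, (genMap u v)^[3] x = x) →
    (∃ x, genMap u v x ≠ x) →
    (∃ A : QuaternionGroup 2, A ^ 4 = 1 ∧ genMap u v A * genMap u v A = A * A ∧
      genMap u v A * A = A⁻¹ * genMap u v A ∧ genMap u v (genMap u v A) = A * genMap u v A ∧
      ∀ i k : ZMod 4, ∀ j l : ZMod 2, A ^ i.val * genMap u v A ^ j.val =
        A ^ k.val * genMap u v A ^ l.val → i = k ∧ j = l) ∧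
    ∀ d : QuaternionGroup 2, (∃ x, genMap u v x ≠ d * x * d⁻¹) ∧
      ∃ x, genMap u v (genMap u v x) ≠ d * x * d⁻¹ := by
  decide

theorem eq_genMap (φ : QuaternionGroup 2 →* QuaternionGroup 2) :
    ⇑φ = genMap (φ (.a 1)) (φ (.xa 0)) := by
  have h1 : ∀ i : ZMod (2 * 2), φ (.a i) = φ (.a 1) ^ i.val := fun i => by
    rw [← map_pow, QuaternionGroup.a_one_pow]
    congr
    rw [ZMod.natCast_val, ZMod.cast_id]
  funext x
  cases x with
  | a i => exact h1 i
  | xa i =>
    show φ (.xa i) = φ (.xa 0) * φ (.a 1) ^ i.val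
    rw [← h1, ← map_mul, QuaternionGroup.xa_mul_a, zero_add]

end CfsgLib.Fusion.QuaternionSL23
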