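import Cfsg.Agent.Lib.Fusion.Transfer
import Mathlib.GroupTheory.IndexNormal

/-!
Thompson's transfer lemma.
-/

set_option autoImplicit false

namespace CfsgLib.Fusion.ThompsonTransfer

open Subgroup
open CfsgLib.Fusion.Basic CfsgLib.Fusion.Transfer

variable {G : Type*} [Group G]

theorem thompson_transfer [Finite G] (P : Sylow 2 G) (Q : Subgroup G) (hQP : Q ≤ (P : Subgroup G))
    (hQi : Q.relIndex (P : Subgroup G) = 2) (u : G) (hu : u ^ 2 = 1)
    (huP : u ∈ (P : Subgroup G)) (huQ : u ∉ Q) :
    (∃ M : Subgroup G, M.Normal ∧ M.index = 2 ∧ u ∉ M) ∨ ∃ g : G, g * u * g⁻¹ ∈ Q := by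
  classical
  by_cases hconj : ∃ g : G, g * u * g⁻¹ ∈ Q
  · exact Or.inr hconj
  left
  simp only [not_exists] at hconj
  let Q' : Subgroup P := Q.subgroupOf (P : Subgroup G)
  have hQ'i : Q'.index = 2 := hQi
  have : Q'.Normal := normal_of_index_eq_two hQ'i
  let A := (P : Subgroup G) ⧸ Q'
  have hA : Nat.card A = 2 := hQ'i
  let : CommGroup A :=
    { (inferInstance : Group A) with
      mul_comm := fun a b => by
        have := isCyclic_of_prime_card (p := 2) hA
        exact IsCyclic.isMulCommutative.is_comm.comm a b }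
  let φ : (P : Subgroup G) →* A := QuotientGroup.mk' Q'
  set a : A := φ ⟨u, huP⟩ with ha
  have ha1 : a ≠ 1 := fun h => huQ ((QuotientGroup.eq_one_iff (⟨u, huP⟩ : P)).mp h)
  have ha2 : a ^ 2 = 1 := by
    have h := pow_card_eq_one' (x := a)
    rwa [hA] at h
  obtain ⟨b, hb, hu2⟩ : ∃ b : A, b = a ∧ ∀ x : A, x ≠ 1 → x = b :=
    ⟨a, rfl, fun x hx => by
      have := (Nat.card_eq_two_iff' (1 : A)).mp hA
      exact this.unique hx ha1⟩
  have : Fintype (Quotient (MulAction.orbitRel (zpowers u) (G ⧸ (P : Subgroup G)))) :=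
    Fintype.ofFinite _
  have hτ : MonoidHom.transfer φ u = a := by
    have hodd : a ^ (P : Subgroup G).index = a := by
      have := P.not_dvd_index
      conv_lhs => rw [← Nat.div_add_mod (P : Subgroup G).index 2, pow_add, pow_mul, ha2, one_pow,
        one_mul, show (P : Subgroup G).index % 2 = 1 by omega, pow_one]
    conv_rhs => rw [← hodd, index_eq_sum_minimalPeriod (P : Subgroup G) u,
      ← Finset.prod_pow_eq_pow_sum]
    rw [MonoidHom.transfer_eq_prod_quotient_orbitRel_zpowers_quot]
    refine Finset.prod_congr rfl fun q _ => ?_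
    have hk : Function.minimalPeriod (u • ·) q.out ∣ 2 := by
      refine Function.IsPeriodicPt.minimalPeriod_dvd ?_
      show u • u • q.out = q.out
      rw [smul_smul, ← sq, hu, one_smul]
    have hmem := QuotientGroup.out_conj_pow_minimalPeriod_mem (P : Subgroup G) u q.out
    show φ ⟨_, hmem⟩ = _
    revert hmem
    generalize Function.minimalPeriod (u • ·) q.out = k at hk ⊢
    intro hmem
    rcases (Nat.dvd_prime Nat.prime_two).mp hk with rfl | rfl
    · rw [pow_one a]
      refine (hu2 _ fun h1 => hconj q.out.out⁻¹ ?_).trans hb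
      have := (QuotientGroup.eq_one_iff _).mp h1
      rw [inv_inv]
      simpa [Q', mem_subgroupOf] using this
    · rw [ha2, ← map_one φ]
      congr 1
      exact Subtype.ext (by simp [hu])
  refine ⟨(MonoidHom.transfer φ).ker, inferInstance, ?_, fun h => ha1 ?_⟩
  · rw [index_ker]
    have hne : (MonoidHom.transfer φ).range ≠ ⊥ := by
      rw [Ne, eq_bot_iff]
      intro h
      exact ha1 (by simpa using h ⟨u, hτ⟩)
    have := Fact.mk Nat.prime_two
    have := Fact.mk (hA ▸ Nat.prime_two : (Nat.card A).Prime)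
    rcases Subgroup.eq_bot_or_eq_top_of_prime_card (MonoidHom.transfer φ).range with h | h
    · exact absurd h hne
    · rw [h, card_top, hA]
  · rw [← hτ]
    exact h

end CfsgLib.Fusion.ThompsonTransfer
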