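import Cfsg.Agent.Lib.Fusion.OffenderFamily
import Cfsg.Agent.Lib.Fusion.PSolvable
import Cfsg.Agent.S0606
import Mathlib.GroupTheory.SemidirectProduct

/-!
The action of a `p`-separable group on a normal elementary abelian subgroup, as a faithful group
inside a semidirect product, and the best offenders induced by the maximal elementary abelian subgroups.
-/

set_option autoImplicit false
set_option linter.style.haveILetI false
set_option linter.unusedSectionVars false

open scoped commutatorElement

namespace CfsgLib.Fusion.FailureFactor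

open CfsgLib.Solvable CfsgLib.Fusion.Basic

universe u

variable {G : Type u} [Group G] {p : ℕ}

/-- If `O_p(G) = 1` in a `p`-separable group then `O_{p'}(G)` contains its centraliser. -/
theorem centralizer_pPrimeCore_le [Finite G] [Fact p.Prime] (hG : Cfsg.IsPSolvable p G)
    (hO : Cfsg.pCore p G = ⊥) :
    Subgroup.centralizer (Cfsg.pPrimeCore p G : Set G) ≤ Cfsg.pPrimeCore p G := by
  haveI : (Cfsg.pPrimeCore p G).Normal := Cores.pPrimeCore_normal p
  set R := Cfsg.pPrimeCore p G
  set C := Subgroup.centralizer (R : Set G) with hC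
  haveI : C.Normal := Subgroup.normal_centralizer
  by_contra hne
  set q := QuotientGroup.mk' (R ⊓ C) with hq
  have hq' : Function.Surjective q := QuotientGroup.mk'_surjective _
  have hCn : (C.map q).Normal := Subgroup.Normal.map inferInstance q hq'
  have hCne : C.map q ≠ ⊥ := fun h => hne (by
    rw [Subgroup.map_eq_bot_iff, QuotientGroup.ker_mk'] at h
    exact h.trans inf_le_left)
  obtain ⟨N, hN, hNC, hNne, hNpp⟩ :=
    PSolvable.exists_minimal_dichotomy (PSolvable.psolvable_quotient hG (R ⊓ C)) hCne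
  set M := N.comap q with hM
  have hMn : M.Normal := hN.comap q
  have hMC : M ≤ C := by
    rw [hM]
    refine (Subgroup.comap_mono hNC).trans ?_
    rw [Subgroup.comap_map_eq, QuotientGroup.ker_mk']
    exact sup_le le_rfl inf_le_right
  refine hNne (le_bot_iff.mp ?_)
  rw [← Subgroup.map_comap_eq_self_of_surjective hq' N, ← hM, Subgroup.map_le_iff_le_comap,
    MonoidHom.comap_bot, QuotientGroup.ker_mk']
  refine le_inf ?_ hMC
  have hMcard : ∀ {k : ℕ}, (Nat.card N).Coprime k → (Nat.card ↥(R ⊓ C : Subgroup G)).Coprime k →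
      (Nat.card M).Coprime k := by
    intro k h1 h2
    have hker : R ⊓ C = (⊥ : Subgroup (G ⧸ R ⊓ C)).comap q := by
      rw [MonoidHom.comap_bot]; exact (QuotientGroup.ker_mk' _).symm
    have hle : R ⊓ C ≤ M := by rw [hker, hM]; exact Subgroup.comap_mono bot_le
    have h3 : (R ⊓ C).relIndex M = Nat.card N := by
      calc (R ⊓ C).relIndex M = ((⊥ : Subgroup (G ⧸ R ⊓ C)).comap q).relIndex (N.comap q) := by
            rw [← hker]
        _ = Nat.card N := by
            rw [Subgroup.relIndex_comap, Subgroup.map_comap_eq_self_of_surjective hq', Subgroup.relIndex_bot_left]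
    have h4 := Subgroup.relIndex_mul_relIndex (⊥ : Subgroup G) (R ⊓ C) M bot_le hle
    rw [Subgroup.relIndex_bot_left, Subgroup.relIndex_bot_left, h3] at h4
    rw [← h4]
    exact h2.mul_left h1
  have hZcop : (Nat.card ↥(R ⊓ C : Subgroup G)).Coprime p :=
    Nat.Coprime.coprime_dvd_left (Subgroup.card_dvd_of_le inf_le_left) (Cores.coprime_card_pPrimeCore p)
  rcases hNpp with h | h
  swap
  · exact Cores.le_pPrimeCore (hMcard h hZcop)
  -- `M` is nilpotent, so its Sylow `p`-subgroup is trivial
  let f : M →* N := (q.comp M.subtype).codRestrict N fun m => m.2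
  haveI : Group.IsNilpotent N := h.isNilpotent
  haveI : Group.IsNilpotent M := by
    refine Subgroup.isNilpotent_of_ker_le_center f ?_
    intro m hm
    have hm' : q (m : G) = 1 := congrArg Subtype.val hm
    have hmR : (m : G) ∈ R ⊓ C := (QuotientGroup.eq_one_iff _).1 hm'
    refine Subgroup.mem_center_iff.2 fun x => Subtype.ext ?_
    exact (Subgroup.mem_centralizer_iff.1 (hMC x.2) _ hmR.1).symm
  obtain ⟨T⟩ : Nonempty (Sylow p M) := inferInstance
  haveI hTn : (T : Subgroup M).Normal :=
    ((Group.isNilpotent_of_finite_tfae (G := M)).out 0 3 rfl rfl).mp inferInstance p inferInstance T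
  haveI : (T : Subgroup M).Characteristic := T.characteristic_of_normal hTn
  haveI : M.Normal := hMn
  have hTbot : (T : Subgroup M).map M.subtype ≤ ⊥ :=
    hO ▸ Cores.le_pCore (T.2.map M.subtype)
  rw [le_bot_iff, Subgroup.map_eq_bot_iff, Subgroup.ker_subtype, le_bot_iff] at hTbot
  refine Cores.le_pPrimeCore ?_
  have hidx := T.not_dvd_index
  rw [hTbot, Subgroup.index_bot] at hidx
  exact ((Fact.out : p.Prime).coprime_iff_not_dvd.2 hidx).symm

variable (V : Subgroup G) [hVn : V.Normal]

/-- The conjugation action of `G / C_G(V)` on `V`. -/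
def act : G ⧸ Subgroup.centralizer (V : Set G) →* MulAut V :=
  QuotientGroup.lift _
    ((Subgroup.normalizerMonoidHom V).comp
      (Subgroup.inclusion (show (⊤ : Subgroup G) ≤ Subgroup.normalizer (V : Set G) by
        rw [Subgroup.normalizer_eq_top]))|>.comp Subgroup.topEquiv.symm.toMonoidHom)
    (fun g hg => by
      refine MulEquiv.ext fun v => Subtype.ext ?_
      show g * (v : G) * g⁻¹ = v
      rw [← Subgroup.mem_centralizer_iff.1 hg v v.2, mul_inv_cancel_right])

/-- The semidirect product of `V` by the group it induces. -/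
abbrev Amb : Type u := V ⋊[act V] (G ⧸ Subgroup.centralizer (V : Set G))

instance [Finite G] : Finite (Amb V) :=
  Finite.of_equiv _ (SemidirectProduct.equivProd (φ := act V)).symm

/-- The copy of `V`. -/
def vv : Subgroup (Amb V) := (SemidirectProduct.inl : V →* Amb V).range

/-- The map of `G` to the group it induces. -/
def rho : G →* Amb V :=
  SemidirectProduct.inr.comp (QuotientGroup.mk' (Subgroup.centralizer (V : Set G)))

/-- The embedding of `V`. -/
def iota : V →* Amb V := SemidirectProduct.inl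

theorem rho_conj (g : G) (v : V) :
    rho V g * iota V v * (rho V g)⁻¹ = iota V ⟨g * v * g⁻¹, hVn.conj_mem v v.2 g⟩ := by
  show SemidirectProduct.inr _ * SemidirectProduct.inl v * (SemidirectProduct.inr _)⁻¹ = _
  rw [← map_inv, ← SemidirectProduct.inl_aut]
  rfl

theorem rho_eq_one {g : G} : rho V g = 1 ↔ g ∈ Subgroup.centralizer (V : Set G) := by
  show SemidirectProduct.inr (QuotientGroup.mk' _ g) = 1 ↔ _
  rw [← map_one (SemidirectProduct.inr (φ := act V)), SemidirectProduct.inr_injective.eq_iff]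
  exact QuotientGroup.eq_one_iff g

theorem ker_rho : (rho V).ker = Subgroup.centralizer (V : Set G) := Subgroup.ext fun _ => rho_eq_one V

theorem vv_ea (hV : Cfsg.IsElementaryAbelian p V) : Cfsg.IsElementaryAbelian p (vv V) := by
  refine ⟨CfsgLib.Solvable.Basic.isMulCommutative_subgroup_iff.2 ?_, ?_⟩
  · rintro _ ⟨u, rfl⟩ _ ⟨v, rfl⟩
    rw [← map_mul, ← map_mul, hV.1.is_comm.comm u v]
  · rintro _ ⟨u, rfl⟩
    rw [← map_pow, show u ^ p = 1 from Subtype.ext (by simpa using hV.2 u u.2), map_one]

theorem range_le_normalizer : (rho V).range ≤ Subgroup.normalizer (vv V : Set (Amb V)) := by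
  rintro _ ⟨g, rfl⟩
  rw [Subgroup.mem_normalizer_iff]
  intro x
  constructor
  · rintro ⟨v, rfl⟩
    exact ⟨_, (rho_conj V g v).symm⟩
  · rintro ⟨v, hv⟩
    refine ⟨⟨g⁻¹ * v * g⁻¹⁻¹, hVn.conj_mem v v.2 g⁻¹⟩, ?_⟩
    show iota V _ = x
    rw [← rho_conj V g⁻¹ v, map_inv, show iota V v = rho V g * x * (rho V g)⁻¹ from hv]
    group

theorem commute_rho_iff {g : G} {v : V} : Commute (rho V g) (iota V v) ↔ Commute g (v : G) := by
  rw [commute_iff_eq, commute_iff_eq, ← mul_inv_eq_iff_eq_mul, rho_conj]
  constructor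
  · intro h
    exact mul_inv_eq_iff_eq_mul.1 (congrArg Subtype.val (SemidirectProduct.inl_injective h))
  · intro h
    exact congrArg (iota V) (Subtype.ext (mul_inv_eq_iff_eq_mul.2 h))

theorem faithful : (rho V).range ⊓ Subgroup.centralizer (vv V : Set (Amb V)) = ⊥ := by
  rw [Subgroup.eq_bot_iff_forall]
  rintro x ⟨⟨g, rfl⟩, hg⟩
  refine (rho_eq_one V).2 (Subgroup.mem_centralizer_iff.2 fun v hv => ?_)
  exact ((commute_rho_iff V (v := ⟨v, hv⟩)).1
    (Subgroup.mem_centralizer_iff.1 hg _ ⟨⟨v, hv⟩, rfl⟩).symm).symm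

theorem fix_eq (B : Subgroup G) :
    vv V ⊓ Subgroup.centralizer ((B.map (rho V) : Subgroup (Amb V)) : Set (Amb V)) =
      ((V ⊓ Subgroup.centralizer (B : Set G)).subgroupOf V).map (iota V) := by
  ext x
  constructor
  · rintro ⟨⟨v, rfl⟩, hv⟩
    refine ⟨v, Subgroup.mem_subgroupOf.2 ⟨v.2, Subgroup.mem_centralizer_iff.2 fun b hb => ?_⟩, rfl⟩
    exact ((commute_rho_iff V).1 (Subgroup.mem_centralizer_iff.1 hv _ ⟨b, hb, rfl⟩)).eq
  · rintro ⟨v, hv, rfl⟩
    refine ⟨⟨v, rfl⟩, Subgroup.mem_centralizer_iff.2 ?_⟩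
    rintro _ ⟨b, hb, rfl⟩
    exact ((commute_rho_iff V).2 (Subgroup.mem_centralizer_iff.1 (Subgroup.mem_subgroupOf.1 hv).2 b hb)).eq

variable [Finite G] [Fact p.Prime]

theorem card_fix (B : Subgroup G) :
    Nat.card ↥(vv V ⊓ Subgroup.centralizer ((B.map (rho V) : Subgroup (Amb V)) : Set (Amb V))) =
      Nat.card ↥(V ⊓ Subgroup.centralizer (B : Set G)) := by
  rw [fix_eq, Subgroup.card_map_of_injective (show Function.Injective (iota V) from SemidirectProduct.inl_injective),
    Nat.card_congr (Subgroup.subgroupOfEquivOfLe inf_le_left).toEquiv]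

theorem card_vv : Nat.card (vv V) = Nat.card V := by
  have := Nat.card_congr (MonoidHom.ofInjective (f := (SemidirectProduct.inl : V →* Amb V))
    SemidirectProduct.inl_injective).toEquiv
  exact this.symm

theorem card_map_mul (B : Subgroup G) :
    Nat.card (B.map (rho V)) * Nat.card (B ⊓ Subgroup.centralizer (V : Set G) : Subgroup G) = Nat.card B := by
  have h := Subgroup.index_mul_card ((rho V).comp B.subtype).ker
  rw [Subgroup.index_ker, MonoidHom.range_comp, Subgroup.range_subtype, ← MonoidHom.comap_ker, ker_rho] at h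
  refine Eq.trans ?_ h
  congr 1
  rw [← Nat.card_congr (Subgroup.subgroupOfEquivOfLe
    (inf_le_left : B ⊓ Subgroup.centralizer (V : Set G) ≤ B)).toEquiv]
  congr 2
  ext x
  simp [Subgroup.mem_subgroupOf]

theorem image_isBest (hV : Cfsg.IsElementaryAbelian p V) {A : Subgroup G}
    (hA : A ∈ Cfsg.maxElementaryAbelianSubgroups p G) :
    Cfsg.IsBestOffenderOn p (vv V) (A.map (rho V)) := by
  have hb := Cfsg.Agent.S0606.result V hV A hA
  have hEA := Thompson.isEA_map (rho V) hA.1
  refine ⟨fun B hB => ?_, ?_, fun a ha => by rw [hEA.2 a ha]; exact one_mem _⟩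
  · set B₀ := A ⊓ B.comap (rho V) with hB₀
    have hBeq : B₀.map (rho V) = B := by
      refine le_antisymm (by rintro _ ⟨x, hx, rfl⟩; exact hx.2) fun y hy => ?_
      obtain ⟨x, hx, rfl⟩ := hB hy
      exact ⟨x, ⟨hx, hy⟩, rfl⟩
    have hCeq : B₀ ⊓ Subgroup.centralizer (V : Set G) = A ⊓ Subgroup.centralizer (V : Set G) := by
      refine le_antisymm (inf_le_inf_right _ inf_le_left) fun x hx => ⟨⟨hx.1, ?_⟩, hx.2⟩
      show rho V x ∈ B
      rw [(rho_eq_one V).2 hx.2]
      exact one_mem B
    have h := hb.1 B₀ inf_le_left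
    rw [← card_map_mul V B₀, ← card_map_mul V A, hCeq, hBeq] at h
    rw [← hBeq, card_fix, card_fix, hBeq]
    refine Nat.le_of_mul_le_mul_left ?_ (Nat.card_pos (α := (A ⊓ Subgroup.centralizer (V : Set G) : Subgroup G)))
    calc _ = Nat.card B * Nat.card ↥(A ⊓ Subgroup.centralizer (V : Set G)) *
          Nat.card ↥(V ⊓ Subgroup.centralizer (B₀ : Set G)) := by ring
      _ ≤ _ := h
      _ = _ := by ring
  · rw [Subgroup.commutator_self_eq_bot_iff.2 hEA.1]
    exact bot_le

/-- A normal subgroup of a `p`-separable group acts on `V` with self-centralising `p'`-core. -/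
theorem setup (hsep : Cfsg.IsPSolvable p G) (hV : Cfsg.IsElementaryAbelian p V)
    (hO : Cfsg.pCore p (G ⧸ Subgroup.centralizer (V : Set G)) = ⊥) (L : Subgroup G) [hL : L.Normal] :
    OffenderBasic.Setup p (vv V) (L.map (rho V))
      ((Cfsg.pPrimeCore p ↥(L.map (rho V))).map (L.map (rho V)).subtype) := by
  set q := QuotientGroup.mk' (Subgroup.centralizer (V : Set G))
  have hmap : L.map (rho V) = (L.map q).map SemidirectProduct.inr := (Subgroup.map_map L _ _).symm
  refine OffenderBasic.Setup.of_pPrimeCore (vv_ea V hV)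
    ((Subgroup.map_le_range _ _).trans (range_le_normalizer V))
    (le_bot_iff.1 ((inf_le_inf_right _ (Subgroup.map_le_range _ _)).trans (faithful V).le)) ?_
  haveI hLq : (L.map q).Normal := hL.map q (QuotientGroup.mk'_surjective _)
  let e : ↥(L.map q) ≃* ↥(L.map (rho V)) :=
    ((L.map q).equivMapOfInjective SemidirectProduct.inr SemidirectProduct.inr_injective).trans
      (MulEquiv.subgroupCongr hmap.symm)
  refine centralizer_pPrimeCore_le ((PSolvable.psolvable_congr e).1
    (PSolvable.psolvable_subgroup (PSolvable.psolvable_quotient hsep _) _)) ?_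
  have hbot : Cfsg.pCore p ↥(L.map q) = ⊥ := by
    haveI : (Cfsg.pCore p ↥(L.map q)).Characteristic := Cores.pCore_characteristic p
    have h := Cores.le_pCore ((Cores.isPGroup_pCore p).map (L.map q).subtype)
    rw [hO, le_bot_iff, Subgroup.map_eq_bot_iff, Subgroup.ker_subtype, le_bot_iff] at h
    exact h
  have h2 := ((Cores.isPGroup_pCore p).map e.symm.toMonoidHom : IsPGroup p ((Cfsg.pCore p
    ↥(L.map (rho V))).map e.symm.toMonoidHom))
  haveI : (Cfsg.pCore p ↥(L.map (rho V))).Normal := Cores.pCore_normal p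
  haveI : ((Cfsg.pCore p ↥(L.map (rho V))).map e.symm.toMonoidHom).Normal :=
    Subgroup.Normal.map inferInstance _ e.symm.surjective
  have h3 := Cores.le_pCore h2
  rw [hbot, le_bot_iff, Subgroup.map_eq_bot_iff_of_injective _ e.symm.injective] at h3
  exact h3

end CfsgLib.Fusion.FailureFactor
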