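/-
Power formulas in groups of nilpotency class at most two or three.
-/
import Mathlib.GroupTheory.Commutator.Basic
import Mathlib.GroupTheory.PGroup
import Mathlib.GroupTheory.Nilpotent
import Mathlib.Algebra.BigOperators.Intervals
import Mathlib.Data.Nat.Choose.Dvd
import Mathlib.Tactic

set_option autoImplicit false

open scoped commutatorElement

namespace CfsgLib.Fusion.ClassThree

variable {G : Type*} [Group G]

theorem swap_eq (x y : G) : y * x = ⁅y, x⁆ * x * y := by
  simp [commutatorElement_def, mul_assoc]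

variable {x y c a b : G}

theorem pow_mul_swap (hc : y * x = c * x * y) (ha : x * c = a * c * x) (hb : y * c = b * c * y)
    (haz : a ∈ Subgroup.center G) (hbz : b ∈ Subgroup.center G) (j : ℕ) :
    y ^ j * x = x * y ^ j * c ^ j * (b⁻¹) ^ (j + 1).choose 2 * (a⁻¹) ^ j := by
  have A : ∀ g, Commute g a⁻¹ := fun g => Subgroup.mem_center_iff.mp (inv_mem haz) g
  have B : ∀ g, Commute g b⁻¹ := fun g => Subgroup.mem_center_iff.mp (inv_mem hbz) g
  have hcx : c * x = x * c * a⁻¹ := by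
    rw [ha, ((A (a * c * x))).eq]; group
  have hcy : ∀ k : ℕ, c ^ k * y = y * c ^ k * (b⁻¹) ^ k := by
    intro k
    induction k with
    | zero => simp
    | succ k ih =>
      have h1 : c * y = y * c * b⁻¹ := by rw [hb, (B (b * c * y)).eq]; group
      calc c ^ (k + 1) * y = c ^ k * (c * y) := by rw [pow_succ, mul_assoc]
        _ = c ^ k * y * (c * b⁻¹) := by rw [h1]; group
        _ = y * c ^ k * ((b⁻¹) ^ k * c) * b⁻¹ := by rw [ih]; group
        _ = y * c ^ (k + 1) * (b⁻¹) ^ (k + 1) := by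
          rw [← ((B c).pow_right k).eq, pow_succ c, pow_succ b⁻¹]; simp only [mul_assoc]
  induction j with
  | zero => simp
  | succ j ih =>
    have hyx : y * x = x * y * c * b⁻¹ * a⁻¹ := by
      calc y * x = x * c * a⁻¹ * y := by rw [hc, hcx]
        _ = x * (c * y) * a⁻¹ := by rw [mul_assoc (x * c), ← (A y).eq]; group
        _ = x * y * c * b⁻¹ * a⁻¹ := by
          have := hcy 1
          simp only [pow_one] at this
          rw [this]; group
    have h2 : (j + 2).choose 2 = (j + 1) + (j + 1).choose 2 := by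
      rw [Nat.choose_succ_succ (j + 1) 1, Nat.choose_one_right]
    calc y ^ (j + 1) * x = y * (y ^ j * x) := by rw [pow_succ', mul_assoc]
      _ = (y * x) * (y ^ j * c ^ j * (b⁻¹) ^ (j + 1).choose 2 * (a⁻¹) ^ j) := by rw [ih]; group
      _ = x * y * c * (b⁻¹ * a⁻¹ * y ^ j) * (c ^ j * (b⁻¹) ^ (j + 1).choose 2 * (a⁻¹) ^ j) := by
        rw [hyx]; group
      _ = x * y * (c * y ^ j) * (b⁻¹ * a⁻¹) * (c ^ j * (b⁻¹) ^ (j + 1).choose 2 * (a⁻¹) ^ j) := by
        rw [← ((B (y ^ j)).mul_right (A (y ^ j))).eq]; group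
      _ = x * y * (y ^ j * c * (b⁻¹) ^ j) * (b⁻¹ * a⁻¹) *
          (c ^ j * (b⁻¹) ^ (j + 1).choose 2 * (a⁻¹) ^ j) := by
        have hcyj : c * y ^ j = y ^ j * c * (b⁻¹) ^ j := by
          clear ih h2
          induction j with
          | zero => simp
          | succ j ih =>
            have h1 := hcy 1
            simp only [pow_one] at h1
            calc c * y ^ (j + 1) = c * y ^ j * y := by rw [pow_succ, mul_assoc]
              _ = y ^ j * c * ((b⁻¹) ^ j * y) := by rw [ih]; group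
              _ = y ^ j * (c * y) * (b⁻¹) ^ j := by rw [← ((B y).pow_right j).eq]; group
              _ = y ^ (j + 1) * c * (b⁻¹) ^ (j + 1) := by rw [h1, pow_succ y, pow_succ' b⁻¹]; group
        rw [hcyj]
      _ = x * y ^ (j + 1) * (c * ((b⁻¹) ^ j * (b⁻¹ * a⁻¹) * c ^ j)) *
          ((b⁻¹) ^ (j + 1).choose 2 * (a⁻¹) ^ j) := by
        rw [pow_succ' y]; group
      _ = x * y ^ (j + 1) * (c * c ^ j) * ((b⁻¹) ^ (j + 1) * (b⁻¹) ^ (j + 1).choose 2) *
          (a⁻¹ * (a⁻¹) ^ j) := by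
        have hcb : (b⁻¹) ^ j * (b⁻¹ * a⁻¹) * c ^ j = c ^ j * ((b⁻¹) ^ (j + 1) * a⁻¹) := by
          rw [pow_succ b⁻¹, mul_assoc (b⁻¹ ^ j) b⁻¹ a⁻¹]
          exact ((((B (c ^ j)).pow_right j).mul_right ((B (c ^ j)).mul_right (A (c ^ j))))).eq.symm
        rw [hcb]
        have : a⁻¹ * (b⁻¹) ^ (j + 1).choose 2 = (b⁻¹) ^ (j + 1).choose 2 * a⁻¹ :=
          (A _).eq.symm
        simp only [mul_assoc]
        rw [← mul_assoc a⁻¹, this, mul_assoc]
      _ = _ := by rw [← pow_succ' c, ← pow_add, h2, ← pow_succ' a⁻¹]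

theorem mul_pow_eq (hc : y * x = c * x * y) (ha : x * c = a * c * x) (hb : y * c = b * c * y)
    (haz : a ∈ Subgroup.center G) (hbz : b ∈ Subgroup.center G) (n : ℕ) :
    (x * y) ^ n = x ^ n * y ^ n * c ^ n.choose 2 * (a⁻¹) ^ (n + 1).choose 3 *
      (b⁻¹) ^ (2 * (n + 1).choose 3) := by
  have A : ∀ g, Commute g a⁻¹ := fun g => Subgroup.mem_center_iff.mp (inv_mem haz) g
  have B : ∀ g, Commute g b⁻¹ := fun g => Subgroup.mem_center_iff.mp (inv_mem hbz) g
  have hckx : ∀ k : ℕ, c ^ k * x = x * c ^ k * (a⁻¹) ^ k := by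
    intro k
    induction k with
    | zero => simp
    | succ k ih =>
      have h1 : c * x = x * c * a⁻¹ := by rw [ha, ((A (a * c * x))).eq]; group
      calc c ^ (k + 1) * x = c ^ k * (c * x) := by rw [pow_succ, mul_assoc]
        _ = c ^ k * x * (c * a⁻¹) := by rw [h1]; group
        _ = x * c ^ k * ((a⁻¹) ^ k * c) * a⁻¹ := by rw [ih]; group
        _ = x * c ^ (k + 1) * (a⁻¹) ^ (k + 1) := by
          rw [← ((A c).pow_right k).eq, pow_succ c, pow_succ a⁻¹]; simp only [mul_assoc]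
  have hcky : ∀ k : ℕ, c ^ k * y = y * c ^ k * (b⁻¹) ^ k := by
    intro k
    induction k with
    | zero => simp
    | succ k ih =>
      have h1 : c * y = y * c * b⁻¹ := by rw [hb, (B (b * c * y)).eq]; group
      calc c ^ (k + 1) * y = c ^ k * (c * y) := by rw [pow_succ, mul_assoc]
        _ = c ^ k * y * (c * b⁻¹) := by rw [h1]; group
        _ = y * c ^ k * ((b⁻¹) ^ k * c) * b⁻¹ := by rw [ih]; group
        _ = y * c ^ (k + 1) * (b⁻¹) ^ (k + 1) := by
          rw [← ((B c).pow_right k).eq, pow_succ c, pow_succ b⁻¹]; simp only [mul_assoc]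
  induction n with
  | zero => simp [Nat.choose_eq_zero_of_lt]
  | succ n ih =>
    set s := n.choose 2 with hs
    have h2 : (n + 1).choose 2 = n + s := by
      rw [Nat.choose_succ_succ n 1, Nat.choose_one_right]
    have h3 : (n + 2).choose 3 = (n + 1).choose 2 + (n + 1).choose 3 := by
      rw [Nat.choose_succ_succ (n + 1) 2]
    have e1 : y ^ n * (c ^ s * x) =
        x * y ^ n * c ^ (n + s) * ((b⁻¹) ^ (n + 1).choose 2 * (a⁻¹) ^ (n + s)) := by
      rw [hckx, ← mul_assoc, ← mul_assoc, pow_mul_swap hc ha hb haz hbz]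
      have hcen : (b⁻¹) ^ (n + 1).choose 2 * (a⁻¹) ^ n * c ^ s =
          c ^ s * ((b⁻¹) ^ (n + 1).choose 2 * (a⁻¹) ^ n) :=
        ((((B (c ^ s)).pow_right _).mul_right ((A (c ^ s)).pow_right _))).eq.symm
      simp only [mul_assoc] at hcen ⊢
      rw [← mul_assoc ((a⁻¹) ^ n), ← mul_assoc ((b⁻¹) ^ (n + 1).choose 2)]
      simp only [mul_assoc]
      rw [← mul_assoc ((b⁻¹) ^ (n + 1).choose 2) ((a⁻¹) ^ n)]
      rw [← mul_assoc (((b⁻¹) ^ (n + 1).choose 2) * (a⁻¹) ^ n) (c ^ s), mul_assoc ((b⁻¹) ^ (n + 1).choose 2),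
        hcen]
      simp only [mul_assoc, ← pow_add]
      rw [← mul_assoc (c ^ n), ← pow_add]
    set zA := (a⁻¹) ^ (n + 1).choose 3 * (b⁻¹) ^ (2 * (n + 1).choose 3) with hzA
    have hz : ∀ g, Commute g zA := fun g => ((A g).pow_right _).mul_right ((B g).pow_right _)
    calc (x * y) ^ (n + 1) = (x ^ n * y ^ n * c ^ s * zA) * (x * y) := by
          rw [pow_succ, ih, hzA]; group
      _ = x ^ n * (y ^ n * (c ^ s * x)) * y * zA := by
          rw [mul_assoc (x ^ n * y ^ n * c ^ s), ← (hz (x * y)).eq]; group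
      _ = x ^ (n + 1) * y ^ n * c ^ (n + s) * (((b⁻¹) ^ (n + 1).choose 2 * (a⁻¹) ^ (n + s)) * y) * zA := by
          rw [e1, pow_succ x]; group
      _ = x ^ (n + 1) * y ^ n * (c ^ (n + s) * y) * ((b⁻¹) ^ (n + 1).choose 2 * (a⁻¹) ^ (n + s)) * zA := by
          rw [← (((B y).pow_right _).mul_right ((A y).pow_right _)).eq]; group
      _ = x ^ (n + 1) * y ^ (n + 1) * c ^ (n + s) *
          ((b⁻¹) ^ (n + s) * ((b⁻¹) ^ (n + 1).choose 2 * (a⁻¹) ^ (n + s)) * zA) := by
          rw [hcky, pow_succ y]; group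
      _ = _ := by
          rw [hzA, h2]
          have hab : Commute a⁻¹ b⁻¹ := B _
          have e : (b⁻¹) ^ (n + s) * ((b⁻¹) ^ (n + s) * (a⁻¹) ^ (n + s)) *
              ((a⁻¹) ^ (n + 1).choose 3 * (b⁻¹) ^ (2 * (n + 1).choose 3)) =
              (a⁻¹) ^ (n + 2).choose 3 * (b⁻¹) ^ (2 * (n + 2).choose 3) := by
            calc _ = ((b⁻¹) ^ (n + s) * (b⁻¹) ^ (n + s)) *
                  ((a⁻¹) ^ (n + s) * (a⁻¹) ^ (n + 1).choose 3 * (b⁻¹) ^ (2 * (n + 1).choose 3)) := by
                  simp only [mul_assoc]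
              _ = (b⁻¹) ^ (n + s + (n + s)) * (a⁻¹) ^ (n + s + (n + 1).choose 3) *
                  (b⁻¹) ^ (2 * (n + 1).choose 3) := by rw [← pow_add, ← pow_add, mul_assoc]
              _ = (a⁻¹) ^ (n + s + (n + 1).choose 3) *
                  (b⁻¹) ^ (n + s + (n + s) + 2 * (n + 1).choose 3) := by
                rw [← (hab.pow_pow _ _).eq, mul_assoc, ← pow_add]
              _ = _ := by
                rw [h3, h2]
                congr 2
                ring
          rw [e]; simp only [mul_assoc]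

/-- In a group where `[g, [h, k]]` is always central, with the prime conditions for class two or three. -/
structure SmallClass (p : ℕ) (G : Type*) [Group G] : Prop where
  odd : p ≠ 2
  central : ∀ g h k : G, ⁅g, ⁅h, k⁆⁆ ∈ Subgroup.center G
  large : 3 < p ∨ ∀ g h k : G, ⁅g, ⁅h, k⁆⁆ = 1

theorem SmallClass.of_hyp {p : ℕ} (hcl : (p ≠ 2 ∧ ⁅commutator G, (⊤ : Subgroup G)⁆ = ⊥) ∨
    (3 < p ∧ ⁅⁅commutator G, (⊤ : Subgroup G)⁆, (⊤ : Subgroup G)⁆ = ⊥)) : SmallClass p G := by
  have key : ∀ g h k : G, ⁅g, ⁅h, k⁆⁆ ∈ ⁅commutator G, (⊤ : Subgroup G)⁆ := fun g h k => by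
    rw [← commutatorElement_inv]
    exact inv_mem (Subgroup.commutator_mem_commutator
      (Subgroup.commutator_mem_commutator (Subgroup.mem_top h) (Subgroup.mem_top k)) (Subgroup.mem_top g))
  rcases hcl with ⟨hp, h⟩ | ⟨hp, h⟩
  · have h1 : ∀ g h k : G, ⁅g, ⁅h, k⁆⁆ = 1 := fun g h' k => by simpa [h] using key g h' k
    exact ⟨hp, fun g h k => h1 g h k ▸ one_mem _, Or.inr h1⟩
  · refine ⟨by omega, fun g h' k => ?_, Or.inl hp⟩
    rw [Subgroup.commutator_eq_bot_iff_le_centralizer] at h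
    exact Subgroup.mem_center_iff.mpr fun t =>
      Subgroup.mem_centralizer_iff.mp (h (key g h' k)) t (Subgroup.mem_top t)

variable {p : ℕ} [hp : Fact p.Prime]

omit hp in
theorem commutator_pow_eq (h : SmallClass p G) {a' g c' : G} (hg : g * c' = a' * c' * g)
    (ha' : a' ∈ Subgroup.center G) (n : ℕ) : g ^ n * c' = a' ^ n * c' * g ^ n := by
  induction n with
  | zero => simp
  | succ n ih =>
    calc g ^ (n + 1) * c' = g ^ n * (a' * c' * g) := by rw [pow_succ, mul_assoc, hg]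
      _ = (g ^ n * a') * (c' * g) := by group
      _ = a' * g ^ n * c' * g := by rw [Subgroup.mem_center_iff.mp ha' (g ^ n)]; group
      _ = a' ^ (n + 1) * c' * g ^ (n + 1) := by
        rw [mul_assoc a' (g ^ n), ih, pow_succ' a', pow_succ g]; group

theorem dvd_choose (h : SmallClass p G) :
    p ∣ p.choose 2 ∧ p ∣ (p + 1).choose 2 ∧ (3 < p → p ∣ (p + 1).choose 3) := by
  have h2 : 2 < p := lt_of_le_of_ne hp.out.two_le (Ne.symm h.odd)
  refine ⟨hp.out.dvd_choose_self two_ne_zero h2, ?_, fun h3 => ?_⟩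
  · exact hp.out.dvd_choose (by omega) (by omega) (by omega)
  · exact hp.out.dvd_choose (by omega) (by omega) (by omega)

/-- Under the small class hypothesis the `p`-th power map is multiplicative, given exponent `p` on commutators. -/
theorem pow_mul (h : SmallClass p G) (x y : G) (hc : ∀ u v : G, ⁅u, v⁆ ^ p = 1) :
    (x * y) ^ p = x ^ p * y ^ p := by
  obtain ⟨h1, -, h3⟩ := dvd_choose h
  set a' := ⁅x, ⁅y, x⁆⁆
  set b' := ⁅y, ⁅y, x⁆⁆
  rw [mul_pow_eq (x := x) (y := y) (c := ⁅y, x⁆) (a := a') (b := b') (swap_eq x y)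
    (swap_eq ⁅y, x⁆ x) (swap_eq ⁅y, x⁆ y) (h.central _ _ _) (h.central _ _ _)]
  obtain ⟨k, hk⟩ := h1
  rw [hk, _root_.pow_mul, hc, one_pow, mul_one]
  rcases h.large with h4 | h4
  · obtain ⟨m, hm⟩ := h3 h4
    have e : ∀ t : G, t ^ p = 1 → ∀ i, (t⁻¹) ^ (p * i) = 1 := fun t ht i => by
      rw [_root_.pow_mul, inv_pow, ht, inv_one, one_pow]
    rw [hm, e a' (hc _ _), mul_left_comm 2 p, e b' (hc _ _), mul_one, mul_one]
  · rw [show a' = 1 from h4 _ _ _, show b' = 1 from h4 _ _ _]; simp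

/-- Under the small class hypothesis the elements with `x ^ p = 1` form a subgroup. -/
theorem pow_eq_one_of_mem_closure (h : SmallClass p G) {g : G}
    (hg : g ∈ Subgroup.closure {x : G | x ^ p = 1}) : g ^ p = 1 := by
  obtain ⟨h1, h2, h3⟩ := dvd_choose h
  induction hg using Subgroup.closure_induction with
  | mem x hx => exact hx
  | one => simp
  | inv x _ hx => rw [inv_pow, hx, inv_one]
  | mul x y _ _ hx hy =>
    set c' := ⁅y, x⁆
    set a' := ⁅x, c'⁆
    set b' := ⁅y, c'⁆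
    have hza : a' ∈ Subgroup.center G := h.central _ _ _
    have hzb : b' ∈ Subgroup.center G := h.central _ _ _
    have ha : a' ^ p = 1 := by
      have := commutator_pow_eq h (swap_eq c' x) hza p
      rw [hx] at this
      simpa using this
    have hb : b' ^ p = 1 := by
      have := commutator_pow_eq h (swap_eq c' y) hzb p
      rw [hy] at this
      simpa using this
    have e : ∀ t : G, t ^ p = 1 → ∀ i, (t⁻¹) ^ (p * i) = 1 := fun t ht i => by
      rw [_root_.pow_mul, inv_pow, ht, inv_one, one_pow]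
    have e' : ∀ t : G, t ^ p = 1 → (t⁻¹) ^ p = 1 := fun t ht => by rw [inv_pow, ht, inv_one]
    have hcp : c' ^ p = 1 := by
      have := pow_mul_swap (x := x) (y := y) (c := c') (a := a') (b := b') (swap_eq x y)
        (swap_eq c' x) (swap_eq c' y) hza hzb p
      obtain ⟨k, hk⟩ := h2
      rw [hy, hk, e b' hb, e' a' ha] at this
      simpa using this
    rw [mul_pow_eq (x := x) (y := y) (c := c') (a := a') (b := b') (swap_eq x y) (swap_eq c' x)
      (swap_eq c' y) hza hzb, hx, hy]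
    obtain ⟨k, hk⟩ := h1
    rw [hk, _root_.pow_mul, hcp, one_pow]
    rcases h.large with h4 | h4
    · obtain ⟨m, hm⟩ := h3 h4
      rw [hm, e a' ha, mul_left_comm 2 p, e b' hb]; simp
    · rw [show a' = 1 from h4 _ _ _, show b' = 1 from h4 _ _ _]; simp

end CfsgLib.Fusion.ClassThree
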