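/-
Normal subgroups of prescribed order in p-groups; normal elementary abelian subgroups of rank two.
-/
import Mathlib
import Cfsg.Prelude.Def_Transfer
import Cfsg.Agent.Lib.Solvable.FrattiniFitting
import Cfsg.Agent.Lib.Frobenius.AbelianRankOne
import Cfsg.Agent.Lib.Fusion.ClassThree

set_option autoImplicit false
set_option linter.style.haveILetI false

open scoped commutatorElement IsMulCommutative

namespace CfsgLib.Fusion.NormalRankTwo

variable {R : Type*} [Group R] [Finite R] {p : ℕ} [Fact p.Prime]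

/-- A normal subgroup `N ⊋ M` of a `p`-group has an element outside `M` that is central of order `p`
modulo `M`. -/
theorem exists_central_of_lt (hR : IsPGroup p R) {M N : Subgroup R} [M.Normal] [N.Normal] (h : ¬ N ≤ M) :
    ∃ x ∈ N, x ∉ M ∧ x ^ p ∈ M ∧ ∀ g : R, ⁅g, x⁆ ∈ M := by
  let π := QuotientGroup.mk' M
  haveI : (N.map π).Normal := Subgroup.Normal.map inferInstance π (QuotientGroup.mk'_surjective M)
  have hq : IsPGroup p (R ⧸ M) := hR.to_quotient M
  haveI := hq.isNilpotent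
  have hne : N.map π ⊓ Subgroup.center (R ⧸ M) ≠ ⊥ := by
    refine CfsgLib.Solvable.FrattiniFitting.inf_center_ne_bot _ ?_
    rwa [Ne, Subgroup.map_eq_bot_iff, QuotientGroup.ker_mk']
  haveI : Nontrivial (N.map π ⊓ Subgroup.center (R ⧸ M) : Subgroup (R ⧸ M)) :=
    (Subgroup.nontrivial_iff_ne_bot _).mpr hne
  obtain ⟨n, hn, hcard⟩ := (hq.to_subgroup _).nontrivial_iff_card.mp
    (inferInstance : Nontrivial (N.map π ⊓ Subgroup.center (R ⧸ M) : Subgroup (R ⧸ M)))
  obtain ⟨z, hz⟩ := exists_prime_orderOf_dvd_card'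
    (G := (N.map π ⊓ Subgroup.center (R ⧸ M) : Subgroup (R ⧸ M))) p (by rw [hcard]; exact dvd_pow_self p hn.ne')
  obtain ⟨x, hx, hxz⟩ := z.2.1
  rw [← Subgroup.orderOf_coe, ← hxz] at hz
  refine ⟨x, hx, fun hxM => ?_, ?_, fun g => ?_⟩
  · rw [show π x = 1 from (QuotientGroup.eq_one_iff _).mpr hxM, orderOf_one] at hz
    exact (Fact.out : p.Prime).ne_one hz.symm
  · rw [← QuotientGroup.eq_one_iff, ← QuotientGroup.mk'_apply, map_pow, ← hz, pow_orderOf_eq_one]
  · rw [← QuotientGroup.eq_one_iff, ← QuotientGroup.mk'_apply, map_commutatorElement,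
      commutatorElement_eq_one_iff_mul_comm]
    have := Subgroup.mem_center_iff.mp z.2.2 (π g)
    rwa [← hxz] at this

omit [Finite R] in
/-- `⟨M, x⟩` is normal when `x` is central modulo the normal subgroup `M`. -/
theorem sup_zpowers_normal {M : Subgroup R} [M.Normal] {x : R} (h : ∀ g : R, ⁅g, x⁆ ∈ M) :
    (M ⊔ Subgroup.zpowers x).Normal := by
  refine ⟨fun n hn g => ?_⟩
  have hle : M ⊔ Subgroup.zpowers x ≤ (M ⊔ Subgroup.zpowers x).comap (MulAut.conj g).toMonoidHom := by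
    refine sup_le (fun m hm => Subgroup.mem_sup_left (Subgroup.Normal.conj_mem inferInstance m hm g)) ?_
    rw [Subgroup.zpowers_le, Subgroup.mem_comap]
    show g * x * g⁻¹ ∈ _
    rw [show g * x * g⁻¹ = ⁅g, x⁆ * x by simp [commutatorElement_def]]
    exact mul_mem (Subgroup.mem_sup_left (h g)) (Subgroup.mem_sup_right (Subgroup.mem_zpowers x))
  exact hle hn

omit [Finite R] [Fact p.Prime] in
theorem sup_zpowers_card {M : Subgroup R} [M.Normal] {x : R} [hp : Fact p.Prime] (hxM : x ∉ M) (hxp : x ^ p ∈ M) :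
    Nat.card (M ⊔ Subgroup.zpowers x : Subgroup R) = p * Nat.card M := by
  have ho : orderOf (x : R ⧸ M) = p :=
    orderOf_eq_prime (by rw [← QuotientGroup.mk_pow, QuotientGroup.eq_one_iff]; exact hxp)
      (by rwa [Ne, QuotientGroup.eq_one_iff])
  have hrel : M.relIndex (M ⊔ Subgroup.zpowers x) = p := by
    rw [← ho, ← Nat.card_zpowers, show (x : R ⧸ M) = QuotientGroup.mk' M x from rfl,
      ← MonoidHom.map_zpowers, ← Subgroup.relIndex_bot_left]
    rw [show M.relIndex (M ⊔ Subgroup.zpowers x) =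
        ((⊥ : Subgroup (R ⧸ M)).comap (QuotientGroup.mk' M)).relIndex (M ⊔ Subgroup.zpowers x) by
      rw [MonoidHom.comap_bot, QuotientGroup.ker_mk'], Subgroup.relIndex_comap, Subgroup.map_sup,
      QuotientGroup.map_mk'_self, bot_sup_eq]
  rw [← hrel, mul_comm, ← Subgroup.relIndex_bot_left, ← Subgroup.relIndex_bot_left,
    Subgroup.relIndex_mul_relIndex _ _ _ bot_le le_sup_left]

/-- A normal subgroup of a `p`-group contains normal subgroups of every smaller `p`-power order. -/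
theorem exists_normal_card (hR : IsPGroup p R) {N : Subgroup R} [N.Normal] :
    ∀ {k : ℕ}, p ^ k ≤ Nat.card N → ∃ M : Subgroup R, M.Normal ∧ M ≤ N ∧ Nat.card M = p ^ k := by
  intro k
  induction k with
  | zero => exact fun _ => ⟨⊥, inferInstance, bot_le, by simp⟩
  | succ k ih =>
    intro hk
    obtain ⟨M, hMn, hMN, hMc⟩ := ih (le_trans (Nat.pow_le_pow_right (Fact.out : p.Prime).pos (by omega)) hk)
    haveI := hMn
    have hlt : ¬ N ≤ M := fun h => by
      have h1 := Subgroup.card_le_of_le h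
      rw [hMc] at h1
      have h2 : p ^ k < p ^ (k + 1) := Nat.pow_lt_pow_right (Fact.out : p.Prime).one_lt (by omega)
      omega
    obtain ⟨x, hxN, hxM, hxp, hxc⟩ := exists_central_of_lt hR hlt
    exact ⟨_, sup_zpowers_normal hxc, sup_le hMN ((Subgroup.zpowers_le).mpr hxN),
      by rw [sup_zpowers_card hxM hxp, hMc, pow_succ']⟩

/-- Inside an abelian normal subgroup that is not cyclic. -/
theorem exists_of_abelian (hR : IsPGroup p R) {A : Subgroup R} [A.Normal] (hA : IsMulCommutative A)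
    (hnc : ¬ IsCyclic A) : ∃ E : Subgroup R, E ≤ A ∧ E.Normal ∧ Cfsg.IsElementaryAbelian p E ∧
      Nat.card E = p ^ 2 := by
  haveI := hA
  let E : Subgroup R :=
    { carrier := {x | x ∈ A ∧ x ^ p = 1}
      mul_mem' := fun {x y} hx hy => ⟨mul_mem hx.1 hy.1, by
        have hc : Commute x y := congrArg Subtype.val (mul_comm (⟨x, hx.1⟩ : A) ⟨y, hy.1⟩)
        rw [hc.mul_pow, hx.2, hy.2, one_mul]⟩
      one_mem' := ⟨one_mem _, one_pow _⟩
      inv_mem' := fun {x} hx => ⟨inv_mem hx.1, by rw [inv_pow, hx.2, inv_one]⟩ }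
  haveI : E.Normal := ⟨fun x hx g => ⟨Subgroup.Normal.conj_mem inferInstance x hx.1 g, by
    rw [conj_pow, hx.2, mul_one, mul_inv_cancel]⟩⟩
  have hcard : p < Nat.card E := by
    by_contra hle
    refine hnc (CfsgLib.Frobenius.AbelianRankOne.isCyclic p (hR.to_subgroup A) (le_trans ?_ (not_lt.mp hle)))
    exact Nat.card_le_card_of_injective
      (fun x : (powMonoidHom p : A →* A).ker => (⟨x.1.1, x.1.2, congrArg Subtype.val x.2⟩ : E))
      fun a b hab => Subtype.ext (Subtype.ext (congrArg Subtype.val hab :))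
  obtain ⟨m, hm⟩ := IsPGroup.iff_card.mp (hR.to_subgroup E)
  have hm2 : 2 ≤ m := by
    by_contra h
    have : p ^ m ≤ p ^ 1 := Nat.pow_le_pow_right (Fact.out : p.Prime).pos (by omega)
    rw [pow_one] at this
    omega
  obtain ⟨M, hMn, hME, hMc⟩ := exists_normal_card hR (N := E) (k := 2)
    (by rw [hm]; exact Nat.pow_le_pow_right (Fact.out : p.Prime).pos hm2)
  exact ⟨M, fun x hx => (hME hx).1, hMn, ⟨⟨⟨fun a b => Subtype.ext
    (congrArg Subtype.val (mul_comm (⟨a, (hME a.2).1⟩ : A) ⟨b, (hME b.2).1⟩) :)⟩⟩,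
    fun a ha => (hME ha).2⟩, hMc⟩

/-- For odd `p` every non-cyclic normal subgroup contains a normal elementary abelian subgroup of order `p²`. -/
theorem exists_normal_rankTwo (hR : IsPGroup p R) (hp : p ≠ 2) {S : Subgroup R} [S.Normal]
    (hS : ¬ IsCyclic S) : ∃ E : Subgroup R, E ≤ S ∧ E.Normal ∧ Cfsg.IsElementaryAbelian p E ∧
      Nat.card E = p ^ 2 := by
  obtain ⟨A, ⟨hAn, hAS, hAab⟩, hmax⟩ := Set.Finite.exists_maximal
    (Set.toFinite {A : Subgroup R | A.Normal ∧ A ≤ S ∧ IsMulCommutative A})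
    ⟨⊥, inferInstance, bot_le, inferInstance⟩
  haveI := hAn
  haveI := hAab
  by_cases hcyc : IsCyclic A
  swap
  · obtain ⟨E, hE, h⟩ := exists_of_abelian hR hAab hcyc
    exact ⟨E, hE.trans hAS, h⟩
  obtain ⟨g, hg⟩ := hcyc.exists_generator
  have hgen : ∀ a ∈ A, ∃ n : ℕ, a = (g : R) ^ n := fun a ha => by
    obtain ⟨n, hn⟩ := (mem_powers_iff_mem_zpowers (y := ⟨a, ha⟩) (x := g)).mpr (hg ⟨a, ha⟩)
    exact ⟨n, (congrArg Subtype.val hn).symm.trans (SubmonoidClass.coe_pow g n)⟩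
  have hnot : ¬ S ≤ A := fun h => by
    obtain rfl := le_antisymm hAS h
    exact hS hcyc
  obtain ⟨x, hxS, hxA, hxp, hxc⟩ := exists_central_of_lt hR hnot
  have hx' : (g : R) * x ≠ x * g := by
    intro hcomm
    have hTn := sup_zpowers_normal hxc
    have hTab : IsMulCommutative (A ⊔ Subgroup.zpowers x : Subgroup R) := by
      rw [← Subgroup.closure_eq A, Subgroup.zpowers_eq_closure, ← Subgroup.closure_union]
      refine Subgroup.isMulCommutative_closure ?_
      have hax : ∀ a ∈ A, a * x = x * a := fun a ha => by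
        obtain ⟨n, rfl⟩ := hgen a ha
        exact (Commute.pow_left hcomm n).eq
      rintro a (ha | rfl) b (hb | rfl)
      · exact congrArg Subtype.val (mul_comm (⟨a, ha⟩ : A) ⟨b, hb⟩)
      · exact hax a ha
      · exact (hax b hb).symm
      · rfl
    exact hxA (hmax (y := A ⊔ Subgroup.zpowers x) ⟨hTn, sup_le hAS (Subgroup.zpowers_le.mpr hxS), hTab⟩
      le_sup_left (Subgroup.mem_sup_right (Subgroup.mem_zpowers x)))
  have hpp := (Fact.out : p.Prime)
  -- the conjugate of the generator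
  obtain ⟨r, hr⟩ := hgen (x * g * x⁻¹) (Subgroup.Normal.conj_mem hAn _ g.2 x)
  set c : R := x * g * x⁻¹ * (g : R)⁻¹ with hc
  have hcA : c ∈ A := mul_mem (Subgroup.Normal.conj_mem hAn _ g.2 x) (inv_mem g.2)
  have hcg : Commute (g : R) c := congrArg Subtype.val (mul_comm g (⟨c, hcA⟩ : A))
  have hconj : ∀ a ∈ A, x * a * x⁻¹ = a ^ r := fun a ha => by
    obtain ⟨n, rfl⟩ := hgen a ha
    rw [← conj_pow, hr, ← pow_mul, ← pow_mul, mul_comm]
  obtain ⟨t, ht⟩ := IsPGroup.iff_orderOf.mp hR (g : R)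
  have hxpg : x ^ p * g * (x ^ p)⁻¹ = (g : R) := by
    have : Commute (x ^ p) (g : R) := congrArg Subtype.val (mul_comm (⟨x ^ p, hxp⟩ : A) g)
    rw [this.eq, mul_inv_cancel_right]
  have hxi : ∀ i : ℕ, x ^ i * g * (x ^ i)⁻¹ = (g : R) ^ r ^ i := by
    intro i
    induction i with
    | zero => simp
    | succ i ih =>
      rw [pow_succ' x, mul_inv_rev,
        show x * x ^ i * (g : R) * ((x ^ i)⁻¹ * x⁻¹) = x * (x ^ i * g * (x ^ i)⁻¹) * x⁻¹ by group, ih,
        ← conj_pow, hr, ← pow_mul, pow_succ']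
  rcases Nat.eq_zero_or_pos t with rfl | htpos
  · rw [pow_zero, orderOf_eq_one_iff] at ht
    exact absurd (by rw [ht]; simp) hx'
  have hrp : r ^ p ≡ 1 [MOD p ^ t] := by
    rw [← ht, ← pow_eq_pow_iff_modEq, ← hxi p, hxpg, pow_one]
  have hr1 : r ≡ 1 [MOD p] := by
    have h1 : r ^ p ≡ 1 [MOD p] := hrp.of_dvd (dvd_pow_self p htpos.ne')
    have h2 : r ^ p ≡ r [MOD p] := by
      rw [← ZMod.natCast_eq_natCast_iff]
      push_cast
      exact ZMod.pow_card _
    exact h2.symm.trans h1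
  -- the commutator has order dividing `p`
  have hcp : c ^ p = 1 := by
    have hr1' : 1 ≤ r := by
      rcases Nat.eq_zero_or_pos r with rfl | h
      · exfalso
        exact hpp.ne_one (Nat.dvd_one.mp (Nat.modEq_zero_iff_dvd.mp hr1.symm))
      · exact h
    obtain ⟨k, hk⟩ := (Nat.modEq_iff_dvd' hr1').mp hr1.symm
    have hsq := odd_sq_dvd_geom_sum₂_sub (R := ℤ) (p := p) 1 (k : ℤ) (hpp.odd_of_ne_two hp)
    simp only [one_pow, mul_one] at hsq
    obtain ⟨u, hu⟩ := hsq
    set s : ℤ := ∑ i ∈ Finset.range p, ((1 : ℤ) + p * k) ^ i with hs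
    have hrZ : (r : ℤ) = 1 + p * k := by
      have hrk : r = 1 + p * k := by omega
      exact_mod_cast hrk
    have hprod : c ^ s = 1 := by
      have hmul : ((r : ℤ) - 1) * s = (r : ℤ) ^ p - 1 := by rw [hs, ← hrZ, mul_geom_sum]
      have hc' : c = (g : R) ^ ((r : ℤ) - 1) := by
        rw [hc, hr, zpow_sub, zpow_natCast, zpow_one]
      rw [hc', ← zpow_mul, hmul, ← orderOf_dvd_iff_zpow_eq_one, ht]
      exact (Nat.modEq_iff_dvd.mp hrp.symm)
    have hsval : s = (p : ℤ) * (1 + p * u) := by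
      rw [sub_eq_iff_eq_add] at hu
      rw [hu]; ring
    obtain ⟨e, he⟩ := IsPGroup.iff_orderOf.mp hR c
    rw [← orderOf_dvd_iff_pow_eq_one, he]
    rw [← orderOf_dvd_iff_zpow_eq_one, he, hsval, mul_comm] at hprod
    have hcop : IsCoprime ((p : ℤ) ^ e) (1 + p * u) :=
      (show IsCoprime (p : ℤ) (1 + p * u) from ⟨-u, 1, by ring⟩).pow_left
    push_cast at hprod
    exact_mod_cast hcop.dvd_of_dvd_mul_left hprod
  obtain hrj : ∃ j, r = 1 + p * j := by
    rcases Nat.lt_or_ge r 1 with h | h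
    · interval_cases r
      exfalso
      exact hpp.ne_one (Nat.dvd_one.mp (Nat.modEq_zero_iff_dvd.mp hr1.symm))
    · obtain ⟨j, hj⟩ := (Nat.modEq_iff_dvd' h).mp hr1.symm
      exact ⟨j, by omega⟩
  have hcx : Commute x c := by
    show x * c = c * x
    rw [← mul_inv_eq_iff_eq_mul, hconj c hcA]
    obtain ⟨j, hj⟩ := hrj
    rw [hj, pow_add, pow_one, pow_mul, hcp, one_pow, mul_one]
  have hswap : x * g = c * g * x := by rw [hc]; group
  -- find an element of order `p` outside `A`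
  obtain ⟨n, hn⟩ := hgen (x ^ p) hxp
  have hpn : p ∣ n := by
    by_contra hpn
    apply hx'
    have hcop : Nat.Coprime n (orderOf (g : R)) := by
      rw [ht]; exact ((hpp.coprime_iff_not_dvd.mpr hpn).pow_left t).symm
    obtain ⟨m, hm⟩ := exists_pow_eq_self_of_coprime hcop
    rw [← hm, ← hn, ← pow_mul]
    exact ((Commute.refl x).pow_left _).eq
  obtain ⟨j, rfl⟩ := hpn
  set G' : R := ((g : R) ^ j)⁻¹ with hG'
  obtain ⟨c', hc'A, hc'p, hswap'⟩ : ∃ c', c' ∈ A ∧ c' ^ p = 1 ∧ G' * x = c' * x * G' := by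
    refine ⟨c ^ j, pow_mem hcA j, by rw [← pow_mul, mul_comm, pow_mul, hcp, one_pow], ?_⟩
    have h1 : ∀ i : ℕ, x * (g : R) ^ i = c ^ i * (g : R) ^ i * x := by
      intro i
      rw [← hcg.symm.mul_pow, ← mul_inv_eq_iff_eq_mul, ← conj_pow, hswap, mul_inv_cancel_right]
    have h2 := h1 j
    have hx2 : Commute x (c ^ j) := hcx.pow_right j
    calc G' * x = G' * (x * (g : R) ^ j) * G' := by rw [hG']; group
      _ = G' * (c ^ j * (g : R) ^ j) * x * G' := by rw [h2]; group
      _ = c ^ j * x * G' := by rw [← (hcg.pow_pow j j).eq, hG']; group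
  have hG'A : G' ∈ A := inv_mem (pow_mem g.2 j)
  have hxc' : Commute x c' := by
    show x * c' = c' * x
    rw [← mul_inv_eq_iff_eq_mul, hconj c' hc'A]
    obtain ⟨j', hj'⟩ := hrj
    rw [hj', pow_add, pow_one, pow_mul, hc'p, one_pow, mul_one]
  have hGc' : Commute G' c' := congrArg Subtype.val (mul_comm (⟨G', hG'A⟩ : A) ⟨c', hc'A⟩)
  set y := x * G' with hy
  have hyp : y ^ p = 1 := by
    rw [hy, ClassThree.mul_pow_eq (a := 1) (b := 1) hswap' (by rw [hxc'.eq, one_mul])
      (by rw [hGc'.eq, one_mul]) (one_mem _) (one_mem _)]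
    obtain ⟨m, hm⟩ := hpp.dvd_choose_self two_ne_zero (lt_of_le_of_ne hpp.two_le (Ne.symm hp))
    rw [hm, pow_mul, hc'p, one_pow, hn, hG', inv_pow, ← pow_mul, mul_comm j p]
    simp
  have hyA : y ∉ A := fun h => hxA (by simpa [hy] using mul_mem h (inv_mem hG'A))
  -- the subgroup of order `p` of `A`
  set z : R := (g : R) ^ p ^ (t - 1) with hz
  have hzA : z ∈ A := pow_mem g.2 _
  have hzp : z ^ p = 1 := by
    rw [hz, ← pow_mul, ← pow_succ, Nat.sub_add_cancel htpos, ← ht, pow_orderOf_eq_one]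
  have hz1 : z ≠ 1 := by
    rw [hz, Ne, ← orderOf_dvd_iff_pow_eq_one, ht]
    intro h
    have := (Nat.pow_dvd_pow_iff_le_right hpp.one_lt).mp h
    omega
  set Z := Subgroup.zpowers z with hZ
  have hZord : orderOf z = p := orderOf_eq_prime hzp hz1
  have hZmem : ∀ a ∈ A, a ^ p = 1 → a ∈ Z := by
    intro a ha hap
    obtain ⟨i, rfl⟩ := hgen a ha
    rw [← pow_mul, ← orderOf_dvd_iff_pow_eq_one, ht] at hap
    have : p ^ (t - 1) ∣ i := by
      have h1 : p ^ (t - 1) * p ∣ i * p := by rwa [← pow_succ, Nat.sub_add_cancel htpos]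
      exact Nat.dvd_of_mul_dvd_mul_right hpp.pos h1
    obtain ⟨q, rfl⟩ := this
    rw [pow_mul]
    exact Subgroup.npow_mem_zpowers z q
  have hZn : Z.Normal := by
    refine ⟨fun w hw k => hZmem _ (Subgroup.Normal.conj_mem hAn _
      (Subgroup.zpowers_le.mpr hzA hw) k) ?_⟩
    obtain ⟨i, rfl⟩ := Subgroup.mem_zpowers_iff.mp hw
    rw [conj_pow, ← zpow_natCast, ← zpow_mul, mul_comm, zpow_mul, zpow_natCast, hzp, one_zpow]
    simp
  -- conjugates of `y` are congruent to `y` modulo `Z`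
  have hyc : ∀ k : R, ⁅k, y⁆ ∈ Z := by
    intro k
    have hkA : ⁅k, y⁆ ∈ A := by
      rw [hy, show ⁅k, x * G'⁆ = ⁅k, x⁆ * (x * ⁅k, G'⁆ * x⁻¹) by simp [commutatorElement_def, mul_assoc]]
      refine mul_mem (hxc k) (Subgroup.Normal.conj_mem hAn _ ?_ x)
      exact mul_mem (Subgroup.Normal.conj_mem hAn _ hG'A k) (inv_mem hG'A)
    refine hZmem _ hkA ?_
    set d := ⁅k, y⁆ with hd
    have hdy : k * y * k⁻¹ = d * y := by simp [hd, commutatorElement_def]
    -- compute `(d * y) ^ p` in class two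
    have hde : ∃ e ∈ A, e ^ p = 1 ∧ y * d = e * d * y := by
      refine ⟨d ^ r * d⁻¹, mul_mem (pow_mem hkA r) (inv_mem hkA), ?_, ?_⟩
      · obtain ⟨i, hi⟩ := hgen d hkA
        have hcr : c = (g : R) ^ r * (g : R)⁻¹ := by rw [hc, hr]
        have : d ^ r * d⁻¹ = c ^ i := by
          rw [hi, ← pow_mul, mul_comm i r, pow_mul, ← inv_pow, hcr, Commute.mul_pow]
          exact ((Commute.refl (g : R)).pow_left r).inv_right
        rw [this, ← pow_mul, mul_comm, pow_mul, hcp, one_pow]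
      · have h1 : y * d * y⁻¹ = d ^ r := by
          have hGd : Commute G' d := congrArg Subtype.val (mul_comm (⟨G', hG'A⟩ : A) ⟨d, hkA⟩)
          rw [hy, mul_inv_rev, show x * G' * d * (G'⁻¹ * x⁻¹) = x * (G' * d * G'⁻¹) * x⁻¹ by group,
            hGd.eq, mul_inv_cancel_right, hconj d hkA]
        rw [inv_mul_cancel_right, ← h1, inv_mul_cancel_right]
    obtain ⟨e, heA, hep, hswap2⟩ := hde
    have hdeC : Commute d e := congrArg Subtype.val (mul_comm (⟨d, hkA⟩ : A) ⟨e, heA⟩)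
    have hyeC : Commute y e := by
      show y * e = e * y
      have hGe : Commute G' e := congrArg Subtype.val (mul_comm (⟨G', hG'A⟩ : A) ⟨e, heA⟩)
      rw [← mul_inv_eq_iff_eq_mul, hy, mul_inv_rev,
        show x * G' * e * (G'⁻¹ * x⁻¹) = x * (G' * e * G'⁻¹) * x⁻¹ by group, hGe.eq,
        mul_inv_cancel_right, hconj e heA]
      obtain ⟨j', hj'⟩ := hrj
      rw [hj', pow_add, pow_one, pow_mul, hep, one_pow, mul_one]
    have hpow := ClassThree.mul_pow_eq (x := d) (y := y) (c := e) (a := 1) (b := 1) hswap2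
      (by rw [hdeC.eq, one_mul]) (by rw [hyeC.eq, one_mul]) (one_mem _) (one_mem _) p
    obtain ⟨m, hm⟩ := hpp.dvd_choose_self two_ne_zero (lt_of_le_of_ne hpp.two_le (Ne.symm hp))
    rw [← hdy, conj_pow, hyp, hm, pow_mul, hep, one_pow] at hpow
    simpa using hpow.symm
  haveI := hZn
  have hyZ : y ∉ Z := fun h => hyA (Subgroup.zpowers_le.mpr hzA h)
  have hcard := sup_zpowers_card (M := Z) hyZ (by rw [hyp]; exact one_mem _)
  rw [Nat.card_zpowers, hZord, ← sq] at hcard
  refine ⟨Z ⊔ Subgroup.zpowers y,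
    sup_le ((Subgroup.zpowers_le.mpr hzA).trans hAS)
      (Subgroup.zpowers_le.mpr (mul_mem hxS (hAS hG'A))), sup_zpowers_normal hyc, ?_, hcard⟩
  have hzy : Commute z y := by
    show z * y = y * z
    symm
    rw [← mul_inv_eq_iff_eq_mul]
    have hGz : Commute G' z := congrArg Subtype.val (mul_comm (⟨G', hG'A⟩ : A) ⟨z, hzA⟩)
    rw [hy, mul_inv_rev, show x * G' * z * (G'⁻¹ * x⁻¹) = x * (G' * z * G'⁻¹) * x⁻¹ by group, hGz.eq,
      mul_inv_cancel_right, hconj z hzA]
    obtain ⟨j', hj'⟩ := hrj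
    rw [hj', pow_add, pow_one, pow_mul, hzp, one_pow, mul_one]
  have hab : IsMulCommutative (Z ⊔ Subgroup.zpowers y : Subgroup R) := by
    rw [hZ, Subgroup.zpowers_eq_closure, Subgroup.zpowers_eq_closure, ← Subgroup.closure_union]
    refine Subgroup.isMulCommutative_closure ?_
    rintro a (rfl | rfl) b (rfl | rfl)
    · rfl
    · exact hzy.eq
    · exact hzy.eq.symm
    · rfl
  refine ⟨hab, fun a ha => ?_⟩
  haveI := hab
  have hle : Z ⊔ Subgroup.zpowers y ≤
      ((powMonoidHom p : (Z ⊔ Subgroup.zpowers y : Subgroup R) →* _).ker).map (Subgroup.subtype _) := by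
    refine sup_le ?_ ?_
    · refine Subgroup.zpowers_le.mpr ?_
      exact ⟨⟨z, Subgroup.mem_sup_left (Subgroup.mem_zpowers z)⟩, Subtype.ext hzp, rfl⟩
    · rw [Subgroup.zpowers_le]
      exact ⟨⟨y, Subgroup.mem_sup_right (Subgroup.mem_zpowers y)⟩, Subtype.ext hyp, rfl⟩
  obtain ⟨w, hw, rfl⟩ := hle ha
  exact congrArg Subtype.val hw

end CfsgLib.Fusion.NormalRankTwo
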