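/-
Basic facts on p-groups of maximal class.
-/
import Mathlib
import Cfsg.Agent.Lib.PGroup.Frattini
import Cfsg.Agent.Lib.Fusion.NormalRankTwo

set_option autoImplicit false
set_option linter.style.haveILetI false

open scoped commutatorElement

namespace CfsgLib.Fusion.MaxClass

variable {G : Type*} [Group G] [Finite G] {p : ℕ} [Fact p.Prime]

theorem lcs_strict (hG : IsPGroup p G) {i : ℕ} (h : (⊤ : Subgroup G).lowerCentralSeries i ≠ ⊥) :
    (⊤ : Subgroup G).lowerCentralSeries (i + 1) < (⊤ : Subgroup G).lowerCentralSeries i := by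
  refine lt_of_le_of_ne (Subgroup.lowerCentralSeries_antitone _ (Nat.le_succ i)) fun he => h ?_
  obtain ⟨c, hc⟩ := Subgroup.nilpotent_iff_lowerCentralSeries.mp hG.isNilpotent
  have hall : ∀ j, (⊤ : Subgroup G).lowerCentralSeries (i + j) = (⊤ : Subgroup G).lowerCentralSeries i := by
    intro j
    induction j with
    | zero => rfl
    | succ j ih =>
      show ⁅(⊤ : Subgroup G).lowerCentralSeries (i + j), (⊤ : Subgroup G)⁆ = _
      rw [ih]; exact he
  rw [← hall c, eq_bot_iff, ← hc]
  exact Subgroup.lowerCentralSeries_antitone _ (Nat.le_add_left _ _)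

theorem card_mul_le_of_lt (hG : IsPGroup p G) {H K : Subgroup G} (h : H < K) :
    p * Nat.card H ≤ Nat.card K := by
  obtain ⟨a, ha⟩ := IsPGroup.iff_card.mp (hG.to_subgroup H)
  obtain ⟨b, hb⟩ := IsPGroup.iff_card.mp (hG.to_subgroup K)
  have hab : a < b := by
    by_contra hba
    exact h.ne (Subgroup.eq_of_le_of_card_ge h.le
      (by rw [ha, hb]; exact Nat.pow_le_pow_right (Fact.out : p.Prime).pos (by omega)))
  rw [ha, hb, ← pow_succ']
  exact Nat.pow_le_pow_right (Fact.out : p.Prime).pos hab

theorem commutator_eq_bot_of_cyclic (hG : IsPGroup p G) (h : IsCyclic (G ⧸ commutator G)) :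
    commutator G = ⊥ := by
  obtain ⟨g, hg⟩ := h.exists_generator
  obtain ⟨g, rfl⟩ := QuotientGroup.mk'_surjective (commutator G) g
  have hle : commutator G ≤ frattini G := by
    rw [commutator_def, Subgroup.commutator_le]
    exact fun x _ y _ => CfsgLib.PGroup.Frattini.commutatorElement_mem_frattini hG x y
  have htop : Subgroup.zpowers g = ⊤ := by
    refine frattini_nongenerating ?_
    rw [eq_top_iff]
    intro y _
    obtain ⟨i, hi⟩ := Subgroup.mem_zpowers_iff.mp (hg (QuotientGroup.mk y))
    rw [← map_zpow, QuotientGroup.mk'_apply, QuotientGroup.eq] at hi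
    rw [← mul_inv_cancel_left (g ^ i) y]
    exact mul_mem (Subgroup.mem_sup_left (Subgroup.zpow_mem _ (Subgroup.mem_zpowers g) i))
      (Subgroup.mem_sup_right (hle hi))
  rw [commutator_def, Subgroup.commutator_eq_bot_iff_le_centralizer]
  intro x _
  rw [Subgroup.mem_centralizer_iff]
  intro y _
  obtain ⟨i, rfl⟩ := Subgroup.mem_zpowers_iff.mp (htop ▸ Subgroup.mem_top x)
  obtain ⟨j, rfl⟩ := Subgroup.mem_zpowers_iff.mp (htop ▸ Subgroup.mem_top y)
  exact ((Commute.refl g).zpow_zpow j i).eq

theorem commutator_card (hG : IsPGroup p G) {n : ℕ} (hn : 2 ≤ n) (hc : Nat.card G = p ^ n) :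
    p ^ 2 * Nat.card (commutator G) ≤ p ^ n := by
  rcases eq_or_ne (commutator G) ⊥ with h | h
  · rw [h, Subgroup.card_bot, mul_one]; exact Nat.pow_le_pow_right (Fact.out : p.Prime).pos hn
  obtain ⟨k, hk⟩ := IsPGroup.iff_card.mp (hG.to_quotient (commutator G))
  have h2 : 2 ≤ k := by
    by_contra hk2
    apply h
    apply commutator_eq_bot_of_cyclic hG
    rcases (show k = 0 ∨ k = 1 by omega) with rfl | rfl
    · haveI : Subsingleton (G ⧸ commutator G) := (Nat.card_eq_one_iff_unique.mp (by simpa using hk)).1
      infer_instance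
    · exact isCyclic_of_prime_card (p := p) (by simpa using hk)
  rw [← hc, Subgroup.card_eq_card_quotient_mul_card_subgroup (commutator G), hk]
  exact Nat.mul_le_mul_right _ (Nat.pow_le_pow_right (Fact.out : p.Prime).pos h2)

theorem card_lcs_le (hG : IsPGroup p G) {n : ℕ} (hn : 2 ≤ n) (hc : Nat.card G = p ^ n) :
    ∀ i, (⊤ : Subgroup G).lowerCentralSeries (i + 1) = ⊥ ∨
      p ^ (i + 2) * Nat.card ((⊤ : Subgroup G).lowerCentralSeries (i + 1)) ≤ p ^ n := by
  intro i
  induction i with
  | zero =>
    right
    rw [Subgroup.top_lowerCentralSeries_one]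
    exact commutator_card hG hn hc
  | succ i ih =>
    rcases eq_or_ne ((⊤ : Subgroup G).lowerCentralSeries (i + 1)) ⊥ with h | h
    · left
      exact le_bot_iff.mp (h ▸ Subgroup.lowerCentralSeries_antitone _ (Nat.le_succ _))
    · right
      have h1 := ih.resolve_left h
      have h2 := card_mul_le_of_lt hG (lcs_strict hG h)
      calc p ^ (i + 1 + 2) * Nat.card ((⊤ : Subgroup G).lowerCentralSeries (i + 1 + 1))
          = p ^ (i + 2) * (p * Nat.card ((⊤ : Subgroup G).lowerCentralSeries (i + 1 + 1))) := by ring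
        _ ≤ p ^ (i + 2) * Nat.card ((⊤ : Subgroup G).lowerCentralSeries (i + 1)) := Nat.mul_le_mul_left _ h2
        _ ≤ p ^ n := h1

/-- A group of order `p ^ n`, `n ≥ 2`, has class at most `n - 1`. -/
theorem class_le {n : ℕ} (hn : 2 ≤ n) (hc : Nat.card G = p ^ n) : Group.nilpotencyClass G ≤ n - 1 := by
  have hG : IsPGroup p G := IsPGroup.of_card hc
  haveI := hG.isNilpotent
  rw [← Subgroup.lowerCentralSeries_eq_bot_iff_nilpotencyClass_le]
  by_contra hne
  have h := (card_lcs_le hG hn hc (n - 2)).resolve_left (by rwa [show n - 2 + 1 = n - 1 by omega])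
  rw [show n - 2 + 2 = n by omega, show n - 2 + 1 = n - 1 by omega] at h
  have h1 : Nat.card ((⊤ : Subgroup G).lowerCentralSeries (n - 1)) ≤ 1 := by
    have hp : 0 < p ^ n := pow_pos (Fact.out : p.Prime).pos n
    exact Nat.le_of_mul_le_mul_left (by simpa using h) hp
  exact hne ((Subgroup.card_le_one_iff_eq_bot _).mp h1)

theorem class_le' {n : ℕ} {H : Type*} [Group H] [Finite H] (hn : 2 ≤ n) (hc : Nat.card H = p ^ n) :
    Group.nilpotencyClass H ≤ n - 1 := class_le hn hc

/-- The class drops strictly below the bound after factoring the centre, so a self-centralizing subgroup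
of order `p²` forces maximal class. -/
theorem class_eq_of_selfcentralizing : ∀ (n : ℕ) (X : Type*) [Group X] [Finite X], Nat.card X = p ^ n →
    ∀ A : Subgroup X, Nat.card A = p ^ 2 → Subgroup.centralizer (A : Set X) = A →
      Group.nilpotencyClass X = n - 1 := by
  have hpp := (Fact.out : p.Prime)
  intro n
  induction n using Nat.strong_induction_on with
  | _ n ih =>
    intro X _ _ hX A hA hC
    have hP : IsPGroup p X := IsPGroup.of_card hX
    haveI := hP.isNilpotent
    have h2n : 2 ≤ n := by
      have h := Subgroup.card_le_card_group A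
      rw [hA, hX] at h
      exact (Nat.pow_le_pow_iff_right hpp.one_lt).mp h
    haveI hAab : IsMulCommutative A := IsPGroup.isMulCommutative_of_card_eq_prime_sq (p := p) hA
    haveI : Nontrivial X := Finite.one_lt_card_iff_nontrivial.mp (hX ▸ Nat.one_lt_pow (by omega) hpp.one_lt)
    rcases eq_or_lt_of_le h2n with rfl | h3
    · have htop : A = ⊤ := Subgroup.eq_top_of_card_eq A (by rw [hA, hX])
      have hab : IsMulCommutative X := IsPGroup.isMulCommutative_of_card_eq_prime_sq (p := p) hX
      have h1 := Group.IsNilpotent.nilpotencyClass_le_one_iff.mpr hab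
      have h0 : Group.nilpotencyClass X ≠ 0 := by
        rw [Ne, Group.nilpotencyClass_zero_iff_subsingleton]
        exact not_subsingleton X
      omega
    set Z := Subgroup.center X with hZ
    have hZA : Z ≤ A := by
      rw [← hC]; exact Subgroup.center_le_centralizer _
    have hZne : Z ≠ ⊥ := Group.IsNilpotent.center_ne_bot X
    have hAZ : ¬ A ≤ Z := fun h => by
      have : Subgroup.centralizer (A : Set X) = ⊤ :=
        top_le_iff.mp fun x _ => Subgroup.mem_centralizer_iff.mpr fun a ha =>
          (Subgroup.mem_center_iff.mp (h ha) x).symm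
      rw [hC] at this
      subst this
      rw [Subgroup.card_top, hX] at hA
      exact absurd (Nat.pow_right_injective hpp.two_le hA) (by omega)
    have hZc : Nat.card Z = p := by
      have hd : Nat.card Z ∣ p ^ 2 := hA ▸ Subgroup.card_dvd_of_le hZA
      obtain ⟨k, hk2, hk⟩ := (Nat.dvd_prime_pow hpp).mp hd
      interval_cases k
      · exact absurd ((Subgroup.card_le_one_iff_eq_bot _).mp (by rw [hk]; simp)) hZne
      · simpa using hk
      · exact absurd (Subgroup.eq_of_le_of_card_ge hZA (by rw [hA, hk]) ▸ le_rfl) hAZ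
    let π := QuotientGroup.mk' Z
    have hQc : Nat.card (X ⧸ Z) = p ^ (n - 1) := by
      have h := Subgroup.card_eq_card_quotient_mul_card_subgroup Z
      rw [hX, hZc, show n = n - 1 + 1 by omega, pow_succ] at h
      exact (Nat.eq_of_mul_eq_mul_right hpp.pos h).symm
    obtain ⟨a, haA, haZ⟩ := SetLike.not_le_iff_exists.mp hAZ
    have hP' : IsPGroup p (X ⧸ Z) := hP.to_quotient Z
    set B := A.map π with hB
    have hBc : Nat.card B = p := by
      have h1 : Nat.card B * Nat.card Z = Nat.card A := by
        rw [hB, ← Subgroup.relIndex_bot_left, ← Subgroup.relIndex_bot_left, ← Subgroup.relIndex_bot_left,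
          ← Subgroup.relIndex_comap, MonoidHom.comap_bot, QuotientGroup.ker_mk', mul_comm,
          Subgroup.relIndex_mul_relIndex _ _ _ bot_le hZA]
      rw [hZc, hA, sq] at h1
      exact Nat.eq_of_mul_eq_mul_right hpp.pos h1
    -- the centraliser of `B` in the quotient
    set M := Subgroup.centralizer (B : Set (X ⧸ Z)) with hM
    have hBne : B ≠ ⊤ := fun h => by
      rw [h, Subgroup.card_top, hQc] at hBc
      have : n - 1 = 1 := Nat.pow_right_injective hpp.two_le (by simpa using hBc)
      omega
    haveI := hP'.isNilpotent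
    have hBM : B < M := by
      obtain ⟨x, hxN, hxB⟩ := SetLike.exists_of_lt
        (Group.normalizerCondition_of_isNilpotent (G := X ⧸ Z) B (lt_top_iff_ne_top.mpr hBne))
      haveI : IsCyclic B := isCyclic_of_prime_card (p := p) hBc
      haveI : IsMulCommutative B := IsCyclic.isMulCommutative
      refine lt_of_le_of_ne B.le_centralizer fun he => hxB ?_
      rw [he, hM]
      -- `B` is central in its normalizer
      set N := Subgroup.normalizer (B : Set (X ⧸ Z))
      haveI hBn : (B.subgroupOf N).Normal := Subgroup.normal_in_normalizer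
      have hN : IsPGroup p N := hP'.to_subgroup N
      haveI := hN.isNilpotent
      have hBN : B ≤ N := Subgroup.le_normalizer
      have hcard : Nat.card (B.subgroupOf N) = p := by
        rw [Nat.card_congr (Subgroup.subgroupOfEquivOfLe hBN).toEquiv, hBc]
      have hne : B.subgroupOf N ⊓ Subgroup.center N ≠ ⊥ := by
        refine CfsgLib.Solvable.FrattiniFitting.inf_center_ne_bot _ fun h => ?_
        rw [h, Subgroup.card_bot] at hcard
        exact hpp.ne_one hcard.symm
      have hd : Nat.card (B.subgroupOf N ⊓ Subgroup.center N : Subgroup N) ∣ p :=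
        hcard ▸ Subgroup.card_dvd_of_le inf_le_left
      rcases (Nat.dvd_prime hpp).mp hd with h | h
      · exact absurd ((Subgroup.card_le_one_iff_eq_bot _).mp h.le) hne
      · have hle : B.subgroupOf N ≤ Subgroup.center N := by
          rw [← inf_eq_left]
          exact Subgroup.eq_of_le_of_card_ge inf_le_left (by rw [h, hcard])
        rw [Subgroup.mem_centralizer_iff]
        intro b hb
        exact (congrArg Subtype.val (Subgroup.mem_center_iff.mp (hle (x := ⟨b, hBN hb⟩) hb) ⟨x, hxN⟩)).symm
    -- `M` has order at most `p²`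
    set M' := M.comap π with hM'
    have hcomm : ∀ x ∈ M', ⁅x, a⁆ ∈ Z := fun x hx => by
      rw [← QuotientGroup.eq_one_iff, ← QuotientGroup.mk'_apply, map_commutatorElement,
        commutatorElement_eq_one_iff_mul_comm]
      exact ((Subgroup.mem_centralizer_iff.mp hx) _ (Subgroup.mem_map_of_mem π haA)).symm
    let f : M' →* Z := MonoidHom.mk' (fun x => ⟨⁅(x : X), a⁆, hcomm x x.2⟩) fun x y => Subtype.ext (by
      have hy := Subgroup.mem_center_iff.mp (hcomm y y.2) (x : X)
      have hx := Subgroup.mem_center_iff.mp (hcomm x x.2) ⁅(y : X), a⁆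
      show ⁅(x : X) * y, a⁆ = ⁅(x : X), a⁆ * ⁅(y : X), a⁆
      rw [show ⁅(x : X) * y, a⁆ = (x : X) * ⁅(y : X), a⁆ * (x : X)⁻¹ * ⁅(x : X), a⁆ by
        simp [commutatorElement_def, mul_assoc], hy, mul_inv_cancel_right, hx])
    have hker : Nat.card f.ker ≤ p ^ 2 := by
      rw [← hA]
      have hgen : A ≤ Z ⊔ Subgroup.zpowers a := by
        refine (Subgroup.eq_of_le_of_card_ge (sup_le hZA (Subgroup.zpowers_le.mpr haA)) ?_).ge
        have hlt : Z < Z ⊔ Subgroup.zpowers a := lt_of_le_of_ne le_sup_left fun h =>
          haZ (h.symm ▸ Subgroup.mem_sup_right (Subgroup.mem_zpowers a))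
        have h1 := card_mul_le_of_lt hP hlt
        rw [hZc] at h1
        rw [hA, sq]; exact h1
      refine Nat.card_le_card_of_injective (fun x : f.ker => (⟨x.1.1, ?_⟩ : A)) fun x y hxy => ?_
      · rw [← hC, Subgroup.mem_centralizer_iff]
        intro b hb
        have hxa : ⁅(x.1.1 : X), a⁆ = 1 := congrArg Subtype.val (MonoidHom.mem_ker.mp x.2)
        have hsub : Z ⊔ Subgroup.zpowers a ≤ Subgroup.centralizer ({x.1.1} : Set X) := by
          refine sup_le (Subgroup.center_le_centralizer _) (Subgroup.zpowers_le.mpr ?_)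
          rw [Subgroup.mem_centralizer_singleton_iff]
          exact (commutatorElement_eq_one_iff_mul_comm.mp hxa).symm
        exact Subgroup.mem_centralizer_singleton_iff.mp (hsub (hgen hb))
      · exact Subtype.ext (Subtype.ext (congrArg (fun t : A => (t : X)) hxy :))
    have hM'c : Nat.card M' ≤ p ^ 3 := by
      rw [Subgroup.card_eq_card_quotient_mul_card_subgroup f.ker,
        Nat.card_congr (QuotientGroup.quotientKerEquivRange f).toEquiv]
      calc Nat.card f.range * Nat.card f.ker ≤ p * p ^ 2 :=
            Nat.mul_le_mul ((Subgroup.card_le_card_group _).trans hZc.le) hker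
        _ = p ^ 3 := by ring
    have hMc : Nat.card M = p ^ 2 := by
      have h1 : Nat.card M' = Nat.card M * p := by
        have hmap : M'.map π = M :=
          Subgroup.map_comap_eq_self_of_surjective (QuotientGroup.mk'_surjective Z) M
        have hZM : Z ≤ M' := QuotientGroup.le_comap_mk' Z M
        rw [← hmap, ← hZc, ← Subgroup.relIndex_bot_left, ← Subgroup.relIndex_bot_left,
          ← Subgroup.relIndex_bot_left, ← Subgroup.relIndex_comap, MonoidHom.comap_bot,
          QuotientGroup.ker_mk', mul_comm, Subgroup.relIndex_mul_relIndex _ _ _ bot_le hZM]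
      have h2 : Nat.card M ≤ p ^ 2 := by
        have : Nat.card M * p ≤ p ^ 2 * p := by rw [← h1, ← pow_succ]; exact hM'c
        exact Nat.le_of_mul_le_mul_right this hpp.pos
      have h3 := card_mul_le_of_lt hP' hBM
      rw [hBc, ← sq] at h3
      omega
    haveI hMab : IsMulCommutative M := IsPGroup.isMulCommutative_of_card_eq_prime_sq (p := p) hMc
    have hCM : Subgroup.centralizer (M : Set (X ⧸ Z)) = M :=
      le_antisymm (Subgroup.centralizer_le hBM.le) M.le_centralizer
    have hih := ih (n - 1) (by omega) (X ⧸ Z) hQc M hMc hCM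
    rw [Group.nilpotencyClass_eq_quotient_center_plus_one (G := X), hih]
    omega

end CfsgLib.Fusion.MaxClass
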