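/-
2-groups of maximal class: class, centre and central quotient.
-/
import Cfsg.Agent.Lib.Fusion.MaxClass
import Cfsg.Agent.Lib.TwoGroups.MaximalClass

set_option autoImplicit false
set_option linter.style.haveILetI false

open scoped commutatorElement

namespace CfsgLib.Fusion.MaxClassTwo

variable {G : Type*} [Group G] [Finite G]

theorem exists_presentation {n : ℕ} (hn : 3 ≤ n) (hG : Nat.card G = 2 ^ n)
    (hi : (commutator G).index = 4) : ∃ (a b : G) (r : ℤ), orderOf a = 2 ^ (n - 1) ∧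
      b ∉ Subgroup.zpowers a ∧ b * a * b⁻¹ = a ^ r ∧ (∃ u : ℤ, r = -1 + 2 * (2 * u)) ∧
      b ^ 2 ∈ Subgroup.zpowers (a ^ (2 ^ (n - 2))) ∧
      b * a * b⁻¹ * a ∈ Subgroup.zpowers (a ^ (2 ^ (n - 2))) := by
  obtain ⟨l, rfl⟩ : ∃ l, n = l + 3 := ⟨n - 3, by omega⟩
  haveI : Fact (Nat.Prime 2) := ⟨Nat.prime_two⟩
  obtain ⟨C, hC, hCi⟩ := CfsgLib.TwoGroups.Classify.cyclic_max_of_commutator l G hG hi
  obtain ⟨a, -, ha2⟩ := CfsgLib.TwoGroups.Classify.exists_generator hC hCi
  have hk : orderOf a = 2 ^ (l + 2) := by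
    rw [hG, pow_succ'] at ha2; exact Nat.eq_of_mul_eq_mul_left two_pos ha2
  have hna : ∃ x y : G, x * y ≠ y * x := by
    by_contra h
    push Not at h
    have h1 : commutator G = ⊥ := by
      rw [commutator_def, eq_bot_iff, Subgroup.commutator_le]
      intro x _ y _
      rw [Subgroup.mem_bot, commutatorElement_eq_one_iff_mul_comm]
      exact h x y
    rw [h1, Subgroup.index_bot, hG] at hi
    have h8 : 2 ^ 3 ≤ 2 ^ (l + 3) := Nat.pow_le_pow_right two_pos (by omega)
    omega
  obtain ⟨b, hb, hcase⟩ := CfsgLib.TwoGroups.Classify.classify (k := l + 2) (by omega) hG hk hna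
  rw [show l + 2 - 1 = l + 1 by omega] at hcase
  rw [show l + 3 - 1 = l + 2 by omega, show l + 3 - 2 = l + 1 by omega]
  have hw : (a ^ 2 ^ (l + 1)) ^ 2 = 1 := by
    rw [← pow_mul, ← pow_succ, ← hk, pow_orderOf_eq_one]
  rcases hcase with ⟨h1, h2⟩ | ⟨h1, h2⟩ | ⟨h3, h1, h2⟩ | ⟨h3, h1, h2⟩
  · exact ⟨a, b, -1, hk, hb, by rw [h2, zpow_neg_one], ⟨0, by ring⟩, by rw [h1]; exact one_mem _,
      by rw [h2, inv_mul_cancel]; exact one_mem _⟩
  · exact ⟨a, b, -1, hk, hb, by rw [h2, zpow_neg_one], ⟨0, by ring⟩,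
      by rw [h1]; exact Subgroup.mem_zpowers _, by rw [h2, inv_mul_cancel]; exact one_mem _⟩
  · -- the modular group has too small a derived subgroup
    exfalso
    have hZ : a ^ 2 ^ (l + 1) ∈ Subgroup.center G := by
      refine CfsgLib.TwoGroups.MaximalClass.central_of_mem_zpowers (m := 2 ^ (l + 1))
        (by rw [hk, pow_succ']) (CfsgLib.TwoGroups.CyclicMax.index_zpowers hG hk)
        (Subgroup.npow_mem_zpowers a _) ?_
      rw [← sq]; exact hw
    set W := Subgroup.zpowers (a ^ 2 ^ (l + 1)) with hW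
    haveI : W.Normal := CfsgLib.TwoGroups.Classify.normal_zpowers_of_central hZ
    have hgen : Subgroup.closure ({a, b} : Set G) = ⊤ := by
      rw [eq_top_iff]
      intro y _
      by_cases hy : y ∈ Subgroup.zpowers a
      · exact (Subgroup.zpowers_le.mpr (Subgroup.subset_closure (by simp))) hy
      · have hi2 := CfsgLib.TwoGroups.CyclicMax.index_zpowers hG hk
        have hm := Subgroup.mul_mem_iff_of_index_two hi2 (a := b⁻¹) (b := y)
        have : b⁻¹ * y ∈ Subgroup.zpowers a := hm.mpr (by simp [hb, hy])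
        rw [← mul_inv_cancel_left b y]
        exact mul_mem (Subgroup.subset_closure (by simp))
          ((Subgroup.zpowers_le.mpr (Subgroup.subset_closure (by simp))) this)
    have hle : commutator G ≤ W := by
      rw [← Subgroup.Normal.quotient_commutative_iff_commutator_le]
      have hab : (QuotientGroup.mk' W b) * QuotientGroup.mk' W a = QuotientGroup.mk' W a * QuotientGroup.mk' W b := by
        have : QuotientGroup.mk' W (b * a * b⁻¹) = QuotientGroup.mk' W a := by
          rw [h2, pow_add, pow_one, map_mul,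
            show QuotientGroup.mk' W (a ^ 2 ^ (l + 1)) = 1 from
              (QuotientGroup.eq_one_iff _).mpr (Subgroup.mem_zpowers _), mul_one]
        rwa [map_mul, map_mul, map_inv, mul_inv_eq_iff_eq_mul] at this
      have htop : Subgroup.closure (QuotientGroup.mk' W '' {a, b}) = ⊤ := by
        rw [← MonoidHom.map_closure, hgen, Subgroup.map_top_of_surjective _ (QuotientGroup.mk'_surjective W)]
      have hcl : IsMulCommutative (Subgroup.closure (QuotientGroup.mk' W '' {a, b})) := by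
        refine Subgroup.isMulCommutative_closure ?_
        rintro _ ⟨s, (rfl | rfl), rfl⟩ _ ⟨t, (rfl | rfl), rfl⟩
        · rfl
        · exact hab.symm
        · exact hab
        · rfl
      exact ⟨⟨fun x y => congrArg Subtype.val (hcl.is_comm.comm
        (⟨x, htop ▸ Subgroup.mem_top x⟩ : Subgroup.closure (QuotientGroup.mk' W '' {a, b}))
        ⟨y, htop ▸ Subgroup.mem_top y⟩)⟩⟩
    have hc2 : Nat.card (commutator G) ≤ 2 := (Subgroup.card_le_of_le hle).trans
      (by rw [hW, Nat.card_zpowers]; exact Nat.le_of_dvd two_pos (orderOf_dvd_of_pow_eq_one hw))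
    have hmul := (commutator G).card_mul_index
    rw [hi, hG] at hmul
    have h16 : 2 ^ 4 ≤ 2 ^ (l + 3) := Nat.pow_le_pow_right two_pos (by omega)
    omega
  · have hpos : 1 ≤ 2 ^ (l + 1) := Nat.one_le_two_pow
    refine ⟨a, b, (2 : ℤ) ^ (l + 1) - 1, hk, hb, ?_, ⟨(2 : ℤ) ^ (l - 1), ?_⟩,
      by rw [h1]; exact one_mem _, ?_⟩
    · rw [h2, ← zpow_natCast, Nat.cast_sub hpos]; push_cast; rfl
    · rw [← pow_succ', ← pow_succ', show l - 1 + 1 + 1 = l + 1 by omega]; ring
    · rw [h2, ← pow_succ, Nat.sub_add_cancel hpos]; exact Subgroup.mem_zpowers _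

theorem lcs_mem {a b : G} {r : ℤ} (h : b * a * b⁻¹ = a ^ r) (i : ℕ) :
    a ^ ((r - 1) ^ i) ∈ (⊤ : Subgroup G).lowerCentralSeries i := by
  induction i with
  | zero => simp
  | succ i ih =>
    have hconj : b * a ^ ((r - 1) ^ i) * b⁻¹ = a ^ (r * (r - 1) ^ i) := by rw [← conj_zpow, h, ← zpow_mul]
    have : a ^ ((r - 1) ^ (i + 1)) = (⁅a ^ ((r - 1) ^ i), b⁆)⁻¹ := by
      rw [commutatorElement_inv, commutatorElement_def, hconj, ← zpow_neg, ← zpow_add]; congr 1; ring
    rw [this]
    exact inv_mem (Subgroup.commutator_mem_commutator ih (Subgroup.mem_top b))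

theorem class_eq {n : ℕ} (hn : 3 ≤ n) (hG : Nat.card G = 2 ^ n) (hi : (commutator G).index = 4) :
    Group.nilpotencyClass G = n - 1 := by
  haveI : Fact (Nat.Prime 2) := ⟨Nat.prime_two⟩
  haveI := (IsPGroup.of_card hG).isNilpotent
  obtain ⟨a, b, r, ha, -, hconj, ⟨u, hu⟩, -, -⟩ := exists_presentation hn hG hi
  refine le_antisymm (MaxClass.class_le (p := 2) (by omega) hG) ?_
  by_contra hlt
  have hle : Group.nilpotencyClass G ≤ n - 2 := by omega
  rw [← Subgroup.lowerCentralSeries_eq_bot_iff_nilpotencyClass_le] at hle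
  have h1 := lcs_mem hconj (n - 2)
  rw [hle, Subgroup.mem_bot, ← orderOf_dvd_iff_zpow_eq_one, ha,
    show r - 1 = 2 * (2 * u - 1) by rw [hu]; ring, mul_pow, show n - 1 = n - 2 + 1 by omega] at h1
  push_cast at h1
  rw [pow_succ, mul_dvd_mul_iff_left (pow_ne_zero _ two_ne_zero)] at h1
  have := Int.prime_two.dvd_of_dvd_pow h1
  omega

theorem center_eq {n : ℕ} (hn : 3 ≤ n) (hG : Nat.card G = 2 ^ n) {a b : G} {r : ℤ}
    (ha : orderOf a = 2 ^ (n - 1)) (hb : b ∉ Subgroup.zpowers a) (hconj : b * a * b⁻¹ = a ^ r)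
    (hr : ∃ u : ℤ, r = -1 + 2 * (2 * u)) : Subgroup.center G = Subgroup.zpowers (a ^ 2 ^ (n - 2)) := by
  obtain ⟨u, hu⟩ := hr
  have hi : (Subgroup.zpowers a).index = 2 :=
    CfsgLib.TwoGroups.CyclicMax.index_zpowers (k := n - 1) (by rw [hG]; congr 1; omega) ha
  have key : ∀ j : ℤ, (b * a ^ j * b⁻¹ = a ^ j ↔ (2 : ℤ) ^ (n - 2) ∣ j) := by
    intro j
    rw [← conj_zpow, hconj, ← zpow_mul, zpow_eq_zpow_iff_modEq, ha, Int.modEq_iff_dvd,
      show j - r * j = 2 * ((1 - 2 * u) * j) by rw [hu]; ring, show n - 1 = n - 2 + 1 by omega]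
    push_cast
    rw [pow_succ', mul_dvd_mul_iff_left two_ne_zero]
    constructor
    · intro h
      refine (IsCoprime.pow_left ?_).dvd_of_dvd_mul_left h
      exact ⟨u, 1, by ring⟩
    · exact fun h => Dvd.dvd.mul_left h _
  refine le_antisymm (fun z hz => ?_) (Subgroup.zpowers_le.mpr ?_)
  · by_cases hza : z ∈ Subgroup.zpowers a
    · obtain ⟨j, rfl⟩ := Subgroup.mem_zpowers_iff.mp hza
      obtain ⟨q, rfl⟩ := (key j).mp (by rw [Subgroup.mem_center_iff.mp hz b, mul_inv_cancel_right])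
      rw [zpow_mul]
      refine Subgroup.zpow_mem _ ?_ q
      rw [show ((2 : ℤ) ^ (n - 2)) = ((2 ^ (n - 2) : ℕ) : ℤ) by push_cast; rfl, zpow_natCast]
      exact Subgroup.mem_zpowers _
    · exfalso
      have hm : b⁻¹ * z ∈ Subgroup.zpowers a :=
        (Subgroup.mul_mem_iff_of_index_two hi).mpr (by simp [hb, hza])
      obtain ⟨j, hj⟩ := Subgroup.mem_zpowers_iff.mp hm
      have hc : Commute a (b * a ^ j) := by rw [hj, mul_inv_cancel_left]; exact Subgroup.mem_center_iff.mp hz a
      have hab : Commute a b := by simpa using hc.mul_right ((Commute.refl a).zpow_right j).inv_right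
      have := (key 1).mp (by rw [zpow_one, hab.symm.eq, mul_inv_cancel_right])
      have h4 : (2 : ℤ) ∣ 2 ^ (n - 2) := dvd_pow_self 2 (by omega)
      exact absurd (h4.trans this) (by decide)
  · rw [Subgroup.mem_center_iff]
    intro g
    have hfix : b * a ^ 2 ^ (n - 2) * b⁻¹ = a ^ 2 ^ (n - 2) := by
      rw [← zpow_natCast]; exact (key _).mpr (by push_cast; exact dvd_rfl)
    have hle : Subgroup.zpowers a ≤ Subgroup.centralizer ({a ^ 2 ^ (n - 2)} : Set G) := by
      rw [Subgroup.zpowers_le, Subgroup.mem_centralizer_singleton_iff]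
      exact ((Commute.refl a).pow_right _).eq
    have hbm : b ∈ Subgroup.centralizer ({a ^ 2 ^ (n - 2)} : Set G) := by
      rw [Subgroup.mem_centralizer_singleton_iff]; exact mul_inv_eq_iff_eq_mul.mp hfix
    refine Subgroup.mem_centralizer_singleton_iff.mp ?_
    by_cases hg : g ∈ Subgroup.zpowers a
    · exact hle hg
    · rw [← mul_inv_cancel_left b g]
      exact mul_mem hbm (hle ((Subgroup.mul_mem_iff_of_index_two hi).mpr (by simp [hb, hg])))

theorem quotient_center_iso {n : ℕ} (hn : 3 ≤ n) (hG : Nat.card G = 2 ^ n) (hi : (commutator G).index = 4) :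
    Nonempty (G ⧸ Subgroup.center G ≃* DihedralGroup (2 ^ (n - 2))) := by
  obtain ⟨a, b, r, ha, hb, hconj, hr, hb2, hba⟩ := exists_presentation hn hG hi
  have hZ := center_eq hn hG ha hb hconj hr
  let π := QuotientGroup.mk' (Subgroup.center G)
  have hone : ∀ x ∈ Subgroup.zpowers (a ^ 2 ^ (n - 2)), π x = 1 := fun x hx =>
    (QuotientGroup.eq_one_iff x).mpr (hZ ▸ hx)
  have hpd : ∀ j : ℕ, π a ^ j = 1 ↔ 2 ^ (n - 2) ∣ j := by
    intro j
    rw [← map_pow]
    constructor
    · intro h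
      have hmem : a ^ j ∈ Subgroup.zpowers (a ^ 2 ^ (n - 2)) := hZ ▸ (QuotientGroup.eq_one_iff _).mp h
      obtain ⟨q, hq⟩ := Subgroup.mem_zpowers_iff.mp hmem
      rw [← zpow_natCast, ← zpow_natCast a j, ← zpow_mul, zpow_eq_zpow_iff_modEq, ha, Int.modEq_iff_dvd] at hq
      have h2 : (((2 ^ (n - 2) : ℕ)) : ℤ) ∣ (((2 ^ (n - 1) : ℕ)) : ℤ) :=
        Int.natCast_dvd_natCast.mpr (pow_dvd_pow 2 (by omega))
      exact Int.natCast_dvd_natCast.mp ((dvd_sub_left (dvd_mul_right _ q)).mp (h2.trans hq))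
    · rintro ⟨q, rfl⟩
      exact hone _ (by rw [pow_mul]; exact Subgroup.npow_mem_zpowers _ q)
  have hord : orderOf (π a) = 2 ^ (n - 2) := by
    apply Nat.dvd_antisymm
    · exact orderOf_dvd_of_pow_eq_one ((hpd _).mpr dvd_rfl)
    · exact (hpd _).mp (pow_orderOf_eq_one _)
  have hcardZ : Nat.card (Subgroup.center G) = 2 := by
    rw [hZ, Nat.card_zpowers, orderOf_pow, ha, Nat.gcd_eq_right (pow_dvd_pow 2 (by omega : n - 2 ≤ n - 1)),
      Nat.pow_div (by omega) two_pos, show n - 1 - (n - 2) = 1 by omega, pow_one]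
  have hcard : Nat.card (G ⧸ Subgroup.center G) = 2 * 2 ^ (n - 2) := by
    have h := Subgroup.card_eq_card_quotient_mul_card_subgroup (Subgroup.center G)
    rw [hG, hcardZ, show n = n - 2 + 1 + 1 by omega, pow_succ, pow_succ] at h
    rw [← Nat.eq_of_mul_eq_mul_right two_pos h, mul_comm]
  refine CfsgLib.TwoGroups.CyclicMax.dihedral_iso hord hcard (b := π b) ?_ ?_ ?_
  · intro h
    obtain ⟨j, hj⟩ := Subgroup.mem_zpowers_iff.mp h
    rw [← map_zpow, QuotientGroup.mk'_apply, QuotientGroup.mk'_apply, QuotientGroup.eq, hZ] at hj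
    refine hb ?_
    rw [← mul_inv_cancel_left (a ^ j) b]
    exact mul_mem (Subgroup.zpow_mem _ (Subgroup.mem_zpowers a) j)
      (Subgroup.zpowers_le.mpr (Subgroup.npow_mem_zpowers a _) hj)
  · rw [← map_mul, ← sq]; exact hone _ hb2
  · have h := hone _ hba
    rw [map_mul, map_mul, map_mul, map_inv] at h
    exact eq_inv_of_mul_eq_one_left h

theorem klein_iff {n : ℕ} (hn : 3 ≤ n) (hG : Nat.card G = 2 ^ n) :
    Group.nilpotencyClass G = n - 1 ↔ IsKleinFour (G ⧸ commutator G) := by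
  haveI : Fact (Nat.Prime 2) := ⟨Nat.prime_two⟩
  constructor
  · intro hc
    have h4 : Nat.card (G ⧸ commutator G) = 4 :=
      CfsgLib.TwoGroups.MaximalClass.commutator_index_of_class hn hG hc
    haveI : Nontrivial (G ⧸ commutator G) := Finite.one_lt_card_iff_nontrivial.mp (by omega)
    refine ⟨h4, ?_⟩
    have hdvd : Monoid.exponent (G ⧸ commutator G) ∣ 4 := h4 ▸ Group.exponent_dvd_nat_card
    have hne4 : Monoid.exponent (G ⧸ commutator G) ≠ 4 := by
      intro he
      letI : CommGroup (G ⧸ commutator G) := (inferInstance : CommGroup (Abelianization G))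
      have hcyc : IsCyclic (G ⧸ commutator G) :=
        IsCyclic.of_exponent_eq_card (he.trans h4.symm)
      have h1 := MaxClass.commutator_eq_bot_of_cyclic (IsPGroup.of_card hG) hcyc
      have hindex : (commutator G).index = 4 := h4
      rw [h1, Subgroup.index_bot, hG] at hindex
      have : 2 ^ 3 ≤ 2 ^ n := Nat.pow_le_pow_right two_pos hn
      omega
    have hne1 : Monoid.exponent (G ⧸ commutator G) ≠ 1 := fun h =>
      not_subsingleton (G ⧸ commutator G) (Monoid.exp_eq_one_iff.mp h)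
    have hle := Nat.le_of_dvd (by norm_num) hdvd
    interval_cases he : Monoid.exponent (G ⧸ commutator G) <;> first | rfl | omega
  · intro h
    exact class_eq hn hG h.card_four

end CfsgLib.Fusion.MaxClassTwo
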