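/-
Coprime automorphism groups, transported to subgroups of the semidirect product.
-/
import Mathlib.GroupTheory.SemidirectProduct
import Cfsg.Agent.Lib.OddOrder.OmegaLemma
import Cfsg.Agent.Lib.OddOrder.Stabilize

set_option autoImplicit false

namespace CfsgLib.Fusion.AutCoprime

variable {G : Type*} [Group G] (A : Subgroup (MulAut G))

/-- `G ⋊ A`. -/
abbrev Ext : Type _ := G ⋊[A.subtype] A

/-- The copy of a subgroup of `G` in `G ⋊ A`. -/
abbrev up (S : Subgroup G) : Subgroup (Ext A) := S.map SemidirectProduct.inl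

/-- The copy of `A` in `G ⋊ A`. -/
abbrev acting : Subgroup (Ext A) := (SemidirectProduct.inr : A →* Ext A).range

theorem conj_inl (a : A) (g : G) :
    (SemidirectProduct.inr a : Ext A) * SemidirectProduct.inl g * (SemidirectProduct.inr a)⁻¹ =
      SemidirectProduct.inl ((a : MulAut G) g) :=
  by rw [← map_inv SemidirectProduct.inr]; exact (SemidirectProduct.inl_aut (φ := A.subtype) a g).symm

theorem card_up (S : Subgroup G) : Nat.card (up A S) = Nat.card S :=
  Nat.card_congr (Subgroup.equivMapOfInjective _ _ SemidirectProduct.inl_injective).symm.toEquiv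

theorem card_acting : Nat.card (acting A) = Nat.card A :=
  Nat.card_congr (MonoidHom.ofInjective SemidirectProduct.inr_injective).symm.toEquiv

theorem acting_le_normalizer_up {S : Subgroup G} (hS : ∀ a ∈ A, ∀ g ∈ S, a g ∈ S) :
    acting A ≤ Subgroup.normalizer (up A S : Set (Ext A)) := by
  rw [Subgroup.le_normalizer_iff]
  rintro _ ⟨a, rfl⟩ _ ⟨g, hg, rfl⟩
  exact ⟨(a : MulAut G) g, hS a a.2 g hg, (conj_inl A a g).symm⟩

theorem acting_le_centralizer_iff {S : Subgroup G} :
    acting A ≤ Subgroup.centralizer (up A S : Set (Ext A)) ↔ ∀ a ∈ A, ∀ g ∈ S, a g = g := by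
  constructor
  · intro h a ha g hg
    have h1 := Subgroup.mem_centralizer_iff.mp (h ⟨⟨a, ha⟩, rfl⟩) _
      (Subgroup.mem_map_of_mem SemidirectProduct.inl hg)
    apply SemidirectProduct.inl_injective (φ := A.subtype)
    show SemidirectProduct.inl (((⟨a, ha⟩ : A) : MulAut G) g) = _
    rw [← conj_inl, ← h1, mul_inv_cancel_right]
  · rintro h _ ⟨a, rfl⟩
    rw [Subgroup.mem_centralizer_iff]
    rintro _ ⟨g, hg, rfl⟩
    have h1 := conj_inl A a g
    rw [h a a.2 g hg] at h1
    exact (mul_inv_eq_iff_eq_mul.mp h1).symm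

theorem eq_bot_of_fix_all (h : ∀ a ∈ A, ∀ g : G, a g = g) : A = ⊥ :=
  (Subgroup.eq_bot_iff_forall A).mpr fun a ha => MulEquiv.ext (h a ha)

variable [Finite G]

instance : Finite (MulAut G) := Finite.of_injective (fun e : MulAut G => (e : G → G))
  fun _ _ h => MulEquiv.ext (congrFun h)

instance : Finite (Ext A) := Finite.of_equiv (G × A) SemidirectProduct.equivProd.symm

/-- A coprime group of automorphisms of a nilpotent group fixing a self-centralizing subgroup is trivial. -/
theorem eq_bot_of_fix_selfcentralizing [Group.IsNilpotent G] (hA : (Nat.card A).Coprime (Nat.card G))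
    {C : Subgroup G} (hCC : Subgroup.centralizer (C : Set G) ≤ C) (hC : ∀ a ∈ A, ∀ g ∈ C, a g = g) :
    A = ⊥ := by
  haveI : Group.IsNilpotent (up A ⊤) :=
    Group.nilpotent_of_mulEquiv
      (Subgroup.topEquiv.symm.trans (Subgroup.equivMapOfInjective _ _ SemidirectProduct.inl_injective))
  have h := CfsgLib.OddOrder.Stabilize.le_centralizer_of_selfcentralizing (H := up A ⊤) (A := acting A)
    (C := up A C) (acting_le_normalizer_up A fun _ _ _ _ => Subgroup.mem_top _)
    (by rw [card_acting, card_up, Subgroup.card_top]; exact hA) (Subgroup.map_mono le_top)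
    ((acting_le_centralizer_iff A).mpr hC)
    (by
      rintro _ ⟨⟨g, -, rfl⟩, hg⟩
      refine Subgroup.mem_map_of_mem _ (hCC (Subgroup.mem_centralizer_iff.mpr fun c hc => ?_))
      apply SemidirectProduct.inl_injective (φ := A.subtype)
      simp only [map_mul]
      exact Subgroup.mem_centralizer_iff.mp hg _ (Subgroup.mem_map_of_mem _ hc))
  exact eq_bot_of_fix_all A fun a ha g => (acting_le_centralizer_iff A).mp h a ha g (Subgroup.mem_top g)

/-- For odd `p`, a `p'`-group of automorphisms of a `p`-group fixing all elements of order `p` is trivial. -/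
theorem eq_bot_of_fix_orderP {p : ℕ} [Fact p.Prime] (hp : p ≠ 2) (hG : IsPGroup p G)
    (hA : (Nat.card A).Coprime p) (h : ∀ a ∈ A, ∀ g : G, g ^ p = 1 → a g = g) : A = ⊥ := by
  have hres := CfsgLib.OddOrder.OmegaLemma.le_centralizer_of_fix_orderP hp (H := up A ⊤) (A := acting A)
    ((hG.to_subgroup ⊤).map _) (acting_le_normalizer_up A fun _ _ _ _ => Subgroup.mem_top _)
    (by rwa [card_acting])
    (by
      rintro _ ⟨g, -, rfl⟩ hgp _ ⟨a, rfl⟩
      rw [Subgroup.mem_centralizer_singleton_iff]
      have h1 := conj_inl A a g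
      rw [h a a.2 g (SemidirectProduct.inl_injective (φ := A.subtype) (by simpa using hgp))] at h1
      exact mul_inv_eq_iff_eq_mul.mp h1)
  exact eq_bot_of_fix_all A fun a ha g => (acting_le_centralizer_iff A).mp hres a ha g (Subgroup.mem_top g)

theorem coprime_card {p : ℕ} [Fact p.Prime] (hG : IsPGroup p G) (hA : (Nat.card A).Coprime p) :
    (Nat.card A).Coprime (Nat.card G) := by
  obtain ⟨n, hn⟩ := IsPGroup.iff_card.mp hG
  rw [hn]; exact hA.pow_right n

theorem fix_of_zpowers {a : MulAut G} {g : G} (h : a g = g) : ∀ b ∈ Subgroup.zpowers a, b g = g := by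
  intro b hb
  have : Subgroup.zpowers a ≤
      MulAction.stabilizer (MulAut G) g := by
    rw [Subgroup.zpowers_le]; exact h
  exact this hb

end CfsgLib.Fusion.AutCoprime
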