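/-
`Ω₁` of a non-cyclic metacyclic p-group, p odd.
-/
import Cfsg.Agent.Lib.Fusion.NormalRankTwo
import Cfsg.Prelude.Def_OddOrderLocal

set_option autoImplicit false
set_option linter.style.haveILetI false

open scoped commutatorElement IsMulCommutative

namespace CfsgLib.Fusion.OmegaMetacyclic

variable {R : Type*} [Group R] [Finite R] {p : ℕ} [Fact p.Prime]

theorem exists_eq_omega (hR : IsPGroup p R) (hp : p ≠ 2) (hnc : ¬ IsCyclic R) {N : Subgroup R} [N.Normal]
    (hN : IsCyclic N) (hQ : IsCyclic (R ⧸ N)) : ∃ E : Subgroup R, Cfsg.IsElementaryAbelian p E ∧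
      Nat.card E = p ^ 2 ∧ ∀ x : R, x ^ p = 1 → x ∈ E := by
  classical
  have hpp := (Fact.out : p.Prime)
  haveI : Fintype (R ⧸ N) := Fintype.ofFinite _
  obtain ⟨E, -, hEn, hEab, hEcard⟩ := NormalRankTwo.exists_normal_rankTwo hR hp (S := ⊤)
    (fun h => hnc (Subgroup.topEquiv.isCyclic.mp h))
  haveI := hEn
  haveI := hEab.1
  -- elements of order dividing `p` in a cyclic group
  have hsmall : ∀ F : Subgroup R, F ≤ N → (∀ a ∈ F, a ^ p = 1) → Nat.card F ≤ p := by
    intro F hF hFp
    haveI : Fintype N := Fintype.ofFinite N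
    refine le_trans (Nat.card_le_card_of_injective
      (fun a : F => (⟨⟨a, hF a.2⟩, by simp [Subtype.ext_iff, hFp a a.2]⟩ :
        {a : N // a ∈ Finset.univ.filter fun a : N => a ^ p = 1}))
      fun a b hab => Subtype.ext (congrArg (fun t => (t.1 : R)) hab)) ?_
    rw [Nat.card_eq_finsetCard]
    exact IsCyclic.card_pow_eq_one_le hpp.pos
  have hEN : ¬ E ≤ N := fun h => by
    have := hsmall E h hEab.2
    rw [hEcard] at this
    nlinarith [hpp.two_le]
  have hsup : ∀ x : R, x ^ p = 1 → x ∈ N ⊔ E := by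
    intro x hx
    let I := E.map (QuotientGroup.mk' N)
    have hI1 : I ≠ ⊥ := by rwa [Ne, Subgroup.map_eq_bot_iff, QuotientGroup.ker_mk']
    have hIp : p ≤ Nat.card I := by
      haveI : Nontrivial I := (Subgroup.nontrivial_iff_ne_bot I).mpr hI1
      obtain ⟨n, hn, hc⟩ := ((hR.to_quotient N).to_subgroup I).nontrivial_iff_card.mp inferInstance
      rw [hc]; exact Nat.le_self_pow (by omega) p
    set F := Finset.univ.filter fun a : R ⧸ N => a ^ p = 1 with hF
    have hIF : (Finset.univ.filter fun a : R ⧸ N => a ∈ I) = F := by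
      refine Finset.eq_of_subset_of_card_le ?_ ?_
      · intro a ha
        simp only [Finset.mem_filter, Finset.mem_univ, true_and, hF] at ha ⊢
        obtain ⟨e, he, rfl⟩ := ha
        rw [← map_pow, hEab.2 e he, map_one]
      · refine le_trans (IsCyclic.card_pow_eq_one_le hpp.pos) (hIp.trans (le_of_eq ?_))
        rw [← Fintype.card_subtype, ← Nat.card_eq_fintype_card]
    have hmem : (QuotientGroup.mk' N x) ∈ Finset.univ.filter fun a : R ⧸ N => a ∈ I := by
      rw [hIF, hF, Finset.mem_filter, ← map_pow, hx, map_one]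
      exact ⟨Finset.mem_univ _, rfl⟩
    obtain ⟨e, he, hex⟩ := (Finset.mem_filter.mp hmem).2
    rw [QuotientGroup.mk'_apply, QuotientGroup.mk'_apply, QuotientGroup.eq] at hex
    rw [show x = e * (e⁻¹ * x) by group]
    exact mul_mem (Subgroup.mem_sup_right he) (Subgroup.mem_sup_left hex)
  refine ⟨E, hEab, hEcard, fun x hx => ?_⟩
  obtain ⟨n, hn, e, he, rfl⟩ := Subgroup.mem_sup_of_normal_left.mp (hsup x hx)
  set c := ⁅e, n⁆ with hc
  have hcN : c ∈ N := by
    rw [hc, commutatorElement_def]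
    exact mul_mem (Subgroup.Normal.conj_mem inferInstance n hn e) (inv_mem hn)
  have hcE : c ∈ E := by
    rw [hc, show ⁅e, n⁆ = e * (n * e⁻¹ * n⁻¹) by simp [commutatorElement_def, mul_assoc]]
    exact mul_mem he (Subgroup.Normal.conj_mem inferInstance _ (inv_mem he) n)
  haveI := hN
  haveI : IsMulCommutative N := IsCyclic.isMulCommutative
  have hcn : Commute n c := congrArg Subtype.val (mul_comm (⟨n, hn⟩ : N) ⟨c, hcN⟩)
  have hce : Commute e c := congrArg Subtype.val (mul_comm (⟨e, he⟩ : E) ⟨c, hcE⟩)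
  have hpow := ClassThree.mul_pow_eq (x := n) (y := e) (c := c) (a := 1) (b := 1)
    (ClassThree.swap_eq n e) (by rw [hcn.eq, one_mul]) (by rw [hce.eq, one_mul]) (one_mem _) (one_mem _) p
  obtain ⟨m, hm⟩ := hpp.dvd_choose_self two_ne_zero (lt_of_le_of_ne hpp.two_le (Ne.symm hp))
  rw [hx, hEab.2 e he, hm, pow_mul, hEab.2 c hcE, one_pow] at hpow
  have hnp : n ^ p = 1 := by simpa using hpow.symm
  refine mul_mem ?_ he
  -- the unique subgroup of order `p` of `N` meets `E` nontrivially or is inside it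
  obtain ⟨z, hzE, hz1, hzN⟩ : ∃ z ∈ E, z ≠ 1 ∧ z ∈ N := by
    by_contra hno
    have hinj : ∀ z ∈ E, z ∈ N → z = 1 := fun z h1 h2 => by
      by_contra h3; exact hno ⟨z, h1, h3, h2⟩
    let I := E.map (QuotientGroup.mk' N)
    have : Nat.card E ≤ p := by
      refine le_trans (Nat.card_le_card_of_injective
        (fun a : E => (⟨QuotientGroup.mk' N a, by
          simp only [Finset.mem_filter, Finset.mem_univ, true_and]
          rw [← map_pow, hEab.2 a a.2, map_one]⟩ :
          {a : R ⧸ N // a ∈ Finset.univ.filter fun a : R ⧸ N => a ^ p = 1})) ?_) ?_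
      · intro a b hab
        have h := congrArg Subtype.val hab
        simp only [QuotientGroup.mk'_apply, QuotientGroup.eq] at h
        exact Subtype.ext (inv_mul_eq_one.mp (hinj _ (mul_mem (inv_mem a.2) b.2) h))
      · rw [Nat.card_eq_finsetCard]
        exact IsCyclic.card_pow_eq_one_le hpp.pos
    rw [hEcard] at this
    nlinarith [hpp.two_le]
  by_contra hnE
  have hnz : Commute n z := congrArg Subtype.val (mul_comm (⟨n, hn⟩ : N) ⟨z, hzN⟩)
  let F : Subgroup R :=
    { carrier := {a | a ∈ N ∧ a ^ p = 1}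
      mul_mem' := fun {a b} ha hb => ⟨mul_mem ha.1 hb.1, by
        have hc : Commute a b := congrArg Subtype.val (mul_comm (⟨a, ha.1⟩ : N) ⟨b, hb.1⟩)
        rw [hc.mul_pow, ha.2, hb.2, one_mul]⟩
      one_mem' := ⟨one_mem _, one_pow _⟩
      inv_mem' := fun {a} ha => ⟨inv_mem ha.1, by rw [inv_pow, ha.2, inv_one]⟩ }
  have hFle : Nat.card F ≤ p := hsmall F (fun a ha => ha.1) (fun a ha => ha.2)
  have hZF : Subgroup.zpowers z ≤ F := Subgroup.zpowers_le.mpr ⟨hzN, hEab.2 z hzE⟩
  have heq : Subgroup.zpowers z = F := Subgroup.eq_of_le_of_card_ge hZF (by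
    rw [Nat.card_zpowers, orderOf_eq_prime (hEab.2 z hzE) hz1]; exact hFle)
  have hnF : n ∈ F := ⟨hn, hnp⟩
  rw [← heq] at hnF
  exact hnE (Subgroup.zpowers_le.mpr hzE hnF)

theorem omega_spec (hR : IsPGroup p R) (hp : p ≠ 2) (hnc : ¬ IsCyclic R) {N : Subgroup R} [N.Normal]
    (hN : IsCyclic N) (hQ : IsCyclic (R ⧸ N)) {K : Subgroup R} (hK : K = Subgroup.closure {x : R | x ^ p = 1}) :
    Cfsg.IsElementaryAbelian p K ∧ Nat.card K = p ^ 2 := by
  obtain ⟨E, hE, hc, hall⟩ := exists_eq_omega hR hp hnc hN hQ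
  have : K = E := by
    rw [hK]
    exact le_antisymm ((Subgroup.closure_le E).mpr fun x hx => hall x hx)
      fun x hx => Subgroup.subset_closure (hE.2 x hx)
  exact this ▸ ⟨hE, hc⟩

end CfsgLib.Fusion.OmegaMetacyclic
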