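import Cfsg.Agent.Lib.Fusion.Thompson
import Cfsg.Agent.Lib.Solvable.ThompsonReplacement
import Cfsg.Agent.Lib.Coprime.Action
import Cfsg.Agent.S0606

/-!
The quadratic replacement `[V, A] C_A([V, A])` of an elementary abelian subgroup of largest order.
-/

open scoped commutatorElement
set_option linter.style.haveILetI false
set_option linter.unusedSectionVars false

namespace CfsgLib.Fusion.ReplacementEA

open CfsgLib.Solvable.Basic

variable {G : Type*} [Group G] [Finite G] {p : ℕ} [Fact p.Prime]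

/-- The weight of a subgroup `B` acting on `V`. -/
noncomputable def wt (V B : Subgroup G) : ℕ :=
  Nat.card B * Nat.card (V ⊓ Subgroup.centralizer (B : Set G) : Subgroup G)

/-- A subgroup of `A` of full weight whose fixed points lie in `U ⊔ (V ⊓ C(A))`. -/
def Good (V A U B : Subgroup G) : Prop :=
  B ≤ A ∧ wt V A ≤ wt V B ∧
    V ⊓ Subgroup.centralizer (B : Set G) ≤ U ⊔ (V ⊓ Subgroup.centralizer (A : Set G))

variable {V A : Subgroup G} [V.Normal]

theorem good_inf (hV : Cfsg.IsElementaryAbelian p V) (hA : A ∈ Cfsg.maxElementaryAbelianSubgroups p G)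
    {U B₁ B₂ : Subgroup G} (h1 : Good V A U B₁) (h2 : Good V A U B₂) : Good V A U (B₁ ⊓ B₂) := by
  have hoff : ∀ B ≤ A, wt V B ≤ wt V A := (Cfsg.Agent.S0606.result V hV A hA).1
  have hAc := isMulCommutative_subgroup_iff.mp hA.1.1
  have hVc := isMulCommutative_subgroup_iff.mp hV.1
  set C₁ := V ⊓ Subgroup.centralizer (B₁ : Set G) with hC₁
  set C₂ := V ⊓ Subgroup.centralizer (B₂ : Set G) with hC₂
  set C₀ := V ⊓ Subgroup.centralizer ((B₁ ⊓ B₂ : Subgroup G) : Set G) with hC₀
  have hle : C₁ ⊔ C₂ ≤ C₀ := sup_le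
    (inf_le_inf_left _ (Subgroup.centralizer_le (SetLike.coe_subset_coe.mpr inf_le_left)))
    (inf_le_inf_left _ (Subgroup.centralizer_le (SetLike.coe_subset_coe.mpr inf_le_right)))
  have hinf : C₁ ⊓ C₂ = V ⊓ Subgroup.centralizer ((B₁ ⊔ B₂ : Subgroup G) : Set G) := by
    refine le_antisymm (fun x hx => ⟨hx.1.1, ?_⟩) (le_inf
      (inf_le_inf_left _ (Subgroup.centralizer_le (SetLike.coe_subset_coe.mpr le_sup_left)))
      (inf_le_inf_left _ (Subgroup.centralizer_le (SetLike.coe_subset_coe.mpr le_sup_right))))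
    have : B₁ ⊔ B₂ ≤ Subgroup.centralizer {x} := sup_le
      (fun b hb => Subgroup.mem_centralizer_singleton_iff.mpr (Subgroup.mem_centralizer_iff.mp hx.1.2 b hb))
      (fun b hb => Subgroup.mem_centralizer_singleton_iff.mpr (Subgroup.mem_centralizer_iff.mp hx.2.2 b hb))
    exact Subgroup.mem_centralizer_iff.mpr fun b hb => Subgroup.mem_centralizer_singleton_iff.mp (this hb)
  have e1 := Thompson.card_sup_mul_card_inf (N := B₁) (K := B₂)
    (le_trans (fun b hb => Subgroup.mem_centralizer_iff.mpr fun a ha => hAc a (h1.1 ha) b (h2.1 hb))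
      (Subgroup.centralizer_le_normalizer _))
  have e2 := Thompson.card_sup_mul_card_inf (N := C₁) (K := C₂)
    (le_trans (fun b hb => Subgroup.mem_centralizer_iff.mpr fun a ha => hVc a ha.1 b hb.1)
      (Subgroup.centralizer_le_normalizer _))
  rw [hinf] at e2
  have hprod : wt V B₁ * wt V B₂ =
      wt V (B₁ ⊔ B₂) * (Nat.card (B₁ ⊓ B₂ : Subgroup G) * Nat.card (C₁ ⊔ C₂ : Subgroup G)) := by
    simp only [wt, ← hC₁, ← hC₂]
    calc Nat.card B₁ * Nat.card C₁ * (Nat.card B₂ * Nat.card C₂)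
        = (Nat.card B₁ * Nat.card B₂) * (Nat.card C₁ * Nat.card C₂) := by ring
      _ = _ := by rw [← e1, ← e2]; ring
  have hge : wt V A ≤ Nat.card (B₁ ⊓ B₂ : Subgroup G) * Nat.card (C₁ ⊔ C₂ : Subgroup G) := by
    refine Nat.le_of_mul_le_mul_left ?_ (Nat.mul_pos Nat.card_pos Nat.card_pos : 0 < wt V A)
    calc wt V A * wt V A ≤ wt V B₁ * wt V B₂ := Nat.mul_le_mul h1.2.1 h2.2.1
      _ = _ := hprod
      _ ≤ _ := Nat.mul_le_mul_right _ (hoff _ (sup_le h1.1 h2.1))
  have hA0 := hoff _ (inf_le_left.trans h1.1 : B₁ ⊓ B₂ ≤ A)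
  have heq : C₁ ⊔ C₂ = C₀ := Subgroup.eq_of_le_of_card_ge hle
    (Nat.le_of_mul_le_mul_left ((hA0.trans hge) : Nat.card (B₁ ⊓ B₂ : Subgroup G) * Nat.card C₀ ≤
      Nat.card (B₁ ⊓ B₂ : Subgroup G) * Nat.card (C₁ ⊔ C₂ : Subgroup G)) Nat.card_pos)
  refine ⟨inf_le_left.trans h1.1, ?_, ?_⟩
  · show wt V A ≤ Nat.card (B₁ ⊓ B₂ : Subgroup G) * Nat.card C₀
    rw [← heq]; exact hge
  · rw [← hC₀, ← heq]; exact sup_le h1.2.2 h2.2.2

/-- The commutator subgroup of one element of `V` with `A`. -/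
def comm1 (A : Subgroup G) (v : G) : Subgroup G :=
  Subgroup.closure ((fun a => v * a * v⁻¹ * a⁻¹) '' (A : Set G))

theorem comm1_le_commutator {v : G} (hv : v ∈ V) : comm1 A v ≤ ⁅V, A⁆ := by
  rw [comm1, Subgroup.closure_le]
  rintro _ ⟨a, ha, rfl⟩
  exact Subgroup.commutator_mem_commutator hv ha

theorem comm1_le {v : G} (hv : v ∈ V) : comm1 A v ≤ V := by
  rw [comm1, Subgroup.closure_le]
  rintro _ ⟨a, _, rfl⟩
  rw [SetLike.mem_coe]
  show v * a * v⁻¹ * a⁻¹ ∈ V
  rw [show v * a * v⁻¹ * a⁻¹ = v * (a * v⁻¹ * a⁻¹) by group]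
  exact mul_mem hv (‹V.Normal›.conj_mem _ (inv_mem hv) a)

theorem good_comm1 (hV : Cfsg.IsElementaryAbelian p V) (hA : A ∈ Cfsg.maxElementaryAbelianSubgroups p G)
    {v : G} (hv : v ∈ V) :
    Good V A ⁅V, A⁆ (A ⊓ Subgroup.centralizer (comm1 A v : Set G)) := by
  have hWc := isMulCommutative_subgroup_iff.mp hV.1
  have hAc := isMulCommutative_subgroup_iff.mp hA.1.1
  set M := comm1 A v with hM
  set C := A ⊓ Subgroup.centralizer (M : Set G) with hC
  have hMV : M ≤ V := comm1_le hv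
  have hkey : C.relIndex A ≤ A.relIndex M := by
    let f : A ⧸ C.subgroupOf A → M ⧸ A.subgroupOf M := fun t =>
      QuotientGroup.mk ⟨_, Subgroup.subset_closure ⟨(t.out : A), (t.out : A).2, rfl⟩⟩
    refine Nat.card_le_card_of_injective f fun s t hst => ?_
    rw [← QuotientGroup.out_eq' s, ← QuotientGroup.out_eq' t, QuotientGroup.eq, Subgroup.mem_subgroupOf]
    set a : G := ((s.out : A) : G) with ha
    set a' : G := ((t.out : A) : G) with ha'
    have haA : a ∈ A := (s.out : A).2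
    have ha'A : a' ∈ A := (t.out : A).2
    refine ⟨((s.out)⁻¹ * t.out : A).2, Subgroup.mem_centralizer_iff.mpr ?_⟩
    show ∀ m ∈ M, m * (a⁻¹ * a') = (a⁻¹ * a') * m
    have hmk : QuotientGroup.mk (s := A.subgroupOf M)
          (⟨_, Subgroup.subset_closure ⟨a, haA, rfl⟩⟩ : M) =
        QuotientGroup.mk ⟨_, Subgroup.subset_closure ⟨a', ha'A, rfl⟩⟩ := hst
    have hα' := QuotientGroup.eq.mp hmk
    have hα : (v * a * v⁻¹ * a⁻¹)⁻¹ * (v * a' * v⁻¹ * a'⁻¹) ∈ A := hα'
    have hle : M ≤ Subgroup.centralizer {a⁻¹ * a'} := by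
      rw [hM, comm1, Subgroup.closure_le]
      rintro _ ⟨b, hb, rfl⟩
      rw [SetLike.mem_coe, Subgroup.mem_centralizer_singleton_iff]
      set x := v * a * v⁻¹ * a⁻¹ with hxdef
      set x' := v * a' * v⁻¹ * a'⁻¹ with hx'def
      set y := v * b * v⁻¹ * b⁻¹ with hydef
      have hx : x ∈ V := hMV (Subgroup.subset_closure ⟨a, haA, rfl⟩)
      have hx' : x' ∈ V := hMV (Subgroup.subset_closure ⟨a', ha'A, rfl⟩)
      have hy : y ∈ V := hMV (Subgroup.subset_closure ⟨b, hb, rfl⟩)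
      have e1 := CfsgLib.Solvable.ThompsonReplacement.conj_commutator_symm hWc (hAc a haA b hb)
        hxdef hydef hx hy (‹V.Normal›.conj_mem y hy a)
      have e2 := CfsgLib.Solvable.ThompsonReplacement.conj_commutator_symm hWc (hAc a' ha'A b hb)
        hx'def hydef hx' hy (‹V.Normal›.conj_mem y hy a')
      have e3 : b * x * b⁻¹ * x⁻¹ = b * x' * b⁻¹ * x'⁻¹ := by
        have hbα : b * (x⁻¹ * x') = (x⁻¹ * x') * b := hAc b hb _ hα
        calc b * x * b⁻¹ * x⁻¹ = b * x * b⁻¹ * (x⁻¹ * x') * x'⁻¹ := by group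
          _ = b * x * b⁻¹ * ((x⁻¹ * x') * b) * b⁻¹ * x'⁻¹ := by group
          _ = b * x * b⁻¹ * (b * (x⁻¹ * x')) * b⁻¹ * x'⁻¹ := by rw [hbα]
          _ = b * x' * b⁻¹ * x'⁻¹ := by group
      rw [e1, e2, mul_left_inj] at e3
      calc y * (a⁻¹ * a') = a⁻¹ * (a * y * a⁻¹) * a' := by group
        _ = a⁻¹ * (a' * y * a'⁻¹) * a' := by rw [e3]
        _ = a⁻¹ * a' * y := by group
    exact fun m hm => Subgroup.mem_centralizer_singleton_iff.mp (hle hm)
  set D := V ⊓ Subgroup.centralizer (A : Set G) with hD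
  set C' := V ⊓ Subgroup.centralizer (C : Set G) with hC'
  have hMDC : M ⊔ D ≤ C' := sup_le
    (le_inf hMV fun m hm => Subgroup.mem_centralizer_iff.mpr fun c hc =>
      (Subgroup.mem_centralizer_iff.mp hc.2 m hm).symm)
    (inf_le_inf_left _ (Subgroup.centralizer_le (SetLike.coe_subset_coe.mpr inf_le_left)))
  have hMD : M ⊓ D = M ⊓ A := by
    refine le_antisymm ?_ ?_ <;> intro x hx <;> [refine ⟨hx.1, ?_⟩; refine ⟨hx.1, hMV hx.1, ?_⟩]
    · exact Thompson.mem_of_pow_eq_one_of_centralizes hA hx.2.2 (hV.2 x hx.2.1)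
    · exact Subgroup.mem_centralizer_iff.mpr fun a ha => hAc a ha x hx.2
  have hge : wt V A ≤ Nat.card C * Nat.card (M ⊔ D : Subgroup G) := by
    have h1 := Thompson.card_sup_mul_card_inf (N := M) (K := D)
      (le_trans (fun d hd => Subgroup.mem_centralizer_iff.mpr fun m hm => hWc m (hMV hm) d hd.1)
        (Subgroup.centralizer_le_normalizer _))
    rw [hMD] at h1
    have h2 := Subgroup.relIndex_mul_relIndex (⊥ : Subgroup G) C A bot_le inf_le_left
    have h3 := Subgroup.relIndex_mul_relIndex (⊥ : Subgroup G) (M ⊓ A) M bot_le inf_le_left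
    rw [Subgroup.relIndex_bot_left, Subgroup.relIndex_bot_left] at h2 h3
    rw [Subgroup.inf_relIndex_left] at h3
    refine Nat.le_of_mul_le_mul_right ?_ (Nat.card_pos (α := (M ⊓ A : Subgroup G)))
    calc wt V A * Nat.card (M ⊓ A : Subgroup G)
        = Nat.card C * Nat.card D * Nat.card (M ⊓ A : Subgroup G) * C.relIndex A := by
          rw [wt, ← hD, ← h2]; ring
      _ ≤ Nat.card C * Nat.card D * Nat.card (M ⊓ A : Subgroup G) * A.relIndex M :=
          Nat.mul_le_mul_left _ hkey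
      _ = Nat.card C * (Nat.card M * Nat.card D) := by rw [← h3]; ring
      _ = _ := by rw [← h1]; ring
  have heq : M ⊔ D = C' := Subgroup.eq_of_le_of_card_ge hMDC (Nat.le_of_mul_le_mul_left
    (((Cfsg.Agent.S0606.result V hV A hA).1 C inf_le_left).trans hge) Nat.card_pos)
  refine ⟨inf_le_left, ?_, ?_⟩
  · show wt V A ≤ Nat.card C * Nat.card C'
    rw [← heq]; exact hge
  · rw [← hC', ← heq]; exact sup_le_sup_right (comm1_le_commutator hv) _

/-- Timmesfeld's replacement: `C_A([V, A])` has full weight and fixed points `[V, A] C_V(A)`. -/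
theorem good_commutator (hV : Cfsg.IsElementaryAbelian p V)
    (hA : A ∈ Cfsg.maxElementaryAbelianSubgroups p G) :
    Good V A ⁅V, A⁆ (A ⊓ Subgroup.centralizer ((⁅V, A⁆ : Subgroup G) : Set G)) := by
  classical
  haveI : Fintype V := Fintype.ofFinite V
  have h : ∀ T : Finset V, Good V A ⁅V, A⁆
      (A ⊓ ⨅ v ∈ T, Subgroup.centralizer (comm1 A (v : G) : Set G)) := by
    intro T
    induction T using Finset.induction with
    | empty =>
      refine ⟨inf_le_left, ?_, ?_⟩ <;> simp only [Finset.notMem_empty, iInf_false, iInf_top, inf_top_eq]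
      · exact le_rfl
      · exact le_sup_right
    | @insert v T _ ih =>
      rw [Finset.iInf_insert, inf_inf_distrib_left]
      exact good_inf hV hA (good_comm1 hV hA v.2) ih
  have he : A ⊓ Subgroup.centralizer ((⁅V, A⁆ : Subgroup G) : Set G) =
      A ⊓ ⨅ v ∈ (Finset.univ : Finset V), Subgroup.centralizer (comm1 A (v : G) : Set G) := by
    refine le_antisymm (inf_le_inf_left _ (le_iInf₂ fun v _ => Subgroup.centralizer_le
      (SetLike.coe_subset_coe.mpr (comm1_le_commutator v.2)))) (inf_le_inf_left _ fun x hx => ?_)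
    have hle : ⁅V, A⁆ ≤ Subgroup.centralizer {x} := by
      rw [Subgroup.commutator_le]
      intro v hv a ha
      rw [Subgroup.mem_centralizer_singleton_iff]
      have h1 := Subgroup.mem_iInf.mp (Subgroup.mem_iInf.mp hx ⟨v, hv⟩) (Finset.mem_univ _)
      exact Subgroup.mem_centralizer_iff.mp h1 _ (Subgroup.subset_closure ⟨a, ha, rfl⟩)
    exact Subgroup.mem_centralizer_iff.mpr fun m hm => Subgroup.mem_centralizer_singleton_iff.mp (hle hm)
  rw [he]; exact h _

theorem replacement (hV : Cfsg.IsElementaryAbelian p V) (hA : A ∈ Cfsg.maxElementaryAbelianSubgroups p G) :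
    (⁅V, A⁆ ⊔ (A ⊓ Subgroup.centralizer ((⁅V, A⁆ : Subgroup G) : Set G))) ∈
        Cfsg.maxElementaryAbelianSubgroups p G ∧
      ⁅⁅V, ⁅V, A⁆ ⊔ (A ⊓ Subgroup.centralizer ((⁅V, A⁆ : Subgroup G) : Set G))⁆,
        ⁅V, A⁆ ⊔ (A ⊓ Subgroup.centralizer ((⁅V, A⁆ : Subgroup G) : Set G))⁆ = ⊥ ∧
      (⁅V, A⁆ ≠ ⊥ → ⁅V, ⁅V, A⁆ ⊔ (A ⊓ Subgroup.centralizer ((⁅V, A⁆ : Subgroup G) : Set G))⁆ ≠ ⊥) := by
  have hVc := isMulCommutative_subgroup_iff.mp hV.1
  have hAc := isMulCommutative_subgroup_iff.mp hA.1.1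
  set U := ⁅V, A⁆ with hU
  set C := A ⊓ Subgroup.centralizer (U : Set G) with hC
  have hUV : U ≤ V := Subgroup.commutator_le_left V A
  have hEA : Cfsg.IsElementaryAbelian p (U ⊔ C : Subgroup G) :=
    CfsgLib.Solvable.ThompsonReplacement.isEA_sup (Thompson.isEA_le hV hUV)
      (Thompson.isEA_le hA.1 inf_le_left) fun u hu c hc => Subgroup.mem_centralizer_iff.mp hc.2 u hu
  obtain ⟨-, hge, hfix⟩ := good_commutator hV hA
  rw [← hU, ← hC] at hge hfix
  set D := V ⊓ Subgroup.centralizer (A : Set G) with hD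
  have hUD : U ⊓ D = U ⊓ C := by
    refine le_antisymm ?_ ?_ <;> intro x hx <;> [refine ⟨hx.1, ?_, ?_⟩; refine ⟨hx.1, hUV hx.1, ?_⟩]
    · exact Thompson.mem_of_pow_eq_one_of_centralizes hA hx.2.2 (hV.2 x hx.2.1)
    · exact Subgroup.mem_centralizer_iff.mpr fun u hu => hVc u (hUV hu) x hx.2.1
    · exact Subgroup.mem_centralizer_iff.mpr fun a ha => hAc a ha x hx.2.1
  have hcard : Nat.card A ≤ Nat.card (U ⊔ C : Subgroup G) := by
    have h1 := Thompson.card_sup_mul_card_inf (N := U) (K := C)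
      (inf_le_right.trans (Subgroup.centralizer_le_normalizer _))
    have h2 := Thompson.card_sup_mul_card_inf (N := U) (K := D)
      (le_trans (fun d hd => Subgroup.mem_centralizer_iff.mpr fun u hu => hVc u (hUV hu) d hd.1)
        (Subgroup.centralizer_le_normalizer _))
    rw [hUD] at h2
    refine Nat.le_of_mul_le_mul_right ?_ (Nat.card_pos (α := D))
    refine Nat.le_of_mul_le_mul_right ?_ (Nat.card_pos (α := (U ⊓ C : Subgroup G)))
    calc Nat.card A * Nat.card D * Nat.card (U ⊓ C : Subgroup G)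
        ≤ Nat.card C * Nat.card (U ⊔ D : Subgroup G) * Nat.card (U ⊓ C : Subgroup G) := by
          refine Nat.mul_le_mul_right _ (le_trans hge (Nat.mul_le_mul_left _ ?_))
          exact Subgroup.card_le_of_le hfix
      _ = Nat.card C * (Nat.card U * Nat.card D) := by rw [mul_assoc, h2]
      _ = (Nat.card U * Nat.card C) * Nat.card D := by ring
      _ = _ := by rw [← h1]; ring
  refine ⟨⟨hEA, fun B hB => (hA.2 B hB).trans hcard⟩, ?_, ?_⟩
  · have hXU : ⁅V, U ⊔ C⁆ ≤ U := by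
      rw [Subgroup.commutator_le]
      intro v hv x hx
      rw [← SetLike.mem_coe, Subgroup.coe_mul_of_right_le_normalizer_left U C
        (inf_le_right.trans (Subgroup.centralizer_le_normalizer _))] at hx
      obtain ⟨u, hu, c, hc, rfl⟩ := hx
      have h1 : ⁅v, u * c⁆ = ⁅v, u⁆ * (u * ⁅v, c⁆ * u⁻¹) := by simp only [commutatorElement_def]; group
      have h2 : ⁅v, c⁆ ∈ U := Subgroup.commutator_mem_commutator hv hc.1
      rw [h1, commutatorElement_eq_one_iff_mul_comm.mpr (hVc v hv u (hUV hu)), one_mul]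
      exact U.mul_mem (U.mul_mem hu h2) (U.inv_mem hu)
    refine le_bot_iff.mp ((Subgroup.commutator_mono hXU le_rfl).trans (le_of_eq ?_))
    rw [Subgroup.commutator_eq_bot_iff_le_centralizer]
    exact fun u hu => Subgroup.mem_centralizer_iff.mpr fun x hx =>
      (isMulCommutative_subgroup_iff.mp hEA.1 u (Subgroup.mem_sup_left hu) x hx).symm
  · intro hne he
    rw [Subgroup.commutator_eq_bot_iff_le_centralizer] at he
    have hVfix : V ≤ U ⊔ D := by
      refine le_trans (le_inf le_rfl (fun v hv => ?_)) hfix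
      exact Subgroup.mem_centralizer_iff.mpr fun c hc =>
        Subgroup.mem_centralizer_iff.mp (he hv) c (Subgroup.mem_sup_right hc)
    have hUle : U ≤ ⁅U, A⁆ := by
      show ⁅V, A⁆ ≤ ⁅U, A⁆
      rw [Subgroup.commutator_le]
      intro v hv a ha
      have hv' := hVfix hv
      rw [← SetLike.mem_coe, Subgroup.coe_mul_of_right_le_normalizer_left U D
          (le_trans (fun d hd => Subgroup.mem_centralizer_iff.mpr fun u hu => hVc u (hUV hu) d hd.1)
            (Subgroup.centralizer_le_normalizer _))] at hv' 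
      obtain ⟨u, hu, d, hd, rfl⟩ := hv'
      have hda : d * a = a * d := (Subgroup.mem_centralizer_iff.mp hd.2 a ha).symm
      have h1 : ⁅u * d, a⁆ = ⁅u, a⁆ := by
        calc ⁅u * d, a⁆ = u * (d * a) * d⁻¹ * u⁻¹ * a⁻¹ := by simp only [commutatorElement_def]; group
          _ = u * (a * d) * d⁻¹ * u⁻¹ * a⁻¹ := by rw [hda]
          _ = ⁅u, a⁆ := by simp only [commutatorElement_def]; group
      rw [h1]
      exact Subgroup.commutator_mem_commutator hu ha
    have hAU : A ≤ Subgroup.normalizer (U : Set G) := by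
      exact Subgroup.normalizer_commutator_ge_right V A
    exact (CfsgLib.Coprime.commutator_lt_of_isPGroup (Thompson.isPGroup_isEA hA.1)
      ((Thompson.isPGroup_isEA hV).to_le hUV) hAU hne).not_ge hUle

end CfsgLib.Fusion.ReplacementEA
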