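/-
Glauberman's replacement construction, for abelian subgroups.
-/
import Mathlib
import Cfsg.Agent.Lib.OddOrder.Replacement

set_option autoImplicit false
set_option linter.style.haveILetI false

open scoped commutatorElement IsMulCommutative

namespace CfsgLib.Fusion.Replacement

open CfsgLib.OddOrder.Replacement (comm_mul_left comm_mul_right)

variable {G : Type*} [Group G]

/-- The generators `[a, x]` of the replacement. -/
def gens (A : Subgroup G) (x : G) : Subgroup G :=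
  Subgroup.closure {g | ∃ a ∈ A, g = a * x * a⁻¹ * x⁻¹}

/-- `(A ∩ xAx⁻¹)[A, x]`. -/
def star (A : Subgroup G) (x : G) : Subgroup G :=
  (A ⊓ A.map (MulAut.conj x).toMonoidHom) ⊔ gens A x

theorem mem_map_conj_iff (A : Subgroup G) (x z : G) :
    z ∈ A.map (MulAut.conj x).toMonoidHom ↔ x⁻¹ * z * x ∈ A := by
  constructor
  · rintro ⟨a, ha, rfl⟩
    simpa [mul_assoc] using ha
  · exact fun h => ⟨_, h, by simp [mul_assoc]⟩

/-- The hypotheses under which the construction works. -/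
structure Setup (p : ℕ) (B A : Subgroup G) (x : G) : Prop where
  two : p = 2 → IsMulCommutative B
  pgroup : IsPGroup p B
  abelian : IsMulCommutative A
  derived : ⁅B, B⁆ ≤ A
  mem : x ∈ B
  notMem : x ∉ Subgroup.normalizer (A : Set G)
  norm₁ : ∀ a ∈ A, x * a * x⁻¹ ∈ Subgroup.normalizer (A : Set G)
  norm₂ : ∀ a ∈ A, x⁻¹ * a * x ∈ Subgroup.normalizer (A : Set G)

namespace Setup

variable {p : ℕ} {B A : Subgroup G} {x : G}

theorem commA (h : Setup p B A x) {a b : G} (ha : a ∈ A) (hb : b ∈ A) : Commute a b :=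
  congrArg Subtype.val (h.abelian.is_comm.comm ⟨a, ha⟩ ⟨b, hb⟩)

theorem commDA (h : Setup p B A x) {u v a : G} (hu : u ∈ B) (hv : v ∈ B) (ha : a ∈ A) : Commute ⁅u, v⁆ a :=
  h.commA (h.derived (Subgroup.commutator_mem_commutator hu hv)) ha

variable [hn : B.Normal]

omit hn in
theorem w_eq (a : G) : a * x * a⁻¹ * x⁻¹ = a * (x * a * x⁻¹)⁻¹ := by group

theorem w_mem (h : Setup p B A x) {a : G} (_ha : a ∈ A) : a * x * a⁻¹ * x⁻¹ ∈ B :=
  mul_mem (hn.conj_mem x h.mem a) (inv_mem h.mem)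

omit hn in
theorem w_mem_normalizer (h : Setup p B A x) {a : G} (ha : a ∈ A) :
    a * x * a⁻¹ * x⁻¹ ∈ Subgroup.normalizer (A : Set G) := by
  rw [w_eq]
  exact mul_mem (Subgroup.le_normalizer ha) (inv_mem (h.norm₁ a ha))

omit hn in
theorem le_normalizer_conj (h : Setup p B A x) {a : G} (ha : a ∈ A) :
    a ∈ Subgroup.normalizer ((A.map (MulAut.conj x).toMonoidHom : Subgroup G) : Set G) := by
  rw [Subgroup.mem_normalizer_iff]
  intro z
  rw [mem_map_conj_iff, mem_map_conj_iff]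
  have := Subgroup.mem_normalizer_iff.mp (h.norm₂ a ha) (x⁻¹ * z * x)
  simpa [mul_assoc] using this

omit hn in
theorem conj_le_normalizer (h : Setup p B A x) :
    A.map (MulAut.conj x).toMonoidHom ≤ Subgroup.normalizer (A : Set G) := by
  rintro _ ⟨a, ha, rfl⟩
  simpa using h.norm₁ a ha

omit hn in
theorem commA2 (h : Setup p B A x) {z z' : G} (hz : z ∈ A.map (MulAut.conj x).toMonoidHom)
    (hz' : z' ∈ A.map (MulAut.conj x).toMonoidHom) : Commute z z' := by
  obtain ⟨a, ha, rfl⟩ := hz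
  obtain ⟨b, hb, rfl⟩ := hz'
  exact (h.commA ha hb).map (MulAut.conj x).toMonoidHom

theorem e_mem (h : Setup p B A x) {a b : G} (ha : a ∈ A) (hb : b ∈ A) :
    ⁅a, b * x * b⁻¹ * x⁻¹⁆ ∈ A ⊓ A.map (MulAut.conj x).toMonoidHom := by
  constructor
  · have h1 := (Subgroup.mem_normalizer_iff.mp (h.w_mem_normalizer hb) a⁻¹).mp (inv_mem ha)
    simpa [commutatorElement_def, mul_assoc] using mul_mem ha h1
  · have hz : (x * b * x⁻¹)⁻¹ ∈ A.map (MulAut.conj x).toMonoidHom :=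
      inv_mem ⟨b, hb, by simp⟩
    have h1 : ⁅a, (x * b * x⁻¹)⁻¹⁆ ∈ A.map (MulAut.conj x).toMonoidHom :=
      mul_mem ((Subgroup.mem_normalizer_iff.mp (h.le_normalizer_conj ha) _).mp hz) (inv_mem hz)
    have h2 := (Subgroup.mem_normalizer_iff.mp (h.le_normalizer_conj hb) _).mp h1
    have e : ⁅a, b * x * b⁻¹ * x⁻¹⁆ = b * ⁅a, (x * b * x⁻¹)⁻¹⁆ * b⁻¹ := by
      have hab : a * b = b * a := (h.commA ha hb).eq
      rw [w_eq]
      simp only [commutatorElement_def]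
      calc a * (b * (x * b * x⁻¹)⁻¹) * a⁻¹ * (b * (x * b * x⁻¹)⁻¹)⁻¹
          = (a * b) * ((x * b * x⁻¹)⁻¹ * a⁻¹ * ((x * b * x⁻¹)⁻¹)⁻¹ * b⁻¹) := by group
        _ = (b * a) * ((x * b * x⁻¹)⁻¹ * a⁻¹ * ((x * b * x⁻¹)⁻¹)⁻¹ * b⁻¹) := by rw [hab]
        _ = _ := by group
    rw [e]; exact h2

omit hn in
theorem comm_inf_w (h : Setup p B A x) {z a : G} (hz : z ∈ A ⊓ A.map (MulAut.conj x).toMonoidHom)
    (ha : a ∈ A) : Commute z (a * x * a⁻¹ * x⁻¹) := by
  rw [w_eq]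
  exact (h.commA hz.1 ha).mul_right (h.commA2 hz.2 ⟨a, ha, by simp⟩).inv_right

/-- `[B, A]` centralises `[B, B]`, so commutators inside `[B, A]` are central in `B`. -/
theorem central (h : Setup p B A x) {a b : G} (ha : a ∈ A) (hb : b ∈ A) :
    (∀ d ∈ ⁅B, B⁆, Commute (a * x * a⁻¹ * x⁻¹) d) ∧
    ∀ z ∈ B, Commute ⁅a * x * a⁻¹ * x⁻¹, b * x * b⁻¹ * x⁻¹⁆ z := by
  haveI := h.abelian
  set X := ⁅B, A⁆ with hX
  have hD : ⁅⁅B, B⁆, A⁆ = ⊥ :=
    Subgroup.commutator_eq_bot_iff_le_centralizer.mpr (h.derived.trans A.le_centralizer)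
  have hBB : ⁅B, ⁅B, B⁆⁆ ≤ ⁅B, B⁆ := Subgroup.commutator_le_right B ⁅B, B⁆
  have h1 : ⁅⁅B, ⁅B, B⁆⁆, A⁆ = ⊥ := le_bot_iff.mp ((Subgroup.commutator_mono hBB le_rfl).trans hD.le)
  have h2 : ⁅⁅⁅B, B⁆, A⁆, B⁆ = ⊥ := by rw [hD]; exact Subgroup.commutator_bot_left B
  have h3 : ⁅⁅A, B⁆, ⁅B, B⁆⁆ = ⊥ := Subgroup.commutator_commutator_eq_bot_of_rotate h1 h2
  rw [Subgroup.commutator_comm A B, ← hX] at h3
  have hwX : ∀ c ∈ A, c * x * c⁻¹ * x⁻¹ ∈ X := fun c hc => by
    rw [hX, Subgroup.commutator_comm]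
    exact Subgroup.commutator_mem_commutator hc h.mem
  have hXB : X ≤ B := Subgroup.commutator_le_left B A
  have hXc : ∀ w ∈ X, ∀ d ∈ ⁅B, B⁆, Commute w d := fun w hw d hd =>
    (Subgroup.mem_centralizer_iff.mp (Subgroup.commutator_eq_bot_iff_le_centralizer.mp h3 hw) d hd).symm
  have h4 : ⁅⁅X, B⁆, X⁆ = ⊥ := by
    refine le_bot_iff.mp ((Subgroup.commutator_mono (Subgroup.commutator_mono hXB le_rfl) le_rfl).trans ?_)
    rw [Subgroup.commutator_comm, h3]
  have h5 : ⁅⁅B, X⁆, X⁆ = ⊥ := by rwa [Subgroup.commutator_comm B X]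
  have h6 : ⁅⁅X, X⁆, B⁆ = ⊥ := Subgroup.commutator_commutator_eq_bot_of_rotate h4 h5
  refine ⟨fun d hd => hXc _ (hwX a ha) d hd, fun z hz => ?_⟩
  exact (Subgroup.mem_centralizer_iff.mp (Subgroup.commutator_eq_bot_iff_le_centralizer.mp h6
    (Subgroup.commutator_mem_commutator (hwX a ha) (hwX b hb))) z hz).symm

variable [Fact p.Prime]

theorem comm_w (h : Setup p B A x) {a b : G} (ha : a ∈ A) (hb : b ∈ A) :
    Commute (a * x * a⁻¹ * x⁻¹) (b * x * b⁻¹ * x⁻¹) := by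
  by_cases hp : p = 2
  · haveI := h.two hp
    exact congrArg Subtype.val (mul_comm (⟨_, h.w_mem ha⟩ : B) ⟨_, h.w_mem hb⟩)
  have key : ∀ a ∈ A, ∀ b ∈ A,
      ⁅x, ⁅a, b * x * b⁻¹ * x⁻¹⁆⁆ * ⁅a * x * a⁻¹ * x⁻¹, b * x * b⁻¹ * x⁻¹⁆ = 1 := by
    intro a ha b hb
    have hu := h.w_mem ha
    have hv := h.w_mem hb
    have he := h.e_mem ha hb
    have heB : ⁅a, b * x * b⁻¹ * x⁻¹⁆ ∈ B := by
      rw [commutatorElement_def]
      exact mul_mem (hn.conj_mem _ hv a) (inv_mem hv)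
    set e := ⁅a, b * x * b⁻¹ * x⁻¹⁆ with hedef
    set u := a * x * a⁻¹ * x⁻¹ with hudef
    set v := b * x * b⁻¹ * x⁻¹ with hvdef
    have hc := h.commDA h.mem hv ha
    have e1 : a * x * a⁻¹ = u * x := by rw [hudef]; group
    have e2 : a * v * a⁻¹ = e * v := by simp only [hedef, commutatorElement_def]; group
    have h2 : ⁅u * x, e * v⁆ = ⁅x, v⁆ := by
      rw [← e1, ← e2, ← conjugate_commutatorElement, ← hc.eq]; group
    have hcu := (h.central ha hb).1
    rw [comm_mul_left (hcu _ (Subgroup.commutator_mem_commutator h.mem (mul_mem heB hv))).symm,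
      comm_mul_right (h.commDA h.mem hv he.1),
      comm_mul_right (h.commDA hu hv he.1)] at h2
    have hue : ⁅u, e⁆ = 1 := commutatorElement_eq_one_iff_mul_comm.mpr ((h.comm_inf_w he ha).symm.eq)
    rw [hue, one_mul] at h2
    have h4 : ⁅x, e⁆ * ⁅u, v⁆ * ⁅x, v⁆ = ⁅x, v⁆ := by
      conv_rhs => rw [← h2]
      rw [mul_assoc, mul_assoc]
      congr 1
      exact (h.commDA hu hv (h.derived (Subgroup.commutator_mem_commutator h.mem hv))).eq
    exact mul_right_cancel (h4.trans (one_mul _).symm)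
  set wa := a * x * a⁻¹ * x⁻¹ with hwa
  set wb := b * x * b⁻¹ * x⁻¹ with hwb
  have hu : wa ∈ B := h.w_mem ha
  have hv : wb ∈ B := h.w_mem hb
  have hab : ⁅a, wb⁆ = ⁅b, wa⁆ * ⁅wa, wb⁆ := by
    have e1 : ∀ c d : G, ⁅c, d * x * d⁻¹ * x⁻¹⁆ * (d * x * d⁻¹ * x⁻¹) * (c * x * c⁻¹ * x⁻¹) =
        (c * d) * x * (c * d)⁻¹ * x⁻¹ := fun c d => by
      simp only [commutatorElement_def]; group
    have h' : ⁅a, wb⁆ * wb * wa = ⁅b, wa⁆ * wa * wb := by
      rw [hwa, hwb, e1, e1, (h.commA ha hb).eq]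
    calc ⁅a, wb⁆ = (⁅a, wb⁆ * wb * wa) * (wa⁻¹ * wb⁻¹) := by group
      _ = (⁅b, wa⁆ * wa * wb) * (wa⁻¹ * wb⁻¹) := by rw [h']
      _ = _ := by simp only [commutatorElement_def]; group
  have hg : ⁅x, ⁅wa, wb⁆⁆ = 1 :=
    commutatorElement_eq_one_iff_mul_comm.mpr ((h.central ha hb).2 x h.mem).symm.eq
  have k1 := key a ha b hb
  rw [← hwa, ← hwb, hab, comm_mul_right (by rw [hg]; exact Commute.one_left _), hg, mul_one] at k1
  have k2 := key b hb a ha
  have hgg : ⁅wa, wb⁆ = ⁅wb, wa⁆ := mul_left_cancel (k1.trans k2.symm)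
  have hsq : ⁅wa, wb⁆ ^ 2 = 1 := by
    rw [sq]; nth_rewrite 2 [hgg]
    rw [← commutatorElement_inv wa wb, mul_inv_cancel]
  have hgB : ⁅wa, wb⁆ ∈ B := mul_mem (mul_mem (mul_mem hu hv) (inv_mem hu)) (inv_mem hv)
  obtain ⟨k, hk⟩ := h.pgroup ⟨_, hgB⟩
  have hk' : ⁅wa, wb⁆ ^ p ^ k = 1 := congrArg Subtype.val hk
  have hcop : Nat.Coprime 2 (p ^ k) :=
    Nat.Coprime.pow_right _ ((Nat.coprime_primes Nat.prime_two Fact.out).mpr (Ne.symm hp))
  have := pow_gcd_eq_one.mpr ⟨hsq, hk'⟩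
  rw [hcop.gcd_eq_one, pow_one] at this
  exact commutatorElement_eq_one_iff_commute.mp this

theorem derived_le_inf (h : Setup p B A x) : ⁅B, B⁆ ≤ A ⊓ A.map (MulAut.conj x).toMonoidHom :=
  le_inf h.derived fun z hz => by
    rw [mem_map_conj_iff]
    exact h.derived (by simpa using (inferInstance : (⁅B, B⁆).Normal).conj_mem z hz x⁻¹)

theorem inf_B_le (h : Setup p B A x) : A ⊓ B ≤ A ⊓ A.map (MulAut.conj x).toMonoidHom :=
  fun c hc => Subgroup.mem_inf.mpr ⟨(Subgroup.mem_inf.mp hc).1, by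
    rw [mem_map_conj_iff, show x⁻¹ * c * x = ⁅x⁻¹, c⁆ * c by simp [commutatorElement_def, mul_assoc]]
    exact mul_mem (h.derived (Subgroup.commutator_mem_commutator (inv_mem h.mem) (Subgroup.mem_inf.mp hc).2))
      (Subgroup.mem_inf.mp hc).1⟩

/-- The kernel of `a ↦ [a, x]` modulo `A`. -/
theorem w_mem_iff (h : Setup p B A x) {a : G} (ha : a ∈ A) :
    a * x * a⁻¹ * x⁻¹ ∈ A ↔ a ∈ A.map (MulAut.conj x).toMonoidHom := by
  rw [mem_map_conj_iff, w_eq]
  constructor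
  · intro hw
    have hwB : a * (x * a * x⁻¹)⁻¹ ∈ A ⊓ B :=
      Subgroup.mem_inf.mpr ⟨hw, by rw [← w_eq]; exact h.w_mem ha⟩
    have h1 := (Subgroup.mem_inf.mp (h.inf_B_le hwB)).2
    rw [mem_map_conj_iff] at h1
    have h2 : x⁻¹ * a * x * a⁻¹ ∈ A := by simpa [mul_assoc] using h1
    simpa [mul_assoc] using mul_mem h2 ha
  · intro hx
    have hxB : (x⁻¹ * a * x) * a⁻¹ ∈ A ⊓ B := Subgroup.mem_inf.mpr ⟨mul_mem hx (inv_mem ha), by
      simpa [mul_assoc] using mul_mem (inv_mem h.mem) (hn.conj_mem x h.mem a)⟩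
    have e : a * (x * a * x⁻¹)⁻¹ = ⁅x, (x⁻¹ * a * x) * a⁻¹⁆ * ((x⁻¹ * a * x) * a⁻¹) := by
      simp [commutatorElement_def, mul_assoc]
    rw [e]
    exact mul_mem (h.derived (Subgroup.commutator_mem_commutator h.mem (Subgroup.mem_inf.mp hxB).2))
      (Subgroup.mem_inf.mp hxB).1

theorem gens_le_B (h : Setup p B A x) : gens A x ≤ B :=
  (Subgroup.closure_le _).mpr (by rintro _ ⟨a, ha, rfl⟩; exact h.w_mem ha)

theorem gens_le_normalizer (h : Setup p B A x) : gens A x ≤ Subgroup.normalizer (A : Set G) :=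
  (Subgroup.closure_le _).mpr (by rintro _ ⟨a, ha, rfl⟩; exact h.w_mem_normalizer ha)

theorem gens_comm (h : Setup p B A x) : IsMulCommutative (gens A x) :=
  Subgroup.isMulCommutative_closure (by
    rintro _ ⟨a, ha, rfl⟩ _ ⟨b, hb, rfl⟩; exact (h.comm_w ha hb).eq)

theorem inf_le_centralizer_gens (h : Setup p B A x) :
    A ⊓ A.map (MulAut.conj x).toMonoidHom ≤ Subgroup.centralizer (gens A x : Set G) := by
  intro c hc
  rw [gens, Subgroup.centralizer_closure, Subgroup.mem_centralizer_iff]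
  rintro _ ⟨a, ha, rfl⟩
  exact (h.comm_inf_w hc ha).symm.eq

theorem star_comm (h : Setup p B A x) : IsMulCommutative (star A x) := by
  haveI := h.gens_comm
  haveI := h.abelian
  rw [star, ← Subgroup.closure_eq (A ⊓ A.map (MulAut.conj x).toMonoidHom), ← Subgroup.closure_eq (gens A x),
    ← Subgroup.closure_union]
  refine Subgroup.isMulCommutative_closure ?_
  rintro u (hu | hu) v (hv | hv)
  · exact (h.commA hu.1 hv.1).eq
  · exact (Subgroup.mem_centralizer_iff.mp (h.inf_le_centralizer_gens hu) v hv).symm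
  · exact Subgroup.mem_centralizer_iff.mp (h.inf_le_centralizer_gens hv) u hu
  · exact congrArg Subtype.val (mul_comm (⟨u, hu⟩ : gens A x) ⟨v, hv⟩)

theorem star_le_normalizer (h : Setup p B A x) : star A x ≤ Subgroup.normalizer (A : Set G) :=
  sup_le (inf_le_left.trans Subgroup.le_normalizer) h.gens_le_normalizer

theorem star_le_sup (h : Setup p B A x) : star A x ≤ B ⊔ A :=
  sup_le (inf_le_left.trans le_sup_right) (h.gens_le_B.trans le_sup_left)

theorem not_le_star (h : Setup p B A x) : ¬ B ≤ star A x := fun hle =>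
  h.notMem (h.star_le_normalizer (hle h.mem))

theorem derived_le_star (h : Setup p B A x) : ⁅B, B⁆ ≤ star A x := h.derived_le_inf.trans le_sup_left

theorem inf_lt [Finite G] (h : Setup p B A x) : A ⊓ B < star A x ⊓ B := by
  refine lt_of_le_not_ge (le_inf (h.inf_B_le.trans le_sup_left) inf_le_right) fun hle => h.notMem ?_
  have hall : ∀ a ∈ A, x * a * x⁻¹ ∈ A := fun a ha => by
    have h1 : a * x * a⁻¹ * x⁻¹ ∈ A :=
      (hle ⟨Subgroup.mem_sup_right (Subgroup.subset_closure ⟨a, ha, rfl⟩), h.w_mem ha⟩).1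
    rw [w_eq] at h1
    simpa using inv_mem (mul_mem (inv_mem ha) h1)
  rw [Subgroup.mem_normalizer_iff_map_conj_eq]
  exact Subgroup.eq_of_le_of_card_ge (by rintro _ ⟨a, ha, rfl⟩; exact hall a ha)
    (Subgroup.card_map_of_injective (MulAut.conj x).injective).ge

/-- The replacement has the same order. -/
theorem card_star [Finite G] (h : Setup p B A x) : Nat.card (star A x) = Nat.card A := by
  set W := gens A x with hW
  set C := A ⊓ A.map (MulAut.conj x).toMonoidHom with hC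
  set A' := A.subgroupOf W with hA'
  haveI : A'.Normal := Subgroup.normal_subgroupOf_of_le_normalizer h.gens_le_normalizer
  have hwW : ∀ a ∈ A, a * x * a⁻¹ * x⁻¹ ∈ W := fun a ha => Subgroup.subset_closure ⟨a, ha, rfl⟩
  let φ : A →* W ⧸ A' := MonoidHom.mk' (fun a => QuotientGroup.mk ⟨_, hwW a a.2⟩) fun a b => by
    rw [← QuotientGroup.mk_mul, QuotientGroup.eq, hA', Subgroup.mem_subgroupOf]
    have he := (h.e_mem a.2 b.2)
    set wa := (a : G) * x * (a : G)⁻¹ * x⁻¹ with hwa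
    set wb := (b : G) * x * (b : G)⁻¹ * x⁻¹ with hwb
    have e1 : ((a * b : A) : G) * x * ((a * b : A) : G)⁻¹ * x⁻¹ = ⁅(a : G), wb⁆ * (wa * wb) := by
      rw [(h.comm_w a.2 b.2).eq]
      simp only [hwa, hwb, Subgroup.coe_mul, commutatorElement_def]
      group
    show (((a * b : A) : G) * x * ((a * b : A) : G)⁻¹ * x⁻¹)⁻¹ * (wa * wb) ∈ A
    rw [e1, (((h.comm_inf_w he a.2).mul_right (h.comm_inf_w he b.2)).eq)]
    rw [mul_inv_rev, mul_assoc, inv_mul_cancel, mul_one]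
    exact inv_mem (Subgroup.mem_inf.mp he).1
  have hker : φ.ker = C.subgroupOf A := by
    ext a
    rw [MonoidHom.mem_ker, Subgroup.mem_subgroupOf]
    show (QuotientGroup.mk _ : W ⧸ A') = 1 ↔ _
    rw [QuotientGroup.eq_one_iff, hA', Subgroup.mem_subgroupOf, h.w_mem_iff a.2]
    exact ⟨fun hh => ⟨a.2, hh⟩, fun hh => hh.2⟩
  have hrange : φ.range = ⊤ := by
    have hle : W ≤ (φ.range.comap (QuotientGroup.mk' A')).map W.subtype := by
      refine (Subgroup.closure_le _).mpr ?_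
      rintro _ ⟨a, ha, rfl⟩
      exact ⟨⟨_, hwW a ha⟩, ⟨⟨a, ha⟩, rfl⟩, rfl⟩
    rw [eq_top_iff]
    intro q _
    obtain ⟨w, rfl⟩ := QuotientGroup.mk'_surjective A' q
    obtain ⟨w', hw', hww⟩ := hle w.2
    rw [← Subtype.ext hww]
    exact hw'
  have hidx : (C.subgroupOf A).index = A'.index := by
    rw [← hker, Subgroup.index_ker, hrange, Subgroup.card_top]; rfl
  have hWA : W ⊓ A ≤ C := by
    intro z hz
    obtain ⟨⟨z', hz'W⟩, ⟨a, ha⟩, rfl⟩ : ∃ (w : W), (∃ a : A, φ a = QuotientGroup.mk w) ∧ (w : G) = z := by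
      refine ⟨⟨z, hz.1⟩, ?_, rfl⟩
      exact MonoidHom.mem_range.mp (hrange ▸ Subgroup.mem_top _)
    have hz'A : z' ∈ A := hz.2
    have hzB : z' ∈ B := h.gens_le_B hz'W
    exact h.inf_B_le ⟨hz'A, hzB⟩
  have hWC : W ⊓ C = W ⊓ A := le_antisymm (inf_le_inf_left _ inf_le_left) fun z hz => ⟨hz.1, hWA hz⟩
  have hcard := Fusion.Thompson.card_sup_mul_card_inf (N := W) (K := C)
    (h.inf_le_centralizer_gens.trans (Subgroup.centralizer_le_normalizer _))
  have hCA : Nat.card C * (C.subgroupOf A).index = Nat.card A := by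
    have := Subgroup.card_mul_index (C.subgroupOf A)
    rwa [Nat.card_congr (Subgroup.subgroupOfEquivOfLe (inf_le_left : C ≤ A)).toEquiv] at this
  have hWA' : Nat.card (W ⊓ A : Subgroup G) * A'.index = Nat.card W := by
    have := Subgroup.card_mul_index (A.subgroupOf W)
    rwa [← Nat.card_congr (Subgroup.subgroupOfEquivOfLe (inf_le_left : W ⊓ A ≤ W)).toEquiv,
      Subgroup.inf_subgroupOf_left]
  rw [hWC, ← hWA', ← hidx] at hcard
  rw [star, ← hC, ← hW, sup_comm]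
  refine Nat.eq_of_mul_eq_mul_right (Nat.card_pos (α := (W ⊓ A : Subgroup G))) (hcard.trans ?_)
  rw [← hCA]; ring

theorem le_normalizer_star (h : Setup p B A x) : A ≤ Subgroup.normalizer (star A x : Set G) := by
  rw [Subgroup.le_normalizer_iff]
  intro a ha z hz
  have hle : star A x ≤ (star A x).comap (MulAut.conj a).toMonoidHom := by
    refine sup_le (fun c hc => ?_) ((Subgroup.closure_le _).mpr ?_)
    · show a * c * a⁻¹ ∈ star A x
      rw [(h.commA ha hc.1).eq, mul_inv_cancel_right]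
      exact Subgroup.mem_sup_left hc
    · rintro _ ⟨b, hb, rfl⟩
      show a * (b * x * b⁻¹ * x⁻¹) * a⁻¹ ∈ star A x
      rw [show a * (b * x * b⁻¹ * x⁻¹) * a⁻¹ = ⁅a, b * x * b⁻¹ * x⁻¹⁆ * (b * x * b⁻¹ * x⁻¹) by
        simp [commutatorElement_def, mul_assoc]]
      exact mul_mem (Subgroup.mem_sup_left (h.e_mem ha hb))
        (Subgroup.mem_sup_right (Subgroup.subset_closure ⟨b, hb, rfl⟩))
  exact hle hz

theorem mem_normalizer_star [Finite G] (h : Setup p B A x) :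
    x ∈ Subgroup.normalizer (star A x : Set G) := by
  rw [Subgroup.mem_normalizer_iff_map_conj_eq]
  refine Subgroup.eq_of_le_of_card_ge ?_ (Subgroup.card_map_of_injective (MulAut.conj x).injective).ge
  rw [Subgroup.map_le_iff_le_comap]
  refine sup_le (fun c hc => ?_) ((Subgroup.closure_le _).mpr ?_)
  · show x * c * x⁻¹ ∈ star A x
    rw [show x * c * x⁻¹ = (c * x * c⁻¹ * x⁻¹)⁻¹ * c by group]
    exact mul_mem (inv_mem (Subgroup.mem_sup_right (Subgroup.subset_closure ⟨c, hc.1, rfl⟩)))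
      (Subgroup.mem_sup_left hc)
  · rintro _ ⟨b, hb, rfl⟩
    show x * (b * x * b⁻¹ * x⁻¹) * x⁻¹ ∈ star A x
    rw [show x * (b * x * b⁻¹ * x⁻¹) * x⁻¹ = ⁅x, b * x * b⁻¹ * x⁻¹⁆ * (b * x * b⁻¹ * x⁻¹) by
      simp [commutatorElement_def, mul_assoc]]
    exact mul_mem (h.derived_le_star (Subgroup.commutator_mem_commutator h.mem (h.w_mem hb)))
      (Subgroup.mem_sup_right (Subgroup.subset_closure ⟨b, hb, rfl⟩))

theorem normalizer_le_normalizer_star [Finite G] (h : Setup p B A x)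
    (hxN : x ∈ Subgroup.normalizer (Subgroup.normalizer (A : Set G) : Set G)) :
    Subgroup.normalizer (A : Set G) ≤ Subgroup.normalizer (star A x : Set G) := by
  intro n hn'
  rw [Subgroup.mem_normalizer_iff_map_conj_eq]
  refine Subgroup.eq_of_le_of_card_ge ?_ (Subgroup.card_map_of_injective (MulAut.conj n).injective).ge
  have hconjA : ∀ a ∈ A, n * a * n⁻¹ ∈ A := fun a ha => (Subgroup.mem_normalizer_iff.mp hn' a).mp ha
  have hn2 : x⁻¹ * n * x ∈ Subgroup.normalizer (A : Set G) :=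
    (Subgroup.mem_normalizer_iff''.mp hxN n).mp hn'
  rw [Subgroup.map_le_iff_le_comap]
  refine sup_le (fun c hc => Subgroup.mem_sup_left ⟨hconjA c hc.1, ?_⟩) ((Subgroup.closure_le _).mpr ?_)
  · show n * c * n⁻¹ ∈ A.map (MulAut.conj x).toMonoidHom
    rw [mem_map_conj_iff]
    have h1 := (Subgroup.mem_normalizer_iff.mp hn2 _).mp ((mem_map_conj_iff A x c).mp hc.2)
    simpa [mul_assoc] using h1
  · rintro _ ⟨b, hb, rfl⟩
    show n * (b * x * b⁻¹ * x⁻¹) * n⁻¹ ∈ star A x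
    set b' := n * b * n⁻¹ with hb'
    set d := ⁅n, x⁆ with hd
    have hdB : d ∈ B := by rw [hd, commutatorElement_def]; exact mul_mem (hn.conj_mem x h.mem n) (inv_mem h.mem)
    have hdN : d ∈ Subgroup.normalizer (A : Set G) := by
      rw [hd, show ⁅n, x⁆ = n * (x * n⁻¹ * x⁻¹) by simp [commutatorElement_def, mul_assoc]]
      exact mul_mem hn' ((Subgroup.mem_normalizer_iff.mp hxN _).mp (inv_mem hn'))
    have hb'A : b' ∈ A := hconjA b hb
    have e : n * (b * x * b⁻¹ * x⁻¹) * n⁻¹ =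
        ⁅b', d⁆ * (⁅d, b' * x * b'⁻¹ * x⁻¹⁆ * (b' * x * b'⁻¹ * x⁻¹)) := by
      simp [hd, hb', commutatorElement_def, mul_assoc]
    rw [e]
    have h1 : ⁅b', d⁆ ∈ A ⊓ B := by
      refine Subgroup.mem_inf.mpr ⟨?_, ?_⟩
      · rw [show ⁅b', d⁆ = b' * (d * b'⁻¹ * d⁻¹) by simp [commutatorElement_def, mul_assoc]]
        exact mul_mem hb'A ((Subgroup.mem_normalizer_iff.mp hdN _).mp (inv_mem hb'A))
      · rw [commutatorElement_def]; exact mul_mem (hn.conj_mem d hdB b') (inv_mem hdB)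
    exact mul_mem (Subgroup.mem_sup_left (h.inf_B_le h1))
      (mul_mem (h.derived_le_star (Subgroup.commutator_mem_commutator hdB (h.w_mem hb'A)))
        (Subgroup.mem_sup_right (Subgroup.subset_closure ⟨b', hb'A, rfl⟩)))

/-- For odd `p` the exponent does not grow. -/
theorem star_pow (h : Setup p B A x) {m : ℕ} (hm : Odd m) (hA : ∀ a ∈ A, a ^ m = 1) :
    ∀ z ∈ star A x, z ^ m = 1 := by
  haveI := h.star_comm
  have hw : ∀ a ∈ A, (a * x * a⁻¹ * x⁻¹) ^ m = 1 := by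
    intro a ha
    rw [w_eq]
    set v := (x * a * x⁻¹)⁻¹ with hv
    have hvA2 : v ∈ A.map (MulAut.conj x).toMonoidHom := inv_mem ⟨a, ha, by simp⟩
    set z := ⁅v, a⁆ with hz
    have hz1 : z ∈ A := by
      have h1 : v * a * v⁻¹ ∈ A := (Subgroup.mem_normalizer_iff.mp (h.conj_le_normalizer hvA2) a).mp ha
      exact mul_mem h1 (inv_mem ha)
    have hz2 : z ∈ A.map (MulAut.conj x).toMonoidHom := by
      have h1 := (Subgroup.mem_normalizer_iff.mp (h.le_normalizer_conj ha) _).mp (inv_mem hvA2)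
      simpa [hz, commutatorElement_def, mul_assoc] using mul_mem hvA2 h1
    have h' := CfsgLib.OddOrder.OmegaLemma.mul_pow_central (u := a) (v := v) (z := z)
      (by simp only [hz, commutatorElement_def]; group) (h.commA2 hz2 hvA2) (h.commA hz1 ha) m
    rw [h', hA a ha]
    have hvm : v ^ m = 1 := by rw [hv, inv_pow, conj_pow, hA a ha]; group
    obtain ⟨c, hc⟩ : m ∣ m.choose 2 := by
      obtain ⟨t, rfl⟩ := hm
      exact ⟨t, by rw [Nat.choose_two_right, Nat.add_sub_cancel,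
        show (2 * t + 1) * (2 * t) = ((2 * t + 1) * t) * 2 by ring, Nat.mul_div_cancel _ two_pos]⟩
    rw [hvm, hc, _root_.pow_mul, hA z hz1]; simp
  intro z hz
  refine Subgroup.closure_induction (p := fun z _ => z ^ m = 1)
    (fun u hu => ?_) (one_pow m) (fun u v hu hv ihu ihv => ?_) (fun u _ ihu => by rw [inv_pow, ihu, inv_one])
    (show z ∈ Subgroup.closure (↑(A ⊓ A.map (MulAut.conj x).toMonoidHom) ∪
      {g | ∃ a ∈ A, g = a * x * a⁻¹ * x⁻¹}) by
      rw [Subgroup.closure_union, Subgroup.closure_eq]; exact hz)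
  · rcases hu with hu | ⟨a, ha, rfl⟩
    · exact hA u hu.1
    · exact hw a ha
  · have hmem : ∀ t ∈ Subgroup.closure (↑(A ⊓ A.map (MulAut.conj x).toMonoidHom) ∪
        {g | ∃ a ∈ A, g = a * x * a⁻¹ * x⁻¹}), t ∈ star A x := fun t ht => by
      rw [Subgroup.closure_union, Subgroup.closure_eq] at ht; exact ht
    have hc : Commute u v := congrArg Subtype.val (mul_comm (⟨u, hmem u hu⟩ : star A x) ⟨v, hmem v hv⟩)
    rw [hc.mul_pow, ihu, ihv, one_mul]

end Setup

/-- If `B` does not normalise `A`, some element of `B` gives a setup. -/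
theorem exists_setup [Finite G] {p : ℕ} [Fact p.Prime] {B A : Subgroup G} [B.Normal]
    (hBA : IsPGroup p (B ⊔ A : Subgroup G)) (h2 : p = 2 → IsMulCommutative B) (hA : IsMulCommutative A)
    (hd : ⁅B, B⁆ ≤ A) (hnot : ¬ B ≤ Subgroup.normalizer (A : Set G)) :
    ∃ x, Setup p B A x := by
  set H := B ⊔ A with hH
  set M := (Subgroup.normalizer (A : Set G)).subgroupOf H with hM
  haveI : Group.IsNilpotent H := hBA.isNilpotent
  have hlt : M < ⊤ := lt_top_iff_ne_top.mpr fun h =>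
    hnot (le_sup_left.trans (Subgroup.subgroupOf_eq_top.mp h))
  obtain ⟨y, hy, hyM⟩ := SetLike.exists_of_lt (Group.normalizerCondition_of_isNilpotent M hlt)
  obtain ⟨b, hb, a, ha, hba⟩ := Subgroup.mem_sup_of_normal_left.mp y.2
  have haN : a ∈ Subgroup.normalizer (A : Set G) := Subgroup.le_normalizer ha
  have hyb : ∀ c ∈ A, (y : G) * c * (y : G)⁻¹ ∈ Subgroup.normalizer (A : Set G) ∧
      (y : G)⁻¹ * c * y ∈ Subgroup.normalizer (A : Set G) := fun c hc => by
    have hcM : (⟨c, Subgroup.mem_sup_right hc⟩ : H) ∈ M := Subgroup.le_normalizer hc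
    exact ⟨(Subgroup.mem_normalizer_iff.mp hy _).mp hcM, (Subgroup.mem_normalizer_iff''.mp hy _).mp hcM⟩
  refine ⟨b, h2, hBA.to_le le_sup_left, hA, hd, hb, fun hbN => hyM ?_, fun c hc => ?_, fun c hc => ?_⟩
  · show (y : G) ∈ Subgroup.normalizer (A : Set G)
    rw [← hba]; exact mul_mem hbN haN
  · have := (hyb (a⁻¹ * c * a) (mul_mem (mul_mem (inv_mem ha) hc) ha)).1
    rw [← hba] at this
    simpa [mul_assoc] using this
  · have := mul_mem (mul_mem haN (hyb c hc).2) (inv_mem haN)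
    rw [← hba] at this
    simpa [mul_assoc] using this

end CfsgLib.Fusion.Replacement

namespace CfsgLib.Fusion.Replacement

variable {G : Type*} [Group G]

theorem star_le_normal {A D : Subgroup G} [hD : D.Normal] (hAD : A ≤ D) (x : G) : star A x ≤ D :=
  sup_le (inf_le_left.trans hAD) ((Subgroup.closure_le _).mpr (by
    rintro _ ⟨a, ha, rfl⟩
    rw [show a * x * a⁻¹ * x⁻¹ = a * (x * a⁻¹ * x⁻¹) by group]
    exact mul_mem (hAD ha) (hD.conj_mem _ (inv_mem (hAD ha)) x)))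

/-- Among subgroups with property `P` (abelian, stable under replacement) some is normalised by `B`. -/
theorem exists_normalized [Finite G] {p : ℕ} [Fact p.Prime] (hG : IsPGroup p G) (hp : p ≠ 2)
    {B : Subgroup G} [B.Normal] (P : Subgroup G → Prop) (hab : ∀ A, P A → IsMulCommutative A)
    (hstar : ∀ A x, P A → Setup p B A x → P (star A x))
    (h0 : ∃ U, P U ∧ ⁅B, B⁆ ≤ U ∧ ¬ B ≤ U) :
    ∃ A, P A ∧ ⁅B, B⁆ ≤ A ∧ ¬ B ≤ A ∧ B ≤ Subgroup.normalizer (A : Set G) := by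
  obtain ⟨A, ⟨hA, hBA, hnle⟩, hmax⟩ := Set.exists_max_image {A | P A ∧ ⁅B, B⁆ ≤ A ∧ ¬ B ≤ A}
    (fun A => Nat.card (A ⊓ B : Subgroup G)) (Set.toFinite _) h0
  refine ⟨A, hA, hBA, hnle, ?_⟩
  by_contra hnot
  obtain ⟨x, hx⟩ := exists_setup (hG.to_subgroup _) (fun h => absurd h hp) (hab A hA) hBA hnot
  exact absurd (hmax _ ⟨hstar A x hA hx, hx.derived_le_star, hx.not_le_star⟩)
    (not_le.mpr (Set.ncard_lt_ncard (SetLike.coe_ssubset_coe.mpr hx.inf_lt)))

end CfsgLib.Fusion.Replacement
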