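/-
Glauberman's `ZJ` theorem for `p`-stable groups, uniformly for abelian subgroups of exponent dividing `m`.
-/
import Cfsg.Agent.Lib.OddOrder.ZJ
import Cfsg.Agent.Lib.Fusion.Replacement
import Cfsg.Agent.Lib.Solvable.Cores
import Cfsg.Prelude.Def_PLocal

set_option autoImplicit false
set_option linter.style.haveILetI false

open scoped commutatorElement

namespace CfsgLib.Fusion.ZJGeneral

variable {G H : Type*} [Group G] [Group H] {m : ℕ}

/-- Abelian of exponent dividing `m`. -/
def AbExp (m : ℕ) (A : Subgroup G) : Prop := IsMulCommutative A ∧ ∀ a ∈ A, a ^ m = 1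

/-- Of largest order among those inside `U`. -/
def IsMaxA (m : ℕ) (U A : Subgroup G) : Prop :=
  A ≤ U ∧ AbExp m A ∧ ∀ C : Subgroup G, C ≤ U → AbExp m C → Nat.card C ≤ Nat.card A

/-- The subgroup generated by the maximal ones. -/
def J (m : ℕ) (U : Subgroup G) : Subgroup G := sSup {A | IsMaxA m U A}

/-- The elements of exponent dividing `m` of the centre of `J m U`. -/
def Z (m : ℕ) (U : Subgroup G) : Subgroup G where
  carrier := {x | x ∈ J m U ∧ x ∈ Subgroup.centralizer (J m U : Set G) ∧ x ^ m = 1}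
  one_mem' := ⟨one_mem _, one_mem _, one_pow m⟩
  mul_mem' := fun {a b} ha hb => ⟨mul_mem ha.1 hb.1, mul_mem ha.2.1 hb.2.1, by
    rw [(show Commute a b from Subgroup.mem_centralizer_iff.mp hb.2.1 a ha.1).mul_pow, ha.2.2, hb.2.2, one_mul]⟩
  inv_mem' := fun {a} ha => ⟨inv_mem ha.1, inv_mem ha.2.1, by rw [inv_pow, ha.2.2, inv_one]⟩

theorem abExp_le {A B : Subgroup G} (hA : AbExp m A) (h : B ≤ A) : AbExp m B :=
  haveI := hA.1
  ⟨Subgroup.le_centralizer_iff_isMulCommutative.mp
    ((h.trans A.le_centralizer).trans (Subgroup.centralizer_le h)), fun a ha => hA.2 a (h ha)⟩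

theorem abExp_map (f : G →* H) {A : Subgroup G} (hA : AbExp m A) : AbExp m (A.map f) := by
  haveI := hA.1
  refine ⟨inferInstance, ?_⟩
  rintro _ ⟨a, ha, rfl⟩
  rw [← map_pow, hA.2 a ha, map_one]

theorem isMaxA_map (e : G ≃* H) {U A : Subgroup G} (hA : IsMaxA m U A) :
    IsMaxA m (U.map e.toMonoidHom) (A.map e.toMonoidHom) := by
  refine ⟨Subgroup.map_mono hA.1, abExp_map _ hA.2.1, fun C hC hC' => ?_⟩
  have h1 := hA.2.2 (C.map e.symm.toMonoidHom) (by
    rintro _ ⟨c, hc, rfl⟩
    obtain ⟨u, hu, rfl⟩ := hC hc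
    show e.symm (e u) ∈ U
    rwa [e.symm_apply_apply]) (abExp_map _ hC')
  rw [Subgroup.card_map_of_injective e.symm.injective] at h1
  rwa [Subgroup.card_map_of_injective e.injective]

theorem map_symm_map (e : G ≃* H) (U : Subgroup G) : (U.map e.toMonoidHom).map e.symm.toMonoidHom = U := by
  ext x; simp [Subgroup.mem_map]

theorem J_map (e : G ≃* H) (U : Subgroup G) : J m (U.map e.toMonoidHom) = (J m U).map e.toMonoidHom := by
  refine le_antisymm (sSup_le fun A hA => ?_) (Subgroup.map_le_iff_le_comap.mpr (sSup_le fun A hA => ?_))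
  · have h := isMaxA_map e.symm hA
    rw [map_symm_map] at h
    intro x hx
    exact ⟨e.symm x, le_sSup (a := A.map e.symm.toMonoidHom) (s := {A | IsMaxA m U A}) h
      (Subgroup.mem_map_of_mem _ hx), e.apply_symm_apply x⟩
  · exact Subgroup.map_le_iff_le_comap.mp (le_sSup (s := {A | IsMaxA m (U.map e.toMonoidHom) A})
      (isMaxA_map e hA))

theorem Z_map (e : G ≃* H) (U : Subgroup G) : Z m (U.map e.toMonoidHom) = (Z m U).map e.toMonoidHom := by
  ext x
  constructor
  · rintro ⟨h1, h2, h3⟩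
    rw [J_map] at h1 h2
    obtain ⟨y, hy, rfl⟩ := h1
    refine ⟨y, ⟨hy, Subgroup.mem_centralizer_iff.mpr fun j hj => e.injective ?_, e.injective ?_⟩, rfl⟩
    · simpa using Subgroup.mem_centralizer_iff.mp h2 _ (Subgroup.mem_map_of_mem e.toMonoidHom hj)
    · simpa using h3
  · rintro ⟨y, ⟨h1, h2, h3⟩, rfl⟩
    refine ⟨by rw [J_map]; exact Subgroup.mem_map_of_mem _ h1, ?_, by rw [← map_pow, h3, map_one]⟩
    rw [J_map, Subgroup.mem_centralizer_iff]
    rintro _ ⟨j, hj, rfl⟩
    rw [← map_mul, ← map_mul, Subgroup.mem_centralizer_iff.mp h2 j hj]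

theorem normalizer_le_normalizer_Z (U : Subgroup G) :
    Subgroup.normalizer (U : Set G) ≤ Subgroup.normalizer (Z m U : Set G) := by
  intro g hg
  rw [Subgroup.mem_normalizer_iff_map_conj_eq] at hg ⊢
  exact (Z_map (MulAut.conj g) U).symm.trans (congrArg (Z m) hg)

variable [Finite G]

theorem exists_isMaxA (U : Subgroup G) : ∃ A, IsMaxA m U A := by
  obtain ⟨A, ⟨h1, h2⟩, hmax⟩ := Set.exists_max_image {A : Subgroup G | A ≤ U ∧ AbExp m A}
    (fun A : Subgroup G => Nat.card A) (Set.toFinite _)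
    ⟨⊥, bot_le, inferInstance, fun a ha => by rw [Subgroup.mem_bot] at ha; rw [ha, one_pow]⟩
  exact ⟨A, h1, h2, fun C hC hC' => hmax C ⟨hC, hC'⟩⟩

theorem J_le (U : Subgroup G) : J m U ≤ U := sSup_le fun _ hA => hA.1

theorem Z_le (U : Subgroup G) : Z m U ≤ U := fun _ hx => J_le U hx.1

theorem le_J {U A : Subgroup G} (hA : IsMaxA m U A) : A ≤ J m U := le_sSup (s := {B | IsMaxA m U B}) hA

/-- An element of exponent dividing `m` centralising a maximal one lies in it. -/
theorem mem_of_commute {U A : Subgroup G} (hA : IsMaxA m U A) {x : G} (hxU : x ∈ U) (hxm : x ^ m = 1)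
    (hx : ∀ a ∈ A, a * x = x * a) : x ∈ A := by
  have hab : IsMulCommutative (A ⊔ Subgroup.zpowers x : Subgroup G) := by
    rw [← Subgroup.closure_eq A, Subgroup.zpowers_eq_closure, ← Subgroup.closure_union]
    refine Subgroup.isMulCommutative_closure ?_
    rintro a (ha | rfl) b (hb | rfl)
    · exact congrArg Subtype.val (hA.2.1.1.is_comm.comm ⟨a, ha⟩ ⟨b, hb⟩)
    · exact hx a ha
    · exact (hx b hb).symm
    · rfl
  have hle : A ≤ Subgroup.normalizer (Subgroup.zpowers x : Set G) := by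
    refine le_trans ?_ (Subgroup.centralizer_le_normalizer _)
    rw [Subgroup.le_centralizer_iff, Subgroup.zpowers_le, Subgroup.mem_centralizer_iff]
    exact hx
  have hexp : ∀ c ∈ A ⊔ Subgroup.zpowers x, c ^ m = 1 := by
    intro c hc
    rw [← SetLike.mem_coe, Subgroup.coe_mul_of_left_le_normalizer_right A _ hle] at hc
    obtain ⟨a, ha, y, hy, rfl⟩ := Set.mem_mul.mp hc
    obtain ⟨i, rfl⟩ := Subgroup.mem_zpowers_iff.mp hy
    rw [((show Commute a x from hx a ha).zpow_right i).mul_pow, hA.2.1.2 a ha, one_mul, ← zpow_natCast,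
      ← zpow_mul, mul_comm, zpow_mul, zpow_natCast, hxm, one_zpow]
  have := hA.2.2 _ (sup_le hA.1 (Subgroup.zpowers_le.mpr hxU)) ⟨hab, hexp⟩
  rw [Subgroup.eq_of_le_of_card_ge le_sup_left this]
  exact Subgroup.mem_sup_right (Subgroup.mem_zpowers x)

theorem Z_le_max {U A : Subgroup G} (hA : IsMaxA m U A) : Z m U ≤ A := fun x hx =>
  mem_of_commute hA (Z_le U hx) hx.2.2 fun a ha => Subgroup.mem_centralizer_iff.mp hx.2.1 a (le_J hA ha)

theorem J_eq_of_le {S U : Subgroup G} (hUS : U ≤ S) (h : J m S ≤ U) : J m U = J m S := by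
  obtain ⟨A0, h0⟩ := exists_isMaxA (m := m) S
  refine congrArg sSup (Set.ext fun A => ⟨fun hA => ⟨hA.1.trans hUS, hA.2.1, fun C hC hC' =>
    (h0.2.2 C hC hC').trans (hA.2.2 A0 ((le_J h0).trans h) h0.2.1)⟩, fun hA => ⟨(le_J hA).trans h, hA.2.1,
    fun C hC hC' => hA.2.2 C (hC.trans hUS) hC'⟩⟩)

theorem Z_eq_of_le {S U : Subgroup G} (hUS : U ≤ S) (h : J m S ≤ U) : Z m U = Z m S := by
  ext x
  show x ∈ J m U ∧ x ∈ Subgroup.centralizer (J m U : Set G) ∧ x ^ m = 1 ↔
    x ∈ J m S ∧ x ∈ Subgroup.centralizer (J m S : Set G) ∧ x ^ m = 1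
  rw [J_eq_of_le hUS h]

variable {p : ℕ} [Fact p.Prime]

omit [Fact p.Prime] in
theorem quadratic_mono {B A : Subgroup G} (h : ⁅⁅B, A⁆, A⁆ = ⊥) {a : G} (ha : a ∈ A) :
    ⁅⁅B, Subgroup.zpowers a⁆, Subgroup.zpowers a⁆ = ⊥ := by
  have hle : Subgroup.zpowers a ≤ A := Subgroup.zpowers_le.mpr ha
  exact le_bot_iff.mp (le_trans (Subgroup.commutator_mono (Subgroup.commutator_mono le_rfl hle) hle) h.le)

theorem le_normalCore (B : Subgroup G) [B.Normal] (hst : Cfsg.IsPStableOn p B)
    (X : Subgroup G) (hXB : X ≤ B) (S : Sylow p G) (hSX : (S : Subgroup G) ≤ Subgroup.normalizer (X : Set G))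
    (A : Subgroup G) [IsMulCommutative A] (hA : B ≤ Subgroup.normalizer (A : Set G)) :
    A ≤ (Subgroup.normalizer (X : Set G)).normalCore := by
  set C := Subgroup.centralizer (B : Set G) with hC
  haveI hCn : C.Normal := inferInstance
  set D := (Cfsg.pCore p (G ⧸ C)).comap (QuotientGroup.mk' C) with hD
  haveI hDn : D.Normal := (inferInstance : (Cfsg.pCore p (G ⧸ C)).Normal).comap _
  have hCD : C ≤ D := fun c hc => by
    rw [hD, Subgroup.mem_comap, QuotientGroup.mk'_apply, (QuotientGroup.eq_one_iff c).mpr hc]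
    exact one_mem _
  have hCX : C ≤ Subgroup.normalizer (X : Set G) :=
    (Subgroup.centralizer_le (SetLike.coe_subset_coe.mpr hXB)).trans (Subgroup.centralizer_le_normalizer _)
  have hDX : D ≤ Subgroup.normalizer (X : Set G) := by
    refine CfsgLib.OddOrder.ZJ.le_of_isPGroup_map hCD ?_ S hCX (inf_le_left.trans hSX)
    rw [hD, Subgroup.map_comap_eq_self_of_surjective (QuotientGroup.mk'_surjective C)]
    exact Solvable.Cores.isPGroup_pCore p
  refine le_trans (fun a ha => ?_) (Subgroup.normal_le_normalCore.mpr hDX)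
  exact hst a (quadratic_mono (CfsgLib.OddOrder.PStable.commutator_commutator_of_abelian hA) ha)

/-- `B ∩ Z m S` is normal for every normal `p`-subgroup `B`. -/
theorem inter_normal (hp : p ≠ 2) (hm : Odd m) (hst : ∀ (P : Subgroup G) [P.Normal], IsPGroup p P → Cfsg.IsPStableOn p P)
    (S : Sylow p G) (B : Subgroup G) (hBn : B.Normal) (hB : IsPGroup p B) :
    (B ⊓ Z m (S : Subgroup G)).Normal := by
  induction hk : Nat.card B using Nat.strong_induction_on generalizing B with
  | _ k ih =>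
  subst hk
  set Zs := Z m (S : Subgroup G) with hZdef
  set X := B ⊓ Zs with hX
  haveI := hBn
  rcases eq_or_ne B ⊥ with hbot | hbot
  · rw [hX, hbot, bot_inf_eq]; infer_instance
  rcases (Subgroup.normalClosure_le_normal (N := B) (s := (X : Set G))
      fun x hx => hx.1).lt_or_eq with hlt | hgen
  · have h := ih _ (Set.ncard_lt_ncard (SetLike.coe_ssubset_coe.mpr hlt)) _
      inferInstance (hB.to_le hlt.le) rfl
    have e : Subgroup.normalClosure (X : Set G) ⊓ Zs = X := le_antisymm (inf_le_inf_right _ hlt.le)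
      (le_inf Subgroup.le_normalClosure inf_le_right)
    rwa [e] at h
  have hBS : B ≤ (S : Subgroup G) := hB.le_sylow_of_normal S
  have hSZ : (S : Subgroup G) ≤ Subgroup.normalizer (Zs : Set G) :=
    Subgroup.le_normalizer.trans (normalizer_le_normalizer_Z _)
  have hSX : (S : Subgroup G) ≤ Subgroup.normalizer (X : Set G) := by
    refine le_trans ?_ (Subgroup.inf_normalizer_le_normalizer_inf (H := B) (K := Zs))
    exact le_inf (by rw [Subgroup.normalizer_eq_top]; exact le_top) hSZ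
  set K := ⁅B, B⁆ with hK
  have hKlt : K < B := by
    haveI : Group.IsSolvable B := by haveI := hB.isNilpotent; infer_instance
    haveI : Nontrivial B := (Subgroup.nontrivial_iff_ne_bot B).mpr hbot
    have h1 := Group.IsSolvable.commutator_lt_top_of_nontrivial B
    rw [hK, ← Subgroup.map_subtype_commutator B]
    conv_rhs => rw [← Subgroup.range_subtype B, MonoidHom.range_eq_map]
    exact (Subgroup.map_lt_map_iff_of_injective B.subtype_injective).mpr h1
  haveI hNn : (K ⊓ Zs).Normal :=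
    ih _ (Set.ncard_lt_ncard (SetLike.coe_ssubset_coe.mpr hKlt)) K inferInstance (hB.to_le hKlt.le) rfl
  have hBN : ⁅B, B⁆ ≤ Zs := by
    set q := QuotientGroup.mk' (K ⊓ Zs) with hq
    set R := Subgroup.centralizer ((B.map q : Subgroup _) : Set (G ⧸ (K ⊓ Zs))) with hR
    haveI hBq : (B.map q).Normal := hBn.map q (QuotientGroup.mk'_surjective _)
    haveI hRn : R.Normal := inferInstance
    haveI : (R.comap q).Normal := hRn.comap q
    have hXR : (X : Set G) ⊆ (R.comap q : Subgroup G) := by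
      intro x hx
      rw [SetLike.mem_coe, Subgroup.mem_comap, hR, Subgroup.mem_centralizer_iff]
      rintro _ ⟨b, hb, rfl⟩
      have h1 : ⁅b, x⁆ ∈ K ⊓ Zs := by
        refine ⟨Subgroup.commutator_mem_commutator hb hx.1, ?_⟩
        exact Subgroup.le_normalizer_iff_commutator_le_right.mp (hBS.trans hSZ)
          (Subgroup.commutator_mem_commutator hb hx.2)
      have h2 : q ⁅b, x⁆ = 1 := (QuotientGroup.eq_one_iff _).mpr h1
      rw [map_commutatorElement] at h2
      exact commutatorElement_eq_one_iff_mul_comm.mp h2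
    have hBR : B ≤ R.comap q := hgen.ge.trans (Subgroup.normalClosure_le_normal hXR)
    rw [Subgroup.commutator_le]
    intro u hu v hv
    refine (Subgroup.mem_inf.mp ((QuotientGroup.eq_one_iff (N := K ⊓ Zs) ⁅u, v⁆).mp ?_)).2
    show q ⁅u, v⁆ = 1
    rw [map_commutatorElement]
    exact commutatorElement_eq_one_iff_mul_comm.mpr
      (Subgroup.mem_centralizer_iff.mp (hBR hv) _ ⟨u, hu, rfl⟩)
  set L := (Subgroup.normalizer (X : Set G)).normalCore with hL
  haveI hLn : L.Normal := Subgroup.normalCore_normal _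
  have hLX : L ≤ Subgroup.normalizer (X : Set G) := Subgroup.normalCore_le _
  obtain ⟨Q, hQ⟩ := CfsgLib.OddOrder.Puig.exists_sylow_inf L S
  have hFr := Sylow.normalizer_sup_eq_top (N := L) Q
  rw [hQ] at hFr
  set U := (S : Subgroup G) ⊓ L with hU
  by_cases hall : ∀ A, IsMaxA m (S : Subgroup G) A → A ≤ L
  · refine Subgroup.normalizer_eq_top_iff.mp (eq_top_iff.mpr (hFr.ge.trans (sup_le ?_ hLX)))
    have hJU : J m (S : Subgroup G) ≤ U := sSup_le fun A hA => le_inf hA.1 (hall A hA)
    have h1 : Subgroup.normalizer (U : Set G) ≤ Subgroup.normalizer (Zs : Set G) :=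
      (normalizer_le_normalizer_Z (m := m) U).trans (le_of_eq (by rw [Z_eq_of_le inf_le_left hJU]))
    refine le_trans ?_ (Subgroup.inf_normalizer_le_normalizer_inf (H := B) (K := Zs))
    exact le_inf (le_top.trans (le_of_eq (Subgroup.normalizer_eq_top (H := B)).symm)) h1
  · exfalso
    push Not at hall
    obtain ⟨A, ⟨hA, hAL⟩, hAmax⟩ := Set.exists_max_image
      {A : Subgroup G | IsMaxA m (S : Subgroup G) A ∧ ¬ A ≤ L}
      (fun A => Nat.card (A ⊓ B : Subgroup G)) (Set.toFinite _) hall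
    haveI := hA.2.1.1
    by_cases hBA : B ≤ Subgroup.normalizer (A : Set G)
    · exact hAL (le_normalCore B (hst B hB) X inf_le_left S hSX A hBA)
    obtain ⟨x, hx⟩ := Replacement.exists_setup (S.isPGroup'.to_le (sup_le hBS hA.1))
      (fun h => absurd h hp) hA.2.1.1 (hBN.trans (Z_le_max hA)) hBA
    have hA' : IsMaxA m (S : Subgroup G) (Replacement.star A x) :=
      ⟨hx.star_le_sup.trans (sup_le hBS hA.1), ⟨hx.star_comm, hx.star_pow hm hA.2.1.2⟩,
        fun C hC hC' => (hA.2.2 C hC hC').trans hx.card_star.ge⟩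
    have hA'L : Replacement.star A x ≤ L := by
      by_contra h
      exact absurd (hAmax _ ⟨hA', h⟩) (not_le.mpr (Set.ncard_lt_ncard (SetLike.coe_ssubset_coe.mpr hx.inf_lt)))
    have hA'U : Replacement.star A x ≤ U := le_inf hA'.1 hA'L
    have hYJ : J m U ≤ J m (S : Subgroup G) := sSup_le fun C hC => le_J
      ⟨hC.1.trans inf_le_left, hC.2.1, fun D hD hD' => (hA'.2.2 D hD hD').trans (hC.2.2 _ hA'U hA'.2.1)⟩
    have hA'Y : Replacement.star A x ≤ J m U := le_J
      ⟨hA'U, hA'.2.1, fun C hC hC' => hA'.2.2 C (hC.trans inf_le_left) hC'⟩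
    refine hBA (hgen.ge.trans ?_)
    rw [Subgroup.normalClosure, Subgroup.closure_le]
    intro c hc
    obtain ⟨z, hz, hconj⟩ := Group.mem_conjugatesOfSet_iff.mp hc
    obtain ⟨g, rfl⟩ := isConj_iff.mp hconj
    have hcB : g * z * g⁻¹ ∈ B := hBn.conj_mem z (Subgroup.mem_inf.mp hz).1 g
    refine hx.star_le_normalizer (mem_of_commute hA' (hBS hcB)
      (by rw [conj_pow, (Subgroup.mem_inf.mp hz).2.2.2]; simp) fun a ha => ?_)
    have hg : g ∈ ((Subgroup.normalizer (U : Set G) ⊔ L : Subgroup G) : Set G) := by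
      rw [hFr]; exact Subgroup.mem_top g
    rw [Subgroup.mul_normal] at hg
    obtain ⟨n, hn, l, hl, rfl⟩ := Set.mem_mul.mp hg
    have h1 : l * z * l⁻¹ ∈ X := (Subgroup.mem_normalizer_iff.mp (hLX hl) z).mp hz
    have hnY : n ∈ Subgroup.normalizer (J m U : Set G) := by
      have hn' : n ∈ Subgroup.normalizer (U : Set G) := hn
      rw [Subgroup.mem_normalizer_iff_map_conj_eq] at hn' ⊢
      exact (J_map (MulAut.conj n) U).symm.trans (congrArg (J m) hn')
    have hy' : n⁻¹ * a * n ∈ J m (S : Subgroup G) :=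
      hYJ ((Subgroup.mem_normalizer_iff''.mp hnY a).mp (hA'Y ha))
    calc a * (n * l * z * (n * l)⁻¹) = n * ((n⁻¹ * a * n) * (l * z * l⁻¹)) * n⁻¹ := by group
      _ = n * ((l * z * l⁻¹) * (n⁻¹ * a * n)) * n⁻¹ := by
            rw [Subgroup.mem_centralizer_iff.mp (Subgroup.mem_inf.mp h1).2.2.1 _ hy']
      _ = _ := by group

/-- `Z m S` is characteristic. -/
theorem Z_characteristic (hp : p ≠ 2) (hm : Odd m)
    (hc : Subgroup.centralizer (Cfsg.pCore p G : Set G) ≤ Cfsg.pCore p G)
    (hst : ∀ (P : Subgroup G) [P.Normal], IsPGroup p P → Cfsg.IsPStableOn p P) (S : Sylow p G) :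
    (Z m (S : Subgroup G)).Characteristic := by
  have hOp : IsPGroup p (Cfsg.pCore p G) := Solvable.Cores.isPGroup_pCore p
  haveI : IsMulCommutative (Z m (S : Subgroup G)) := IsMulCommutative.of_comm fun a b =>
    Subtype.ext (Subgroup.mem_centralizer_iff.mp b.2.2.1 a a.2.1)
  have hSZ : (S : Subgroup G) ≤ Subgroup.normalizer (Z m (S : Subgroup G) : Set G) :=
    Subgroup.le_normalizer.trans (normalizer_le_normalizer_Z _)
  have hle : Z m (S : Subgroup G) ≤ Cfsg.pCore p G := by
    set C := Subgroup.centralizer (Cfsg.pCore p G : Set G) with hC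
    set D := (Cfsg.pCore p (G ⧸ C)).comap (QuotientGroup.mk' C) with hD
    haveI hDn : D.Normal := (inferInstance : (Cfsg.pCore p (G ⧸ C)).Normal).comap _
    have hDp : IsPGroup p D := (Solvable.Cores.isPGroup_pCore p).comap_of_ker_isPGroup _
      (by rw [QuotientGroup.ker_mk']; exact hOp.to_le hc)
    refine le_trans (fun a ha => ?_) (Solvable.Cores.le_pCore hDp)
    exact hst (Cfsg.pCore p G) hOp a (quadratic_mono
      (CfsgLib.OddOrder.PStable.commutator_commutator_of_abelian ((hOp.le_sylow_of_normal S).trans hSZ)) ha)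
  have hn : (Z m (S : Subgroup G)).Normal := by
    have := inter_normal hp hm hst S (Cfsg.pCore p G) inferInstance hOp
    rwa [inf_eq_right.mpr hle] at this
  refine Subgroup.characteristic_iff_map_eq.mpr fun φ => ?_
  obtain ⟨g, hg⟩ := MulAction.exists_smul_eq G S (S.mapSurjective (f := φ.toMonoidHom) φ.surjective)
  rw [← Z_map φ]
  have e : (S : Subgroup G).map φ.toMonoidHom = (S : Subgroup G).map (MulAut.conj g).toMonoidHom := by
    have h1 := congrArg (fun P : Sylow p G => (P : Subgroup G)) hg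
    exact h1.symm
  rw [e, Z_map (MulAut.conj g)]
  haveI := hn
  exact Subgroup.Normal.map_conj_eq _ g

end CfsgLib.Fusion.ZJGeneral
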