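/-
`Z m U` against the prelude's Thompson subgroups.
-/
import Cfsg.Agent.Lib.Fusion.ZJGeneral

set_option autoImplicit false
set_option linter.style.haveILetI false

namespace CfsgLib.Fusion.ZJBridge

open CfsgLib.Fusion.ZJGeneral

variable {G : Type*} [Group G] [Finite G] {p m : ℕ}

theorem thompsonOf_eq_J (U : Subgroup G) : Cfsg.thompsonSubgroupOf p U = J p U :=
  CfsgLib.OddOrder.ZJ.thompsonOf_eq U

theorem thompsonAOf_eq_J {U : Subgroup G} (hU : ∀ u ∈ U, u ^ m = 1) : Cfsg.thompsonSubgroupAOf U = J m U := by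
  refine le_antisymm (Subgroup.map_le_iff_le_comap.mpr (sSup_le fun A hA => ?_)) (sSup_le fun A hA => ?_)
  · refine Subgroup.map_le_iff_le_comap.mp (le_J ⟨Subgroup.map_subtype_le A, ⟨?_, fun a ha => hU a (Subgroup.map_subtype_le A ha)⟩, fun C hC hC' => ?_⟩)
    · haveI := hA.1
      infer_instance
    · rw [Subgroup.card_map_of_injective U.subtype_injective,
        ← Nat.card_congr (Subgroup.subgroupOfEquivOfLe hC).toEquiv]
      haveI := hC'.1
      exact hA.2 (C.subgroupOf U) inferInstance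
  · intro x hx
    refine ⟨⟨x, hA.1 hx⟩, le_sSup (s := Cfsg.maxAbelianSubgroups U) (a := A.subgroupOf U)
      ⟨by haveI := hA.2.1.1; infer_instance, fun B hB => ?_⟩ hx, rfl⟩
    rw [Nat.card_congr (Subgroup.subgroupOfEquivOfLe hA.1).toEquiv,
      ← Subgroup.card_map_of_injective (f := U.subtype) (K := B) U.subtype_injective]
    haveI := hB
    exact hA.2.2 _ (Subgroup.map_subtype_le B) ⟨inferInstance, fun b hb => hU b (Subgroup.map_subtype_le B hb)⟩

theorem centerThompsonAOf_eq_Z {U : Subgroup G} (hU : ∀ u ∈ U, u ^ m = 1) :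
    Cfsg.centerThompsonAOf U = Z m U := by
  rw [Cfsg.centerThompsonAOf, thompsonAOf_eq_J hU]
  exact le_antisymm (fun x hx => ⟨hx.1, hx.2, hU x (J_le U hx.1)⟩) fun x hx => ⟨hx.1, hx.2.1⟩

theorem omegaCenterThompson_eq_Z (U : Subgroup G) :
    (Cfsg.omegaCenterThompson p U).map U.subtype = Z p U := by
  refine le_antisymm ?_ fun x hx => ?_
  · rw [Cfsg.omegaCenterThompson, Cfsg.omegaOne, MonoidHom.map_closure, Subgroup.closure_le]
    rintro _ ⟨u, ⟨⟨hu, huc⟩, hup⟩, rfl⟩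
    refine ⟨thompsonOf_eq_J (p := p) U ▸ (Subgroup.mem_map_of_mem U.subtype hu : _ ∈ Cfsg.thompsonSubgroupOf p U),
      ?_, by rw [← map_pow, hup, map_one]⟩
    rw [← thompsonOf_eq_J, Subgroup.mem_centralizer_iff]
    rintro _ ⟨v, hv, rfl⟩
    rw [← map_mul, ← map_mul, Subgroup.mem_centralizer_iff.mp huc v hv]
  · obtain ⟨h1, h2, h3⟩ := hx
    rw [← thompsonOf_eq_J] at h1 h2
    obtain ⟨u, hu, rfl⟩ := h1
    refine ⟨u, Subgroup.subset_closure ⟨⟨hu, Subgroup.mem_centralizer_iff.mpr fun v hv => ?_⟩,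
      Subtype.ext h3⟩, rfl⟩
    exact Subtype.ext (Subgroup.mem_centralizer_iff.mp h2 _ (Subgroup.mem_map_of_mem U.subtype hv))

theorem Z_le_centerThompsonOf (U : Subgroup G) : Z p U ≤ Cfsg.centerThompsonOf p U := fun x hx => by
  refine ⟨thompsonOf_eq_J (p := p) U ▸ hx.1, ?_⟩
  rw [thompsonOf_eq_J]; exact hx.2.1

/-- A common exponent for a Sylow subgroup: its order, which is odd for odd `p`. -/
theorem sylow_pow_card [Fact p.Prime] (S : Sylow p G) :
    ∀ u ∈ (S : Subgroup G), u ^ Nat.card (S : Subgroup G) = 1 := fun u hu =>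
  congrArg Subtype.val (pow_card_eq_one' (x := (⟨u, hu⟩ : (S : Subgroup G))))

theorem odd_card_sylow [Fact p.Prime] (hp : p ≠ 2) (S : Sylow p G) : Odd (Nat.card (S : Subgroup G)) := by
  obtain ⟨k, hk⟩ := IsPGroup.iff_card.mp S.isPGroup'
  rw [hk]
  exact ((Fact.out : p.Prime).odd_of_ne_two hp).pow

end CfsgLib.Fusion.ZJBridge
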