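/-
The `ZJ` theorem for `p`-constrained `p`-stable groups.
-/
import Cfsg.Agent.Lib.Fusion.ZJBridge
import Cfsg.Agent.Lib.Fusion.Quotient
import Cfsg.Agent.Lib.Components.Constrained
import Cfsg.Agent.Lib.PGroup.CountPElements

set_option autoImplicit false
set_option linter.style.haveILetI false

open scoped commutatorElement

namespace CfsgLib.Fusion.ZJConstrained

open CfsgLib.Fusion.ZJGeneral

variable {G H : Type*} [Group G] [Group H] {m : ℕ}

/-! ### Transport along injective homomorphisms -/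

theorem isMaxA_map_inj (f : G →* H) (hf : Function.Injective f) {U A : Subgroup G} (hA : IsMaxA m U A) :
    IsMaxA m (U.map f) (A.map f) := by
  refine ⟨Subgroup.map_mono hA.1, abExp_map _ hA.2.1, fun C hC hC' => ?_⟩
  have hCr : C ≤ f.range := hC.trans (Subgroup.map_le_range f U)
  have hCeq : (C.comap f).map f = C := Subgroup.map_comap_eq_self hCr
  haveI := hC'.1
  have h1 := hA.2.2 (C.comap f) (by
    intro x hx
    obtain ⟨u, hu, hux⟩ := hC hx
    exact hf hux ▸ hu) ⟨IsMulCommutative.of_comm fun a b => Subtype.ext (hf (by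
      simpa using congrArg Subtype.val
        (hC'.1.is_comm.comm (⟨f a, a.2⟩ : C) ⟨f b, b.2⟩))), fun a ha => hf (by rw [map_pow, map_one]; exact hC'.2 _ ha)⟩
  rw [← hCeq, Subgroup.card_map_of_injective hf, Subgroup.card_map_of_injective hf]
  exact h1

theorem J_map_inj [Finite G] (f : G →* H) (hf : Function.Injective f) (U : Subgroup G) :
    J m (U.map f) = (J m U).map f := by
  refine le_antisymm (sSup_le fun A hA => ?_) (Subgroup.map_le_iff_le_comap.mpr (sSup_le fun A hA =>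
    Subgroup.map_le_iff_le_comap.mp (le_sSup (s := {A | IsMaxA m (U.map f) A}) (isMaxA_map_inj f hf hA))))
  have hAr : A ≤ f.range := hA.1.trans (Subgroup.map_le_range f U)
  have hAeq : (A.comap f).map f = A := Subgroup.map_comap_eq_self hAr
  have h : IsMaxA m U (A.comap f) := by
    refine ⟨fun x hx => ?_, ⟨IsMulCommutative.of_comm fun a b => Subtype.ext (hf (by
      simpa using congrArg Subtype.val (hA.2.1.1.is_comm.comm (⟨f a, a.2⟩ : A) ⟨f b, b.2⟩))),
      fun a ha => hf (by rw [map_pow, map_one]; exact hA.2.1.2 _ ha)⟩, fun C hC hC' => ?_⟩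
    · obtain ⟨u, hu, hux⟩ := hA.1 hx
      exact hf hux ▸ hu
    · have := hA.2.2 (C.map f) (Subgroup.map_mono hC) (abExp_map f hC')
      rw [Subgroup.card_map_of_injective hf] at this
      rwa [← Subgroup.card_map_of_injective (K := A.comap f) hf, hAeq]
  rw [← hAeq]
  exact Subgroup.map_mono (le_sSup (s := {A | IsMaxA m U A}) h)

theorem Z_map_inj [Finite G] (f : G →* H) (hf : Function.Injective f) (U : Subgroup G) :
    Z m (U.map f) = (Z m U).map f := by
  ext x
  constructor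
  · rintro ⟨h1, h2, h3⟩
    rw [J_map_inj f hf] at h1 h2
    obtain ⟨y, hy, rfl⟩ := h1
    refine ⟨y, ⟨hy, Subgroup.mem_centralizer_iff.mpr fun j hj => hf ?_, hf ?_⟩, rfl⟩
    · simpa using Subgroup.mem_centralizer_iff.mp h2 _ (Subgroup.mem_map_of_mem f hj)
    · simpa using h3
  · rintro ⟨y, ⟨h1, h2, h3⟩, rfl⟩
    refine ⟨by rw [J_map_inj f hf]; exact Subgroup.mem_map_of_mem _ h1, ?_, by rw [← map_pow, h3, map_one]⟩
    rw [J_map_inj f hf, Subgroup.mem_centralizer_iff]
    rintro _ ⟨j, hj, rfl⟩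
    rw [← map_mul, ← map_mul, Subgroup.mem_centralizer_iff.mp h2 j hj]

theorem Z_map_quotient [Finite G] {p : ℕ} {N : Subgroup G} [N.Normal] (hN : (Nat.card N).Coprime p)
    {R : Subgroup G} (hR : IsPGroup p R) :
    Z m (R.map (QuotientGroup.mk' N)) = (Z m R).map (QuotientGroup.mk' N) := by
  have e1 : R.map (QuotientGroup.mk' N) = (⊤ : Subgroup R).map ((QuotientGroup.mk' N).comp R.subtype) := by
    rw [← Subgroup.map_map, ← MonoidHom.range_eq_map, Subgroup.range_subtype]
  have e2 : R = (⊤ : Subgroup R).map R.subtype := by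
    rw [← MonoidHom.range_eq_map, Subgroup.range_subtype]
  rw [e1, Z_map_inj _ (Quotient.inj_of_pGroup hN hR), ← Subgroup.map_map, ← Z_map_inj _ R.subtype_injective, ← e2]

variable [Finite G] {p : ℕ} [Fact p.Prime]

/-- An element with quadratic action agrees with a power of `p`-power order modulo the centraliser. -/
theorem exists_pElement_power {V : Subgroup G} (hV : IsPGroup p V) {a : G}
    (ha : a ∈ Subgroup.normalizer (V : Set G))
    (hq : ⁅⁅V, Subgroup.zpowers a⁆, Subgroup.zpowers a⁆ = ⊥) :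
    ∃ t : ℕ, (∃ k, orderOf (a ^ t) = p ^ k) ∧ a⁻¹ * a ^ t ∈ Subgroup.centralizer (V : Set G) := by
  obtain ⟨k, m, hm, hkm⟩ :=
    Nat.exists_eq_pow_mul_and_not_dvd (orderOf_pos a).ne' p (Fact.out : p.Prime).ne_one
  have hcop : Nat.Coprime (p ^ k) m := ((Fact.out : p.Prime).coprime_iff_not_dvd.mpr hm).pow_left k
  -- `a ^ (p ^ k)` centralises `V`
  have hcent : a ^ (p ^ k) ∈ Subgroup.centralizer (V : Set G) := by
    set b := a ^ (p ^ k) with hb
    have hbord : b ^ m = 1 := by rw [hb, ← pow_mul, ← hkm, pow_orderOf_eq_one]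
    rw [Subgroup.mem_centralizer_iff]
    intro v hv
    have hcmem : b ∈ Subgroup.zpowers a := Subgroup.npow_mem_zpowers a _
    have hb' : Commute b ⁅v, b⁆ := by
      have := Subgroup.mem_centralizer_iff.mp
        (Subgroup.commutator_eq_bot_iff_le_centralizer.mp hq
          (Subgroup.commutator_mem_commutator hv hcmem)) b hcmem
      exact this
    have hpow : ∀ i : ℕ, ⁅v, b ^ i⁆ = ⁅v, b⁆ ^ i := by
      intro i
      induction i with
      | zero => simp [commutatorElement_def]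
      | succ i ih =>
        have : ⁅v, b ^ (i + 1)⁆ = ⁅v, b ^ i⁆ * (b ^ i * ⁅v, b⁆ * (b ^ i)⁻¹) := by
          rw [pow_succ]; simp [commutatorElement_def, mul_assoc]
        rw [this, (hb'.pow_left i).eq, mul_inv_cancel_right, ih, pow_succ]
    have h1 : ⁅v, b⁆ ^ m = 1 := by rw [← hpow, hbord]; simp [commutatorElement_def]
    have h3 : ∃ j, ⁅v, b⁆ ^ p ^ j = 1 := by
      have hmem : ⁅v, b⁆ ∈ V := by
        rw [commutatorElement_def, mul_assoc, mul_assoc]
        refine mul_mem hv ?_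
        rw [← mul_assoc]
        exact (Subgroup.mem_normalizer_iff.mp (Subgroup.zpowers_le.mpr ha hcmem) _).mp (inv_mem hv)
      obtain ⟨j, hj⟩ := hV ⟨_, hmem⟩
      exact ⟨j, congrArg Subtype.val hj⟩
    obtain ⟨j, hj⟩ := h3
    have h4 := pow_gcd_eq_one.mpr ⟨h1, hj⟩
    rw [(((Fact.out : p.Prime).coprime_iff_not_dvd.mpr hm).pow_left j).symm.gcd_eq_one, pow_one] at h4
    exact commutatorElement_eq_one_iff_mul_comm.mp h4
  obtain ⟨t, ht1, ht2⟩ := Nat.chineseRemainder hcop 1 0
  obtain ⟨q, hq'⟩ := Nat.modEq_zero_iff_dvd.mp ht2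
  refine ⟨t, ?_, ?_⟩
  · obtain ⟨j, -, hj⟩ := (Nat.dvd_prime_pow (Fact.out : p.Prime)).mp
      (orderOf_dvd_of_pow_eq_one (n := p ^ k) (x := a ^ t) (by
        rw [← pow_mul, ← orderOf_dvd_iff_pow_eq_one, hkm, hq', mul_comm m q, mul_assoc, mul_comm m]
        exact Dvd.intro_left _ rfl))
    exact ⟨j, hj⟩
  · obtain ⟨z, hz⟩ := Nat.modEq_iff_dvd.mp ht1
    rw [← zpow_natCast a t, ← zpow_neg_one, ← zpow_add,
      show (-1 : ℤ) + (t : ℤ) = ((p ^ k : ℕ) : ℤ) * (-z) by push_cast at hz ⊢; linarith,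
      zpow_mul, zpow_natCast]
    exact Subgroup.zpow_mem _ hcent _

/-- A normal `p`-subgroup on which every quadratic element of `p`-power order is stable is stable. -/
theorem isPStableOn_of_pElements {V : Subgroup G} [hVn : V.Normal] (hV : IsPGroup p V)
    (h : ∀ a : G, (∃ k, orderOf a = p ^ k) → ⁅⁅V, Subgroup.zpowers a⁆, Subgroup.zpowers a⁆ = ⊥ →
      (QuotientGroup.mk a : G ⧸ Subgroup.centralizer (V : Set G)) ∈
        Cfsg.pCore p (G ⧸ Subgroup.centralizer (V : Set G))) : Cfsg.IsPStableOn p V := by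
  intro a hq
  obtain ⟨t, hord, hc⟩ := exists_pElement_power hV
    (by rw [Subgroup.normalizer_eq_top]; exact Subgroup.mem_top a) hq
  have h1 := h (a ^ t) hord (le_bot_iff.mp (le_trans (Subgroup.commutator_mono (Subgroup.commutator_mono le_rfl
    (Subgroup.zpowers_le.mpr (Subgroup.npow_mem_zpowers a t))) (Subgroup.zpowers_le.mpr (Subgroup.npow_mem_zpowers a t))) hq.le))
  rwa [← (QuotientGroup.eq.mpr hc : (QuotientGroup.mk a : G ⧸ Subgroup.centralizer (V : Set G)) = QuotientGroup.mk (a ^ t))] at h1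

/-- Quotient by the `p'`-core of a `p`-stable group acts `p`-stably on its normal `p`-subgroups. -/
theorem isPStableOn_quotient (hs : Cfsg.IsPStable p G) (B : Subgroup (G ⧸ Cfsg.pPrimeCore p G))
    [hBn : B.Normal] (hB : IsPGroup p B) : Cfsg.IsPStableOn p B := by
  set O := Cfsg.pPrimeCore p G with hO
  set π := QuotientGroup.mk' O with hπ
  have hOc : (Nat.card O).Coprime p := Solvable.Cores.coprime_card_pPrimeCore p
  set S : Sylow p G := default with hS
  set D := B.comap π with hD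
  haveI hDn : D.Normal := hBn.comap π
  set P := (S : Subgroup G) ⊓ D with hP
  have hPp : IsPGroup p P := S.isPGroup'.to_le inf_le_left
  have hOD : O ≤ D := QuotientGroup.le_comap_mk' O B
  have hsup : O ⊔ P = D := by
    refine le_antisymm (sup_le hOD inf_le_right) ?_
    refine CfsgLib.OddOrder.ZJ.le_of_isPGroup_map hOD ?_ S le_sup_left le_sup_right
    rw [hD, Subgroup.map_comap_eq_self_of_surjective (QuotientGroup.mk'_surjective O)]
    exact hB
  have hPB : P.map π = B := by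
    rw [← Subgroup.map_comap_eq_self_of_surjective (QuotientGroup.mk'_surjective O) B, ← hD, ← hsup,
      Subgroup.map_sup, QuotientGroup.map_mk'_self, bot_sup_eq]
  refine isPStableOn_of_pElements hB fun y hy hq => ?_
  -- lift `y` to a `p`-element normalising `P`
  have hyn : y ∈ Subgroup.normalizer ((P.map π : Subgroup (G ⧸ O)) : Set (G ⧸ O)) := by
    rw [hPB, Subgroup.normalizer_eq_top]; exact Subgroup.mem_top y
  rw [Quotient.normalizer_map hOc hPp] at hyn
  obtain ⟨n, hn, rfl⟩ := hyn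
  obtain ⟨k, hk⟩ := hy
  obtain ⟨a, b, hab, ⟨i, hi⟩, hb, hacn, hbcn⟩ : ∃ a b : G, n = a * b ∧ (∃ i, orderOf a = p ^ i) ∧
      (orderOf b).Coprime p ∧ a ∈ Subgroup.zpowers n ∧ b ∈ Subgroup.zpowers n := exists_parts n
  have hπb : π b = 1 := by
    have hmem : π b ∈ Subgroup.zpowers (π n) := by
      obtain ⟨j, rfl⟩ := Subgroup.mem_zpowers_iff.mp hbcn
      rw [map_zpow]; exact Subgroup.zpow_mem _ (Subgroup.mem_zpowers _) j
    have hd : orderOf (π b) ∣ p ^ k := hk ▸ orderOf_dvd_of_mem_zpowers hmem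
    exact orderOf_eq_one_iff.mp (Nat.eq_one_of_dvd_coprimes (hb.pow_right k)
      (orderOf_map_dvd π b) hd)
  have hπn : π n = π a := by rw [hab, map_mul, hπb, mul_one]
  have haN : a ∈ Subgroup.normalizer (P : Set G) := Subgroup.zpowers_le.mpr hn hacn
  set A := Subgroup.zpowers a with hA
  have hAN : A ≤ Subgroup.normalizer (P : Set G) := Subgroup.zpowers_le.mpr haN
  have hqP : ⁅⁅P, A⁆, A⁆ = ⊥ := by
    rw [eq_bot_iff, ← Fusion.Basic.inf_eq_bot_of_coprime hPp hOc]
    refine le_inf ?_ ?_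
    · exact (Subgroup.commutator_mono (Subgroup.le_normalizer_iff_commutator_le_left.mp hAN) le_rfl).trans
        (Subgroup.le_normalizer_iff_commutator_le_left.mp hAN)
    · refine le_of_le_of_eq ((Subgroup.map_eq_bot_iff _).mp ?_) (QuotientGroup.ker_mk' O)
      rw [Subgroup.map_commutator, Subgroup.map_commutator, hA, MonoidHom.map_zpowers, hPB, ← hπn]
      exact hq
  have hPP : P ≤ Cfsg.pPrimePCore p G := fun x hx => by
    show π x ∈ Cfsg.pCore p (G ⧸ O)
    exact Solvable.Cores.le_pCore hB (hPB ▸ Subgroup.mem_map_of_mem π hx)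
  have himg := hs.2.2 A P (IsPGroup.of_card (n := i) (by rw [Nat.card_zpowers, hi])) hPp
    (fun c hc x hx => (Subgroup.mem_normalizer_iff.mp (hAN hc) x).mp hx) hPP (hsup.symm ▸ hDn) hqP
  set N := Subgroup.normalizer (P : Set G) with hN
  set C := (Subgroup.centralizer (P : Set G)).subgroupOf N with hC
  set CB := Subgroup.centralizer (B : Set (G ⧸ O)) with hCB
  let f : N →* (G ⧸ O) ⧸ CB := ((QuotientGroup.mk' CB).comp π).comp N.subtype
  have hfs : Function.Surjective f := by
    intro q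
    obtain ⟨u, rfl⟩ := QuotientGroup.mk'_surjective CB q
    have hu : u ∈ Subgroup.normalizer ((P.map π : Subgroup (G ⧸ O)) : Set (G ⧸ O)) := by
      rw [hPB, Subgroup.normalizer_eq_top]; exact Subgroup.mem_top u
    rw [Quotient.normalizer_map hOc hPp] at hu
    obtain ⟨w, hw, rfl⟩ := hu
    exact ⟨⟨w, hw⟩, rfl⟩
  have hfk : C ≤ f.ker := by
    intro c hc
    rw [MonoidHom.mem_ker]
    refine (QuotientGroup.eq_one_iff _).mpr ?_
    rw [hCB, ← hPB, Subgroup.mem_centralizer_iff]
    rintro _ ⟨x, hx, rfl⟩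
    show π x * π (c : G) = π (c : G) * π x
    rw [← map_mul, ← map_mul, show x * (c : G) = (c : G) * x from Subgroup.mem_centralizer_iff.mp hc x hx]
  let g := QuotientGroup.lift C f hfk
  have hgs : Function.Surjective g := fun q => by
    obtain ⟨w, rfl⟩ := hfs q
    exact ⟨QuotientGroup.mk w, rfl⟩
  haveI : ((Cfsg.pCore p (N ⧸ C)).map g).Normal := Subgroup.Normal.map inferInstance g hgs
  have hmem : g (QuotientGroup.mk ⟨a, haN⟩) ∈ Cfsg.pCore p ((G ⧸ O) ⧸ CB) :=
    Solvable.Cores.le_pCore ((Solvable.Cores.isPGroup_pCore p).map g)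
      (Subgroup.mem_map_of_mem g (himg (Subgroup.mem_map_of_mem _
        (show (⟨a, haN⟩ : N) ∈ A.subgroupOf N from Subgroup.mem_zpowers a))))
  rw [hπn]
  exact hmem
where
  exists_parts (n : G) : ∃ a b : G, n = a * b ∧ (∃ i, orderOf a = p ^ i) ∧
      (orderOf b).Coprime p ∧ a ∈ Subgroup.zpowers n ∧ b ∈ Subgroup.zpowers n := by
    obtain ⟨k, m, hm, hkm⟩ :=
      Nat.exists_eq_pow_mul_and_not_dvd (orderOf_pos n).ne' p (Fact.out : p.Prime).ne_one
    obtain ⟨u, v, huv⟩ :=
      (Nat.isCoprime_iff_coprime.mpr (((Fact.out : p.Prime).coprime_iff_not_dvd.mpr hm).pow_left k))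
    refine ⟨n ^ (v * (m : ℤ)), n ^ (u * ((p ^ k : ℕ) : ℤ)), ?_, ?_, ?_,
      Subgroup.zpow_mem _ (Subgroup.mem_zpowers n) _, Subgroup.zpow_mem _ (Subgroup.mem_zpowers n) _⟩
    · rw [← zpow_add, add_comm]; rw [huv, zpow_one]
    · obtain ⟨j, -, hj⟩ := (Nat.dvd_prime_pow (Fact.out : p.Prime)).mp
        (orderOf_dvd_of_pow_eq_one (n := p ^ k) (x := n ^ (v * (m : ℤ))) (by
          rw [← zpow_natCast, ← zpow_mul, show v * (m : ℤ) * ((p ^ k : ℕ) : ℤ) = ((orderOf n : ℕ) : ℤ) * v by
            rw [hkm]; push_cast; ring, zpow_mul, zpow_natCast, pow_orderOf_eq_one, one_zpow]))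
      exact ⟨j, hj⟩
    · refine Nat.Coprime.coprime_dvd_left (orderOf_dvd_of_pow_eq_one (n := m) (x := n ^ (u * ((p ^ k : ℕ) : ℤ))) (by
        rw [← zpow_natCast, ← zpow_mul, show u * ((p ^ k : ℕ) : ℤ) * (m : ℤ) = ((orderOf n : ℕ) : ℤ) * u by
          rw [hkm]; push_cast; ring, zpow_mul, zpow_natCast, pow_orderOf_eq_one, one_zpow])) ?_
      exact ((Fact.out : p.Prime).coprime_iff_not_dvd.mpr hm).symm

/-- Glauberman's theorem for `p`-constrained, `p`-stable groups. -/
theorem sup_normalizer_eq_top (hp : p ≠ 2) (hm : Odd m) (hc : Cfsg.IsPConstrained p G)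
    (hs : Cfsg.IsPStable p G) (S : Sylow p G) :
    Cfsg.pPrimeCore p G ⊔ Subgroup.normalizer (Z m (S : Subgroup G) : Set G) = ⊤ := by
  set π := QuotientGroup.mk' (Cfsg.pPrimeCore p G) with hπ
  have hsurj := QuotientGroup.mk'_surjective (Cfsg.pPrimeCore p G)
  have hOc : (Nat.card (Cfsg.pPrimeCore p G)).Coprime p := Solvable.Cores.coprime_card_pPrimeCore p
  have hbot : Cfsg.pPrimeCore p (G ⧸ Cfsg.pPrimeCore p G) = ⊥ := CfsgLib.Components.pPrimeCore_quotient_eq_bot
  have hcq := (CfsgLib.Components.centralizer_pCore_le_iff_layer hbot).mpr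
    (CfsgLib.Components.pLayer_eq_bot_iff.mp (CfsgLib.Components.isPConstrained_iff.mp hc))
  haveI hch := Z_characteristic hp hm hcq (fun P _ hP => isPStableOn_quotient hs P hP) (S.mapSurjective hsurj)
  have hn : (Z m (S.mapSurjective hsurj : Subgroup (G ⧸ Cfsg.pPrimeCore p G))).Normal := inferInstance
  rw [Sylow.coe_mapSurjective, Z_map_quotient hOc S.isPGroup', ← Subgroup.normalizer_eq_top_iff,
    Quotient.normalizer_map hOc (S.isPGroup'.to_le (Z_le _))] at hn
  rw [eq_top_iff]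
  intro g _
  obtain ⟨w, hw, hwg⟩ := (hn ▸ Subgroup.mem_top (π g) :
    π g ∈ (Subgroup.normalizer (Z m (S : Subgroup G) : Set G)).map π)
  rw [show g = (g * w⁻¹) * w by group]
  refine mul_mem (Subgroup.mem_sup_left ?_) (Subgroup.mem_sup_right hw)
  rw [← QuotientGroup.eq_one_iff]
  show π (g * w⁻¹) = 1
  rw [map_mul, map_inv, hwg, mul_inv_cancel]

end CfsgLib.Fusion.ZJConstrained
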