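import Cfsg.Prelude.Def_PLocal
import Cfsg.Agent.Lib.Fusion.ReplacementEA
import Cfsg.Agent.Lib.Coprime.Action
import Cfsg.Agent.Lib.Solvable.Cores
import Cfsg.Agent.Lib.Fusion.ZJConstrained

/-!
Stellmacher's characteristic subgroup: the stable normal closure of `Ω₁(Z(S))`.
-/

open scoped commutatorElement Pointwise
set_option linter.style.haveILetI false
set_option linter.unusedSectionVars false

namespace CfsgLib.Fusion.StableClosure

open CfsgLib.Solvable CfsgLib.Solvable.Basic

universe u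

section Quadratic

variable {G : Type*} [Group G]

theorem map_conj_normal (V : Subgroup G) [hV : V.Normal] (g : G) :
    V.map (MulAut.conj g).toMonoidHom = V := by
  ext x
  constructor
  · rintro ⟨y, hy, rfl⟩
    exact hV.conj_mem y hy g
  · intro hx
    exact ⟨g⁻¹ * x * g, by simpa using hV.conj_mem x hx g⁻¹, by simp [mul_assoc]⟩

theorem quad_mono {V V' : Subgroup G} (h : V' ≤ V) {a : G}
    (hq : ⁅⁅V, Subgroup.zpowers a⁆, Subgroup.zpowers a⁆ = ⊥) :
    ⁅⁅V', Subgroup.zpowers a⁆, Subgroup.zpowers a⁆ = ⊥ :=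
  le_bot_iff.mp ((Subgroup.commutator_mono (Subgroup.commutator_mono h le_rfl) le_rfl).trans hq.le)

theorem quad_map {H : Type*} [Group H] (f : G →* H) {V : Subgroup G} {a : G}
    (hq : ⁅⁅V, Subgroup.zpowers a⁆, Subgroup.zpowers a⁆ = ⊥) :
    ⁅⁅V.map f, Subgroup.zpowers (f a)⁆, Subgroup.zpowers (f a)⁆ = ⊥ := by
  rw [← MonoidHom.map_zpowers, ← Subgroup.map_commutator, ← Subgroup.map_commutator, hq, Subgroup.map_bot]

theorem quad_congr {V : Subgroup G} [V.Normal] {a b : G}
    (hab : a⁻¹ * b ∈ Subgroup.centralizer (V : Set G))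
    (hq : ⁅⁅V, Subgroup.zpowers a⁆, Subgroup.zpowers a⁆ = ⊥) :
    ⁅⁅V, Subgroup.zpowers b⁆, Subgroup.zpowers b⁆ = ⊥ := by
  set C := Subgroup.centralizer (V : Set G) with hC
  set U := ⁅V, Subgroup.zpowers a⁆ with hU
  have hUV : U ≤ V := Subgroup.commutator_le_left _ _
  have hpow : ∀ i : ℤ, (a ^ i)⁻¹ * b ^ i ∈ C := fun i => by
    rw [← QuotientGroup.eq, QuotientGroup.mk_zpow, QuotientGroup.mk_zpow, QuotientGroup.eq.mpr hab]
  have h1 : ⁅V, Subgroup.zpowers b⁆ ≤ U := by
    rw [Subgroup.commutator_le]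
    intro v hv x hx
    obtain ⟨i, rfl⟩ := Subgroup.mem_zpowers_iff.mp hx
    obtain ⟨c, hc, hce⟩ : ∃ c ∈ C, b ^ i = a ^ i * c := ⟨_, hpow i, by group⟩
    have hvc : v * c = c * v := Subgroup.mem_centralizer_iff.mp hc v hv
    have : ⁅v, b ^ i⁆ = ⁅v, a ^ i⁆ := by
      rw [hce]
      calc ⁅v, a ^ i * c⁆ = v * a ^ i * (c * v⁻¹) * c⁻¹ * (a ^ i)⁻¹ := by
            simp only [commutatorElement_def]; group
        _ = v * a ^ i * (v⁻¹ * c) * c⁻¹ * (a ^ i)⁻¹ := by
            rw [show c * v⁻¹ = v⁻¹ * c from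
              (Subgroup.mem_centralizer_iff.mp hc v⁻¹ (V.inv_mem hv)).symm]
        _ = ⁅v, a ^ i⁆ := by simp only [commutatorElement_def]; group
    rw [this]
    exact Subgroup.commutator_mem_commutator hv (Subgroup.zpow_mem _ (Subgroup.mem_zpowers a) i)
  refine le_bot_iff.mp ((Subgroup.commutator_mono h1 le_rfl).trans (le_of_eq ?_))
  rw [Subgroup.commutator_eq_bot_iff_le_centralizer]
  intro w hw
  rw [Subgroup.mem_centralizer_iff]
  intro x hx
  obtain ⟨i, rfl⟩ := Subgroup.mem_zpowers_iff.mp hx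
  have ha : a ^ i * w = w * a ^ i :=
    Subgroup.mem_centralizer_iff.mp (Subgroup.commutator_eq_bot_iff_le_centralizer.mp hq hw) _
      (Subgroup.zpow_mem _ (Subgroup.mem_zpowers a) i)
  obtain ⟨c, hc, hce⟩ : ∃ c ∈ C, b ^ i = a ^ i * c := ⟨_, hpow i, by group⟩
  have hwc : w * c = c * w := Subgroup.mem_centralizer_iff.mp hc w (hUV hw)
  show b ^ i * w = w * b ^ i
  rw [hce, mul_assoc, ← hwc, ← mul_assoc, ha, mul_assoc]

/-- `p`-stability passes along an isomorphism. -/
theorem isPStableOn_equiv {H : Type*} [Group H] [Finite H] [Finite G] {p : ℕ} [Fact p.Prime] (e : H ≃* G)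
    {V : Subgroup H} [V.Normal] {V' : Subgroup G} [V'.Normal] (hV : V.map e.toMonoidHom = V')
    (h : Cfsg.IsPStableOn p V') : Cfsg.IsPStableOn p V := by
  intro a hq
  have h1 := h (e a) (hV ▸ quad_map e.toMonoidHom hq)
  let φ : G →* H ⧸ Subgroup.centralizer (V : Set H) :=
    (QuotientGroup.mk' (Subgroup.centralizer (V : Set H))).comp e.symm.toMonoidHom
  have hk : Subgroup.centralizer (V' : Set G) ≤ φ.ker := by
    intro g hg
    rw [MonoidHom.mem_ker]
    refine (QuotientGroup.eq_one_iff _).mpr (Subgroup.mem_centralizer_iff.mpr fun v hv => e.injective ?_)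
    have := Subgroup.mem_centralizer_iff.mp hg (e v) (hV ▸ Subgroup.mem_map_of_mem _ hv)
    simpa using this
  let g := QuotientGroup.lift _ φ hk
  have hgs : Function.Surjective g := fun q => by
    obtain ⟨x, rfl⟩ := QuotientGroup.mk'_surjective _ q
    refine ⟨QuotientGroup.mk (e x), ?_⟩
    show φ (e x) = _
    simp [φ]
  haveI : ((Cfsg.pCore p (G ⧸ Subgroup.centralizer (V' : Set G))).map g).Normal :=
    Subgroup.Normal.map inferInstance g hgs
  have h2 := Cores.le_pCore ((Cores.isPGroup_pCore p).map g) (Subgroup.mem_map_of_mem g h1)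
  simpa [g, φ] using h2

end Quadratic

variable {p : ℕ} [Fact p.Prime] {S : Type u} [Group S] [Finite S]

theorem omega_le_omegaCenterThompson :
    Cfsg.omegaOne p (Subgroup.center S) ≤ Cfsg.omegaCenterThompson p S := by
  rw [Cfsg.omegaOne, Subgroup.closure_le]
  rintro z ⟨hz, hzp⟩
  obtain ⟨A, hA⟩ := Thompson.exists_maxEA (p := p) (G := S)
  have hzJ : z ∈ Subgroup.centralizer (Cfsg.thompsonSubgroup p S : Set S) :=
    Subgroup.mem_centralizer_iff.mpr fun x _ => Subgroup.mem_center_iff.mp hz x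
  exact Subgroup.subset_closure
    ⟨⟨le_sSup hA (Thompson.mem_of_mem_centralizer_thompson hA hzJ hzp), hzJ⟩, hzp⟩

theorem omegaCenterThompson_map_normal {H : Type u} [Group H] {τ : S →* H}
    (hτ : Cfsg.IsStableEmbedding p τ) : ((Cfsg.omegaCenterThompson p S).map τ).Normal := by
  obtain ⟨hinj, -, -, -, hJ, -⟩ := hτ
  rw [Cfsg.omegaCenterThompson, Cfsg.omegaOne, MonoidHom.map_closure]
  refine ⟨fun x hx g => ?_⟩
  refine Subgroup.closure_induction (p := fun y _ => g * y * g⁻¹ ∈ Subgroup.closure _) ?_ ?_ ?_ ?_ hx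
  · rintro _ ⟨z, ⟨⟨hzJ, hzc⟩, hzp⟩, rfl⟩
    obtain ⟨y, hy, hye⟩ := hJ.conj_mem _ (Subgroup.mem_map_of_mem τ hzJ) g
    refine Subgroup.subset_closure ⟨y, ⟨⟨hy, Subgroup.mem_centralizer_iff.mpr fun j hj => hinj ?_⟩,
      hinj (by rw [map_pow, hye, conj_pow, ← map_pow, hzp, map_one, mul_one, mul_inv_cancel])⟩, hye⟩
    obtain ⟨k, hk, hke⟩ := hJ.conj_mem _ (Subgroup.mem_map_of_mem τ hj) g⁻¹
    have hcomm : τ k * τ z = τ z * τ k := by
      rw [← map_mul, ← map_mul, Subgroup.mem_centralizer_iff.mp hzc k hk]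
    rw [inv_inv] at hke
    rw [map_mul, map_mul, hye]
    calc τ j * (g * τ z * g⁻¹) = g * ((g⁻¹ * τ j * g) * τ z) * g⁻¹ := by group
      _ = g * (τ z * (g⁻¹ * τ j * g)) * g⁻¹ := by rw [← hke, hcomm]
      _ = g * τ z * g⁻¹ * τ j := by group
  · simp
  · intro a b _ _ ha hb
    rw [show g * (a * b) * g⁻¹ = (g * a * g⁻¹) * (g * b * g⁻¹) by group]
    exact mul_mem ha hb
  · intro a _ ha
    rw [show g * a⁻¹ * g⁻¹ = (g * a * g⁻¹)⁻¹ by group]
    exact inv_mem ha

theorem omega_le : Cfsg.omegaOne p (Subgroup.center S) ≤ Cfsg.stableNormalClosure p S :=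
  le_sInf fun _ hW => hW.1

theorem le_omegaCenterThompson :
    Cfsg.stableNormalClosure p S ≤ Cfsg.omegaCenterThompson p S :=
  sInf_le ⟨omega_le_omegaCenterThompson, fun _ _ _ hτ => omegaCenterThompson_map_normal hτ⟩

theorem map_normal {H : Type u} [Group H] {τ : S →* H} (hτ : Cfsg.IsStableEmbedding p τ) :
    ((Cfsg.stableNormalClosure p S).map τ).Normal := by
  refine ⟨fun x hx g => ?_⟩
  obtain ⟨w, hw, rfl⟩ := hx
  obtain ⟨y, hy, hye⟩ := (omegaCenterThompson_map_normal hτ).conj_mem _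
    (Subgroup.mem_map_of_mem τ (le_omegaCenterThompson hw)) g
  refine ⟨y, Subgroup.mem_sInf.mpr fun X hX => ?_, hye⟩
  obtain ⟨z, hz, hze⟩ := (hX.2 H τ hτ).conj_mem _
    (Subgroup.mem_map_of_mem τ (Subgroup.mem_sInf.mp hw X hX)) g
  rwa [← hτ.1 (hze.trans hye.symm)]

theorem pCore_eq_top {G : Type*} [Group G] (h : IsPGroup p G) : Cfsg.pCore p G = ⊤ :=
  top_le_iff.mp (Cores.le_pCore (h.to_subgroup ⊤))

theorem isPStableOn_of_isPGroup {G : Type*} [Group G] (h : IsPGroup p G) (V : Subgroup G) [V.Normal] :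
    Cfsg.IsPStableOn p V := fun a _ => by
  rw [pCore_eq_top (h.to_quotient _)]
  trivial

theorem id_isStableEmbedding (hS : IsPGroup p S) : Cfsg.IsStableEmbedding p (MonoidHom.id S) := by
  refine ⟨fun _ _ h => h, inferInstance, ?_, ?_, ?_, fun V _ _ => isPStableOn_of_isPGroup hS V⟩
  · obtain ⟨P, hP⟩ := (hS.to_subgroup ⊤).exists_le_sylow
    exact ⟨P, by rw [top_le_iff.mp hP, MonoidHom.range_eq_top.mpr fun x => ⟨x, rfl⟩]⟩
  · rw [pCore_eq_top hS]; exact le_top
  · rw [Subgroup.map_id]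
    infer_instance

theorem normal (hS : IsPGroup p S) : (Cfsg.stableNormalClosure p S).Normal := by
  have := map_normal (id_isStableEmbedding hS)
  rwa [Subgroup.map_id] at this

theorem mul_comm_mem {x y : S} (hx : x ∈ Cfsg.stableNormalClosure p S)
    (hy : y ∈ Cfsg.omegaCenterThompson p S) : x * y = y * x := by
  have hle : Cfsg.omegaCenterThompson p S ≤
      Cfsg.thompsonSubgroup p S ⊓ Subgroup.centralizer (Cfsg.thompsonSubgroup p S : Set S) := by
    rw [Cfsg.omegaCenterThompson, Cfsg.omegaOne, Subgroup.closure_le]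
    exact fun z hz => hz.1
  exact Subgroup.mem_centralizer_iff.mp (hle hy).2 x (hle (le_omegaCenterThompson hx)).1

theorem isEA : Cfsg.IsElementaryAbelian p (Cfsg.stableNormalClosure p S) := by
  refine ⟨isMulCommutative_subgroup_iff.mpr fun x hx y hy =>
    mul_comm_mem hx (le_omegaCenterThompson hy), fun x hx => ?_⟩
  have hle : Cfsg.omegaCenterThompson p S ≤
      Cfsg.thompsonSubgroup p S ⊓ Subgroup.centralizer (Cfsg.thompsonSubgroup p S : Set S) := by
    rw [Cfsg.omegaCenterThompson, Cfsg.omegaOne, Subgroup.closure_le]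
    exact fun z hz => hz.1
  obtain ⟨A, hA⟩ := Thompson.exists_maxEA (p := p) (G := S)
  have hgen : ∀ z ∈ Cfsg.omegaCenterThompson p S, z ∈ A := by
    intro z hz
    refine Subgroup.closure_induction (p := fun y _ => y ∈ A) ?_ A.one_mem (fun _ _ _ _ => A.mul_mem)
      (fun _ _ => A.inv_mem) hz
    rintro y ⟨hy, hyp⟩
    exact Thompson.mem_of_mem_centralizer_thompson hA hy.2 hyp
  exact hA.1.2 x (hgen x (le_omegaCenterThompson hx))

/-- No element of a `p`-group acts quadratically and nontrivially on the stable normal closure. -/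
theorem eq_bot_of_quadratic (hS : IsPGroup p S) (x : S)
    (hq : ⁅⁅Cfsg.stableNormalClosure p S, Subgroup.zpowers x⁆, Subgroup.zpowers x⁆ = ⊥) :
    ⁅Cfsg.stableNormalClosure p S, Subgroup.zpowers x⁆ = ⊥ := by
  set W := Cfsg.stableNormalClosure p S with hW
  suffices hprop : ∀ y : S, ⁅⁅W, Subgroup.zpowers y⁆, Subgroup.zpowers y⁆ = ⊥ →
      W ≤ Subgroup.centralizer {y} by
    rw [Subgroup.commutator_eq_bot_iff_le_centralizer, Subgroup.le_centralizer_iff, Subgroup.zpowers_le]
    exact Subgroup.mem_centralizer_iff.mpr fun w hw =>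
      Subgroup.mem_centralizer_singleton_iff.mp (hprop x hq hw)
  obtain ⟨X, ⟨hX0, hXW, hXq⟩, hXmax⟩ := Set.exists_max_image
    {X : Subgroup S | Cfsg.omegaOne p (Subgroup.center S) ≤ X ∧ X ≤ W ∧
      ∀ y : S, ⁅⁅X, Subgroup.zpowers y⁆, Subgroup.zpowers y⁆ = ⊥ → X ≤ Subgroup.centralizer {y}}
    (fun X => Nat.card X) (Set.toFinite _)
    ⟨_, le_rfl, omega_le, fun y _ => by
      rw [Cfsg.omegaOne, Subgroup.closure_le]
      intro z hz
      rw [SetLike.mem_coe, Subgroup.mem_centralizer_singleton_iff]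
      exact (Subgroup.mem_center_iff.mp hz.1 y).symm⟩
  suffices hWX : W ≤ X by
    intro y hy
    exact hWX.trans (hXq y (quad_mono hXW hy))
  refine sInf_le ⟨hX0, fun H _ τ hτ => ?_⟩
  haveI : Finite H := hτ.2.1
  obtain ⟨P, hP⟩ := hτ.2.2.1
  set V := Subgroup.normalClosure ((X.map τ : Subgroup H) : Set H) with hV
  haveI := map_normal hτ
  have hVW : V ≤ W.map τ := Subgroup.normalClosure_le_normal (Subgroup.map_mono hXW)
  have hXV : X.map τ ≤ V := Subgroup.le_normalClosure
  have hst : Cfsg.IsPStableOn p V :=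
    hτ.2.2.2.2.2 V (hVW.trans (Subgroup.map_mono le_omegaCenterThompson))
  set X' := V.comap τ with hX'
  have hVeq : X'.map τ = V := Subgroup.map_comap_eq_self (hVW.trans (Subgroup.map_le_range _ _))
  have hXX' : X ≤ X' := Subgroup.map_le_iff_le_comap.mp hXV
  have hX'W : X' ≤ W := fun z hz => by
    obtain ⟨w, hw, hwe⟩ := hVW hz
    exact hτ.1 hwe ▸ hw
  suffices hX'q : ∀ y : S, ⁅⁅X', Subgroup.zpowers y⁆, Subgroup.zpowers y⁆ = ⊥ →
      X' ≤ Subgroup.centralizer {y} by
    have := Subgroup.eq_of_le_of_card_ge hXX' (hXmax X' ⟨hX0.trans hXX', hX'W, hX'q⟩)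
    rw [this, hVeq]
    infer_instance
  intro y hy
  have hqV : ⁅⁅V, Subgroup.zpowers (τ y)⁆, Subgroup.zpowers (τ y)⁆ = ⊥ := hVeq ▸ quad_map τ hy
  set C := Subgroup.centralizer (V : Set H) with hC
  set π := QuotientGroup.mk' C with hπ
  set D := (Cfsg.pCore p (H ⧸ C)).comap π with hD
  have hCD : C ≤ D := QuotientGroup.le_comap_mk' C _
  have hsup : D ≤ C ⊔ ((P : Subgroup H) ⊓ D) :=
    CfsgLib.OddOrder.ZJ.le_of_isPGroup_map hCD
      (by rw [hD, Subgroup.map_comap_eq_self_of_surjective (QuotientGroup.mk'_surjective C)]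
          exact Cores.isPGroup_pCore p) P le_sup_left le_sup_right
  haveI : D.Normal := Subgroup.Normal.comap inferInstance π
  have hyD : τ y ∈ D := hst (τ y) hqV
  have hconj : V ≤ Subgroup.centralizer {τ y} := by
    refine Subgroup.closure_le _ |>.mpr ?_
    intro z hz
    rw [Group.mem_conjugatesOfSet_iff] at hz
    obtain ⟨_, ⟨x, hx, rfl⟩, hxz⟩ := hz
    obtain ⟨h, rfl⟩ := isConj_iff.mp hxz
    rw [SetLike.mem_coe, Subgroup.mem_centralizer_singleton_iff]
    -- the conjugate `h⁻¹ τ y h` centralises the image of `X`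
    set z := h⁻¹ * τ y * h with hzdef
    have hzD : z ∈ D := by simpa [hzdef] using (inferInstance : D.Normal).conj_mem _ hyD h⁻¹
    have hzq : ⁅⁅V, Subgroup.zpowers z⁆, Subgroup.zpowers z⁆ = ⊥ := by
      have e : (MulAut.conj h⁻¹).toMonoidHom (τ y) = z := by simp [hzdef]
      have eV : V.map (MulAut.conj h⁻¹).toMonoidHom = V := map_conj_normal V h⁻¹
      rw [← e]
      conv_lhs => rw [← eV]
      exact quad_map _ hqV
    have hzmem : z ∈ ((C : Set H) * (((P : Subgroup H) ⊓ D : Subgroup H) : Set H)) := by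
      rw [← Subgroup.normal_mul]; exact hsup hzD
    obtain ⟨c, hc, t, ht, hct⟩ := hzmem
    have htq : ⁅⁅V, Subgroup.zpowers t⁆, Subgroup.zpowers t⁆ = ⊥ :=
      quad_congr (a := z) (by
        rw [← hct, mul_inv_rev]
        simpa [mul_assoc] using (inferInstance : C.Normal).conj_mem _ (inv_mem hc) t⁻¹) hzq
    obtain ⟨s, rfl⟩ : t ∈ τ.range := hP ▸ ht.1
    have hsq : ⁅⁅X, Subgroup.zpowers s⁆, Subgroup.zpowers s⁆ = ⊥ := by
      have h1 := quad_mono hXV htq
      rw [← MonoidHom.map_zpowers, ← Subgroup.map_commutator, ← Subgroup.map_commutator,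
        Subgroup.map_eq_bot_iff_of_injective _ hτ.1] at h1
      exact h1
    have hsx : x * s = s * x := Subgroup.mem_centralizer_singleton_iff.mp (hXq s hsq hx)
    have h2 : τ x * z = z * τ x := by
      rw [← hct]
      have hcx : τ x * c = c * τ x :=
        Subgroup.mem_centralizer_iff.mp hc _ (hXV (Subgroup.mem_map_of_mem τ hx))
      show τ x * (c * τ s) = c * τ s * τ x
      rw [← mul_assoc, hcx, mul_assoc, ← map_mul, hsx, map_mul, mul_assoc]
    calc h * τ x * h⁻¹ * τ y = h * (τ x * z) * h⁻¹ := by rw [hzdef]; group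
      _ = h * (z * τ x) * h⁻¹ := by rw [h2]
      _ = τ y * (h * τ x * h⁻¹) := by rw [hzdef]; group
  intro z hz
  rw [Subgroup.mem_centralizer_singleton_iff]
  refine hτ.1 ?_
  rw [map_mul, map_mul]
  exact Subgroup.mem_centralizer_singleton_iff.mp (hconj (hVeq ▸ Subgroup.mem_map_of_mem τ hz))

theorem map_equiv {S' : Type u} [Group S'] [Finite S'] (e : S ≃* S') :
    Cfsg.stableNormalClosure p S' = (Cfsg.stableNormalClosure p S).map e.toMonoidHom := by
  have main : ∀ {A B : Type u} [Group A] [Finite A] [Group B] [Finite B] (e : A ≃* B),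
      Cfsg.stableNormalClosure p B ≤ (Cfsg.stableNormalClosure p A).map e.toMonoidHom := by
    intro A B _ _ _ _ e
    refine sInf_le ⟨?_, fun H _ τ hτ => ?_⟩
    · rw [Cfsg.omegaOne, Subgroup.closure_le]
      rintro z ⟨hz, hzp⟩
      refine ⟨e.symm z, omega_le (Subgroup.subset_closure ⟨Subgroup.mem_center_iff.mpr fun x =>
        e.injective (by simpa using Subgroup.mem_center_iff.mp hz (e x)),
        e.injective (by simpa using hzp)⟩), by simp⟩
    · rw [Subgroup.map_map]
      haveI : Finite H := hτ.2.1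
      refine map_normal ⟨hτ.1.comp e.injective, hτ.2.1, ?_, hτ.2.2.2.1, ?_, fun V _ hV => ?_⟩
      · obtain ⟨P, hP⟩ := hτ.2.2.1
        refine ⟨P, hP.trans ?_⟩
        ext x
        refine ⟨?_, ?_⟩
        · rintro ⟨y, rfl⟩; exact ⟨e.symm y, by simp⟩
        · rintro ⟨y, rfl⟩; exact ⟨e y, rfl⟩
      · rw [← Subgroup.map_map, Thompson.map_thompson_equiv e]
        exact hτ.2.2.2.2.1
      · refine hτ.2.2.2.2.2 V (hV.trans ?_)
        rw [← Subgroup.map_map]
        refine Subgroup.map_mono ?_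
        rw [Cfsg.omegaCenterThompson, Cfsg.omegaCenterThompson, Cfsg.omegaOne, Cfsg.omegaOne,
          MonoidHom.map_closure]
        refine Subgroup.closure_mono ?_
        rintro _ ⟨z, ⟨⟨hz, hzc⟩, hzp⟩, rfl⟩
        have he := Thompson.map_thompson_equiv (p := p) e
        refine ⟨⟨he ▸ Subgroup.mem_map_of_mem _ hz, Subgroup.mem_centralizer_iff.mpr fun j hj => ?_⟩,
          by rw [← map_pow, hzp, map_one]⟩
        rw [SetLike.mem_coe, ← he] at hj
        obtain ⟨k, hk, rfl⟩ := hj
        rw [← map_mul, ← map_mul, Subgroup.mem_centralizer_iff.mp hzc k hk]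
  refine le_antisymm (main e) ?_
  refine Subgroup.map_le_iff_le_comap.mpr ((main e.symm).trans ?_)
  rintro _ ⟨y, hy, rfl⟩
  simpa using hy

/-! ### The normality theorem -/

variable {G : Type u} [Group G] [Finite G]

/-- Normality of the stable normal closure, under the minimal hypotheses on stability. -/
theorem stableClosure_normal (hc : Subgroup.centralizer (Cfsg.pCore p G : Set G) ≤ Cfsg.pCore p G)
    (hV : ∀ (V : Subgroup G) [V.Normal], Cfsg.IsElementaryAbelian p V → Cfsg.IsPStableOn p V)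
    (hQ : ∀ a : G, ⁅⁅Cfsg.pCore p G, Subgroup.zpowers a⁆, Subgroup.zpowers a⁆ = ⊥ → a ∈ Cfsg.pCore p G)
    (P : Sylow p G)
    (hN : ∀ (V : Subgroup ↥(Subgroup.normalizer (Cfsg.thompsonSubgroupOf p (P : Subgroup G) : Set G)))
      [V.Normal],
      V.map (Subgroup.normalizer (Cfsg.thompsonSubgroupOf p (P : Subgroup G) : Set G)).subtype ≤
          (Cfsg.omegaCenterThompson p ↥(P : Subgroup G)).map (P : Subgroup G).subtype →
        Cfsg.IsPStableOn p V) :
    ((Cfsg.stableNormalClosure p ↥(P : Subgroup G)).map (P : Subgroup G).subtype).Normal := by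
  set Wg := (Cfsg.stableNormalClosure p ↥(P : Subgroup G)).map (P : Subgroup G).subtype with hWg
  set Q := Cfsg.pCore p G with hQdef
  haveI hQn : Q.Normal := Subgroup.sSup_normal _ fun _ h => h.1
  set J := Cfsg.thompsonSubgroupOf p (P : Subgroup G) with hJ
  set N := Subgroup.normalizer (J : Set G) with hNdef
  have hQP : Q ≤ (P : Subgroup G) := Cores.pCore_le_sylow P
  have hQp : IsPGroup p Q := Cores.isPGroup_pCore p
  have hPN : (P : Subgroup G) ≤ N :=
    Subgroup.le_normalizer.trans (Thompson.normalizer_le_normalizer_thompsonOf _)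
  have hWP : Wg ≤ (P : Subgroup G) := Subgroup.map_subtype_le _
  have hPW : (P : Subgroup G) ≤ Subgroup.normalizer (Wg : Set G) := by
    haveI := normal P.isPGroup' (p := p)
    refine le_trans (le_of_eq ?_) (Subgroup.le_normalizer_map _)
    rw [Subgroup.normalizer_eq_top, ← MonoidHom.range_eq_map, Subgroup.range_subtype]
  have hWc : ∀ x ∈ Wg, ∀ y ∈ Wg, x * y = y * x := by
    rintro _ ⟨x, hx, rfl⟩ _ ⟨y, hy, rfl⟩
    exact congrArg Subtype.val (mul_comm_mem hx (le_omegaCenterThompson hy))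
  -- the normaliser of the Thompson subgroup normalises `Wg`
  have hNW : N ≤ Subgroup.normalizer (Wg : Set G) := by
    let τ : ↥(P : Subgroup G) →* N := Subgroup.inclusion hPN
    have hsub : ∀ X : Subgroup ↥(P : Subgroup G),
        (X.map τ).map N.subtype = X.map (P : Subgroup G).subtype := fun X => by
      rw [Subgroup.map_map]; rfl
    have hτ : Cfsg.IsStableEmbedding p τ := by
      refine ⟨Subgroup.inclusion_injective hPN, inferInstance, ⟨P.subtype hPN, ?_⟩, ?_, ?_, ?_⟩
      · rw [Sylow.coe_subtype, Subgroup.inclusion_range]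
      · haveI : (Q.subgroupOf N).Normal := inferInstance
        have hle : Q.subgroupOf N ≤ Cfsg.pCore p N :=
          Cores.le_pCore (hQp.comap_of_injective _ N.subtype_injective)
        intro x hx
        refine hle (hc (Subgroup.mem_centralizer_iff.mpr fun y hy => ?_))
        have hyN : y ∈ N := hPN (hQP hy)
        exact congrArg Subtype.val (Subgroup.mem_centralizer_iff.mp hx ⟨y, hyN⟩ (hle hy))
      · have : (Cfsg.thompsonSubgroup p ↥(P : Subgroup G)).map τ = J.subgroupOf N := by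
          apply Subgroup.map_injective N.subtype_injective
          rw [hsub, Subgroup.map_subgroupOf_eq_of_le Subgroup.le_normalizer]
          rfl
        rw [this]
        exact Subgroup.normal_in_normalizer
      · intro V _ hVle
        refine hN V ?_
        rw [← hsub]
        exact Subgroup.map_mono hVle
    have hn := map_normal hτ
    rw [← Subgroup.normalizer_eq_top_iff] at hn
    have := Subgroup.le_normalizer_map N.subtype
      (H := (Cfsg.stableNormalClosure p ↥(P : Subgroup G)).map τ)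
    rw [hn, hsub, ← MonoidHom.range_eq_map, Subgroup.range_subtype] at this
    exact this
  -- `Wg` is contained in `O_p(G)`
  have hWQ : Wg ≤ Q := by
    intro a ha
    have h1 : ⁅Q, Subgroup.zpowers a⁆ ≤ Wg :=
      le_trans (Subgroup.commutator_mono le_rfl (Subgroup.zpowers_le.mpr ha))
        (Subgroup.le_normalizer_iff_commutator_le_right.mp (hQP.trans hPW))
    refine hQ a (le_bot_iff.mp ((Subgroup.commutator_mono h1 le_rfl).trans (le_of_eq ?_)))
    rw [Subgroup.commutator_eq_bot_iff_le_centralizer, Subgroup.le_centralizer_iff, Subgroup.zpowers_le]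
    exact Subgroup.mem_centralizer_iff.mpr fun w hw => hWc w hw a ha
  -- the normal closure is elementary abelian
  set V := Subgroup.normalClosure (Wg : Set G) with hVdef
  have hWV : Wg ≤ V := Subgroup.le_normalClosure
  have hcomm : ∀ g : G, ∀ w ∈ Wg, ∀ z ∈ Wg, w * (g * z * g⁻¹) = g * z * g⁻¹ * w := by
    intro g w hw z hz
    have hzQ : g * z * g⁻¹ ∈ Q := hQn.conj_mem _ (hWQ hz) g
    set s : ↥(P : Subgroup G) := ⟨g * z * g⁻¹, hQP hzQ⟩ with hs
    have hq : ⁅⁅Cfsg.stableNormalClosure p ↥(P : Subgroup G), Subgroup.zpowers s⁆, Subgroup.zpowers s⁆ = ⊥ := by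
      rw [← Subgroup.map_eq_bot_iff_of_injective _ (P : Subgroup G).subtype_injective,
        Subgroup.map_commutator, Subgroup.map_commutator, MonoidHom.map_zpowers, ← hWg]
      set W2 := Wg.map (MulAut.conj g).toMonoidHom with hW2
      have hsW2 : Subgroup.zpowers ((P : Subgroup G).subtype s) ≤ W2 :=
        Subgroup.zpowers_le.mpr ⟨z, hz, rfl⟩
      have hQW2 : Q ≤ Subgroup.normalizer (W2 : Set G) := by
        refine le_trans ?_ (Subgroup.le_normalizer_map (H := Wg) (MulAut.conj g).toMonoidHom)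
        refine le_trans (le_of_eq ?_) (Subgroup.map_mono (f := (MulAut.conj g).toMonoidHom) (hQP.trans hPW))
        exact (map_conj_normal Q g).symm
      have h1 : ⁅Wg, Subgroup.zpowers ((P : Subgroup G).subtype s)⁆ ≤ W2 := by
        refine le_trans (Subgroup.commutator_mono le_rfl hsW2) ?_
        exact Subgroup.le_normalizer_iff_commutator_le_right.mp (hWQ.trans hQW2)
      refine le_bot_iff.mp ((Subgroup.commutator_mono h1 hsW2).trans (le_of_eq ?_))
      rw [hW2, ← Subgroup.map_commutator, Subgroup.map_eq_bot_iff_of_injective _ (MulAut.conj g).injective,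
        Subgroup.commutator_eq_bot_iff_le_centralizer]
      exact fun x hx => Subgroup.mem_centralizer_iff.mpr fun y hy => hWc y hy x hx
    have h := eq_bot_of_quadratic P.isPGroup' s hq
    rw [Subgroup.commutator_eq_bot_iff_le_centralizer] at h
    obtain ⟨w', hw', rfl⟩ := hw
    exact congrArg Subtype.val (Subgroup.mem_centralizer_iff.mp (h hw') s (Subgroup.mem_zpowers s)).symm
  have hgen : ∀ x ∈ Group.conjugatesOfSet (Wg : Set G), ∀ y ∈ Group.conjugatesOfSet (Wg : Set G),
      x * y = y * x := by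
    intro x hx y hy
    rw [Group.mem_conjugatesOfSet_iff] at hx hy
    obtain ⟨a, ha, hax⟩ := hx
    obtain ⟨b, hb, hby⟩ := hy
    obtain ⟨g, rfl⟩ := isConj_iff.mp hax
    obtain ⟨k, rfl⟩ := isConj_iff.mp hby
    have h := hcomm (g⁻¹ * k) a ha b hb
    calc g * a * g⁻¹ * (k * b * k⁻¹) = g * (a * (g⁻¹ * k * b * (g⁻¹ * k)⁻¹)) * g⁻¹ := by group
      _ = g * (g⁻¹ * k * b * (g⁻¹ * k)⁻¹ * a) * g⁻¹ := by rw [h]
      _ = k * b * k⁻¹ * (g * a * g⁻¹) := by group
  have hVc : ∀ x ∈ V, ∀ y ∈ V, x * y = y * x := by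
    have h1 : V ≤ Subgroup.centralizer (Group.conjugatesOfSet (Wg : Set G)) :=
      (Subgroup.closure_le _).mpr fun x hx => Subgroup.mem_centralizer_iff.mpr fun y hy => hgen y hy x hx
    have h2 : V ≤ Subgroup.centralizer (V : Set G) := by
      rw [Subgroup.le_centralizer_iff]
      refine (Subgroup.closure_le _).mpr fun x hx => Subgroup.mem_centralizer_iff.mpr fun y hy => ?_
      exact (Subgroup.mem_centralizer_iff.mp (h1 hy) x hx).symm
    exact fun x hx y hy => Subgroup.mem_centralizer_iff.mp (h2 hy) x hx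
  have hVEA : Cfsg.IsElementaryAbelian p V := by
    refine ⟨isMulCommutative_subgroup_iff.mpr hVc, fun x hx => ?_⟩
    refine Subgroup.closure_induction (p := fun y _ => y ^ p = 1) ?_ (one_pow p) ?_ ?_ hx
    · intro y hy
      rw [Group.mem_conjugatesOfSet_iff] at hy
      obtain ⟨_, ⟨a, ha, rfl⟩, hay⟩ := hy
      obtain ⟨g, rfl⟩ := isConj_iff.mp hay
      rw [conj_pow, ← map_pow, isEA.2 a ha, map_one, mul_one, mul_inv_cancel]
    · intro a b ha hb hap hbp
      rw [(show Commute a b from hVc a ha b hb).mul_pow, hap, hbp, one_mul]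
    · intro a _ hap
      rw [inv_pow, hap, inv_one]
  set C := Subgroup.centralizer (V : Set G) with hC
  set π := QuotientGroup.mk' C with hπ
  set D := (Cfsg.pCore p (G ⧸ C)).comap π with hD
  haveI hDn : D.Normal := Subgroup.Normal.comap inferInstance π
  set T := (P : Subgroup G) ⊓ D with hT
  have hDsup : D ≤ C ⊔ T :=
    CfsgLib.OddOrder.ZJ.le_of_isPGroup_map (QuotientGroup.le_comap_mk' C _)
      (by rw [hD, Subgroup.map_comap_eq_self_of_surjective (QuotientGroup.mk'_surjective C)]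
          exact Cores.isPGroup_pCore p) P le_sup_left le_sup_right
  have htop : C ⊔ Subgroup.normalizer (T : Set G) = ⊤ := by
    haveI : Finite (Sylow p D) := inferInstance
    set TD := (P.isPGroup'.to_le (inf_le_left : T ≤ _)).comap_subtype (K := D) with hTD
    have hidx : ¬ p ∣ (T.subgroupOf D).index := Basic.not_dvd_relIndex_of_normal P D
    have h := Sylow.normalizer_sup_eq_top (TD.toSylow hidx)
    change Subgroup.normalizer ((((T.subgroupOf D).map D.subtype) : Subgroup G) : Set G) ⊔ D = ⊤ at h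
    rw [Subgroup.map_subgroupOf_eq_of_le (inf_le_right : T ≤ D)] at h
    rw [eq_top_iff, ← h]
    exact sup_le le_sup_right (hDsup.trans (sup_le_sup_left Subgroup.le_normalizer _))
  obtain ⟨A₀, hA₀, hA₀P⟩ := Thompson.exists_maxEA_le_sylow (p := p) P
  have hJeq : J = sSup {A | A ∈ Cfsg.maxElementaryAbelianSubgroups p G ∧ A ≤ (P : Subgroup G)} :=
    Thompson.thompsonSubgroupOf_eq hA₀ hA₀P
  have hWA : ∀ A ∈ Cfsg.maxElementaryAbelianSubgroups p G, A ≤ (P : Subgroup G) →
      ∀ a ∈ A, ∀ w ∈ Wg, a * w = w * a := by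
    rintro A hA hAP a ha _ ⟨w, hw, rfl⟩
    have haJ : a ∈ J := by
      rw [hJeq]; exact le_sSup (s := {A | A ∈ Cfsg.maxElementaryAbelianSubgroups p G ∧ A ≤ (P : Subgroup G)})
        ⟨hA, hAP⟩ ha
    obtain ⟨a', ha', rfl⟩ := haJ
    have hle : Cfsg.omegaCenterThompson p ↥(P : Subgroup G) ≤
        Subgroup.centralizer (Cfsg.thompsonSubgroup p ↥(P : Subgroup G) : Set ↥(P : Subgroup G)) := by
      rw [Cfsg.omegaCenterThompson, Cfsg.omegaOne, Subgroup.closure_le]
      exact fun z hz => hz.1.2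
    exact congrArg Subtype.val (Subgroup.mem_centralizer_iff.mp (hle (le_omegaCenterThompson hw)) a' ha')
  -- maximal elementary abelian subgroups of `T` centralise `V`
  have hTV : ∀ A ∈ Cfsg.maxElementaryAbelianSubgroups p G, A ≤ T →
      A ≤ Subgroup.centralizer (V : Set G) := by
    intro A hA hAT a ha
    rw [Subgroup.mem_centralizer_iff]
    intro v hv
    have : V ≤ Subgroup.centralizer {a} := (Subgroup.closure_le _).mpr fun x hx => by
      rw [Group.mem_conjugatesOfSet_iff] at hx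
      obtain ⟨w, hw, hwx⟩ := hx
      obtain ⟨g, rfl⟩ := isConj_iff.mp hwx
      rw [SetLike.mem_coe, Subgroup.mem_centralizer_singleton_iff]
      have hg : g ∈ ((C : Set G) * (Subgroup.normalizer (T : Set G) : Set G)) := by
        rw [← Subgroup.normal_mul, htop]; trivial
      obtain ⟨c, hc, n, hn, rfl⟩ := hg
      have hnw : n * w * n⁻¹ ∈ V := Subgroup.normalClosure_normal.conj_mem _ (hWV hw) n
      have e : c * n * w * (c * n)⁻¹ = n * w * n⁻¹ := by
        calc c * n * w * (c * n)⁻¹ = c * (n * w * n⁻¹) * c⁻¹ := by group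
          _ = _ := by rw [← Subgroup.mem_centralizer_iff.mp hc _ hnw, mul_inv_cancel_right]
      rw [e]
      have hA' : A.map (MulAut.conj n⁻¹).toMonoidHom ≤ T := by
        rintro _ ⟨b, hb, rfl⟩
        simpa using (Subgroup.mem_normalizer_iff.mp (inv_mem hn) b).mp (hAT hb)
      have h := hWA _ (Thompson.maxEA_map_equiv (MulAut.conj n⁻¹) hA) (hA'.trans inf_le_left)
        _ (Subgroup.mem_map_of_mem _ ha) w hw
      simp only [MulEquiv.coe_toMonoidHom, MulAut.conj_apply, inv_inv] at h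
      calc n * w * n⁻¹ * a = n * (w * (n⁻¹ * a * n)) * n⁻¹ := by group
        _ = n * (n⁻¹ * a * n * w) * n⁻¹ := by rw [h]
        _ = a * (n * w * n⁻¹) := by group
    exact Subgroup.mem_centralizer_singleton_iff.mp (this hv)
  -- all maximal elementary abelian subgroups of `P` centralise `V`
  have hPV : ∀ A ∈ Cfsg.maxElementaryAbelianSubgroups p G, A ≤ (P : Subgroup G) →
      A ≤ Subgroup.centralizer (V : Set G) := by
    intro A hA hAP
    by_contra hne
    obtain ⟨h0, hq0, hne0⟩ := ReplacementEA.replacement hVEA hA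
    set A' := ⁅V, A⁆ ⊔ (A ⊓ Subgroup.centralizer ((⁅V, A⁆ : Subgroup G) : Set G))
    refine hne0 (fun e => hne ?_) ?_
    · rw [Subgroup.commutator_eq_bot_iff_le_centralizer] at e
      exact Subgroup.le_centralizer_iff.mp e
    · rw [Subgroup.commutator_eq_bot_iff_le_centralizer]
      refine Subgroup.le_centralizer_iff.mp (hTV A' h0 (le_inf ?_ fun a ha => ?_))
      · have hVQ : V ≤ Q := Subgroup.normalClosure_le_normal hWQ
        exact sup_le ((Subgroup.commutator_le_left V A).trans (hVQ.trans hQP)) (inf_le_left.trans hAP)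
      · refine hV V hVEA a (le_bot_iff.mp (le_trans ?_ hq0.le))
        exact Subgroup.commutator_mono (Subgroup.commutator_mono le_rfl (Subgroup.zpowers_le.mpr ha))
          (Subgroup.zpowers_le.mpr ha)
  have hJT : Cfsg.thompsonSubgroupOf p T = J := by
    have hA₀T : A₀ ≤ T := le_inf hA₀P ((hPV A₀ hA₀ hA₀P).trans (QuotientGroup.le_comap_mk' C _))
    rw [hJeq, Thompson.thompsonSubgroupOf_eq hA₀ hA₀T]
    congr 1
    ext A
    exact ⟨fun h => ⟨h.1, h.2.trans inf_le_left⟩,
      fun h => ⟨h.1, le_inf h.2 ((hPV A h.1 h.2).trans (QuotientGroup.le_comap_mk' C _))⟩⟩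
  rw [← Subgroup.normalizer_eq_top_iff, eq_top_iff, ← htop]
  refine sup_le ?_ (le_trans ?_ hNW)
  · exact (Subgroup.centralizer_le (SetLike.coe_subset_coe.mpr hWV)).trans
      (Subgroup.centralizer_le_normalizer _)
  · rw [hNdef, ← hJT]
    exact Thompson.normalizer_le_normalizer_thompsonOf _

/-- Stability on `O_p(G) / Φ(O_p(G))` puts every element quadratic on `O_p(G)` into `O_p(G)`. -/
theorem mem_pCore_of_section (hc : Subgroup.centralizer (Cfsg.pCore p G : Set G) ≤ Cfsg.pCore p G)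
    (hs : Cfsg.IsPStableOnSection p (Cfsg.pCore p G)
      ((frattini ↥(Cfsg.pCore p G)).map (Cfsg.pCore p G).subtype))
    (a : G) (hq : ⁅⁅Cfsg.pCore p G, Subgroup.zpowers a⁆, Subgroup.zpowers a⁆ = ⊥) :
    a ∈ Cfsg.pCore p G := by
  set Q := Cfsg.pCore p G with hQdef
  set Φ := (frattini ↥Q).map Q.subtype with hΦ
  have hQp : IsPGroup p Q := Cores.isPGroup_pCore p
  obtain ⟨D, hDn, hKD, ⟨k, hk⟩, haD⟩ := hs a (hq.le.trans bot_le)
  set K := Cfsg.sectionKernel Q Φ with hK
  have hKp : IsPGroup p K := by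
    rintro ⟨x, hx⟩
    obtain ⟨x₁, b, hxab, ⟨i, hi⟩, hb, -, hbmem⟩ : ∃ x₁ b : G, x = x₁ * b ∧ (∃ i, orderOf x₁ = p ^ i) ∧
        (orderOf b).Coprime p ∧ x₁ ∈ Subgroup.zpowers x ∧ b ∈ Subgroup.zpowers x :=
      ZJConstrained.isPStableOn_quotient.exists_parts x
    have hbK : b ∈ K := Subgroup.zpowers_le.mpr hx hbmem
    have hbQ : b ∈ Subgroup.centralizer (Q : Set G) := by
      refine (Coprime.le_centralizer_of_frattini (A := Subgroup.zpowers b) (K := Q)
        (by rw [Subgroup.normalizer_eq_top]; exact le_top) ?_ ?_) (Subgroup.mem_zpowers b)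
      · obtain ⟨j, hj⟩ := IsPGroup.iff_card.mp (hQp.to_subgroup (frattini Q))
        rw [Nat.card_zpowers, hj]
        exact hb.pow_right j
      · intro c hc' y hy
        have hcK : c ∈ K := Subgroup.zpowers_le.mpr hbK hc'
        rw [← hΦ, ← QuotientGroup.eq_one_iff]
        show QuotientGroup.mk' Φ ⁅c, y⁆ = 1
        rw [map_commutatorElement, commutatorElement_eq_one_iff_mul_comm]
        exact (Subgroup.mem_centralizer_iff.mp hcK _ (Subgroup.mem_map_of_mem _ hy)).symm
    have hb1 : b = 1 := congrArg Subtype.val (Fusion.Basic.eq_one_of_isPGroup_of_coprime hQp (x := ⟨b, hc hbQ⟩) (by rwa [← Subgroup.orderOf_coe]))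
    refine ⟨i, Subtype.ext ?_⟩
    rw [Subgroup.coe_pow, Subgroup.coe_one]
    show x ^ p ^ i = 1
    rw [hxab, hb1, mul_one, ← hi, pow_orderOf_eq_one]
  refine Cores.le_pCore ?_ haD
  obtain ⟨m, hm⟩ := IsPGroup.iff_card.mp hKp
  refine IsPGroup.of_card (n := m + k) ?_
  have h := Subgroup.relIndex_mul_relIndex (⊥ : Subgroup G) K D bot_le hKD
  rw [Subgroup.relIndex_bot_left, Subgroup.relIndex_bot_left, hm, hk, ← pow_add] at h
  exact h.symm

end CfsgLib.Fusion.StableClosure
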