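import Cfsg.Agent.Lib.OddOrder.ZJ
import Cfsg.Agent.Lib.Fusion.ZJGeneral
import Cfsg.Agent.Lib.Fusion.ZJBridge

set_option autoImplicit false
set_option linter.style.haveILetI false

/-!
The full centre of the elementary Thompson subgroup is normal under `p`-stability; the odd-order argument of
`Cfsg.Agent.Lib.OddOrder.ZJ` with stability as a hypothesis.
-/

namespace CfsgLib.Fusion.ZJFull

open scoped commutatorElement Pointwise
open CfsgLib.OddOrder CfsgLib.OddOrder.ZJ

variable {G : Type*} [Group G] [Finite G] {p : ℕ}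

/-- Quadratic action on the elements of order `p` of a normal class-two `p`-group forces `A` into the largest
normal subgroup stabilising `X`. -/
theorem le_normalCore [Fact p.Prime]
    (hst : ∀ (P : Subgroup G) [P.Normal], IsPGroup p P → Cfsg.IsPStableOn p P) (hp : p ≠ 2) (B : Subgroup G)
    [B.Normal] (hB : IsPGroup p B) (hcB : ∀ u ∈ B, ∀ v ∈ B, ∀ z ∈ B, Commute ⁅u, v⁆ z)
    (X : Subgroup G) (hXB : X ≤ B) (S : Sylow p G) (hSX : (S : Subgroup G) ≤ Subgroup.normalizer (X : Set G))
    (A : Subgroup G) [IsMulCommutative A]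
    (hA : ∀ b ∈ B, b ^ p = 1 → b ∈ Subgroup.normalizer (A : Set G)) :
    A ≤ (Subgroup.normalizer (X : Set G)).normalCore := by
  have hzp : ∀ u ∈ B, ∀ v ∈ B, u ^ p = 1 → v ^ p = 1 → (u * v) ^ p = 1 := by
    intro u hu v hv hup hvp
    set z := ⁅v, u⁆ with hz
    have hzu : Commute z u := hcB v hv u hu u hu
    have hzv : Commute z v := hcB v hv u hu v hv
    have hvu : v * u = z * (u * v) := by simp only [hz, commutatorElement_def]; group
    have h1 := OmegaLemma.pow_mul_comm_central hvu hzv hzu p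
    rw [hvp, one_mul, mul_one] at h1
    have hzp : z ^ p = 1 := mul_right_cancel (h1.symm.trans (one_mul u).symm)
    rw [OmegaLemma.mul_pow_central hvu hzv hzu p, hup, hvp]
    obtain ⟨c, hc⟩ : p ∣ p.choose 2 :=
      (Fact.out : p.Prime).dvd_choose_self (by norm_num)
        (lt_of_le_of_ne (Fact.out : p.Prime).two_le (Ne.symm hp))
    rw [hc, pow_mul, hzp]; simp
  let Om : Subgroup G :=
    { carrier := {b | b ∈ B ∧ b ^ p = 1}
      one_mem' := ⟨one_mem _, one_pow p⟩
      mul_mem' := fun {a b} ha hb => ⟨mul_mem ha.1 hb.1, hzp a ha.1 b hb.1 ha.2 hb.2⟩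
      inv_mem' := fun {a} ha => ⟨inv_mem ha.1, by rw [inv_pow, ha.2, inv_one]⟩ }
  haveI hOmn : Om.Normal := ⟨fun b hb g => ⟨‹B.Normal›.conj_mem b hb.1 g, by
    rw [conj_pow, hb.2, mul_one, mul_inv_cancel]⟩⟩
  have hOmp : IsPGroup p Om := hB.to_le fun b hb => hb.1
  set C := Subgroup.centralizer (B : Set G) with hC
  set C1 := Subgroup.centralizer (Om : Set G) with hC1
  set D := (Cfsg.pCore p (G ⧸ C1)).comap (QuotientGroup.mk' C1) with hD
  haveI hDn : D.Normal := (inferInstance : (Cfsg.pCore p (G ⧸ C1)).Normal).comap _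
  haveI hC1n : C1.Normal := inferInstance
  have hCC1 : C ≤ C1 := Subgroup.centralizer_le fun b hb => hb.1
  have hCH : C ≤ Subgroup.normalizer (X : Set G) :=
    (Subgroup.centralizer_le (SetLike.coe_subset_coe.mpr hXB)).trans
      (Subgroup.centralizer_le_normalizer _)
  have hC1q : IsPGroup p (C1.map (QuotientGroup.mk' C)) := by
    rintro ⟨_, g, hg, rfl⟩
    obtain ⟨k, m, hm, hkm⟩ :=
      Nat.exists_eq_pow_mul_and_not_dvd (orderOf_pos g).ne' p (Fact.out : p.Prime).ne_one
    refine ⟨k, Subtype.ext ?_⟩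
    show (QuotientGroup.mk' C g) ^ p ^ k = 1
    rw [← map_pow]
    refine (QuotientGroup.eq_one_iff _).mpr ?_
    have hord : orderOf (g ^ p ^ k) = m := by
      rw [orderOf_pow_of_dvd (pow_ne_zero _ (Fact.out : p.Prime).ne_zero) (hkm ▸ Dvd.intro _ rfl), hkm,
        Nat.mul_div_cancel_left _ (pow_pos (Fact.out : p.Prime).pos _)]
    refine OmegaLemma.le_centralizer_of_fix_orderP (A := Subgroup.zpowers (g ^ p ^ k)) hp hB
      (by rw [Subgroup.normalizer_eq_top]; exact le_top)
      (by rw [Nat.card_zpowers, hord]; exact (((Fact.out : p.Prime).coprime_iff_not_dvd).mpr hm).symm)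
      (fun b hb hbp => ?_) (Subgroup.mem_zpowers _)
    rw [Subgroup.zpowers_le, Subgroup.mem_centralizer_singleton_iff]
    exact (Subgroup.mem_centralizer_iff.mp (pow_mem hg (p ^ k)) b ⟨hb, hbp⟩).symm
  have hC1H : C1 ≤ Subgroup.normalizer (X : Set G) :=
    le_of_isPGroup_map hCC1 hC1q S hCH (inf_le_left.trans hSX)
  have hC1D : C1 ≤ D := fun c hc => by
    rw [hD, Subgroup.mem_comap, QuotientGroup.mk'_apply, (QuotientGroup.eq_one_iff c).mpr hc]
    exact one_mem _
  have hDH : D ≤ Subgroup.normalizer (X : Set G) := by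
    refine le_of_isPGroup_map hC1D ?_ S hC1H (inf_le_left.trans hSX)
    rw [hD, Subgroup.map_comap_eq_self_of_surjective (QuotientGroup.mk'_surjective C1)]
    exact Solvable.Cores.isPGroup_pCore p
  haveI := hDn
  refine le_trans ?_ (Subgroup.normal_le_normalCore.mpr hDH)
  exact fun a ha => hst Om hOmp a (ZJGeneral.quadratic_mono (B := Om) (A := A)
    (PStable.commutator_commutator_of_abelian fun b hb => hA b hb.1 hb.2) ha)

/-- `B ∩ Z(J(S))` is normal for every normal `p`-subgroup `B`. -/
theorem inter_normal [Fact p.Prime]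
    (hst : ∀ (P : Subgroup G) [P.Normal], IsPGroup p P → Cfsg.IsPStableOn p P) (hp : p ≠ 2)
    (S : Sylow p G) (B : Subgroup G) (hBn : B.Normal) (hB : IsPGroup p B) :
    (B ⊓ Cfsg.centerThompsonOf p (S : Subgroup G)).Normal := by
  induction hk : Nat.card B using Nat.strong_induction_on generalizing B with
  | _ k ih =>
  subst hk
  set J := Cfsg.thompsonSubgroupOf p (S : Subgroup G) with hJ
  set Z := Cfsg.centerThompsonOf p (S : Subgroup G) with hZdef
  set X := B ⊓ Z with hX
  haveI := hBn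
  rcases eq_or_ne B ⊥ with hbot | hbot
  · rw [hX, hbot, bot_inf_eq]; infer_instance
  rcases (Subgroup.normalClosure_le_normal (N := B) (s := (X : Set G))
      fun x hx => hx.1).lt_or_eq with hlt | hgen
  · have h := ih _ (Set.ncard_lt_ncard (SetLike.coe_ssubset_coe.mpr hlt)) _
      inferInstance (hB.to_le hlt.le) rfl
    have e : Subgroup.normalClosure (X : Set G) ⊓ Z = X := le_antisymm (inf_le_inf_right _ hlt.le)
      (le_inf Subgroup.le_normalClosure inf_le_right)
    rwa [e] at h
  have hZS : Z ≤ (S : Subgroup G) := inf_le_left.trans (Fusion.Thompson.thompsonSubgroupOf_le _)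
  have hBS : B ≤ (S : Subgroup G) := hB.le_sylow_of_normal S
  have hSZ : (S : Subgroup G) ≤ Subgroup.normalizer (Z : Set G) :=
    Subgroup.le_normalizer.trans (centerThompsonOf_normalizer _)
  have hSX : (S : Subgroup G) ≤ Subgroup.normalizer (X : Set G) := by
    refine le_trans ?_ (Subgroup.inf_normalizer_le_normalizer_inf (H := B) (K := Z))
    exact le_inf (by rw [Subgroup.normalizer_eq_top]; exact le_top) hSZ
  -- `N = B' ∩ Z`
  set K := ⁅B, B⁆ with hK
  have hKlt : K < B := by
    haveI : Group.IsSolvable B := by haveI := hB.isNilpotent; infer_instance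
    haveI : Nontrivial B := (Subgroup.nontrivial_iff_ne_bot B).mpr hbot
    have h1 := Group.IsSolvable.commutator_lt_top_of_nontrivial B
    rw [hK, ← Subgroup.map_subtype_commutator B]
    conv_rhs => rw [← Subgroup.range_subtype B, MonoidHom.range_eq_map]
    exact (Subgroup.map_lt_map_iff_of_injective B.subtype_injective).mpr h1
  haveI hNn : (K ⊓ Z).Normal :=
    ih _ (Set.ncard_lt_ncard (SetLike.coe_ssubset_coe.mpr hKlt)) K inferInstance (hB.to_le hKlt.le) rfl
  have hBN : ∀ u ∈ B, ∀ v ∈ B, ⁅u, v⁆ ∈ K ⊓ Z := by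
    set q := QuotientGroup.mk' (K ⊓ Z) with hq
    set R := Subgroup.centralizer ((B.map q : Subgroup _) : Set (G ⧸ (K ⊓ Z))) with hR
    haveI hBq : (B.map q).Normal := hBn.map q (QuotientGroup.mk'_surjective _)
    haveI hRn : R.Normal := inferInstance
    haveI : (R.comap q).Normal := hRn.comap q
    have hXR : (X : Set G) ⊆ (R.comap q : Subgroup G) := by
      intro x hx
      rw [SetLike.mem_coe, Subgroup.mem_comap, hR, Subgroup.mem_centralizer_iff]
      rintro _ ⟨b, hb, rfl⟩
      have h1 : ⁅b, x⁆ ∈ K ⊓ Z := by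
        refine ⟨Subgroup.commutator_mem_commutator hb hx.1, ?_⟩
        exact Subgroup.le_normalizer_iff_commutator_le_right.mp (hBS.trans hSZ)
          (Subgroup.commutator_mem_commutator hb hx.2)
      have h2 : q ⁅b, x⁆ = 1 := (QuotientGroup.eq_one_iff _).mpr h1
      rw [map_commutatorElement] at h2
      exact commutatorElement_eq_one_iff_mul_comm.mp h2
    have hBR : B ≤ R.comap q := hgen.ge.trans (Subgroup.normalClosure_le_normal hXR)
    intro u hu v hv
    refine (QuotientGroup.eq_one_iff _).mp ?_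
    show q ⁅u, v⁆ = 1
    rw [map_commutatorElement]
    exact commutatorElement_eq_one_iff_mul_comm.mpr
      (Subgroup.mem_centralizer_iff.mp (hBR hv) _ ⟨u, hu, rfl⟩)
  have hcB : ∀ u ∈ B, ∀ v ∈ B, ∀ z ∈ B, Commute ⁅u, v⁆ z := by
    have hXC : (X : Set G) ⊆ (Subgroup.centralizer ((K ⊓ Z : Subgroup G) : Set G) : Subgroup G) := by
      intro x hx
      rw [SetLike.mem_coe, Subgroup.mem_centralizer_iff]
      intro n hn
      exact Subgroup.mem_centralizer_iff.mp hx.2.2 n hn.2.1
    have hBC : B ≤ Subgroup.centralizer ((K ⊓ Z : Subgroup G) : Set G) :=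
      hgen.ge.trans (Subgroup.normalClosure_le_normal hXC)
    exact fun u hu v hv z hz => Subgroup.mem_centralizer_iff.mp (hBC hz) _ (hBN u hu v hv)
  set L := (Subgroup.normalizer (X : Set G)).normalCore with hL
  haveI hLn : L.Normal := Subgroup.normalCore_normal _
  have hBL : B ≤ L := Subgroup.normal_le_normalCore.mpr (hBS.trans hSX)
  have hLX : L ≤ Subgroup.normalizer (X : Set G) := Subgroup.normalCore_le _
  obtain ⟨Q, hQ⟩ := Puig.exists_sylow_inf L S
  have hFr := Sylow.normalizer_sup_eq_top (N := L) Q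
  rw [hQ] at hFr
  set U := (S : Subgroup G) ⊓ L with hU
  by_cases hall : ∀ A, IsMaxEA p (S : Subgroup G) A → A ≤ L
  · refine Subgroup.normalizer_eq_top_iff.mp (eq_top_iff.mpr (hFr.ge.trans (sup_le ?_ hLX)))
    have hJU : J ≤ U := by
      rw [hJ, thompsonOf_eq]
      exact sSup_le fun A hA => le_inf hA.1 (hall A hA)
    have h1 : Subgroup.normalizer (U : Set G) ≤ Subgroup.normalizer (Z : Set G) := by
      refine (Fusion.Thompson.normalizer_le_normalizer_thompsonOf (p := p) U).trans ?_
      rw [thompsonOf_eq_of_le inf_le_left hJU]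
      exact normalizer_le_normalizer_center _
    refine le_trans ?_ (Subgroup.inf_normalizer_le_normalizer_inf (H := B) (K := Z))
    exact le_inf (le_top.trans (le_of_eq (Subgroup.normalizer_eq_top (H := B)).symm)) h1
  · exfalso
    push Not at hall
    obtain ⟨A, ⟨hA, hAL⟩, hAmax⟩ := Set.exists_max_image
      {A : Subgroup G | IsMaxEA p (S : Subgroup G) A ∧ ¬ A ≤ L}
      (fun A => Nat.card (B ⊓ A : Subgroup G)) (Set.toFinite _) hall
    haveI := hA.2.1.1
    by_cases hBA : B ≤ Subgroup.normalizer (A : Set G)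
    · exact hAL (le_normalCore hst hp B hB hcB X inf_le_left S hSX A fun b hb _ => hBA hb)
    have hcA : ∀ u ∈ B, ∀ v ∈ B, ∀ a ∈ A, Commute ⁅u, v⁆ a := fun u hu v hv a ha =>
      (Subgroup.mem_centralizer_iff.mp (hBN u hu v hv).2.2 a (le_thompsonOf hA ha)).symm
    obtain ⟨A', hA'e, hA'c, hA'le, hA'N, hA'lt⟩ := Replacement.exists_replacement hp B A
      (S.isPGroup'.to_le (sup_le hBS hA.1)) hA.2.1
      (by rw [Subgroup.normalizer_eq_top]; exact le_top) hcB hcA hBA
    have hA' : IsMaxEA p (S : Subgroup G) A' :=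
      ⟨hA'le.trans (sup_le hBS hA.1), hA'e, fun C hC hC' => (hA.2.2 C hC hC').trans hA'c⟩
    have hA'L : A' ≤ L := by
      by_contra h
      exact absurd (hAmax A' ⟨hA', h⟩) (not_le.mpr (Set.ncard_lt_ncard (SetLike.coe_ssubset_coe.mpr hA'lt)))
    have hA'U : A' ≤ U := le_inf hA'.1 hA'L
    set Y := Cfsg.thompsonSubgroupOf p U with hY
    have hYJ : Y ≤ J := by
      rw [hY, hJ, thompsonOf_eq, thompsonOf_eq]
      exact sSup_le_sSup fun C hC => isMaxEA_iff_of_le inf_le_left hA' hA'U hC
    have hA'Y : A' ≤ Y := le_thompsonOf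
      ⟨hA'U, hA'e, fun C hC hC' => hA'.2.2 C (hC.trans inf_le_left) hC'⟩
    have hBY : B ≤ Subgroup.centralizer (Y : Set G) := by
      refine hgen.ge.trans ?_
      rw [Subgroup.normalClosure, Subgroup.closure_le]
      intro c hc
      obtain ⟨x, hx, hconj⟩ := Group.mem_conjugatesOfSet_iff.mp hc
      obtain ⟨g, rfl⟩ := isConj_iff.mp hconj
      have hg : g ∈ ((Subgroup.normalizer (U : Set G) ⊔ L : Subgroup G) : Set G) := by
        rw [hFr]; exact Subgroup.mem_top g
      rw [Subgroup.mul_normal] at hg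
      obtain ⟨n, hn, l, hl, rfl⟩ := Set.mem_mul.mp hg
      have h1 : l * x * l⁻¹ ∈ X := (Subgroup.mem_normalizer_iff.mp (hLX hl) x).mp hx
      have h2 : l * x * l⁻¹ ∈ Subgroup.centralizer (Y : Set G) :=
        Subgroup.centralizer_le (SetLike.coe_subset_coe.mpr hYJ) h1.2.2
      have hnY := Fusion.Thompson.normalizer_le_normalizer_thompsonOf (p := p) U hn
      rw [SetLike.mem_coe, Subgroup.mem_centralizer_iff]
      intro y hy
      have hy' : n⁻¹ * y * n ∈ Y :=
        (Subgroup.mem_normalizer_iff.mp hnY (n⁻¹ * y * n)).mpr (by simpa [mul_assoc] using hy)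
      calc y * (n * l * x * (n * l)⁻¹) = n * ((n⁻¹ * y * n) * (l * x * l⁻¹)) * n⁻¹ := by group
        _ = n * ((l * x * l⁻¹) * (n⁻¹ * y * n)) * n⁻¹ := by
              rw [Subgroup.mem_centralizer_iff.mp h2 _ hy']
        _ = _ := by group
    refine hAL (le_normalCore hst hp B hB hcB X inf_le_left S hSX A fun b hb hbp => hA'N ?_)
    have hEA := Replacement.isEA_sup hA'e (Replacement.isEA_zpowers hbp) (by
      rw [Subgroup.le_centralizer_iff]
      exact Subgroup.zpowers_le.mpr
        (Subgroup.centralizer_le (SetLike.coe_subset_coe.mpr hA'Y) (hBY hb)))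
    have hle := hA'.2.2 _ (sup_le hA'.1 (Subgroup.zpowers_le.mpr (hBS hb))) hEA
    rw [Subgroup.eq_of_le_of_card_ge (le_sup_left : A' ≤ A' ⊔ Subgroup.zpowers b) hle]
    exact Subgroup.mem_sup_right (Subgroup.mem_zpowers b)

/-- Glauberman's theorem for the full centre of the elementary Thompson subgroup. -/
theorem centerThompson_normal [Fact p.Prime] (hp : p ≠ 2)
    (hc : Subgroup.centralizer (Cfsg.pCore p G : Set G) ≤ Cfsg.pCore p G)
    (hst : ∀ (P : Subgroup G) [P.Normal], IsPGroup p P → Cfsg.IsPStableOn p P) (S : Sylow p G) :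
    (Cfsg.centerThompsonOf p (S : Subgroup G)).Normal := by
  set Z := Cfsg.centerThompsonOf p (S : Subgroup G) with hZ
  have hOp : IsPGroup p (Cfsg.pCore p G) := Solvable.Cores.isPGroup_pCore p
  have hSZ : (S : Subgroup G) ≤ Subgroup.normalizer (Z : Set G) :=
    Subgroup.le_normalizer.trans (centerThompsonOf_normalizer _)
  haveI : IsMulCommutative Z := Subgroup.le_centralizer_iff_isMulCommutative.mp
    (inf_le_right.trans (Subgroup.centralizer_le (SetLike.coe_subset_coe.mpr inf_le_left)))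
  have hle : Z ≤ Cfsg.pCore p G := by
    set C := Subgroup.centralizer (Cfsg.pCore p G : Set G) with hC
    set D := (Cfsg.pCore p (G ⧸ C)).comap (QuotientGroup.mk' C) with hD
    haveI hDn : D.Normal := (inferInstance : (Cfsg.pCore p (G ⧸ C)).Normal).comap _
    have hDp : IsPGroup p D := (Solvable.Cores.isPGroup_pCore p).comap_of_ker_isPGroup _
      (by rw [QuotientGroup.ker_mk']; exact hOp.to_le hc)
    refine le_trans (fun a ha => ?_) (Solvable.Cores.le_pCore hDp)
    exact hst (Cfsg.pCore p G) hOp a (ZJGeneral.quadratic_mono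
      (PStable.commutator_commutator_of_abelian ((hOp.le_sylow_of_normal S).trans hSZ)) ha)
  have := inter_normal hst hp S (Cfsg.pCore p G) inferInstance hOp
  rwa [inf_eq_right.mpr hle] at this

end CfsgLib.Fusion.ZJFull
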