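import Cfsg.Agent.Lib.Solvable.ThompsonComplement
import Cfsg.Agent.Lib.Fusion.ZJConstrained
import Cfsg.Agent.Lib.Fusion.ZJFull
import Cfsg.Agent.Lib.Fusion.StableClosure

/-!
The normal `p`-complement theorem of Glauberman and Thompson, for any characteristic subgroup functor
satisfying the `ZJ` theorem.
-/

open scoped Pointwise commutatorElement
set_option linter.style.haveILetI false
set_option linter.unusedSectionVars false

namespace CfsgLib.Fusion.GlaubermanThompson

open CfsgLib.Solvable.Basic CfsgLib.Solvable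

universe u

/-- A subgroup functor on finite groups satisfying the conclusion of the `ZJ` theorem at the prime `p`. -/
structure ZFun (p : ℕ) where
  w : ∀ {G : Type u} [Group G], Subgroup G → Subgroup G
  le : ∀ {G : Type u} [Group G] [Finite G] (U : Subgroup G), w U ≤ U
  map_inj : ∀ {G H : Type u} [Group G] [Group H] [Finite G] (f : G →* H), Function.Injective f →
    ∀ U : Subgroup G, w (U.map f) = (w U).map f
  ne_bot : ∀ {G : Type u} [Group G] [Finite G] (U : Subgroup G), IsPGroup p U → U ≠ ⊥ → w U ≠ ⊥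
  normal_of_stable : ∀ {G : Type u} [Group G] [Finite G],
    Subgroup.centralizer (Cfsg.pCore p G : Set G) ≤ Cfsg.pCore p G →
    (∀ (P : Subgroup G) [P.Normal], IsPGroup p P → Cfsg.IsPStableOn p P) →
    ∀ S : Sylow p G, (∀ L : Subgroup G, (S : Subgroup G) ≤ L → L ≠ ⊤ → L = S) →
      (w (S : Subgroup G)).Normal

variable {p : ℕ} (W : ZFun.{u} p) {G : Type u} [Group G] [Finite G]

theorem ZFun.normalizer_le (U : Subgroup G) :
    Subgroup.normalizer (U : Set G) ≤ Subgroup.normalizer (W.w U : Set G) := by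
  intro g hg
  have key : ∀ h ∈ Subgroup.normalizer (U : Set G), ∀ y ∈ W.w U, h * y * h⁻¹ ∈ W.w U := by
    intro h hh y hy
    have hU : U.map (MulAut.conj h).toMonoidHom = U := by
      ext x
      simp only [Subgroup.mem_map]
      constructor
      · rintro ⟨z, hz, rfl⟩
        exact (Subgroup.mem_normalizer_iff.mp hh z).mp hz
      · intro hx
        refine ⟨h⁻¹ * x * h, ?_, ?_⟩
        · simpa using (Subgroup.mem_normalizer_iff.mp (inv_mem hh) x).mp hx
        · simp [mul_assoc]
    have e := W.map_inj (MulAut.conj h).toMonoidHom (MulAut.conj h).injective U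
    rw [hU] at e
    rw [e]
    exact ⟨y, hy, rfl⟩
  rw [Subgroup.mem_normalizer_iff]
  intro y
  refine ⟨key g hg y, fun h => ?_⟩
  simpa [mul_assoc] using key g⁻¹ (inv_mem hg) _ h

theorem ZFun.map_quotient [Fact p.Prime] {N : Subgroup G} [N.Normal] (hN : (Nat.card N).Coprime p)
    {R : Subgroup G} (hR : IsPGroup p R) :
    W.w (R.map (QuotientGroup.mk' N)) = (W.w R).map (QuotientGroup.mk' N) := by
  have e1 : R.map (QuotientGroup.mk' N) = (⊤ : Subgroup R).map ((QuotientGroup.mk' N).comp R.subtype) := by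
    rw [← Subgroup.map_map, ← MonoidHom.range_eq_map, Subgroup.range_subtype]
  have e2 : R = (⊤ : Subgroup R).map R.subtype := by
    rw [← MonoidHom.range_eq_map, Subgroup.range_subtype]
  rw [e1, W.map_inj _ (Quotient.inj_of_pGroup hN hR), ← Subgroup.map_map,
    ← W.map_inj _ R.subtype_injective, ← e2]

/-- The hypothesis of the theorem. -/
def Hyp (P : Subgroup G) : Prop :=
  Cfsg.HasNormalPComplement p (Subgroup.normalizer (W.w P : Set G))

theorem Hyp.of_map [Fact p.Prime] {L : Type u} [Group L] (f : L →* G) (hf : Function.Injective f)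
    {S : Subgroup L} (h : Hyp W (S.map f)) : Hyp W S := by
  haveI : Finite L := Finite.of_injective f hf
  refine ThompsonComplement.npc_of_le' f hf ?_ h
  rw [W.map_inj f hf S]
  exact Subgroup.le_normalizer_map f

theorem Hyp.smul [Fact p.Prime] {P : Subgroup G} (h : Hyp W P) (g : G) :
    Hyp W (MulAut.conj g • P) := by
  refine Hyp.of_map W (MulAut.conj g⁻¹).toMonoidHom (MulAut.conj g⁻¹).injective ?_
  rwa [← conj_smul_eq_map, conj_smul_conj_smul, inv_mul_cancel, map_one, one_smul]

/-- `p`-stability when the quotient by `O_p` is an abelian `p'`-group extended by a faithful `p`-group. -/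
theorem stableOn_of_structure [Fact p.Prime] (hp : p ≠ 2) (Q : Subgroup G) [hQn : Q.Normal]
    (hQp : IsPGroup p Q) (hmax : ∀ X : Subgroup G, X.Normal → IsPGroup p X → X ≤ Q)
    (P : Sylow p G) (K : Subgroup (G ⧸ Q)) [hKn : K.Normal] (hKc : (Nat.card K).Coprime p)
    (hKP : K ⊔ (P : Subgroup G).map (QuotientGroup.mk' Q) = ⊤)
    (hsmall : ∀ X : Subgroup (G ⧸ Q), X.Normal → X ≤ K → X = ⊥ ∨ X = K)
    (hcomm : ∀ x ∈ K, ∀ y ∈ K, x * y = y * x)
    (hCK : Subgroup.centralizer (K : Set (G ⧸ Q)) ≤ K)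
    (B : Subgroup G) [hBn : B.Normal] (hB : IsPGroup p B) : Cfsg.IsPStableOn p B := by
  set q := QuotientGroup.mk' Q with hq
  have hqs := QuotientGroup.mk'_surjective Q
  have hker : q.ker = Q := QuotientGroup.ker_mk' Q
  -- dichotomy for normal subgroups
  have hdich : ∀ M : Subgroup G, M.Normal → K ≤ M.map q ∨ M ≤ Q := by
    intro M hM
    haveI : (M.map q).Normal := hM.map q hqs
    rcases hsmall (M.map q ⊓ K) inferInstance inf_le_right with e | e
    · right
      have hcent : M.map q ≤ Subgroup.centralizer (K : Set (G ⧸ Q)) := fun x hx =>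
        Subgroup.mem_centralizer_iff.mpr fun y hy =>
          (Subgroup.commute_of_normal_of_disjoint (M.map q) K inferInstance inferInstance
            (disjoint_iff.mpr e) x y hx hy).eq.symm
      have : M.map q = ⊥ := by
        rw [← e]; exact (inf_eq_left.mpr (hcent.trans hCK)).symm
      rwa [Subgroup.map_eq_bot_iff, hker] at this
    · exact Or.inl (inf_eq_right.mp e)
  -- a `p'`-lift of the elements of `K`
  have hlift : ∀ k ∈ K, ∃ g : G, q g = k ∧ (orderOf g).Coprime p := by
    intro k hk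
    obtain ⟨x, rfl⟩ := hqs k
    obtain ⟨a, b, hab, ⟨i, hi⟩, hb, hax, -⟩ : ∃ a b : G, x = a * b ∧ (∃ i, orderOf a = p ^ i) ∧
        (orderOf b).Coprime p ∧ a ∈ Subgroup.zpowers x ∧ b ∈ Subgroup.zpowers x :=
      ZJConstrained.isPStableOn_quotient.exists_parts x
    refine ⟨b, ?_, hb⟩
    have ha : q a = 1 := by
      have hmem : q a ∈ K := by
        obtain ⟨j, rfl⟩ := Subgroup.mem_zpowers_iff.mp hax
        rw [map_zpow]; exact K.zpow_mem hk j
      exact orderOf_eq_one_iff.mp (Nat.eq_one_of_dvd_coprimes (hKc.pow_right i)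
        (Subgroup.orderOf_dvd_natCard _ hmem) (hi ▸ orderOf_map_dvd q a))
    rw [hab, map_mul, ha, one_mul]
  set C := Subgroup.centralizer (B : Set G) with hC
  rcases hdich C inferInstance with hKC | hCQ
  · -- the acting group is a `p`-group
    intro a _
    have hsurj : (P : Subgroup G).map (QuotientGroup.mk' C) = ⊤ := by
      rw [eq_top_iff]
      intro z _
      obtain ⟨x, rfl⟩ := QuotientGroup.mk'_surjective C z
      have hx : q x ∈ K ⊔ (P : Subgroup G).map q := hKP ▸ Subgroup.mem_top _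
      have hx' : q x ∈ (K : Set (G ⧸ Q)) * ((P : Subgroup G).map q : Set (G ⧸ Q)) := by
        rw [← Subgroup.normal_mul]; exact hx
      obtain ⟨k, hk, _, ⟨s, hs, rfl⟩, he⟩ := hx'
      obtain ⟨c, hc, rfl⟩ := hKC hk
      have hQ : (c * s)⁻¹ * x ∈ Q := by
        refine QuotientGroup.eq.mp ?_
        show q (c * s) = q x
        rw [map_mul]; exact he
      refine ⟨s * ((c * s)⁻¹ * x), P.1.mul_mem hs ((hmax' hQp P) hQ), ?_⟩
      show QuotientGroup.mk' C (s * ((c * s)⁻¹ * x)) = QuotientGroup.mk' C x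
      rw [show s * ((c * s)⁻¹ * x) = c⁻¹ * x by group, map_mul, map_inv,
        show QuotientGroup.mk' C c = 1 from (QuotientGroup.eq_one_iff c).mpr hc, inv_one, one_mul]
    have hP : IsPGroup p (⊤ : Subgroup (G ⧸ C)) := hsurj ▸ P.isPGroup'.map _
    exact Cores.le_pCore hP (Subgroup.mem_top _)
  refine ZJConstrained.isPStableOn_of_pElements hB fun a ⟨ia, hia⟩ hqa => ?_
  suffices haQ : a ∈ Q by
    haveI : (Q.map (QuotientGroup.mk' C)).Normal := hQn.map _ (QuotientGroup.mk'_surjective C)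
    exact Cores.le_pCore (hQp.map _) (Subgroup.mem_map_of_mem (QuotientGroup.mk' C) haQ)
  by_cases hKne : K = ⊥
  · have h : q a ∈ K := hCK (by rw [hKne]; simp [Subgroup.mem_centralizer_iff])
    rw [hKne, Subgroup.mem_bot] at h
    exact (QuotientGroup.eq_one_iff a).mp h
  -- a minimal normal subgroup of `G` inside `B` not centralised by the lifts of `K`
  obtain ⟨B₁, ⟨hB₁, hB₁B, hB₁C⟩, hB₁min⟩ := Set.exists_min_image
    {X : Subgroup G | X.Normal ∧ X ≤ B ∧ ¬ K ≤ (Subgroup.centralizer (X : Set G)).map q}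
    (fun X => Nat.card X) (Set.toFinite _) ⟨B, hBn, le_rfl, fun h => by
      have h2 := h.trans (Subgroup.map_mono (f := q) hCQ)
      rw [(Subgroup.map_eq_bot_iff _).mpr (le_of_eq hker.symm)] at h2
      exact hKne (le_bot_iff.mp h2)⟩
  haveI := hB₁
  have hB₁p : IsPGroup p B₁ := hB.to_le hB₁B
  have hB₁ne : B₁ ≠ ⊥ := by
    intro e
    refine hB₁C ?_
    rw [e, show Subgroup.centralizer ((⊥ : Subgroup G) : Set G) = ⊤ by
      rw [eq_top_iff]; intro x _; simp [Subgroup.mem_centralizer_iff],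
      Subgroup.map_top_of_surjective _ hqs]
    exact le_top
  -- a maximal normal subgroup strictly inside
  obtain ⟨N₁, ⟨hN₁, hN₁B, hN₁ne⟩, hN₁max⟩ := Set.exists_max_image
    {X : Subgroup G | X.Normal ∧ X ≤ B₁ ∧ X ≠ B₁} (fun X => Nat.card X) (Set.toFinite _)
    ⟨⊥, inferInstance, bot_le, hB₁ne.symm⟩
  haveI := hN₁
  set π := QuotientGroup.mk' N₁ with hπ
  have hπs := QuotientGroup.mk'_surjective N₁
  set V := B₁.map π with hV
  haveI hVn : V.Normal := hB₁.map π hπs
  have hVne : V ≠ ⊥ := by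
    rw [hV, Ne, Subgroup.map_eq_bot_iff, QuotientGroup.ker_mk']
    exact fun h => hN₁ne (le_antisymm hN₁B h)
  have hVmin : ∀ X : Subgroup (G ⧸ N₁), X.Normal → X ≤ V → X ≠ ⊥ → X = V := by
    intro X hX hXV hXne
    by_contra hne
    haveI := hX.comap π
    have hXB : X.comap π ≤ B₁ := by
      intro x hx
      obtain ⟨b, hb, hbx⟩ := hXV hx
      simpa using B₁.mul_mem hb (hN₁B (QuotientGroup.eq.mp hbx))
    have h1 := hN₁max (X.comap π) ⟨inferInstance, hXB, fun e => hne (by
      rw [hV, ← e, Subgroup.map_comap_eq_self_of_surjective hπs])⟩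
    have h2 := Subgroup.eq_of_le_of_card_ge (QuotientGroup.le_comap_mk' N₁ X) h1
    refine hXne ?_
    rw [← Subgroup.map_comap_eq_self_of_surjective hπs X, ← h2, QuotientGroup.map_mk'_self]
  set Q' := Q.map π with hQ'
  haveI : Q'.Normal := hQn.map π hπs
  have hB₁Q : B₁ ≤ Q := hmax B₁ hB₁ hB₁p
  have hVQ : V ≤ Q' := Subgroup.map_mono hB₁Q
  have hVcent : V ≤ Subgroup.centralizer (Q' : Set (G ⧸ N₁)) := by
    haveI := (hQp.map π).isNilpotent
    have hne : (V.subgroupOf Q') ⊓ Subgroup.center Q' ≠ ⊥ :=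
      FrattiniFitting.inf_center_ne_bot _ (fun e => hVne (by
        rw [Subgroup.subgroupOf_eq_bot, disjoint_iff, inf_eq_left.mpr hVQ] at e; exact e))
    have hXne : V ⊓ Subgroup.centralizer (Q' : Set (G ⧸ N₁)) ≠ ⊥ := fun e => hne <| by
      rw [eq_bot_iff]
      intro z hz
      have : (z : G ⧸ N₁) ∈ V ⊓ Subgroup.centralizer (Q' : Set (G ⧸ N₁)) :=
        ⟨hz.1, Subgroup.mem_centralizer_iff.mpr fun x hx =>
          congrArg Subtype.val (Subgroup.mem_center_iff.mp hz.2 ⟨x, hx⟩)⟩
      rw [e, Subgroup.mem_bot] at this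
      exact Subgroup.mem_bot.mpr (Subtype.ext this)
    exact inf_eq_left.mp (hVmin _ inferInstance inf_le_left hXne)
  have hVcomm : ∀ x ∈ V, ∀ y ∈ V, x * y = y * x := fun x hx y hy =>
    (Subgroup.mem_centralizer_iff.mp (hVcent hy) x (hVQ hx))
  have hVexp : ∀ x ∈ V, x ^ p = 1 := by
    let Ω : Subgroup (G ⧸ N₁) :=
      { carrier := {x | x ∈ V ∧ x ^ p = 1}
        one_mem' := ⟨one_mem _, one_pow p⟩
        mul_mem' := fun {a b} ha hb => ⟨mul_mem ha.1 hb.1, by
          rw [(show Commute a b from hVcomm a ha.1 b hb.1).mul_pow, ha.2, hb.2, one_mul]⟩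
        inv_mem' := fun {a} ha => ⟨inv_mem ha.1, by rw [inv_pow, ha.2, inv_one]⟩ }
    have hΩn : Ω.Normal := ⟨fun x hx g => ⟨hVn.conj_mem x hx.1 g, by
      rw [conj_pow, hx.2, mul_one, mul_inv_cancel]⟩⟩
    have hΩne : Ω ≠ ⊥ := by
      intro e
      have hVp : IsPGroup p V := hB₁p.map π
      haveI : Nontrivial V := (Subgroup.nontrivial_iff_ne_bot V).mpr hVne
      obtain ⟨k, hk, hVcard⟩ := hVp.nontrivial_iff_card.mp inferInstance
      obtain ⟨v, hv⟩ := exists_prime_orderOf_dvd_card' (G := V) p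
        (hVcard ▸ dvd_pow_self p hk.ne')
      have hmem : (v : G ⧸ N₁) ∈ Ω := ⟨v.2, by
        rw [← Subgroup.coe_pow, ← hv, pow_orderOf_eq_one, Subgroup.coe_one]⟩
      rw [e, Subgroup.mem_bot] at hmem
      rw [show v = 1 from Subtype.ext hmem, orderOf_one] at hv
      exact (Fact.out : p.Prime).ne_one hv.symm
    have hΩ := hVmin Ω hΩn (fun x hx => hx.1) hΩne
    exact fun x hx => (hΩ ▸ hx : x ∈ Ω).2
  -- the kernel of the action on `V` lies in `Q`
  set M := (Subgroup.centralizer (V : Set (G ⧸ N₁))).comap π with hM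
  have hQM : Q ≤ M := fun x hx => Subgroup.mem_centralizer_iff.mpr fun v hv =>
    (Subgroup.mem_centralizer_iff.mp (hVcent hv) (π x) (Subgroup.mem_map_of_mem π hx)).symm
  have hMQ : M ≤ Q := by
    refine (hdich M inferInstance).resolve_left fun hKM => hB₁C fun k hk => ?_
    obtain ⟨g, rfl, hg⟩ := hlift k hk
    obtain ⟨m, hm, hmg⟩ := hKM hk
    have hgM : g ∈ M := by
      simpa using M.mul_mem hm (hQM (QuotientGroup.eq.mp hmg))
    refine ⟨g, ?_, rfl⟩
    -- `g` centralises `N₁`
    have hgN : g ∈ Subgroup.centralizer (N₁ : Set G) := by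
      have hKN : K ≤ (Subgroup.centralizer (N₁ : Set G)).map q := by
        by_contra h
        exact hN₁ne (Subgroup.eq_of_le_of_card_ge hN₁B (hB₁min N₁ ⟨hN₁, hN₁B.trans hB₁B, h⟩))
      obtain ⟨c, hc, hcg⟩ := hKN hk
      set CN := Subgroup.centralizer (N₁ : Set G)
      have hy : c⁻¹ * g ∈ Q := QuotientGroup.eq.mp hcg
      obtain ⟨j, hj⟩ := hQp ⟨_, hy⟩
      have h1 : QuotientGroup.mk' CN g = QuotientGroup.mk' CN (c⁻¹ * g) := by
        rw [map_mul, map_inv,
          show QuotientGroup.mk' CN c = 1 from (QuotientGroup.eq_one_iff c).mpr hc, inv_one, one_mul]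
      have h2 : QuotientGroup.mk' CN g ^ p ^ j = 1 := by
        rw [h1, ← map_pow, show (c⁻¹ * g) ^ p ^ j = 1 from congrArg Subtype.val hj, map_one]
      refine (QuotientGroup.eq_one_iff g).mp (orderOf_eq_one_iff.mp ?_)
      exact Nat.eq_one_of_dvd_coprimes (hg.pow_right j) (orderOf_map_dvd (QuotientGroup.mk' CN) g)
        (orderOf_dvd_of_pow_eq_one h2)
    rw [SetLike.mem_coe, Subgroup.mem_centralizer_iff]
    intro b hb
    have hn : b⁻¹ * (g * b * g⁻¹) ∈ N₁ := by
      rw [← QuotientGroup.eq]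
      show π b = π (g * b * g⁻¹)
      rw [map_mul, map_mul, map_inv, ← Subgroup.mem_centralizer_iff.mp hgM (π b) (Subgroup.mem_map_of_mem π hb),
        mul_inv_cancel_right]
    set n := b⁻¹ * (g * b * g⁻¹) with hndef
    have hgn : Commute g n := (Subgroup.mem_centralizer_iff.mp hgN n hn).symm
    have hpow : ∀ i : ℕ, g ^ i * b * (g ^ i)⁻¹ = b * n ^ i := by
      intro i
      induction i with
      | zero => simp
      | succ i ih =>
        calc g ^ (i + 1) * b * (g ^ (i + 1))⁻¹ = g * (g ^ i * b * (g ^ i)⁻¹) * g⁻¹ := by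
              rw [pow_succ' g]; group
          _ = g * (b * n ^ i) * g⁻¹ := by rw [ih]
          _ = (g * b * g⁻¹) * (g * n ^ i * g⁻¹) := by group
          _ = b * n ^ (i + 1) := by
              rw [(hgn.pow_right i).eq, mul_inv_cancel_right, show g * b * g⁻¹ = b * n by
                rw [hndef]; group, pow_succ', mul_assoc]
    have h1 : n ^ orderOf g = 1 := by
      have := hpow (orderOf g)
      rw [pow_orderOf_eq_one, one_mul, inv_one, mul_one] at this
      exact left_eq_mul.mp this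
    obtain ⟨j, hj⟩ := hB₁p ⟨n, hN₁B hn⟩
    have hn1 : n = 1 := orderOf_eq_one_iff.mp (Nat.eq_one_of_dvd_coprimes (hg.pow_right j)
      (orderOf_dvd_of_pow_eq_one h1) (orderOf_dvd_of_pow_eq_one (congrArg Subtype.val hj)))
    rw [hndef, inv_mul_eq_one, eq_mul_inv_iff_mul_eq] at hn1
    exact hn1
  -- the representation
  letI : CommGroup V :=
    { (inferInstance : Group V) with
      mul_comm := fun x y => Subtype.ext (hVcomm x x.2 y y.2) }
  let ρ : G →* AddMonoid.End (Additive V) :=
    { toFun := fun g => MonoidHom.toAdditive (MulAut.conjNormal (H := V) (π g)).toMonoidHom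
      map_one' := by
        refine AddMonoidHom.ext fun v => ?_
        apply Additive.toMul.injective
        refine Subtype.ext ?_
        show π (1 : G) * ((Additive.toMul v : V) : G ⧸ N₁) * (π (1 : G))⁻¹ = ((Additive.toMul v : V) : G ⧸ N₁)
        simp
      map_mul' := fun g h => by
        refine AddMonoidHom.ext fun v => ?_
        apply Additive.toMul.injective
        refine Subtype.ext ?_
        show π (g * h) * ((Additive.toMul v : V) : G ⧸ N₁) * (π (g * h))⁻¹ =
          π g * (π h * ((Additive.toMul v : V) : G ⧸ N₁) * (π h)⁻¹) * (π g)⁻¹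
        rw [map_mul]; group }
  have hρker : ∀ g : G, ρ g = 1 ↔ g ∈ M := by
    intro g
    rw [hM, Subgroup.mem_comap, Subgroup.mem_centralizer_iff]
    constructor
    · intro h w hw
      have e := congrArg (fun f : AddMonoid.End (Additive V) =>
        ((Additive.toMul (f (Additive.ofMul ⟨w, hw⟩)) : V) : G ⧸ N₁)) h
      change π g * w * (π g)⁻¹ = w at e
      exact (mul_inv_eq_iff_eq_mul.mp e).symm
    · intro h
      refine AddMonoidHom.ext fun v => ?_
      apply Additive.toMul.injective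
      refine Subtype.ext ?_
      show π g * ((Additive.toMul v : V) : G ⧸ N₁) * (π g)⁻¹ = ((Additive.toMul v : V) : G ⧸ N₁)
      rw [← h _ (Additive.toMul v : V).2, mul_inv_cancel_right]
  have hR0 : (p : AddMonoid.End (Additive V)) = 0 := by
    refine DFunLike.ext _ _ fun v => ?_
    rw [AddMonoid.End.natCast_apply]
    apply Additive.toMul.injective
    rw [toMul_nsmul]
    refine Subtype.ext ?_
    rw [Subgroup.coe_pow]
    exact hVexp _ (Additive.toMul v : V).2
  have hquad : (ρ a - 1) * (ρ a - 1) = 0 := by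
    refine AddMonoidHom.ext fun v => ?_
    apply Additive.toMul.injective
    refine Subtype.ext ?_
    set w : G ⧸ N₁ := ((Additive.toMul v : V) : G ⧸ N₁) with hw
    show π a * (π a * w * (π a)⁻¹ / w) * (π a)⁻¹ / (π a * w * (π a)⁻¹ / w) = 1
    obtain ⟨b, hb, hbw⟩ := (Additive.toMul v : V).2
    rw [hw, ← hbw]
    simp only [div_eq_mul_inv, ← map_inv, ← map_mul]
    have hu : a * b * a⁻¹ * b⁻¹ ∈ ⁅B, Subgroup.zpowers a⁆ := by
      rw [Subgroup.commutator_comm, ← commutatorElement_def]
      exact Subgroup.commutator_mem_commutator (Subgroup.mem_zpowers a) (hB₁B hb)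
    have hcomm' : ⁅a * b * a⁻¹ * b⁻¹, a⁆ = 1 := by
      rw [← Subgroup.mem_bot, ← hqa]
      exact Subgroup.commutator_mem_commutator hu (Subgroup.mem_zpowers a)
    rw [commutatorElement_eq_one_iff_mul_comm] at hcomm'
    rw [← hcomm', mul_inv_cancel_right, mul_inv_cancel, map_one]
  have hK1 : ∀ g ∈ K.comap q, g * a * g⁻¹ * a⁻¹ ∈ Q := by
    intro g hg
    refine hMQ ((hρker _).mp (ThompsonReplacement.quadratic_commutator hp hR0 ρ hquad ?_ hg ?_ ?_))
    · rw [Subgroup.normalizer_eq_top]; trivial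
    · intro x hx y hy
      show ρ x * ρ y = ρ y * ρ x
      have e : q (x * y * (y * x)⁻¹) = 1 := by
        rw [map_mul, map_inv, map_mul, map_mul, hcomm _ hx _ hy, mul_inv_cancel]
      have h := (hρker _).mpr (hQM ((QuotientGroup.eq_one_iff _).mp e))
      calc ρ x * ρ y = ρ (x * y * (y * x)⁻¹) * (ρ y * ρ x) := by
            rw [← map_mul, ← map_mul, ← map_mul, inv_mul_cancel_right]
        _ = ρ y * ρ x := by rw [h, one_mul]
    · intro x hx
      refine ⟨Nat.card K, hKc, ?_⟩
      rw [← map_pow]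
      refine (hρker _).mpr (hQM ((QuotientGroup.eq_one_iff _).mp ?_))
      show q (x ^ Nat.card K) = 1
      rw [map_pow, ← orderOf_dvd_iff_pow_eq_one]
      exact Subgroup.orderOf_dvd_natCard _ hx
  have hqaK : q a ∈ K := hCK <| Subgroup.mem_centralizer_iff.mpr fun k hk => by
    obtain ⟨g, rfl⟩ := hqs k
    rw [← commutatorElement_eq_one_iff_mul_comm, ← map_commutatorElement]
    exact (QuotientGroup.eq_one_iff _).mpr (hK1 g hk)
  refine (QuotientGroup.eq_one_iff a).mp (orderOf_eq_one_iff.mp ?_)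
  exact Nat.eq_one_of_dvd_coprimes (hKc.pow_right ia)
    (Subgroup.orderOf_dvd_natCard _ hqaK) (hia ▸ orderOf_map_dvd q a)
where
  hmax' (hQp : IsPGroup p Q) (P : Sylow p G) : Q ≤ (P : Subgroup G) := hQp.le_sylow_of_normal P

theorem npc_aux (hp : p ≠ 2) [Fact p.Prime] : ∀ (n : ℕ) (G : Type u) [Group G] [Finite G],
    Nat.card G = n → ∀ P : Sylow p G, Hyp W (P : Subgroup G) →
      Cfsg.HasNormalPComplement p G := by
  intro n
  induction n using Nat.strong_induction_on with | _ n ih => ?_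
  intro G _ _ hn P hyp
  subst hn
  have hpp : p.Prime := Fact.out
  by_contra hG
  have hypP : ∀ P' : Sylow p G, Hyp W (P' : Subgroup G) := fun P' => by
    obtain ⟨g, hg⟩ := MulAction.exists_smul_eq G P P'
    rw [← hg, Sylow.coe_subgroup_smul]
    exact hyp.smul W g
  -- proper subgroups containing a Sylow subgroup
  have hproper : ∀ L : Subgroup G, L ≠ ⊤ → ∀ P' : Sylow p G, (P' : Subgroup G) ≤ L →
      Cfsg.HasNormalPComplement p L := fun L hL P' hle => by
    refine ih _ (card_subgroup_lt L hL) L rfl (P'.subtype hle) ?_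
    refine Hyp.of_map W L.subtype L.subtype_injective ?_
    rw [Sylow.coe_subtype, Subgroup.map_subgroupOf_eq_of_le hle]
    exact hypP P'
  obtain ⟨U₀, hU₀⟩ : ∃ U : Subgroup G, IsPGroup p U ∧ U ≠ ⊥ ∧
      ¬ Cfsg.HasNormalPComplement p (Subgroup.normalizer (U : Set G)) := by
    by_contra hall
    push Not at hall
    exact hG (Fusion.Alperin.npc_iff_locals.mpr hall)
  obtain ⟨U, ⟨hUp, hU, hUn⟩, hmax⟩ := Set.exists_max_image
    {U : Subgroup G | IsPGroup p U ∧ U ≠ ⊥ ∧
      ¬ Cfsg.HasNormalPComplement p (Subgroup.normalizer (U : Set G))}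
    (fun U => (Nat.card (Subgroup.normalizer (U : Set G))).factorization p) (Set.toFinite _)
    ⟨U₀, hU₀⟩
  set N := Subgroup.normalizer (U : Set G) with hN
  obtain ⟨S⟩ : Nonempty (Sylow p N) := inferInstance
  set S₀ := (S : Subgroup N).map N.subtype with hS₀
  have hS₀p : IsPGroup p S₀ := S.isPGroup'.map _
  obtain ⟨P', hP'⟩ := hS₀p.exists_le_sylow
  have hUS : U ≤ S₀ := by
    haveI : (Subgroup.comap N.subtype U).Normal := Subgroup.normal_in_normalizer
    have h := (hUp.comap_subtype (K := N)).le_sylow_of_normal S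
    have h2 : (U.subgroupOf N).map N.subtype ≤ (S : Subgroup N).map N.subtype :=
      Subgroup.map_mono (f := N.subtype) h
    rwa [Subgroup.map_subgroupOf_eq_of_le Subgroup.le_normalizer] at h2
  have hS₀bot : S₀ ≠ ⊥ := fun e => hU (le_bot_iff.mp (e ▸ hUS))
  have hSeq : S₀ = P' := by
    by_contra hne
    have hlt := CfsgLib.Coprime.lt_normalizer_inf_of_lt P'.isPGroup' (lt_of_le_of_ne hP' hne)
    set T := (P' : Subgroup G) ⊓ Subgroup.normalizer (S₀ : Set G)
    have key : Cfsg.HasNormalPComplement p (Subgroup.normalizer (W.w S₀ : Set G)) := by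
      by_contra hVn
      have h := hmax (W.w S₀) ⟨hS₀p.to_le (W.le _), W.ne_bot _ hS₀p hS₀bot, hVn⟩
      obtain ⟨t, ht⟩ := IsPGroup.iff_card.mp (P'.isPGroup'.to_le (inf_le_left : T ≤ _))
      have h1 : t ≤ (Nat.card (Subgroup.normalizer (W.w S₀ : Set G))).factorization p := by
        refine (hpp.pow_dvd_iff_le_factorization Nat.card_pos.ne').mp ?_
        rw [← ht]
        exact Subgroup.card_dvd_of_le (inf_le_right.trans (W.normalizer_le S₀))
      have h2 : Nat.card S₀ < Nat.card T := by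
        by_contra hge
        exact hlt.ne (Subgroup.eq_of_le_of_card_ge hlt.le (not_lt.mp hge))
      rw [Subgroup.card_subtype, S.card_eq_multiplicity, ht,
        Nat.pow_lt_pow_iff_right hpp.one_lt] at h2
      omega
    refine hUn ?_
    have hNtop : N ≠ ⊤ := by
      intro e
      refine hne ?_
      have hle : (P' : Subgroup G) ≤ N := e ▸ le_top
      have h := S.3 (P'.subtype hle).2 (by
        intro x hx
        exact Subgroup.mem_subgroupOf.mpr (hP' (Subgroup.mem_map_of_mem _ hx)))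
      rw [hS₀, ← h, Sylow.coe_subtype, Subgroup.map_subgroupOf_eq_of_le hle]
    exact ih _ (card_subgroup_lt N hNtop) N rfl S (Hyp.of_map W N.subtype N.subtype_injective key)
  have hUnormal : U.Normal := by
    rw [← Subgroup.normalizer_eq_top_iff]
    by_contra hNtop
    exact hUn (hproper N hNtop P' (hSeq ▸ Subgroup.map_subtype_le _))
  haveI := hUnormal
  set Q := Cfsg.pCore p G with hQdef
  haveI hQn : Q.Normal := Subgroup.sSup_normal _ fun _ h => h.1
  have hQbot : Q ≠ ⊥ := fun e => hU (le_bot_iff.mp (e ▸ Cores.le_pCore hUp))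
  -- the `p'`-core is trivial
  have hO : Cfsg.pPrimeCore p G = ⊥ := by
    by_contra hK
    set K := Cfsg.pPrimeCore p G
    haveI : K.Normal := Subgroup.sSup_normal _ fun _ h => h.1
    have hKc := Cores.coprime_card_pPrimeCore (G := G) p
    refine hG (ThompsonComplement.npc_of_quotient_coprime K hKc ?_)
    set q := QuotientGroup.mk' K with hq
    have hqs := QuotientGroup.mk'_surjective K
    refine ih _ (card_quotient_lt K hK) (G ⧸ K) rfl (P.mapSurjective hqs) ?_
    show Cfsg.HasNormalPComplement p _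
    rw [Sylow.coe_mapSurjective, W.map_quotient hKc P.isPGroup',
      Quotient.normalizer_map hKc (P.isPGroup'.to_le (W.le _))]
    exact Fusion.Basic.npc_of_surjective (q.subgroupMap _) (q.subgroupMap_surjective _) hyp
  have hQP : Q ≤ (P : Subgroup G) := Cores.pCore_le_sylow P
  have hQp : IsPGroup p Q := Cores.isPGroup_pCore p
  have hfinal : ¬ (W.w (P : Subgroup G)).Normal := by
    intro h
    refine hG ((Fusion.Basic.npc_congr Subgroup.topEquiv).mp ?_)
    rw [← Subgroup.normalizer_eq_top_iff.mpr h]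
    exact hyp
  have hPQ : ¬ (P : Subgroup G) ≤ Q := by
    intro h
    refine hfinal ?_
    rw [← Subgroup.normalizer_eq_top_iff, eq_top_iff]
    refine le_trans ?_ (W.normalizer_le _)
    rw [le_antisymm h hQP, Subgroup.normalizer_eq_top]
  -- the quotient by `O_p(G)` has a normal `p`-complement
  set q := QuotientGroup.mk' Q with hq
  have hqs := QuotientGroup.mk'_surjective Q
  set Pb := P.mapSurjective hqs with hPb
  have hPbne : (Pb : Subgroup (G ⧸ Q)) ≠ ⊥ := by
    rw [Sylow.coe_mapSurjective, Ne, Subgroup.map_eq_bot_iff, QuotientGroup.ker_mk']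
    exact hPQ
  have hnormal_small : ∀ X : Subgroup (G ⧸ Q), X.Normal → IsPGroup p X → X = ⊥ := by
    intro X hX hXp
    haveI := hX.comap q
    have hle : X.comap q ≤ Q :=
      Cores.le_pCore (hXp.comap_of_ker_isPGroup q (by rw [QuotientGroup.ker_mk']; exact hQp))
    rw [← Subgroup.map_comap_eq_self_of_surjective hqs X, Subgroup.map_eq_bot_iff,
      QuotientGroup.ker_mk']
    exact hle
  have hnpcQ : Cfsg.HasNormalPComplement p (G ⧸ Q) := by
    refine ih _ (card_quotient_lt Q hQbot) (G ⧸ Q) rfl Pb ?_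
    set V := W.w (Pb : Subgroup (G ⧸ Q))
    have hne : (Subgroup.normalizer (V : Set (G ⧸ Q))).comap q ≠ ⊤ := by
      intro e
      refine W.ne_bot _ Pb.isPGroup' hPbne (hnormal_small V ?_ (Pb.isPGroup'.to_le (W.le _)))
      rw [← Subgroup.normalizer_eq_top_iff,
        ← Subgroup.map_comap_eq_self_of_surjective hqs (Subgroup.normalizer (V : Set (G ⧸ Q))),
        e, Subgroup.map_top_of_surjective _ hqs]
    have hPle : (P : Subgroup G) ≤ (Subgroup.normalizer (V : Set (G ⧸ Q))).comap q := by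
      rw [← Subgroup.map_le_iff_le_comap]
      exact (Subgroup.le_normalizer (H := (Pb : Subgroup (G ⧸ Q)))).trans (W.normalizer_le _)
    exact Fusion.Basic.npc_of_surjective
      (q.subgroupComap (Subgroup.normalizer (V : Set (G ⧸ Q))))
      (MonoidHom.subgroupComap_surjective_of_surjective _ _ hqs) (hproper _ hne P hPle)
  have hCQ : Subgroup.centralizer (Q : Set G) ≤ Q :=
    Fusion.PSolvable.centralizer_pCore_le
      (Fusion.PSolvable.psolvable_cons Q (Or.inl hQp) (Fusion.PSolvable.psolvable_of_npc hnpcQ)) hO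
  -- the Sylow subgroup is maximal
  have hPtop : (P : Subgroup G) ≠ ⊤ := fun e =>
    hG (Fusion.Basic.npc_of_isPGroup ((e ▸ P.isPGroup' : IsPGroup p (⊤ : Subgroup G)).of_equiv
      Subgroup.topEquiv))
  have hmaxP : ∀ L : Subgroup G, (P : Subgroup G) ≤ L → L ≠ ⊤ → L = P := by
    intro L hle hL
    have hnpc := hproper L hL P hle
    set O := (Cfsg.pResidual p L).map L.subtype with hOdef
    have hOc : (Nat.card O).Coprime p := by
      rw [hOdef, Subgroup.card_subtype]
      exact Fusion.Basic.npc_iff_coprime.mp hnpc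
    have hOQ : Q ⊓ O = ⊥ := Fusion.Basic.inf_eq_bot_of_coprime hQp hOc
    have hObot : O = ⊥ := by
      rw [eq_bot_iff, ← hOQ]
      refine le_inf (le_trans (fun x hx => ?_) hCQ) le_rfl
      rw [Subgroup.mem_centralizer_iff]
      intro y hy
      obtain ⟨x', hx', rfl⟩ := hx
      have hyL : y ∈ L := hle (hQP hy)
      have h1 : y * (x' : G) * y⁻¹ ∈ O :=
        ⟨⟨y, hyL⟩ * x' * ⟨y, hyL⟩⁻¹,
          (Fusion.Basic.pResidual_normal).conj_mem x' hx' ⟨y, hyL⟩, rfl⟩
      have h2 : y * (x' : G) * y⁻¹ * (x' : G)⁻¹ ∈ Q ⊓ O := by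
        refine ⟨?_, O.mul_mem h1 (O.inv_mem (Subgroup.mem_map_of_mem _ hx'))⟩
        rw [show y * (x' : G) * y⁻¹ * (x' : G)⁻¹ = y * ((x' : G) * y⁻¹ * (x' : G)⁻¹) by group]
        exact Q.mul_mem hy (hQn.conj_mem _ (Q.inv_mem hy) _)
      rw [hOQ, Subgroup.mem_bot, mul_inv_eq_one, mul_inv_eq_iff_eq_mul] at h2
      exact h2
    have hLp : IsPGroup p L := by
      have hb : Cfsg.pResidual p L = ⊥ :=
        (Subgroup.map_eq_bot_iff_of_injective _ L.subtype_injective).mp hObot
      intro x
      obtain ⟨k, hk⟩ := Fusion.Basic.isPGroup_quotient_pResidual (G := L) (p := p) (QuotientGroup.mk x)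
      refine ⟨k, ?_⟩
      rw [← QuotientGroup.mk_pow, QuotientGroup.eq_one_iff, hb, Subgroup.mem_bot] at hk
      exact hk
    exact P.3 hLp hle
  -- the structure of `G / Q`
  set Kb := Cfsg.pResidual p (G ⧸ Q)
  haveI hKn : Kb.Normal := Fusion.Basic.pResidual_normal
  have hKbc : (Nat.card Kb).Coprime p := Fusion.Basic.npc_iff_coprime.mp hnpcQ
  have hKPtop : Kb ⊔ (Pb : Subgroup (G ⧸ Q)) = ⊤ := Fusion.Basic.pResidual_sup_sylow Pb
  obtain ⟨kP, hkP⟩ := IsPGroup.iff_card.mp Pb.isPGroup'
  have hsmall : ∀ E : Subgroup (G ⧸ Q), E ≤ Kb →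
      (Pb : Subgroup (G ⧸ Q)) ≤ Subgroup.normalizer (E : Set (G ⧸ Q)) → E = ⊥ ∨ E = Kb := by
    intro E hE hnorm
    by_cases htop : E ⊔ (Pb : Subgroup (G ⧸ Q)) = ⊤
    · right
      refine Subgroup.eq_of_le_of_card_ge hE (Nat.le_of_dvd Nat.card_pos ?_)
      have h1 := Fusion.Thompson.card_sup_mul_card_inf hnorm
      rw [htop, Subgroup.card_top] at h1
      refine (hKbc.pow_right kP).dvd_of_dvd_mul_right ?_
      rw [← hkP, ← h1]
      exact Dvd.dvd.mul_right Kb.card_subgroup_dvd_card _
    · left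
      have h := hmaxP ((E ⊔ (Pb : Subgroup (G ⧸ Q))).comap q)
        (Subgroup.map_le_iff_le_comap.mp le_sup_right) fun e => htop (by
          rw [← Subgroup.map_comap_eq_self_of_surjective hqs (E ⊔ (Pb : Subgroup (G ⧸ Q))), e,
            Subgroup.map_top_of_surjective _ hqs])
      rw [eq_bot_iff]
      intro x hx
      have hxP : x ∈ (Pb : Subgroup (G ⧸ Q)) := by
        obtain ⟨y, rfl⟩ := hqs x
        have hy : y ∈ (E ⊔ (Pb : Subgroup (G ⧸ Q))).comap q := Subgroup.mem_sup_left hx
        rw [h] at hy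
        exact Subgroup.mem_map_of_mem q hy
      rw [Subgroup.mem_bot, ← orderOf_eq_one_iff]
      exact Nat.eq_one_of_dvd_coprimes (hKbc.pow_right kP)
        (Subgroup.orderOf_dvd_natCard _ (hE hx)) (hkP ▸ Subgroup.orderOf_dvd_natCard _ hxP)
  have hKbne : Kb ≠ ⊥ := by
    intro e
    rw [e, bot_sup_eq] at hKPtop
    exact hPbne (hnormal_small _ (by rw [hKPtop]; infer_instance) Pb.isPGroup')
  obtain ⟨r, hr, hrK⟩ := Nat.exists_prime_and_dvd (Subgroup.card_eq_one.not.mpr hKbne)
  haveI := Fact.mk hr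
  haveI := Pb.isPGroup'.isNilpotent
  obtain ⟨R, hR⟩ := CfsgLib.Coprime.exists_invariant_sylow
    (A := (Pb : Subgroup (G ⧸ Q))) (K := Kb) (by rw [Subgroup.normalizer_eq_top]; exact le_top)
    (hkP ▸ (hKbc.pow_right kP).symm) (Or.inl inferInstance) r
  have hKr : IsPGroup r Kb := by
    rcases hsmall _ (Subgroup.map_subtype_le _) hR with e | e
    · exfalso
      rw [Subgroup.map_eq_bot_iff_of_injective _ Kb.subtype_injective] at e
      have := R.not_dvd_index
      rw [e, Subgroup.index_bot] at this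
      exact this hrK
    · exact e ▸ R.isPGroup'.map _
  have hKcomm : ∀ x ∈ Kb, ∀ y ∈ Kb, x * y = y * x := by
    haveI := hKr.isNilpotent
    haveI : Nontrivial Kb := (Subgroup.nontrivial_iff_ne_bot Kb).mpr hKbne
    rcases hsmall ((commutator Kb).map Kb.subtype) (Subgroup.map_subtype_le _)
      (by rw [Subgroup.normalizer_eq_top]; exact le_top) with e | e
    · intro x hx y hy
      rw [Subgroup.map_eq_bot_iff_of_injective _ Kb.subtype_injective] at e
      have h : ⁅(⟨x, hx⟩ : Kb), ⟨y, hy⟩⁆ ∈ commutator Kb :=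
        Subgroup.commutator_mem_commutator (Subgroup.mem_top _) (Subgroup.mem_top _)
      rw [e, Subgroup.mem_bot, commutatorElement_eq_one_iff_mul_comm] at h
      exact congrArg Subtype.val h
    · exfalso
      refine (Group.IsSolvable.commutator_lt_top_of_nontrivial Kb).ne ?_
      apply Subgroup.map_injective Kb.subtype_injective
      rw [e, ← MonoidHom.range_eq_map, Subgroup.range_subtype]
  have hCPK : (Pb : Subgroup (G ⧸ Q)) ⊓ Subgroup.centralizer (Kb : Set (G ⧸ Q)) = ⊥ := by
    refine hnormal_small _ ?_ (Pb.isPGroup'.to_le inf_le_left)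
    rw [← Subgroup.normalizer_eq_top_iff, eq_top_iff, ← hKPtop]
    refine sup_le ?_ ?_
    · refine le_trans ?_ (Subgroup.centralizer_le_normalizer _)
      exact Subgroup.le_centralizer_iff.mp inf_le_right
    · exact le_trans (le_inf Subgroup.le_normalizer (by rw [Subgroup.normalizer_eq_top]; exact le_top))
        (Subgroup.inf_normalizer_le_normalizer_inf (H := (Pb : Subgroup (G ⧸ Q)))
          (K := Subgroup.centralizer (Kb : Set (G ⧸ Q))))
  have hCK : Subgroup.centralizer (Kb : Set (G ⧸ Q)) ≤ Kb := by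
    intro x hx
    have hx' : x ∈ (Kb : Set (G ⧸ Q)) * ((Pb : Subgroup (G ⧸ Q)) : Set (G ⧸ Q)) := by
      rw [← Subgroup.normal_mul, hKPtop]; trivial
    obtain ⟨k, hk, y, hy, rfl⟩ := hx'
    have hkc : k ∈ Subgroup.centralizer (Kb : Set (G ⧸ Q)) :=
      Subgroup.mem_centralizer_iff.mpr fun z hz => hKcomm z hz k hk
    have hyc : y ∈ (Pb : Subgroup (G ⧸ Q)) ⊓ Subgroup.centralizer (Kb : Set (G ⧸ Q)) :=
      ⟨hy, by simpa using mul_mem (inv_mem hkc) hx⟩
    rw [hCPK, Subgroup.mem_bot] at hyc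
    simpa [hyc] using hk
  refine hfinal (W.normal_of_stable hCQ (fun B _ hB => ?_) P hmaxP)
  exact stableOn_of_structure hp Q hQp (fun X hX hXp => Cores.le_pCore hXp) P Kb hKbc
    (by rw [← Sylow.coe_mapSurjective hqs]; exact hKPtop)
    (fun X hX hle => hsmall X hle (by rw [Subgroup.normalizer_eq_top]; exact le_top))
    hKcomm hCK B hB

/-- The functor `Z_m`. -/
def zFunZ (hp : p ≠ 2) [Fact p.Prime] (m : ℕ) (hm : Odd m) (hpm : p ∣ m) : ZFun.{u} p where
  w := fun U => ZJGeneral.Z m U
  le := fun U => ZJGeneral.Z_le U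
  map_inj := fun f hf U => ZJConstrained.Z_map_inj f hf U
  ne_bot := fun U hU hne => Z_ne_bot hpm hU hne
  normal_of_stable := fun hc hst S _ => by
    haveI := ZJGeneral.Z_characteristic hp hm hc hst S
    infer_instance
where
  Z_ne_bot {p m : ℕ} [Fact p.Prime] (hpm : p ∣ m) {G : Type u} [Group G] [Finite G] {U : Subgroup G}
      (hU : IsPGroup p U) (hne : U ≠ ⊥) : ZJGeneral.Z m U ≠ ⊥ := by
    obtain ⟨A, hA⟩ := ZJGeneral.exists_isMaxA (m := m) U
    haveI : Nontrivial U := (Subgroup.nontrivial_iff_ne_bot U).mpr hne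
    obtain ⟨k, hk, hUcard⟩ := hU.nontrivial_iff_card.mp inferInstance
    obtain ⟨u, hu⟩ := exists_prime_orderOf_dvd_card' (G := U) p (hUcard ▸ dvd_pow_self p hk.ne')
    have hJne : ZJGeneral.J m U ≠ ⊥ := by
      intro e
      have hAb : A = ⊥ := le_bot_iff.mp (e ▸ ZJGeneral.le_J hA)
      have h := hA.2.2 (Subgroup.zpowers (u : G)) (Subgroup.zpowers_le.mpr u.2) ⟨inferInstance,
        fun a ha => orderOf_dvd_iff_pow_eq_one.mp
          ((orderOf_dvd_of_mem_zpowers ha).trans (by rw [Subgroup.orderOf_coe, hu]; exact hpm))⟩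
      rw [hAb, Subgroup.card_bot, Nat.card_zpowers, Subgroup.orderOf_coe, hu] at h
      exact absurd h (not_le.mpr (Fact.out : p.Prime).one_lt)
    have hJp : IsPGroup p (ZJGeneral.J m U) := hU.to_le (ZJGeneral.J_le U)
    have hcne := ThompsonComplement.centerOf_ne_bot hJp hJne
    haveI : Nontrivial (ZJGeneral.J m U ⊓ Subgroup.centralizer (ZJGeneral.J m U : Set G) : Subgroup G) :=
      (Subgroup.nontrivial_iff_ne_bot _).mpr hcne
    obtain ⟨l, hl, hcard⟩ := (hJp.to_le inf_le_left).nontrivial_iff_card.mp ‹_›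
    obtain ⟨z, hz⟩ := exists_prime_orderOf_dvd_card'
      (G := (ZJGeneral.J m U ⊓ Subgroup.centralizer (ZJGeneral.J m U : Set G) : Subgroup G)) p
      (hcard ▸ dvd_pow_self p hl.ne')
    intro e
    have hmem : (z : G) ∈ ZJGeneral.Z m U :=
      ⟨z.2.1, z.2.2, orderOf_dvd_iff_pow_eq_one.mp (by rw [Subgroup.orderOf_coe, hz]; exact hpm)⟩
    rw [e, Subgroup.mem_bot] at hmem
    rw [show z = 1 from Subtype.ext hmem, orderOf_one] at hz
    exact (Fact.out : p.Prime).ne_one hz.symm

/-- The functor `Z(J)`. -/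
def zFunFull (hp : p ≠ 2) [Fact p.Prime] : ZFun.{u} p where
  w := fun U => Cfsg.centerThompsonOf p U
  le := fun U => inf_le_left.trans (Fusion.Thompson.thompsonSubgroupOf_le _)
  map_inj := fun f hf U => by
    simp only [Cfsg.centerThompsonOf, ThompsonComplement.thompsonSubgroupOf_map f hf]
    exact center_map f hf _
  ne_bot := fun U hU hne => ThompsonComplement.centerOf_ne_bot
    (hU.to_le (Fusion.Thompson.thompsonSubgroupOf_le _))
    (ThompsonComplement.thompsonSubgroupOf_ne_bot hU hne)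
  normal_of_stable := fun hc hst S _ => ZJFull.centerThompson_normal hp hc hst S
where
  center_map {G H : Type u} [Group G] [Group H] (f : G →* H) (hf : Function.Injective f) (J : Subgroup G) :
      J.map f ⊓ Subgroup.centralizer (J.map f : Set H) =
        (J ⊓ Subgroup.centralizer (J : Set G)).map f := by
    refine le_antisymm ?_ ?_
    · rintro _ ⟨⟨x, hx, rfl⟩, hc⟩
      refine ⟨x, ⟨hx, Subgroup.mem_centralizer_iff.mpr fun j hj => hf ?_⟩, rfl⟩
      simpa using Subgroup.mem_centralizer_iff.mp hc _ (Subgroup.mem_map_of_mem f hj)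
    · rintro _ ⟨x, ⟨hx, hc⟩, rfl⟩
      refine ⟨⟨x, hx, rfl⟩, Subgroup.mem_centralizer_iff.mpr ?_⟩
      rintro _ ⟨j, hj, rfl⟩
      rw [← map_mul, ← map_mul, Subgroup.mem_centralizer_iff.mp hc j hj]

theorem stableW_map_inj [Fact p.Prime] {G H : Type u} [Group G] [Group H] [Finite G] (f : G →* H)
    (hf : Function.Injective f) (U : Subgroup G) :
    (Cfsg.stableNormalClosure p ↥(U.map f)).map (U.map f).subtype =
      ((Cfsg.stableNormalClosure p ↥U).map U.subtype).map f := by
  haveI : Finite ↥(U.map f) := Finite.of_surjective _ (f.subgroupMap_surjective U)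
  rw [StableClosure.map_equiv (U.equivMapOfInjective f hf), Subgroup.map_map, Subgroup.map_map]
  congr 1

theorem stableW_normal [Fact p.Prime] {G : Type u} [Group G] [Finite G]
    (hc : Subgroup.centralizer (Cfsg.pCore p G : Set G) ≤ Cfsg.pCore p G)
    (hst : ∀ (P : Subgroup G) [P.Normal], IsPGroup p P → Cfsg.IsPStableOn p P) (S : Sylow p G)
    (hmax : ∀ L : Subgroup G, (S : Subgroup G) ≤ L → L ≠ ⊤ → L = S) :
    ((Cfsg.stableNormalClosure p ↥(S : Subgroup G)).map (S : Subgroup G).subtype).Normal := by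
  have hQp : IsPGroup p (Cfsg.pCore p G) := Cores.isPGroup_pCore p
  haveI : (Cfsg.pCore p G).Normal := Subgroup.sSup_normal _ fun _ h => h.1
  refine StableClosure.stableClosure_normal hc
    (fun V _ hV => hst V (Thompson.isPGroup_isEA hV)) (fun a hq => ?_) S ?_
  · set C := Subgroup.centralizer (Cfsg.pCore p G : Set G)
    have h := hst (Cfsg.pCore p G) hQp a hq
    haveI : ((Cfsg.pCore p (G ⧸ C)).comap (QuotientGroup.mk' C)).Normal := inferInstance
    refine Cores.le_pCore ((Cores.isPGroup_pCore p).comap_of_ker_isPGroup _ ?_)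
      (show a ∈ (Cfsg.pCore p (G ⧸ C)).comap (QuotientGroup.mk' C) from h)
    rw [QuotientGroup.ker_mk']
    exact hQp.to_le hc
  · set N := Subgroup.normalizer (Cfsg.thompsonSubgroupOf p (S : Subgroup G) : Set G) with hN
    intro V hVn hV
    by_cases hNt : N = ⊤
    · let e : N ≃* G := (MulEquiv.subgroupCongr hNt).trans Subgroup.topEquiv
      haveI : (V.map e.toMonoidHom).Normal := Subgroup.Normal.map inferInstance _ e.surjective
      refine StableClosure.isPStableOn_equiv e rfl (hst _ ?_)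
      have hVp : IsPGroup p (V.map N.subtype) := S.isPGroup'.to_le (hV.trans (Subgroup.map_subtype_le _))
      exact hVp
    · refine StableClosure.isPStableOn_of_isPGroup (S.isPGroup'.to_le ?_) V
      exact le_of_eq (hmax N (Subgroup.le_normalizer.trans
        (Thompson.normalizer_le_normalizer_thompsonOf _)) hNt)

theorem stableW_ne_bot [Fact p.Prime] {G : Type u} [Group G] [Finite G] (U : Subgroup G)
    (hU : IsPGroup p U) (hne : U ≠ ⊥) :
    (Cfsg.stableNormalClosure p ↥U).map U.subtype ≠ ⊥ := by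
  rw [Ne, Subgroup.map_eq_bot_iff_of_injective _ U.subtype_injective]
  haveI : Nontrivial U := (Subgroup.nontrivial_iff_ne_bot U).mpr hne
  haveI := hU.center_nontrivial
  obtain ⟨l, hl, hcard⟩ := (hU.to_subgroup (Subgroup.center U)).nontrivial_iff_card.mp ‹_›
  obtain ⟨z, hz⟩ := exists_prime_orderOf_dvd_card' (G := Subgroup.center U) p (hcard ▸ dvd_pow_self p hl.ne')
  intro e
  have hmem : (z : U) ∈ Cfsg.stableNormalClosure p ↥U :=
    StableClosure.omega_le (Subgroup.subset_closure ⟨z.2, by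
      rw [← Subgroup.coe_pow, ← hz, pow_orderOf_eq_one, Subgroup.coe_one]⟩)
  rw [e, Subgroup.mem_bot] at hmem
  rw [show z = 1 from Subtype.ext hmem, orderOf_one] at hz
  exact (Fact.out : p.Prime).ne_one hz.symm

/-- The functor `W`. -/
noncomputable def zFunW [Fact p.Prime] : ZFun.{u} p where
  w := fun U => (Cfsg.stableNormalClosure p ↥U).map U.subtype
  le := fun _ => Subgroup.map_subtype_le _
  map_inj := fun f hf U => stableW_map_inj f hf U
  ne_bot := fun U hU hne => stableW_ne_bot U hU hne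
  normal_of_stable := fun hc hst S hmax => stableW_normal hc hst S hmax

end CfsgLib.Fusion.GlaubermanThompson
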