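import Cfsg.Agent.Lib.OddOrder.OddGL2
import Cfsg.Agent.Lib.Perm.SL2Unipotent
import Cfsg.Agent.Lib.Classical.SL2Sylow
import Cfsg.Agent.Lib.Coprime.Sylow
import Cfsg.Agent.Lib.Fusion.PSolvable
import Cfsg.Agent.Lib.Components.PComponents
import Cfsg.Agent.Lib.LocalEvenB.HSubgroup
import Cfsg.Agent.Lib.Solvable.ThompsonReplacement
import Cfsg.Agent.Lib.PGroup.Frattini
import Mathlib.Algebra.Ring.Subring.Basic
import Mathlib.RingTheory.LittleWedderburn

/-!
Groups generated by two quadratically acting elements: the map onto a two-dimensional linear group, and the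
consequences for the Sylow `2`-subgroups and for `p`-solvable groups.
-/

set_option autoImplicit false
set_option linter.style.haveILetI false
set_option linter.unusedSectionVars false

namespace CfsgLib.Fusion.QuadSL2

open Matrix CfsgLib.Perm.SL2Unipotent CfsgLib.Solvable
open scoped commutatorElement MatrixGroups

universe v w

set_option maxHeartbeats 1600000 in
/-- The irreducible case, with the coordinates of the module. -/
theorem exists_sl2_module {V : Type v} [AddCommGroup V] [Finite V] {p : ℕ} [Fact p.Prime]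
    (hpV : ∀ v : V, p • v = 0) (x y : (AddMonoid.End V)ˣ)
    (hx2 : ∀ v : V, (x : AddMonoid.End V) ((x : AddMonoid.End V) v - v) = (x : AddMonoid.End V) v - v)
    (hy2 : ∀ v : V, (y : AddMonoid.End V) ((y : AddMonoid.End V) v - v) = (y : AddMonoid.End V) v - v)
    (hne : ¬ (x = 1 ∧ y = 1))
    (hirr : ∀ W : AddSubgroup V, (∀ w ∈ W, (x : AddMonoid.End V) w ∈ W) →
      (∀ w ∈ W, (y : AddMonoid.End V) w ∈ W) → W = ⊥ ∨ W = ⊤) :
    ∃ (K : Type v) (_ : Field K) (_ : Finite K) (_ : CharP K p) (k : K)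
      (f : ↥(Subgroup.closure ({x, y} : Set (AddMonoid.End V)ˣ)) →* SL(2, K)),
      k ≠ 0 ∧ Function.Injective f ∧ f ⟨x, Subgroup.subset_closure (Or.inl rfl)⟩ = up k ∧
        f ⟨y, Subgroup.subset_closure (Or.inr rfl)⟩ = low 1 ∧
        ∃ Φ : (Fin 2 → K) →+ V, Function.Bijective Φ ∧
          ∀ (t : ↥(Subgroup.closure ({x, y} : Set (AddMonoid.End V)ˣ))) (z : Fin 2 → K),
            Φ ((f t).1 *ᵥ z) = ((t : (AddMonoid.End V)ˣ) : AddMonoid.End V) (Φ z) := by
  rcases subsingleton_or_nontrivial V with hs | hnt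
  · exact absurd ⟨Units.ext (AddMonoidHom.ext fun v => Subsingleton.elim _ _),
      Units.ext (AddMonoidHom.ext fun v => Subsingleton.elim _ _)⟩ hne
  set A : AddMonoid.End V := (x : AddMonoid.End V) - 1 with hA
  set B : AddMonoid.End V := (y : AddMonoid.End V) - 1 with hB
  have hAapp : ∀ v, A v = (x : AddMonoid.End V) v - v := fun v => rfl
  have hBapp : ∀ v, B v = (y : AddMonoid.End V) v - v := fun v => rfl
  have hAA : ∀ v, A (A v) = 0 := fun v => by rw [hAapp (A v), hAapp v, hx2, sub_self]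
  have hBB : ∀ v, B (B v) = 0 := fun v => by rw [hBapp (B v), hBapp v, hy2, sub_self]
  set c : AddMonoid.End V := A * B + B * A with hc
  have hcapp : ∀ v, c v = A (B v) + B (A v) := fun v => rfl
  have hcA : c * A = A * c := AddMonoidHom.ext fun v => by
    show c (A v) = A (c v)
    rw [hcapp, hcapp, map_add, hAA, hAA, map_zero, add_zero, zero_add]
  have hcB : c * B = B * c := AddMonoidHom.ext fun v => by
    show c (B v) = B (c v)
    rw [hcapp, hcapp, map_add, hBB, hBB, map_zero, zero_add, add_zero]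
  -- kernels of commuting endomorphisms are invariant
  have hker : ∀ d : AddMonoid.End V, d * A = A * d → d * B = B * d → (∀ v, d v = 0) ∨ Function.Injective d := by
    intro d hdA hdB
    have hxd : ∀ w, d w = 0 → d ((x : AddMonoid.End V) w) = 0 ∧ d ((y : AddMonoid.End V) w) = 0 := by
      intro w hw
      constructor
      · have h1 : d (A w) = A (d w) := DFunLike.congr_fun hdA w
        rw [hw, map_zero, hAapp, map_sub, hw, sub_zero] at h1
        exact h1
      · have h1 : d (B w) = B (d w) := DFunLike.congr_fun hdB w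
        rw [hw, map_zero, hBapp, map_sub, hw, sub_zero] at h1
        exact h1
    rcases hirr (AddMonoidHom.ker (d : V →+ V)) (fun w hw => (hxd w hw).1) (fun w hw => (hxd w hw).2) with h | h
    · exact Or.inr ((AddMonoidHom.ker_eq_bot_iff (d : V →+ V)).mp h)
    · refine Or.inl fun v => ?_
      have : v ∈ AddMonoidHom.ker (d : V →+ V) := h ▸ AddSubgroup.mem_top v
      exact this
  obtain ⟨v0, hv0⟩ := exists_ne (0 : V)
  obtain ⟨v, hv, hAv⟩ : ∃ v, v ≠ 0 ∧ A v = 0 := by
    by_cases h : A v0 = 0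
    · exact ⟨v0, hv0, h⟩
    · exact ⟨A v0, h, hAA v0⟩
  rcases hker c hcA hcB with hc0 | hcinj
  · -- common fixed vector
    exfalso
    obtain ⟨u, hu, hAu, hBu⟩ : ∃ u, u ≠ 0 ∧ A u = 0 ∧ B u = 0 := by
      by_cases h : B v = 0
      · exact ⟨v, hv, hAv, h⟩
      · refine ⟨B v, h, ?_, hBB v⟩
        have := hc0 v
        rwa [hcapp, hAv, map_zero, add_zero] at this
    have hfix : ∀ w, A w = 0 ∧ B w = 0 := by
      let W : AddSubgroup V := AddMonoidHom.ker (A : V →+ V) ⊓ AddMonoidHom.ker (B : V →+ V)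
      have hxW : ∀ w ∈ W, (x : AddMonoid.End V) w = w ∧ (y : AddMonoid.End V) w = w := fun w hw => by
        have h1 : A w = 0 := hw.1
        have h2 : B w = 0 := hw.2
        rw [hAapp, sub_eq_zero] at h1
        rw [hBapp, sub_eq_zero] at h2
        exact ⟨h1, h2⟩
      rcases hirr W (fun w hw => by rw [(hxW w hw).1]; exact hw) (fun w hw => by rw [(hxW w hw).2]; exact hw) with h | h
      · have : u ∈ W := ⟨hAu, hBu⟩
        rw [h] at this
        exact absurd this hu
      · intro w
        have : w ∈ W := h ▸ AddSubgroup.mem_top w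
        exact this
    exact hne ⟨Units.ext (AddMonoidHom.ext fun w => sub_eq_zero.mp (hfix w).1),
      Units.ext (AddMonoidHom.ext fun w => sub_eq_zero.mp (hfix w).2)⟩
  -- the field generated by `c`
  let K := Subring.closure ({c} : Set (AddMonoid.End V))
  have hKcomm : ∀ d ∈ K, d * A = A * d ∧ d * B = B * d := by
    intro d hd
    have hle : K ≤ Subring.centralizer ({A, B} : Set (AddMonoid.End V)) := by
      rw [Subring.closure_le, Set.singleton_subset_iff]
      rintro g (rfl | rfl)
      · exact hcA.symm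
      · exact hcB.symm
    have := Subring.mem_centralizer_iff.mp (hle hd)
    exact ⟨(this A (Or.inl rfl)).symm, (this B (Or.inr rfl)).symm⟩
  have hKinj : ∀ d : K, d ≠ 0 → Function.Injective (d : AddMonoid.End V) := by
    intro d hd
    rcases hker d (hKcomm d d.2).1 (hKcomm d d.2).2 with h | h
    · exact absurd (Subtype.ext (AddMonoidHom.ext h)) hd
    · exact h
  letI : CommRing K := Subring.closureCommRingOfComm (by
    rintro a (rfl : a = c) b (rfl : b = c); rfl)
  haveI : Nontrivial K := ⟨0, 1, fun e => hv (by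
    have := DFunLike.congr_fun (congrArg Subtype.val e) v
    exact this.symm)⟩
  haveI : Finite (AddMonoid.End V) := Finite.of_injective (fun f => (f : V → V)) DFunLike.coe_injective
  haveI : NoZeroDivisors K := by
    refine ⟨fun {a b} hab => ?_⟩
    by_contra h
    rw [not_or] at h
    apply h.2
    apply Subtype.ext
    apply AddMonoidHom.ext
    intro w
    apply hKinj a h.1
    have := DFunLike.congr_fun (congrArg Subtype.val hab) w
    exact this.trans (map_zero _).symm
  haveI : IsDomain K := NoZeroDivisors.to_isDomain K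
  letI : Field K := (Finite.isDomain_to_isField K).toField
  haveI : CharP K p := by
    refine (CharP.charP_iff_prime_eq_zero (Fact.out : p.Prime)).mpr (Subtype.ext (AddMonoidHom.ext fun w => ?_))
    have e : ((p : K) : AddMonoid.End V) = (p : AddMonoid.End V) := map_natCast K.subtype p
    rw [e]
    exact (AddMonoid.End.natCast_apply p w).trans (hpV w)
  set w := B v with hw
  have hAw : A w = c v := by rw [hcapp, hAv, map_zero, add_zero]
  have hBw : B w = 0 := hBB v
  let ck : K := ⟨c, Subring.subset_closure rfl⟩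
  have hck : ck ≠ 0 := fun e => by
    have e2 := DFunLike.congr_fun (congrArg Subtype.val e) v
    exact hv (hcinj (e2.trans (map_zero _).symm))
  have happ : ∀ (d : K) (u : V), A ((d : AddMonoid.End V) u) = (d : AddMonoid.End V) (A u) ∧
      B ((d : AddMonoid.End V) u) = (d : AddMonoid.End V) (B u) := fun d u =>
    ⟨(DFunLike.congr_fun (hKcomm d d.2).1 u).symm, (DFunLike.congr_fun (hKcomm d d.2).2 u).symm⟩
  -- coordinates
  let Φ : (Fin 2 → K) → V := fun z => ((z 0 : K) : AddMonoid.End V) v + ((z 1 : K) : AddMonoid.End V) w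
  have hΦ : Function.Injective Φ := by
    intro z z' e
    have e' : ((z 0 - z' 0 : K) : AddMonoid.End V) v + ((z 1 - z' 1 : K) : AddMonoid.End V) w = 0 := by
      simp only [AddSubgroupClass.coe_sub]
      show (((z 0 : K) : AddMonoid.End V) v - ((z' 0 : K) : AddMonoid.End V) v) +
        (((z 1 : K) : AddMonoid.End V) w - ((z' 1 : K) : AddMonoid.End V) w) = 0
      rw [← sub_eq_zero.mpr e]; simp only [Φ]; abel
    have h1 := congrArg (A : V → V) e'
    rw [map_add, map_zero, (happ _ v).1, (happ _ w).1, hAv, map_zero, zero_add, hAw] at h1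
    have hz1 : z 1 - z' 1 = 0 := by
      by_contra hne'
      exact hv (hcinj ((hKinj _ hne' (h1.trans (map_zero _).symm)).trans (map_zero _).symm))
    have h0 : ((z 0 - z' 0 : K) : AddMonoid.End V) v = 0 := by
      rw [hz1] at e'
      simpa using e'
    have hz0 : z 0 - z' 0 = 0 := by
      by_contra hne'
      exact hv (hKinj _ hne' (h0.trans (map_zero _).symm))
    funext i
    fin_cases i
    · exact sub_eq_zero.mp hz0
    · exact sub_eq_zero.mp hz1
  have hXrel : ∀ z, Φ ((up ck).1.mulVec z) = (x : AddMonoid.End V) (Φ z) := by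
    intro z
    have hx' : (x : AddMonoid.End V) (Φ z) = Φ z + A (Φ z) := by rw [hAapp]; abel
    rw [hx']
    simp only [Φ, up_val, Matrix.mulVec, dotProduct, Fin.sum_univ_two,
      map_add, (happ _ v).1, (happ _ w).1, hAv, hAw, map_zero, zero_add]
    simp only [Matrix.of_apply, Matrix.cons_val_zero, Matrix.cons_val_one, one_mul, zero_mul, zero_add,
      Subring.coe_add, Subring.coe_mul]
    show (((z 0 : K) : AddMonoid.End V) v + c (((z 1 : K) : AddMonoid.End V) v)) + ((z 1 : K) : AddMonoid.End V) w = _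
    have e : c (((z 1 : K) : AddMonoid.End V) v) = ((z 1 : K) : AddMonoid.End V) (c v) :=
      DFunLike.congr_fun (congrArg Subtype.val (mul_comm ck (z 1))) v
    rw [e]; abel
  have hYrel : ∀ z, Φ ((low (1 : K)).1.mulVec z) = (y : AddMonoid.End V) (Φ z) := by
    intro z
    have hy' : (y : AddMonoid.End V) (Φ z) = Φ z + B (Φ z) := by rw [hBapp]; abel
    rw [hy']
    simp only [Φ, low_val, Matrix.mulVec, dotProduct, Fin.sum_univ_two,
      map_add, (happ _ v).2, (happ _ w).2, hBw, map_zero, add_zero]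
    simp only [Matrix.of_apply, Matrix.cons_val_zero, Matrix.cons_val_one, one_mul, zero_mul, add_zero,
      Subring.coe_add]
    show ((z 0 : K) : AddMonoid.End V) v + (((z 0 : K) : AddMonoid.End V) w + ((z 1 : K) : AddMonoid.End V) w) = _
    rw [← hw]; abel
  -- the group generated by the pairs
  let Rel : Subgroup (SL(2, K) × (AddMonoid.End V)ˣ) :=
    { carrier := {t | ∀ z, Φ (t.1.1.mulVec z) = (t.2 : AddMonoid.End V) (Φ z)}
      one_mem' := fun z => by simp
      mul_mem' := fun {s t} hs ht z => by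
        show Φ ((s.1 * t.1).1.mulVec z) = _
        rw [Matrix.SpecialLinearGroup.coe_mul, ← Matrix.mulVec_mulVec, hs, ht]
        rfl
      inv_mem' := fun {t} ht z => by
        have h := ht ((t.1⁻¹).1.mulVec z)
        rw [Matrix.mulVec_mulVec, ← Matrix.SpecialLinearGroup.coe_mul, mul_inv_cancel,
          Matrix.SpecialLinearGroup.coe_one, Matrix.one_mulVec] at h
        show Φ ((t.1⁻¹).1.mulVec z) = ((t.2⁻¹ : (AddMonoid.End V)ˣ) : AddMonoid.End V) (Φ z)
        rw [h]
        exact (DFunLike.congr_fun (Units.inv_mul t.2) _).symm }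
  let T : Subgroup (SL(2, K) × (AddMonoid.End V)ˣ) := Subgroup.closure {(up ck, x), (low 1, y)}
  have hTR : T ≤ Rel := by
    rw [Subgroup.closure_le]
    rintro t (rfl | rfl)
    · exact hXrel
    · exact hYrel
  let snd : T →* (AddMonoid.End V)ˣ := (MonoidHom.snd _ _).comp T.subtype
  let fst : T →* SL(2, K) := (MonoidHom.fst _ _).comp T.subtype
  have hsnd : Function.Injective snd := by
    intro s t e
    have h1 : ∀ z, (s : SL(2, K) × (AddMonoid.End V)ˣ).1.1.mulVec z =
        (t : SL(2, K) × (AddMonoid.End V)ˣ).1.1.mulVec z := fun z =>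
      hΦ (by rw [hTR s.2 z, hTR t.2 z]; exact congrArg (fun u : (AddMonoid.End V)ˣ => (u : AddMonoid.End V) (Φ z)) e)
    exact Subtype.ext (Prod.ext (Subtype.ext (Matrix.ext_iff_mulVec.mpr h1)) e)
  let W : AddSubgroup V := (AddMonoidHom.mk' Φ (fun z z' => by
    simp only [Φ, Pi.add_apply, Subring.coe_add]
    show (((z 0 : K) : AddMonoid.End V) v + ((z' 0 : K) : AddMonoid.End V) v) +
      (((z 1 : K) : AddMonoid.End V) w + ((z' 1 : K) : AddMonoid.End V) w) = _
    abel)).range
  have hW : W = ⊤ := by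
    refine (hirr W ?_ ?_).resolve_left ?_
    · rintro _ ⟨z, rfl⟩; exact ⟨_, hXrel z⟩
    · rintro _ ⟨z, rfl⟩; exact ⟨_, hYrel z⟩
    · intro h
      have : v ∈ W := ⟨![1, 0], by show Φ _ = v; simp [Φ]⟩
      rw [h] at this
      exact hv this
  have hfst : Function.Injective fst := by
    intro s t e
    refine Subtype.ext (Prod.ext e (Units.ext (AddMonoidHom.ext fun u => ?_)))
    -- both act the same way on the span of `v` and `w`, which is everything
    obtain ⟨z, rfl⟩ : u ∈ W := hW ▸ AddSubgroup.mem_top u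
    show (_ : AddMonoid.End V) (Φ z) = (_ : AddMonoid.End V) (Φ z)
    rw [← hTR s.2 z, ← hTR t.2 z]
    exact congrArg (fun g : SL(2, K) => Φ (g.1.mulVec z)) e
  have hrange : snd.range = Subgroup.closure ({x, y} : Set (AddMonoid.End V)ˣ) := by
    rw [MonoidHom.range_comp, Subgroup.range_subtype, MonoidHom.map_closure]
    simp [Set.image_insert_eq]
  let e : T ≃* ↥(Subgroup.closure ({x, y} : Set (AddMonoid.End V)ˣ)) :=
    (MonoidHom.ofInjective hsnd).trans (MulEquiv.subgroupCongr hrange)
  refine ⟨↥K, inferInstance, inferInstance, inferInstance, ck, fst.comp e.symm.toMonoidHom, hck,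
    hfst.comp e.symm.injective, ?_, ?_, ?_⟩
  · show fst (e.symm _) = up ck
    rw [show e.symm ⟨x, Subgroup.subset_closure (Or.inl rfl)⟩ =
      (⟨(up ck, x), Subgroup.subset_closure (Or.inl rfl)⟩ : T) from e.symm_apply_eq.mpr (Subtype.ext rfl)]
    rfl
  · show fst (e.symm _) = low 1
    rw [show e.symm ⟨y, Subgroup.subset_closure (Or.inr rfl)⟩ =
      (⟨(low 1, y), Subgroup.subset_closure (Or.inr rfl)⟩ : T) from e.symm_apply_eq.mpr (Subtype.ext rfl)]
    rfl
  · refine ⟨AddMonoidHom.mk' Φ (fun z z' => by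
      simp only [Φ, Pi.add_apply, Subring.coe_add]
      show (((z 0 : K) : AddMonoid.End V) v + ((z' 0 : K) : AddMonoid.End V) v) +
        (((z 1 : K) : AddMonoid.End V) w + ((z' 1 : K) : AddMonoid.End V) w) = _
      abel), ⟨hΦ, fun u => ?_⟩, fun t z => ?_⟩
    · have hu : u ∈ W := hW ▸ AddSubgroup.mem_top u
      exact hu
    · show Φ ((fst (e.symm t)).1 *ᵥ z) = _
      have h := hTR (e.symm t).2 z
      have h2 : ((e.symm t : T) : SL(2, K) × (AddMonoid.End V)ˣ).2 = (t : (AddMonoid.End V)ˣ) :=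
        congrArg Subtype.val (e.apply_symm_apply t)
      rw [h2] at h
      exact h

theorem exists_sl2_of_irreducible {V : Type v} [AddCommGroup V] [Finite V] {p : ℕ} [Fact p.Prime]
    (hpV : ∀ v : V, p • v = 0) (x y : (AddMonoid.End V)ˣ)
    (hx2 : ∀ v : V, (x : AddMonoid.End V) ((x : AddMonoid.End V) v - v) = (x : AddMonoid.End V) v - v)
    (hy2 : ∀ v : V, (y : AddMonoid.End V) ((y : AddMonoid.End V) v - v) = (y : AddMonoid.End V) v - v)
    (hne : ¬ (x = 1 ∧ y = 1))
    (hirr : ∀ W : AddSubgroup V, (∀ w ∈ W, (x : AddMonoid.End V) w ∈ W) →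
      (∀ w ∈ W, (y : AddMonoid.End V) w ∈ W) → W = ⊥ ∨ W = ⊤) :
    ∃ (K : Type v) (_ : Field K) (_ : Finite K) (_ : CharP K p) (k : K)
      (f : ↥(Subgroup.closure ({x, y} : Set (AddMonoid.End V)ˣ)) →* SL(2, K)),
      k ≠ 0 ∧ Function.Injective f ∧ f ⟨x, Subgroup.subset_closure (Or.inl rfl)⟩ = up k ∧
        f ⟨y, Subgroup.subset_closure (Or.inr rfl)⟩ = low 1 := by
  obtain ⟨K, i1, i2, i3, k, f, hk, hf, hfx, hfy, -⟩ := exists_sl2_module hpV x y hx2 hy2 hne hirr
  exact ⟨K, i1, i2, i3, k, f, hk, hf, hfx, hfy⟩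

/-- A group generated by two quadratic elements, with an element of order prime to `p` acting nontrivially, maps
to `SL₂` over a finite field with generators in normal form. -/
theorem exists_sl2 {H : Type w} [Group H] [Finite H] {p : ℕ} [Fact p.Prime] (a b : H)
    (hgen : Subgroup.closure ({a, b} : Set H) = ⊤) :
    ∀ (n : ℕ) (V : Type v) [AddCommGroup V] [Finite V], Nat.card V = n → (∀ u : V, p • u = 0) →
    ∀ ρ : H →* (AddMonoid.End V)ˣ,
      (∀ u : V, (ρ a : AddMonoid.End V) ((ρ a : AddMonoid.End V) u - u) = (ρ a : AddMonoid.End V) u - u) →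
      (∀ u : V, (ρ b : AddMonoid.End V) ((ρ b : AddMonoid.End V) u - u) = (ρ b : AddMonoid.End V) u - u) →
      ∀ c : H, (orderOf c).Coprime p → ρ c ≠ 1 →
      ∃ (K : Type v) (_ : Field K) (_ : Finite K) (_ : CharP K p) (k : K) (φ : H →* SL(2, K)),
        k ≠ 0 ∧ φ a = up k ∧ φ b = low 1 ∧ φ c ≠ 1 := by
  intro n
  induction n using Nat.strong_induction_on with
  | _ n ih =>
  intro V _ _ hn hpV ρ ha hb c hcp hρc
  by_cases hirr : ∀ W : AddSubgroup V, (∀ w ∈ W, (ρ a : AddMonoid.End V) w ∈ W) →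
      (∀ w ∈ W, (ρ b : AddMonoid.End V) w ∈ W) → W = ⊥ ∨ W = ⊤
  · have hmem : ∀ h, ρ h ∈ Subgroup.closure ({ρ a, ρ b} : Set (AddMonoid.End V)ˣ) := fun h => by
      have h1 : h ∈ Subgroup.closure ({a, b} : Set H) := hgen ▸ Subgroup.mem_top h
      have := Subgroup.mem_map_of_mem ρ h1
      rwa [MonoidHom.map_closure, Set.image_insert_eq, Set.image_singleton] at this
    obtain ⟨K, _, _, _, k, f, hk, hf, hfx, hfy⟩ := exists_sl2_of_irreducible hpV (ρ a) (ρ b) ha hb
      (fun h => hρc (by
        have h2 := hmem c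
        rw [h.1, h.2] at h2
        simpa [Subgroup.closure_singleton_one] using h2)) hirr
    refine ⟨K, inferInstance, inferInstance, inferInstance, k, f.comp (ρ.codRestrict _ hmem), hk, hfx, hfy, ?_⟩
    intro e
    exact hρc (congrArg Subtype.val (hf (e.trans (map_one f).symm)))
  push Not at hirr
  obtain ⟨W, hWa, hWb, hW0, hWt⟩ := hirr
  have hclosed : ∀ g : H, ∀ u ∈ W, (ρ g : AddMonoid.End V) u ∈ W := by
    intro g
    have hg : g ∈ Subgroup.closure ({a, b} : Set H) := hgen ▸ Subgroup.mem_top g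
    refine Subgroup.closure_induction (p := fun g _ => ∀ u ∈ W, (ρ g : AddMonoid.End V) u ∈ W) ?_ ?_ ?_ ?_ hg
    · rintro g (rfl | rfl)
      · exact hWa
      · exact hWb
    · intro u hu; rw [map_one]; exact hu
    · intro g g' _ _ h h' u hu
      rw [map_mul, Units.val_mul]
      exact h _ (h' u hu)
    · intro g _ h u hu
      have hinj : Function.Injective (ρ g : AddMonoid.End V) := fun s t e =>
        ((DFunLike.congr_fun (Units.inv_mul (ρ g)) s).symm.trans
          (congrArg (fun w => (↑(ρ g)⁻¹ : AddMonoid.End V) w) e)).trans (DFunLike.congr_fun (Units.inv_mul (ρ g)) t)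
      let r : W → W := fun z => ⟨(ρ g : AddMonoid.End V) z, h z z.2⟩
      have hr : Function.Injective r := fun s t e => Subtype.ext (hinj (congrArg Subtype.val e))
      obtain ⟨z, hz⟩ := Finite.surjective_of_injective hr ⟨u, hu⟩
      rw [show u = (ρ g : AddMonoid.End V) z from (congrArg Subtype.val hz).symm, map_inv]
      show (↑(ρ g)⁻¹ : AddMonoid.End V) ((ρ g : AddMonoid.End V) z) ∈ W
      have e : (↑(ρ g)⁻¹ : AddMonoid.End V) ((ρ g : AddMonoid.End V) z) = (z : V) :=
        DFunLike.congr_fun (Units.inv_mul (ρ g)) (z : V)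
      rw [e]
      exact z.2
  let ρW₀ : H →* AddMonoid.End W :=
    { toFun := fun g => AddMonoidHom.codRestrict ((ρ g : V →+ V).comp W.subtype) W (fun u => hclosed g u u.2)
      map_one' := by
        refine AddMonoidHom.ext fun u => Subtype.ext ?_
        show (ρ (1 : H) : AddMonoid.End V) u = u
        rw [map_one]; rfl
      map_mul' := fun g g' => by
        refine AddMonoidHom.ext fun u => Subtype.ext ?_
        show (ρ (g * g') : AddMonoid.End V) u = (ρ g : AddMonoid.End V) ((ρ g' : AddMonoid.End V) u)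
        rw [map_mul]; rfl }
  let ρQ₀ : H →* AddMonoid.End (V ⧸ W) :=
    { toFun := fun g => QuotientAddGroup.map W W (ρ g : AddMonoid.End V) (fun u hu => hclosed g u hu)
      map_one' := by
        refine AddMonoidHom.ext fun u => ?_
        induction u using QuotientAddGroup.induction_on with
        | _ u =>
          show QuotientAddGroup.mk ((ρ (1 : H) : AddMonoid.End V) u) = _
          rw [map_one]; rfl
      map_mul' := fun g g' => by
        refine AddMonoidHom.ext fun u => ?_
        induction u using QuotientAddGroup.induction_on with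
        | _ u =>
          show QuotientAddGroup.mk ((ρ (g * g') : AddMonoid.End V) u) = _
          rw [map_mul]; rfl }
  have hcard := W.card_eq_card_quotient_mul_card_addSubgroup
  have hW2 : 1 < Nat.card W := by
    haveI : Nontrivial W := (AddSubgroup.nontrivial_iff_ne_bot W).mpr hW0
    exact Finite.one_lt_card
  have hQ2 : 1 < Nat.card (V ⧸ W) := by
    haveI : Nontrivial (V ⧸ W) := QuotientAddGroup.nontrivial_iff.mpr hWt
    exact Finite.one_lt_card
  by_cases hcW : ρW₀ c = 1
  · by_cases hcQ : ρQ₀ c = 1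
    · exfalso
      refine hρc (orderOf_eq_one_iff.mp (Nat.eq_one_of_dvd_coprimes hcp (orderOf_map_dvd ρ c) ?_))
      refine orderOf_dvd_of_pow_eq_one (Units.ext (AddMonoidHom.ext fun u => ?_))
      rw [Units.val_pow_eq_pow_val]
      show ((ρ c : AddMonoid.End V) ^ p) u = u
      have h1 : ∀ z ∈ W, (ρ c : AddMonoid.End V) z = z := fun z hz => by
        have h := congrArg Subtype.val (DFunLike.congr_fun hcW (⟨z, hz⟩ : W))
        exact h
      set d := (ρ c : AddMonoid.End V) u - u with hd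
      have h2 : d ∈ W := (QuotientAddGroup.eq_iff_sub_mem).mp (DFunLike.congr_fun hcQ (QuotientAddGroup.mk u))
      have hpow : ∀ i : ℕ, ((ρ c : AddMonoid.End V) ^ i) u = u + i • d := by
        intro i
        induction i with
        | zero => simp
        | succ i ih =>
          rw [pow_succ', AddMonoid.End.coe_mul, Function.comp_apply, ih, map_add, map_nsmul, h1 d h2,
            succ_nsmul, show (ρ c : AddMonoid.End V) u = u + d by rw [hd]; abel]
          abel
      rw [hpow, hpV, add_zero]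
    · refine ih (Nat.card (V ⧸ W)) (by rw [← hn, hcard]; nlinarith) (V ⧸ W) rfl (fun u => ?_)
        ρQ₀.toHomUnits ?_ ?_ c hcp (fun e => hcQ (congrArg Units.val e))
      · induction u using QuotientAddGroup.induction_on with
        | _ u => rw [← QuotientAddGroup.mk_nsmul, hpV, QuotientAddGroup.mk_zero]
      · intro u
        induction u using QuotientAddGroup.induction_on with
        | _ u => exact congrArg QuotientAddGroup.mk (ha u)
      · intro u
        induction u using QuotientAddGroup.induction_on with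
        | _ u => exact congrArg QuotientAddGroup.mk (hb u)
  · exact ih (Nat.card W) (by rw [← hn, hcard]; nlinarith) W rfl (fun u => Subtype.ext (hpV u))
      ρW₀.toHomUnits (fun u => Subtype.ext (ha u)) (fun u => Subtype.ext (hb u)) c hcp
      (fun e => hcW (congrArg Units.val e))

/-! ### Subgroups of `SL₂` generated by `up k` and `low 1` -/

variable {K : Type v} [Field K] {p : ℕ} [Fact p.Prime] [CharP K p]

theorem up_pow (k : K) (n : ℕ) : (up k) ^ n = up ((n : K) * k) := by
  induction n with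
  | zero => rw [pow_zero, Nat.cast_zero, zero_mul, up_zero]
  | succ n ih => rw [pow_succ, ih, up_mul, Nat.cast_succ, add_mul, one_mul]

theorem orderOf_up {k : K} (hk : k ≠ 0) : orderOf (up k) = p := by
  refine orderOf_eq_prime (by rw [up_pow, CharP.cast_eq_zero, zero_mul, up_zero]) fun e => hk ?_
  simpa [up_val] using congrArg (fun g : SL(2, K) => g.1 0 1) e

theorem not_commute_up_low {k : K} (hk : k ≠ 0) : ¬ Commute (up k) (low (1 : K)) := fun e => hk (by
  have := congrArg (fun g : SL(2, K) => g.1 0 0) e.eq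
  simpa [up_val, low_val, Matrix.SpecialLinearGroup.coe_mul, Matrix.mul_apply, Fin.sum_univ_two] using this)

/-- No common eigenvector. -/
theorem no_common_eigenvector {k : K} (hk : k ≠ 0) {z : Fin 2 → K} (hz : z ≠ 0) {α β : K}
    (ha : (up k).1 *ᵥ z = α • z) (hb : (low (1 : K)).1 *ᵥ z = β • z) : False := by
  have ha0 := congrFun ha 0
  have ha1 := congrFun ha 1
  have hb1 := congrFun hb 1
  simp only [up_val, low_val, Matrix.mulVec, dotProduct, Fin.sum_univ_two, Matrix.of_apply,
    Matrix.cons_val_zero, Matrix.cons_val_one, one_mul, zero_mul, zero_add, Pi.smul_apply,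
    smul_eq_mul] at ha0 ha1 hb1
  have hz1 : z 1 = 0 := by
    by_contra hne
    have ha' : α = 1 := (mul_eq_right₀ hne).mp ha1.symm
    rw [ha', one_mul, add_eq_left] at ha0
    exact hne ((mul_eq_zero.mp ha0).resolve_left hk)
  rw [hz1, mul_zero, add_zero] at hb1
  exact hz (funext fun i => by fin_cases i <;> simp [hb1, hz1])

variable {X : Subgroup SL(2, K)} [Finite X] {k : K}

include p in
theorem even_card (hk : k ≠ 0) (hu : up k ∈ X) (hl : low (1 : K) ∈ X) : Even (Nat.card X) := by
  by_contra hodd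
  have hdvd : p ∣ Nat.card X := orderOf_up (p := p) hk ▸ Subgroup.orderOf_dvd_natCard X hu
  obtain ⟨z, hz, hall⟩ := CfsgLib.OddOrder.OddGL2.exists_common_eigenvector (p := p)
    ((Matrix.SpecialLinearGroup.toGL).comp X.subtype)
    (Matrix.SpecialLinearGroup.toGL_injective.comp X.subtype_injective) (Nat.not_even_iff_odd.mp hodd) hdvd
  obtain ⟨α, hα⟩ := hall ⟨_, hu⟩
  obtain ⟨β, hβ⟩ := hall ⟨_, hl⟩
  exact no_common_eigenvector hk hz hα hβ

/-- The matrix `-1`. -/
def negI {R : Type*} [CommRing R] : SL(2, R) := ⟨-1, by simp [Matrix.det_fin_two]⟩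

theorem negI_val {R : Type*} [CommRing R] : (negI : SL(2, R)).1 = -1 := rfl

theorem negI_comm {R : Type*} [CommRing R] (g : SL(2, R)) : g * negI = negI * g :=
  Subtype.ext (by rw [Matrix.SpecialLinearGroup.coe_mul, Matrix.SpecialLinearGroup.coe_mul, negI_val,
    mul_neg_one, neg_one_mul])

/-- The standard element of order `4`. -/
def sMat {R : Type*} [CommRing R] : SL(2, R) := ⟨!![0, -1; 1, 0], by simp [Matrix.det_fin_two]⟩

theorem sMat_val {R : Type*} [CommRing R] : (sMat : SL(2, R)).1 = !![0, -1; 1, 0] := rfl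

/-- The group has no nontrivial normal `p`-subgroup. -/
theorem pCore_eq_bot (hk : k ≠ 0) (hu : up k ∈ X) (hl : low (1 : K) ∈ X) : Cfsg.pCore p X = ⊥ := by
  by_contra hne
  set Q := (Cfsg.pCore p X).map X.subtype with hQ
  have hQp : IsPGroup p Q := (Cores.isPGroup_pCore p).map _
  haveI : Finite Q := Finite.of_injective _ (Subgroup.inclusion_injective (Subgroup.map_subtype_le (Cfsg.pCore p X)))
  have hQne : Q ≠ ⊥ := by rw [hQ, Ne, Subgroup.map_eq_bot_iff_of_injective _ X.subtype_injective]; exact hne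
  haveI hn : (Cfsg.pCore p X).Normal := Subgroup.sSup_normal _ fun _ h => h.1
  have hconj : ∀ g ∈ X, ∀ q ∈ Q, g⁻¹ * q * g ∈ Q := by
    rintro g hg _ ⟨q, hq, rfl⟩
    exact ⟨⟨g, hg⟩⁻¹ * q * ⟨g, hg⟩, by simpa using hn.conj_mem q hq ⟨g, hg⟩⁻¹, by simp⟩
  haveI : Nontrivial Q := (Subgroup.nontrivial_iff_ne_bot Q).mpr hQne
  haveI := hQp.center_nontrivial
  obtain ⟨z, hz1⟩ := exists_ne (1 : Subgroup.center Q)
  -- the fixed vectors of a nontrivial unipotent element form a line
  obtain ⟨j, hj⟩ := hQp (z : Q)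
  set M : Matrix (Fin 2) (Fin 2) K := ((z : Q) : SL(2, K)).1 with hM
  have hMpow : M ^ p ^ j = 1 := by
    have := congrArg (fun s : Q => ((s : SL(2, K)) : Matrix (Fin 2) (Fin 2) K)) hj
    simpa [hM] using this
  set N := M - 1 with hN
  have hN2 : N * N = 0 := by
    have hnil : N ^ p ^ j = 0 := by
      rw [hN, sub_pow_char_pow_of_commute p j (Commute.one_right M), hMpow, one_pow, sub_self]
    exact sq_zero_of_nilpotent ⟨_, hnil⟩
  have hN0 : N ≠ 0 := fun e => hz1 (Subtype.ext (Subtype.ext (Subtype.ext (sub_eq_zero.mp (hN ▸ e)))))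
  obtain ⟨z0, hz0, hline⟩ := fixed_line hN2 hN0
  -- it is invariant under the whole of `Q`, which acts trivially on it
  have hQfix : ∀ q ∈ Q, q.1 *ᵥ z0 = z0 := by
    intro q hq
    have hc : M * q.1 = q.1 * M := by
      have := congrArg (fun s : Q => ((s : SL(2, K)) : Matrix (Fin 2) (Fin 2) K))
        (Subgroup.mem_center_iff.mp z.2 ⟨q, hq⟩)
      simpa [hM] using this.symm
    obtain ⟨α, hα⟩ := hline.1 (q.1 *ᵥ z0) (by
      rw [Matrix.mulVec_mulVec, hN, sub_mul, one_mul, hc, show q.1 * M - q.1 = q.1 * (M - 1) by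
        rw [mul_sub, mul_one], ← Matrix.mulVec_mulVec, ← hN, hline.2, Matrix.mulVec_zero])
    obtain ⟨i, hi⟩ := hQp ⟨q, hq⟩
    have hpow : ∀ i : ℕ, (q.1 ^ i) *ᵥ z0 = α ^ i • z0 := by
      intro i
      induction i with
      | zero => simp
      | succ i ih =>
        rw [pow_succ', ← Matrix.mulVec_mulVec, ih, Matrix.mulVec_smul, hα, smul_smul, ← pow_succ]
    have hα1 : α ^ p ^ i = 1 := by
      have h1 := hpow (p ^ i)
      have h2 : (q.1 : Matrix (Fin 2) (Fin 2) K) ^ p ^ i = 1 := by
        have := congrArg (fun s : Q => ((s : SL(2, K)) : Matrix (Fin 2) (Fin 2) K)) hi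
        simpa using this
      rw [h2, Matrix.one_mulVec] at h1
      exact smul_left_injective K hz0 (show α ^ p ^ i • z0 = (1 : K) • z0 by rw [one_smul]; exact h1.symm)
    have : α = 1 := by
      have h := iterateFrobenius_inj K p i (hα1.trans (one_pow _).symm)
      exact h
    rw [hα, this, one_smul]
  -- hence `X` preserves the line
  have hXline : ∀ g ∈ X, ∃ β : K, g.1 *ᵥ z0 = β • z0 := by
    intro g hg
    refine hline.1 _ ?_
    have := hQfix _ (hconj g hg _ (z : Q).2)
    rw [Matrix.SpecialLinearGroup.coe_mul, Matrix.SpecialLinearGroup.coe_mul, ← hM, ← Matrix.mulVec_mulVec,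
      ← Matrix.mulVec_mulVec] at this
    have h2 := congrArg (g.1 *ᵥ ·) this
    simp only [Matrix.mulVec_mulVec] at h2
    rw [← mul_assoc, ← Matrix.SpecialLinearGroup.coe_mul, mul_inv_cancel,
      Matrix.SpecialLinearGroup.coe_one, one_mul, ← Matrix.mulVec_mulVec] at h2
    rw [hN, Matrix.sub_mulVec, Matrix.one_mulVec, h2, sub_self]
  obtain ⟨α, hα⟩ := hXline _ hu
  obtain ⟨β, hβ⟩ := hXline _ hl
  exact no_common_eigenvector hk hz0 hα hβ
where
  sq_zero_of_nilpotent {N : Matrix (Fin 2) (Fin 2) K} (h : IsNilpotent N) : N * N = 0 := by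
    have hp := Matrix.isNilpotent_charpoly_sub_pow_of_isNilpotent h
    rw [Fintype.card_fin] at hp
    have hd : N.charpoly = Polynomial.X ^ 2 := sub_eq_zero.mp hp.eq_zero
    have := N.aeval_self_charpoly
    rwa [hd, map_pow, Polynomial.aeval_X, sq] at this
  fixed_line {N : Matrix (Fin 2) (Fin 2) K} (h2 : N * N = 0) (h0 : N ≠ 0) :
      ∃ z : Fin 2 → K, z ≠ 0 ∧ (∀ u, N *ᵥ u = 0 → ∃ α : K, u = α • z) ∧ N *ᵥ z = 0 := by
    obtain ⟨u0, hu0⟩ : ∃ u0, N *ᵥ u0 ≠ 0 := by
      by_contra h
      push Not at h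
      exact h0 (Matrix.ext_iff_mulVec.mpr fun u => by rw [h u, Matrix.zero_mulVec])
    set z := N *ᵥ u0 with hz
    have hNz : N *ᵥ z = 0 := by rw [hz, Matrix.mulVec_mulVec, h2, Matrix.zero_mulVec]
    refine ⟨z, hu0, fun u hu => ?_, hNz⟩
    by_contra hne
    push Not at hne
    have hli : LinearIndependent K ![z, u] := by
      rw [LinearIndependent.pair_iff]
      intro s t hst
      by_cases ht : t = 0
      · subst ht
        rw [zero_smul, add_zero] at hst
        exact ⟨(smul_eq_zero.mp hst).resolve_right hu0, rfl⟩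
      · have h1 : t • u = -(s • z) := eq_neg_of_add_eq_zero_right hst
        refine absurd ?_ (hne (-(t⁻¹ * s)))
        rw [← inv_smul_smul₀ ht u, h1, smul_neg, smul_smul, neg_smul]
    have hspan := hli.span_eq_top_of_card_eq_finrank (by simp)
    refine hu0 ?_
    have hle : Submodule.span K (Set.range ![z, u]) ≤ LinearMap.ker (Matrix.mulVecLin N) := by
      rw [Submodule.span_le]
      rintro _ ⟨i, rfl⟩
      fin_cases i
      · exact hNz
      · exact hu
    exact hle (hspan ▸ Submodule.mem_top : u0 ∈ _)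

theorem val_eq_neg_one (hp : p ≠ 2) {g : SL(2, K)} (h1 : g ≠ 1) (hg : g * g = 1) :
    (g : Matrix (Fin 2) (Fin 2) K) = -1 :=
  CfsgLib.Classical.sl2_involution (fun h2 => hp ((Nat.prime_dvd_prime_iff_eq (Fact.out : p.Prime) Nat.prime_two).mp
    ((CharP.cast_eq_zero_iff K p 2).mp (by exact_mod_cast h2)))) g h1 hg

/-- The Sylow `2`-subgroups are not abelian. -/
theorem sylow_two_not_comm (hp : p ≠ 2) (hk : k ≠ 0) (hu : up k ∈ X) (hl : low (1 : K) ∈ X)
    (hgen : X ≤ Subgroup.closure {up k, low (1 : K)}) (T : Sylow 2 X) : ¬ IsMulCommutative T := by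
  intro hT
  haveI : Fact (Nat.Prime 2) := ⟨Nat.prime_two⟩
  letI : CommGroup (T : Subgroup X) :=
    { (inferInstance : Group (T : Subgroup X)) with mul_comm := fun a b => hT.is_comm.comm a b }
  haveI : IsCyclic (T : Subgroup X) := by
    classical
    haveI := Fintype.ofFinite (T : Subgroup X)
    refine isCyclic_of_card_pow_eq_one_le fun n hn => ?_
    have hker : Nat.card {t : (T : Subgroup X) // t ^ 2 = 1} ≤ 2 := by
      refine le_of_le_of_eq (Nat.card_le_card_of_injective
        (fun t => decide ((t.1 : (T : Subgroup X)) = 1)) ?_) (by simp)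
      intro s t e
      rcases eq_or_ne (s.1 : (T : Subgroup X)) 1 with hs | hs <;>
        rcases eq_or_ne (t.1 : (T : Subgroup X)) 1 with ht | ht
      · exact Subtype.ext (hs.trans ht.symm)
      · simp [hs, ht] at e
      · simp [hs, ht] at e
      · have h1 : ∀ r : {t : (T : Subgroup X) // t ^ 2 = 1}, (r.1 : (T : Subgroup X)) ≠ 1 →
            (((r.1 : (T : Subgroup X)) : X) : SL(2, K)).1 = -1 := fun r hr => by
          refine val_eq_neg_one (p := p) hp (fun e' => hr (Subtype.ext (Subtype.ext e'))) ?_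
          rw [← sq, ← Subgroup.coe_pow, ← Subgroup.coe_pow, r.2]; rfl
        exact Subtype.ext (Subtype.ext (Subtype.ext (Subtype.ext ((h1 s hs).trans (h1 t ht).symm))))
    have hpow : ∀ j : ℕ, Nat.card {t : (T : Subgroup X) // t ^ 2 ^ j = 1} ≤ 2 ^ j := by
      intro j
      induction j with
      | zero =>
        haveI : Subsingleton {t : (T : Subgroup X) // t ^ 2 ^ 0 = 1} :=
          ⟨fun s t => Subtype.ext (by have := s.2; have := t.2; simp_all)⟩
        exact (Finite.card_le_one_iff_subsingleton).mpr inferInstance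
      | succ j ih =>
        have h2 := (powMonoidHom (α := (T : Subgroup X)) (2 ^ (j + 1))).ker.card_mul_index
        let f : (powMonoidHom (α := (T : Subgroup X)) (2 ^ (j + 1))).ker →* (T : Subgroup X) :=
          (powMonoidHom 2).comp (Subgroup.subtype _)
        have h3 := f.ker.card_mul_index
        rw [Subgroup.index_ker f, mul_comm] at h3
        show Nat.card (powMonoidHom (α := (T : Subgroup X)) (2 ^ (j + 1))).ker ≤ _
        refine le_of_le_of_eq (h3.ge.trans ?_) (pow_succ 2 j).symm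
        refine Nat.mul_le_mul ((Nat.card_le_card_of_injective (fun t => (⟨t.1, ?_⟩ :
          {t : (T : Subgroup X) // t ^ 2 ^ j = 1})) ?_).trans ih)
          ((Nat.card_le_card_of_injective (fun t => (⟨t.1.1, ?_⟩ :
            {t : (T : Subgroup X) // t ^ 2 = 1})) ?_).trans hker)
        · obtain ⟨s, hs⟩ := t.2
          rw [← hs]
          show ((s : (T : Subgroup X)) ^ 2) ^ 2 ^ j = 1
          rw [← pow_mul, ← pow_succ']
          exact s.2
        · exact fun s t e => Subtype.ext (congrArg (fun w : {t : (T : Subgroup X) // t ^ 2 ^ j = 1} => w.1) e)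
        · exact t.2
        · exact fun s t e => Subtype.ext (Subtype.ext
            (congrArg (fun w : {t : (T : Subgroup X) // t ^ 2 = 1} => w.1) e))
    obtain ⟨m, hm⟩ := IsPGroup.iff_card.mp T.isPGroup'
    obtain ⟨j, -, hj⟩ := (Nat.dvd_prime_pow Nat.prime_two).mp
      (Nat.gcd_dvd_right n (2 ^ m))
    rw [← Fintype.card_subtype, ← Nat.card_eq_fintype_card]
    refine le_trans ?_ (le_trans (hpow j) (hj ▸ Nat.le_of_dvd hn (Nat.gcd_dvd_left n (2 ^ m))))
    refine Nat.card_le_card_of_injective (fun t => ⟨t.1, ?_⟩) fun s t e =>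
      Subtype.ext (congrArg (fun w : {t : (T : Subgroup X) // t ^ 2 ^ j = 1} => w.1) e)
    rw [← hj]
    exact pow_gcd_eq_one.mpr ⟨t.2, hm ▸ pow_card_eq_one'⟩
  have hnpc := CfsgLib.LocalEvenB.HSubgroup.npc_of_cyclic (fun q hq _ => hq.two_le) T
  -- the odd residual contains both generators
  set R := (Cfsg.pResidual 2 X).map X.subtype with hR
  have hodd : ∀ g : SL(2, K), ∀ hg : g ∈ X, orderOf g = p → g ∈ R := fun g hg ho =>
    ⟨⟨g, hg⟩, Basic.mem_pResidual_of_coprime (by
      rw [← Subgroup.orderOf_coe, ho]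
      exact (Nat.coprime_primes (Fact.out : p.Prime) Nat.prime_two).mpr hp), rfl⟩
  have hlow : orderOf (low (1 : K)) = p := by
    refine orderOf_eq_prime ?_ fun e => ?_
    · have hpow : ∀ n : ℕ, (low (1 : K)) ^ n = low (n : K) := by
        intro n
        induction n with
        | zero => rw [pow_zero, Nat.cast_zero, low_zero]
        | succ n ih => rw [pow_succ, ih, low_mul, Nat.cast_succ]
      rw [hpow, CharP.cast_eq_zero, low_zero]
    · simpa [low_val] using congrArg (fun g : SL(2, K) => g.1 1 0) e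
  have hXR : X ≤ R := hgen.trans ((Subgroup.closure_le R).mpr (by
    rintro g (rfl | rfl)
    · exact hodd _ hu (orderOf_up hk)
    · exact hodd _ hl hlow))
  have hc := Fusion.Basic.npc_iff_coprime.mp hnpc
  have hev := even_card (p := p) hk hu hl
  have : Nat.card X ∣ Nat.card (Cfsg.pResidual 2 X) := by
    rw [← Subgroup.card_subtype X (Cfsg.pResidual 2 X)]
    exact Subgroup.card_dvd_of_le hXR
  exact Nat.not_even_iff_odd.mpr (Nat.coprime_two_right.mp (Nat.Coprime.coprime_dvd_left this hc)) hev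

/-! ### An involution-free `p'`-group normalised by a unipotent element forces `p = 3` -/

theorem comm_of_nonscalar {z x y : SL(2, K)} (hz : z.1 0 1 ≠ 0 ∨ z.1 1 0 ≠ 0 ∨ z.1 0 0 ≠ z.1 1 1)
    (hx : x * z = z * x) (hy : y * z = z * y) : x * y = y * x := by
  have key : ∀ s t : SL(2, K), s * t = t * s → s.1 0 1 * t.1 1 0 = t.1 0 1 * s.1 1 0 ∧
      s.1 0 1 * (t.1 1 1 - t.1 0 0) = t.1 0 1 * (s.1 1 1 - s.1 0 0) ∧
      s.1 1 0 * (t.1 1 1 - t.1 0 0) = t.1 1 0 * (s.1 1 1 - s.1 0 0) := by
    intro s t h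
    have h00 := congrArg (fun g : SL(2, K) => g.1 0 0) h
    have h01 := congrArg (fun g : SL(2, K) => g.1 0 1) h
    have h10 := congrArg (fun g : SL(2, K) => g.1 1 0) h
    simp only [Matrix.SpecialLinearGroup.coe_mul, Matrix.mul_apply, Fin.sum_univ_two] at h00 h01 h10
    exact ⟨by linear_combination h00, by linear_combination h01, by linear_combination -h10⟩
  obtain ⟨a1, a2, a3⟩ := key x z hx
  obtain ⟨b1, b2, b3⟩ := key y z hy
  obtain ⟨c1, c2, c3⟩ : x.1 0 1 * y.1 1 0 = y.1 0 1 * x.1 1 0 ∧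
      x.1 0 1 * (y.1 1 1 - y.1 0 0) = y.1 0 1 * (x.1 1 1 - x.1 0 0) ∧
      x.1 1 0 * (y.1 1 1 - y.1 0 0) = y.1 1 0 * (x.1 1 1 - x.1 0 0) := by
    rcases hz with h | h | h
    · refine ⟨mul_left_cancel₀ h ?_, mul_left_cancel₀ h ?_, mul_left_cancel₀ (mul_ne_zero h h) ?_⟩
      · linear_combination y.1 0 1 * a1 - x.1 0 1 * b1
      · linear_combination y.1 0 1 * a2 - x.1 0 1 * b2
      · linear_combination (-(z.1 0 1) * y.1 1 1 + z.1 0 1 * y.1 0 0) * a1
          + (z.1 0 1 * x.1 1 1 - z.1 0 1 * x.1 0 0) * b1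
          + z.1 1 0 * y.1 0 1 * a2 - z.1 1 0 * x.1 0 1 * b2
          + z.1 1 0 * 0
    · refine ⟨mul_left_cancel₀ h ?_, mul_left_cancel₀ (mul_ne_zero h h) ?_, mul_left_cancel₀ h ?_⟩
      · linear_combination y.1 1 0 * a1 - x.1 1 0 * b1
      · linear_combination (z.1 1 0 * (y.1 1 1 - y.1 0 0)) * a1
          - (z.1 1 0 * (x.1 1 1 - x.1 0 0)) * b1 + z.1 0 1 * y.1 1 0 * a3 - z.1 0 1 * x.1 1 0 * b3
      · linear_combination y.1 1 0 * a3 - x.1 1 0 * b3
    · have h' : z.1 1 1 - z.1 0 0 ≠ 0 := sub_ne_zero.mpr (Ne.symm h)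
      refine ⟨mul_left_cancel₀ (mul_ne_zero h' h') ?_, mul_left_cancel₀ h' ?_, mul_left_cancel₀ h' ?_⟩
      · linear_combination (z.1 1 1 - z.1 0 0) * y.1 1 0 * a2 - (z.1 1 1 - z.1 0 0) * x.1 1 0 * b2
          - z.1 0 1 * (y.1 1 1 - y.1 0 0) * a3 + z.1 0 1 * (x.1 1 1 - x.1 0 0) * b3
      · linear_combination (y.1 1 1 - y.1 0 0) * a2 - (x.1 1 1 - x.1 0 0) * b2
      · linear_combination (y.1 1 1 - y.1 0 0) * a3 - (x.1 1 1 - x.1 0 0) * b3
  apply sl_ext <;>
    simp only [Matrix.SpecialLinearGroup.coe_mul, Matrix.mul_apply, Fin.sum_univ_two]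
  · linear_combination c1
  · linear_combination c2
  · linear_combination -c3
  · linear_combination -c1

/-- A `p'`-subgroup normalised but not centralised by a unipotent element forces `p = 3` and a copy of
`SL(2, 3)`. -/
theorem exists_sl23 (hp : p ≠ 2) (hk : k ≠ 0) (hu : up k ∈ X) (M : Subgroup SL(2, K)) (hMX : M ≤ X)
    (hnorm : up k ∈ Subgroup.normalizer (M : Set SL(2, K))) (hM : (Nat.card M).Coprime p)
    (hMu : ¬ M ≤ Subgroup.centralizer {up k}) :
    p = 3 ∧ ∃ ψ : SL(2, ZMod 3) →* SL(2, K), Function.Injective ψ ∧ ψ.range ≤ X := by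
  have hpp : p.Prime := Fact.out
  set A : Subgroup X := Subgroup.zpowers ⟨up k, hu⟩ with hA
  set MX : Subgroup X := M.subgroupOf X with hMXdef
  have hAn : A ≤ Subgroup.normalizer (MX : Set X) := by
    rw [hA, Subgroup.zpowers_le, Subgroup.mem_normalizer_iff]
    intro y
    exact Subgroup.mem_normalizer_iff.mp hnorm y
  have hMXc : Nat.card MX = Nat.card M := Nat.card_congr (Subgroup.subgroupOfEquivOfLe hMX).toEquiv
  have hAcard : Nat.card A = p := by rw [hA, Nat.card_zpowers, Subgroup.orderOf_mk, orderOf_up hk]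
  have hcop : (Nat.card A).Coprime (Nat.card MX) := by rw [hMXc, hAcard]; exact hM.symm
  haveI hAab : Group.IsSolvable A := CfsgLib.Coprime.isSolvable_zpowers _
  -- an invariant Sylow subgroup which is not centralised
  obtain ⟨q, hq, Q0, hQ0M, hQ0n, hQ0p, hQ0c⟩ : ∃ q, q.Prime ∧ ∃ Q0 : Subgroup X, Q0 ≤ MX ∧
      A ≤ Subgroup.normalizer (Q0 : Set X) ∧ IsPGroup q Q0 ∧
      ¬ Q0 ≤ Subgroup.centralizer {(⟨up k, hu⟩ : X)} := by
    by_contra hall
    push Not at hall
    refine hMu fun m hm => ?_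
    have htop : Nat.card MX ∣ Nat.card (MX ⊓ Subgroup.centralizer {(⟨up k, hu⟩ : X)} : Subgroup X) := by
      refine (Nat.dvd_iff_prime_pow_dvd_dvd _ _).mpr fun q i hq hdvd => ?_
      haveI := Fact.mk hq
      obtain ⟨R, hR⟩ := CfsgLib.Coprime.exists_invariant_sylow hAn hcop (Or.inl hAab) q
      have hle : (R : Subgroup MX).map MX.subtype ≤ MX ⊓ Subgroup.centralizer {(⟨up k, hu⟩ : X)} :=
        le_inf (Subgroup.map_subtype_le _)
          (hall q hq _ (Subgroup.map_subtype_le _) hR (R.isPGroup'.map _))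
      refine dvd_trans ?_ (Subgroup.card_dvd_of_le hle)
      rw [Subgroup.card_subtype, R.card_eq_multiplicity]
      exact (hq.pow_dvd_iff_le_factorization Nat.card_pos.ne').mp hdvd |> pow_dvd_pow q
    have heq := Subgroup.eq_of_le_of_card_ge (inf_le_left) (Nat.le_of_dvd Nat.card_pos htop)
    have hmX : (⟨m, hMX hm⟩ : X) ∈ MX ⊓ Subgroup.centralizer {(⟨up k, hu⟩ : X)} := by rw [heq]; exact hm
    rw [Subgroup.mem_centralizer_singleton_iff]
    exact congrArg Subtype.val (Subgroup.mem_centralizer_singleton_iff.mp hmX.2)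
  -- a minimal one
  obtain ⟨Q1, ⟨hQ1Q, hQ1n, hQ1c⟩, hmin⟩ := Set.exists_min_image
    {Q : Subgroup X | Q ≤ Q0 ∧ A ≤ Subgroup.normalizer (Q : Set X) ∧
      ¬ Q ≤ Subgroup.centralizer {(⟨up k, hu⟩ : X)}} (fun Q => Nat.card Q) (Set.toFinite _)
    ⟨Q0, le_rfl, hQ0n, hQ0c⟩
  set Q := Q1 with hQdef
  have hQp : IsPGroup q Q := hQ0p.to_le hQ1Q
  haveI := Fact.mk hq
  have hQcop : (Nat.card Q).Coprime p :=
    Nat.Coprime.coprime_dvd_left ((Subgroup.card_dvd_of_le (hQ1Q.trans hQ0M)).trans hMXc.dvd) hM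
  -- the only elements of `p'`-order commuting with `up k` are `± 1`
  have hfix : ∀ g ∈ Q, g * (⟨up k, hu⟩ : X) = ⟨up k, hu⟩ * g →
      (g : SL(2, K)).1 0 1 = 0 ∧ (g : SL(2, K)).1 1 0 = 0 ∧ (g : SL(2, K)).1 0 0 = (g : SL(2, K)).1 1 1 := by
    intro g hg he
    have he' : (g : SL(2, K)) * up k = up k * (g : SL(2, K)) := congrArg Subtype.val he
    have h00 := congrArg (fun g : SL(2, K) => g.1 0 0) he'
    have h01 := congrArg (fun g : SL(2, K) => g.1 0 1) he'
    simp only [Matrix.SpecialLinearGroup.coe_mul, Matrix.mul_apply, Fin.sum_univ_two, up_val, Matrix.of_apply,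
      Matrix.cons_val_zero, Matrix.cons_val_one, mul_one, one_mul, mul_zero, zero_mul, add_zero] at h00 h01
    have h10 : (g : SL(2, K)).1 1 0 = 0 := by
      have : k * (g : SL(2, K)).1 1 0 = 0 := by linear_combination -h00
      exact (mul_eq_zero.mp this).resolve_left hk
    have hdiag : (g : SL(2, K)).1 0 0 = (g : SL(2, K)).1 1 1 := mul_right_cancel₀ hk (by linear_combination h01)
    refine ⟨?_, h10, hdiag⟩
    set e := (g : SL(2, K)).1 0 0 with he0
    set y := (g : SL(2, K)).1 0 1 with hy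
    have hdet : e * e = 1 := by
      have := (g : SL(2, K)).2
      rw [Matrix.det_fin_two, h10, mul_zero, sub_zero, ← hdiag] at this
      exact this
    have hsq : (g : SL(2, K)) ^ 2 = up (2 * e * y) := by
      rw [sq]
      apply sl_ext <;> simp only [Matrix.SpecialLinearGroup.coe_mul, Matrix.mul_apply, Fin.sum_univ_two,
        up_val, Matrix.of_apply, Matrix.cons_val_zero, Matrix.cons_val_one, h10, ← hdiag, ← he0, ← hy]
      · linear_combination hdet
      · ring
      · ring
      · linear_combination hdet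
    by_contra hy0
    have h2e : (2 * e * y : K) ≠ 0 := by
      refine mul_ne_zero (mul_ne_zero ?_ ?_) hy0
      · intro h2
        exact hp ((Nat.prime_dvd_prime_iff_eq hpp Nat.prime_two).mp
          ((CharP.cast_eq_zero_iff K p 2).mp (by exact_mod_cast h2)))
      · exact fun h => by simp [h] at hdet
    have hd : p ∣ Nat.card Q := by
      rw [← orderOf_up (p := p) h2e, ← hsq, ← Subgroup.coe_pow, Subgroup.orderOf_coe]
      exact Subgroup.orderOf_dvd_natCard Q (Q.pow_mem hg 2)
    exact hpp.ne_one (Nat.eq_one_of_dvd_coprimes hQcop hd dvd_rfl)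
  -- `Q` is not abelian
  have hnab : ¬ ∀ x ∈ Q, ∀ y ∈ Q, x * y = y * x := by
    intro hab
    refine hQ1c fun g hg => ?_
    rw [Subgroup.mem_centralizer_singleton_iff]
    let ρ : X →* Matrix (Fin 2) (Fin 2) K := (Units.coeHom _).comp
      ((Matrix.SpecialLinearGroup.toGL).comp X.subtype)
    have hR : (p : Matrix (Fin 2) (Fin 2) K) = 0 := by
      rw [← Matrix.diagonal_natCast, CharP.cast_eq_zero, Matrix.diagonal_zero]
    have hquad : (ρ ⟨up k, hu⟩ - 1) * (ρ ⟨up k, hu⟩ - 1) = 0 := by
      show ((up k).1 - 1) * ((up k).1 - 1) = 0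
      ext i j
      fin_cases i <;> fin_cases j <;> simp [up_val, Matrix.mul_apply, Fin.sum_univ_two]
    have h := ThompsonReplacement.quadratic_commutator hp hR ρ hquad (hQ1n (Subgroup.mem_zpowers _)) hg
      (fun x hx y hy => by rw [Commute, SemiconjBy, ← map_mul, ← map_mul, hab x hx y hy])
      (fun x hx => ⟨Nat.card Q, hQcop, by
        rw [← map_pow, show x ^ Nat.card Q = 1 from congrArg Subtype.val
          (pow_card_eq_one' (x := (⟨x, hx⟩ : Q))), map_one]⟩)
    have h' : g * ⟨up k, hu⟩ * g⁻¹ * (⟨up k, hu⟩ : X)⁻¹ = 1 := Subtype.ext (Subtype.ext h)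
    rw [mul_inv_eq_one, mul_inv_eq_iff_eq_mul] at h'
    exact h'
  haveI hQnil := hQp.isNilpotent
  -- `q = 2`
  have hq2 : q = 2 := by
    by_contra hq2
    refine hnab fun x hx y hy => ?_
    haveI : Nontrivial Q := by
      rw [Subgroup.nontrivial_iff_ne_bot]
      intro e; rw [e] at hQ1c; exact hQ1c bot_le
    haveI := hQp.center_nontrivial
    obtain ⟨z, hz⟩ := exists_ne (1 : Subgroup.center Q)
    set zs : SL(2, K) := (((z : Q) : X) : SL(2, K)) with hzs
    have hns : zs.1 0 1 ≠ 0 ∨ zs.1 1 0 ≠ 0 ∨ zs.1 0 0 ≠ zs.1 1 1 := by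
      by_contra hs
      push Not at hs
      obtain ⟨h01, h10, hd⟩ := hs
      have hdet := zs.2
      rw [Matrix.det_fin_two, h01, zero_mul, sub_zero, ← hd] at hdet
      have hsq : zs * zs = 1 := by
        apply sl_ext <;> simp [Matrix.SpecialLinearGroup.coe_mul, Matrix.mul_apply, Fin.sum_univ_two, h01, h10, ← hd, hdet]
      have ho : orderOf (z : Q) ∣ 2 := orderOf_dvd_of_pow_eq_one (Subtype.ext (Subtype.ext (by rw [sq]; exact hsq)))
      obtain ⟨i, hi⟩ := hQp (z : Q)
      have h1 : orderOf (z : Q) = 1 := Nat.eq_one_of_dvd_coprimes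
        (((Nat.coprime_primes hq Nat.prime_two).mpr hq2).pow_left i) (orderOf_dvd_of_pow_eq_one hi) ho
      exact hz (Subtype.ext (orderOf_eq_one_iff.mp h1))
    have hc : ∀ w (hw : w ∈ Q), ((w : X) : SL(2, K)) * zs = zs * (w : SL(2, K)) := fun w hw =>
      congrArg (fun s : Q => ((s : X) : SL(2, K))) (Subgroup.mem_center_iff.mp z.2 ⟨w, hw⟩)
    exact Subtype.ext (comm_of_nonscalar hns (hc x hx) (hc y hy))
  subst hq2
  -- the Frattini subgroup of `Q` consists of scalars
  set Φ := (frattini Q).map Q.subtype with hΦdef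
  have hΦQ : Φ ≤ Q := Subgroup.map_subtype_le _
  have hΦn : A ≤ Subgroup.normalizer (Φ : Set X) := by
    haveI : ((Q.subgroupOf (Subgroup.normalizer (Q : Set X))) : Subgroup _).Normal := Subgroup.normal_in_normalizer
    refine hQ1n.trans ?_
    exact normalizer_le_of_char Q (frattini Q)
  have hΦ : ∀ g ∈ Φ, (g : SL(2, K)).1 0 1 = 0 ∧ (g : SL(2, K)).1 1 0 = 0 ∧
      (g : SL(2, K)).1 0 0 = (g : SL(2, K)).1 1 1 := by
    intro g hg
    refine hfix g (hΦQ hg) ?_
    by_contra hne
    have h := hmin Φ ⟨hΦQ.trans hQ1Q, hΦn, fun h => hne (Subgroup.mem_centralizer_singleton_iff.mp (h hg))⟩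
    have heq : Φ = Q := Subgroup.eq_of_le_of_card_ge hΦQ h
    haveI : Nontrivial Q := by
      rw [Subgroup.nontrivial_iff_ne_bot]
      intro e; rw [e] at hQ1c; exact hQ1c bot_le
    have htop : frattini Q = ⊤ := by
      apply Subgroup.map_injective Q.subtype_injective
      rw [← hΦdef, heq, ← MonoidHom.range_eq_map, Subgroup.range_subtype]
    exact bot_ne_top (frattini_nongenerating (K := (⊥ : Subgroup Q)) (by rw [htop, bot_sup_eq]))
  obtain ⟨x, hxQ, hxc⟩ := SetLike.not_le_iff_exists.mp hQ1c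
  rw [Subgroup.mem_centralizer_singleton_iff] at hxc
  set i : SL(2, K) := (x : SL(2, K)) with hi
  have hscal : ∀ g : SL(2, K), g.1 0 1 = 0 → g.1 1 0 = 0 → g.1 0 0 = g.1 1 1 →
      (g.1 = 1 ∨ g.1 = -1) := by
    intro g h01 h10 hd
    have hdet := g.2
    rw [Matrix.det_fin_two, h01, zero_mul, sub_zero, ← hd] at hdet
    rcases mul_self_eq_one_iff.mp hdet with h | h
    · left; ext a b; fin_cases a <;> fin_cases b <;> simp [h01, h10, ← hd, h]
    · right; ext a b; fin_cases a <;> fin_cases b <;> simp [h01, h10, ← hd, h]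
  have hsqx : x ^ 2 ∈ Φ := ⟨(⟨x, hxQ⟩ : Q) ^ 2, CfsgLib.PGroup.Frattini.pow_mem_frattini hQp _, rfl⟩
  have hne2 : ∀ g : SL(2, K), g * g = 1 → g.1 0 1 = 0 ∧ g.1 1 0 = 0 ∧ g.1 0 0 = g.1 1 1 := by
    intro g hg
    by_cases h1 : g = 1
    · subst h1; simp
    · simp [val_eq_neg_one (p := p) hp h1 hg]
  have hicomm : i * up k ≠ up k * i := fun e => hxc (Subtype.ext e)
  have hnscal : ¬ (i.1 0 1 = 0 ∧ i.1 1 0 = 0 ∧ i.1 0 0 = i.1 1 1) := by
    rintro ⟨h01, h10, hd⟩
    rcases hscal i h01 h10 hd with h | h <;>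
      exact hicomm (Subtype.ext (by simp [Matrix.SpecialLinearGroup.coe_mul, h]))
  have hii : (i * i).1 = -1 := by
    obtain ⟨h01, h10, hd⟩ := hΦ _ hsqx
    have e : ((x ^ 2 : X) : SL(2, K)) = i * i := by rw [Subgroup.coe_pow, sq]
    rw [e] at h01 h10 hd
    refine (hscal _ h01 h10 hd).resolve_left fun h1 => hnscal (hne2 i ?_)
    exact Subtype.ext h1
  have hiiM : i.1 * i.1 = -1 := by rw [← Matrix.SpecialLinearGroup.coe_mul, hii]
  set x0 := i.1 0 0 with hx0
  set y0 := i.1 0 1 with hy0
  set z0 := i.1 1 0 with hz0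
  set w0 := i.1 1 1 with hw0
  have e00 := congrFun (congrFun hiiM 0) 0
  have e01 := congrFun (congrFun hiiM 0) 1
  have e10 := congrFun (congrFun hiiM 1) 0
  have e11 := congrFun (congrFun hiiM 1) 1
  simp only [Matrix.mul_apply, Fin.sum_univ_two, Matrix.neg_apply, Matrix.one_apply_eq, ne_eq,
    Fin.zero_eq_one_iff, OfNat.ofNat_ne_one, not_false_eq_true, Matrix.one_apply_ne, Fin.one_eq_zero_iff,
    neg_zero, ← hx0, ← hy0, ← hz0, ← hw0] at e00 e01 e10 e11
  have hw : w0 = -x0 := by
    by_contra hne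
    have hs : x0 + w0 ≠ 0 := fun h => hne (eq_neg_of_add_eq_zero_right h)
    refine hnscal ⟨(mul_eq_zero.mp (show y0 * (x0 + w0) = 0 by linear_combination e01)).resolve_right hs,
      (mul_eq_zero.mp (show z0 * (x0 + w0) = 0 by linear_combination e10)).resolve_right hs, ?_⟩
    show x0 = w0
    exact mul_right_cancel₀ hs (by linear_combination e00 - e11)
  have h2 : (2 : K) ≠ 0 := fun h2 => hp ((Nat.prime_dvd_prime_iff_eq hpp Nat.prime_two).mp
    ((CharP.cast_eq_zero_iff K p 2).mp (by exact_mod_cast h2)))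
  -- the trace condition
  have hmain : ∀ (u : X), u ∈ A → ∀ k' : K, k' ≠ 0 → (u : SL(2, K)) = up k' →
      (k' * z0) * (k' * z0) = -2 := by
    intro u huA k' hk' huk
    set i' : SL(2, K) := up k' * i * (up k')⁻¹ with hi'
    have hx'Q : u * x * u⁻¹ ∈ Q := (Subgroup.mem_normalizer_iff.mp (hQ1n huA) x).mp hxQ
    have hx'v : ((u * x * u⁻¹ : X) : SL(2, K)) = i' := by simp [hi', huk, hi]
    have hicomm' : i * up k' ≠ up k' * i := by
      intro e
      have h00 := congrArg (fun g : SL(2, K) => g.1 0 0) e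
      have h01 := congrArg (fun g : SL(2, K) => g.1 0 1) e
      simp only [Matrix.SpecialLinearGroup.coe_mul, Matrix.mul_apply, Fin.sum_univ_two, up_val, Matrix.of_apply,
        Matrix.cons_val_zero, Matrix.cons_val_one, mul_one, one_mul, mul_zero, zero_mul, add_zero,
        ← hx0, ← hy0, ← hz0, ← hw0, hw] at h00 h01
      have hz : z0 = 0 := (mul_eq_zero.mp (show k' * z0 = 0 by linear_combination -h00)).resolve_left hk'
      have hx : x0 = 0 := (mul_eq_zero.mp (show (2 * k') * x0 = 0 by linear_combination h01)).resolve_left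
        (mul_ne_zero h2 hk')
      rw [hz, hx] at e00
      simp at e00
    have hcomm' : (⁅i, i'⁆).1 = -1 := by
      have hmem : ⁅x, u * x * u⁻¹⁆ ∈ Φ :=
        ⟨⁅(⟨x, hxQ⟩ : Q), ⟨_, hx'Q⟩⁆, CfsgLib.PGroup.Frattini.commutatorElement_mem_frattini hQp _ _, rfl⟩
      obtain ⟨h01, h10, hd⟩ := hΦ _ hmem
      have e : ((⁅x, u * x * u⁻¹⁆ : X) : SL(2, K)) = ⁅i, i'⁆ := by
        rw [show ((⁅x, u * x * u⁻¹⁆ : X) : SL(2, K)) = ⁅(x : SL(2, K)), ((u * x * u⁻¹ : X) : SL(2, K))⁆ from
          map_commutatorElement X.subtype x (u * x * u⁻¹), hx'v]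
      rw [e] at h01 h10 hd
      refine (hscal _ h01 h10 hd).resolve_left fun h1 => ?_
      -- otherwise `i` and `i'` commute, so `i' = ± i`, and then `i' = i`
      have hc : i * i' = i' * i := commutatorElement_eq_one_iff_mul_comm.mp (Subtype.ext h1)
      have hinv : i'⁻¹ = up k' * i⁻¹ * (up k')⁻¹ := by rw [hi']; group
      have hsq' : (i' * i⁻¹) * (i' * i⁻¹) = 1 := by
        have h1' : Commute i' i⁻¹ := (Commute.symm hc : Commute i' i).inv_right
        rw [← sq, h1'.mul_pow, sq, sq, ← _root_.mul_inv_rev, hi']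
        have hn : i * i = negI := Subtype.ext (hii.trans negI_val.symm)
        have hcomm2 : up k' * (i * i) = (i * i) * up k' := by rw [hn]; exact negI_comm _
        rw [show up k' * i * (up k')⁻¹ * (up k' * i * (up k')⁻¹) = up k' * (i * i) * (up k')⁻¹ by group,
          hcomm2, mul_inv_cancel_right, mul_inv_cancel]
      obtain ⟨g01, g10, gd⟩ := hne2 _ hsq'
      rcases hscal _ g01 g10 gd with h | h
      · have e' : i' = i := mul_inv_eq_one.mp (Subtype.ext h)
        rw [hi', mul_inv_eq_iff_eq_mul] at e'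
        exact hicomm' e'.symm
      · -- conjugation by `up k'` has odd order, so it cannot negate `i`
        have hneg : (up k' * i * (up k')⁻¹).1 = -i.1 := by
          rw [← hi', show i' = i' * i⁻¹ * i by group, Matrix.SpecialLinearGroup.coe_mul, h, neg_one_mul]
        have hit : ∀ n : ℕ, ((up k') ^ n * i * ((up k') ^ n)⁻¹).1 = (-1 : K) ^ n • i.1 := by
          intro n
          induction n with
          | zero => simp
          | succ n ih =>
            rw [show (up k') ^ (n + 1) * i * ((up k') ^ (n + 1))⁻¹ =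
              up k' * ((up k') ^ n * i * ((up k') ^ n)⁻¹) * (up k')⁻¹ by rw [pow_succ']; group,
              Matrix.SpecialLinearGroup.coe_mul, Matrix.SpecialLinearGroup.coe_mul, ih, Matrix.mul_smul,
              Matrix.smul_mul, ← Matrix.SpecialLinearGroup.coe_mul, ← Matrix.SpecialLinearGroup.coe_mul, hneg,
              pow_succ, mul_smul, neg_one_smul]
        have := hit p
        rw [up_pow, CharP.cast_eq_zero, zero_mul, up_zero, one_mul, inv_one, mul_one,
          (hpp.odd_of_ne_two hp).neg_one_pow, neg_one_smul] at this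
        have h20 : (2 : K) ≠ 0 := fun h2 => hp ((Nat.prime_dvd_prime_iff_eq hpp Nat.prime_two).mp
          ((CharP.cast_eq_zero_iff K p 2).mp (by exact_mod_cast h2)))
        have h0 : ∀ a b, i.1 a b = 0 := fun a b => by
          have hab := congrFun (congrFun this a) b
          rw [Matrix.neg_apply] at hab
          exact (mul_eq_zero.mp (by linear_combination hab : (2 : K) * i.1 a b = 0)).resolve_left h20
        exact hnscal ⟨h0 0 1, h0 1 0, (h0 0 0).trans (h0 1 1).symm⟩
    have hanti : (i * i').1 = -(i' * i).1 := by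
      have e : i * i' = ⁅i, i'⁆ * (i' * i) := by simp only [commutatorElement_def]; group
      rw [e, Matrix.SpecialLinearGroup.coe_mul, hcomm', neg_one_mul]
    have htr := congrFun (congrFun hanti 0) 0
    rw [Matrix.neg_apply] at htr
    simp only [hi', up_inv, Matrix.SpecialLinearGroup.coe_mul, Matrix.mul_apply, Fin.sum_univ_two, up_val,
      Matrix.of_apply, Matrix.cons_val_zero, Matrix.cons_val_one, ← hx0, ← hy0, ← hz0, ← hw0, hw] at htr
    linear_combination (-1 : K) * htr + 2 * e00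
  -- `p = 3`
  have hkz := hmain ⟨up k, hu⟩ (Subgroup.mem_zpowers _) k hk rfl
  have hkk : k + k ≠ 0 := fun h => mul_ne_zero h2 hk (by linear_combination h)
  have hkz' := hmain (⟨up k, hu⟩ * ⟨up k, hu⟩) (A.mul_mem (Subgroup.mem_zpowers _) (Subgroup.mem_zpowers _))
    (k + k) hkk (up_mul k k)
  have h3 : ((3 : ℕ) : K) = 0 := by
    have h6 : (2 : K) * 3 = 0 := by linear_combination 4 * hkz - hkz'
    exact_mod_cast (mul_eq_zero.mp h6).resolve_left h2
  have hp3 : p = 3 := (Nat.prime_dvd_prime_iff_eq hpp Nat.prime_three).mp ((CharP.cast_eq_zero_iff K p 3).mp h3)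
  have hkz1 : k * z0 = 1 ∨ k * z0 = -1 := by
    rw [← mul_self_eq_one_iff]
    have h3' : (3 : K) = 0 := by exact_mod_cast h3
    linear_combination hkz - h3'
  refine ⟨hp3, ?_⟩
  subst hp3
  -- normalise the sign
  obtain ⟨j, hjX, hjz, hjw, hjsq⟩ : ∃ j : SL(2, K), j ∈ X ∧ j.1 1 0 = k⁻¹ ∧ j.1 1 1 = -j.1 0 0 ∧
      j.1 0 0 * j.1 0 0 + j.1 0 1 * j.1 1 0 = -1 := by
    rcases hkz1 with h | h
    · exact ⟨i, x.2, (eq_inv_of_mul_eq_one_right h), hw, e00⟩
    · refine ⟨i⁻¹, X.inv_mem x.2, ?_, ?_, ?_⟩ <;>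
        simp only [Matrix.SpecialLinearGroup.coe_inv, Matrix.adjugate_fin_two, Matrix.of_apply,
          Matrix.cons_val_zero, Matrix.cons_val_one, ← hx0, ← hy0, ← hz0, ← hw0, hw]
      · refine eq_inv_of_mul_eq_one_right ?_
        linear_combination -h
      · ring
      · linear_combination e00
  set t := j.1 0 0 * k with ht
  let P : Matrix (Fin 2) (Fin 2) K := !![k, t; 0, 1]
  let P' : Matrix (Fin 2) (Fin 2) K := !![k⁻¹, -(t * k⁻¹); 0, 1]
  have hPP' : P * P' = 1 := by
    ext a b
    fin_cases a <;> fin_cases b <;> simp [P, P', Matrix.mul_apply, Fin.sum_univ_two, hk] <;>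
      field_simp <;> ring
  have hP'P : P' * P = 1 := mul_eq_one_comm.mp hPP'
  haveI : CharP K 3 := inferInstance
  let cast3 : SL(2, ZMod 3) →* SL(2, K) := Matrix.SpecialLinearGroup.map (ZMod.castHom (dvd_refl 3) K)
  let ψ : SL(2, ZMod 3) →* SL(2, K) :=
    { toFun := fun M => ⟨P * (cast3 M).1 * P', by
        rw [Matrix.det_mul, Matrix.det_mul, (cast3 M).2, mul_one, ← Matrix.det_mul, hPP', Matrix.det_one]⟩
      map_one' := Subtype.ext (by
        simp only [map_one, Matrix.SpecialLinearGroup.coe_one, mul_one]; exact hPP')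
      map_mul' := fun M M' => Subtype.ext (by
        simp only [map_mul, Matrix.SpecialLinearGroup.coe_mul]
        calc P * ((cast3 M).1 * (cast3 M').1) * P'
            = P * (cast3 M).1 * (P' * P) * (cast3 M').1 * P' := by rw [hP'P]; simp [mul_assoc]
          _ = P * (cast3 M).1 * P' * (P * (cast3 M').1 * P') := by simp [mul_assoc]) }
  have hψ : ∀ M a b, (ψ M).1 a b = (P * (cast3 M).1 * P') a b := fun _ _ _ => rfl
  have hc3 : ∀ M a b, (cast3 M).1 a b = ZMod.castHom (dvd_refl 3) K (M.1 a b) := fun _ _ _ => rfl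
  refine ⟨ψ, ?_, ?_⟩
  · intro M M' e
    have e' : P * (cast3 M).1 * P' = P * (cast3 M').1 * P' := congrArg Subtype.val e
    have e'' : (cast3 M).1 = (cast3 M').1 := by
      calc (cast3 M).1 = (P' * P) * (cast3 M).1 * (P' * P) := by rw [hP'P, one_mul, mul_one]
        _ = P' * (P * (cast3 M).1 * P') * P := by simp [mul_assoc]
        _ = P' * (P * (cast3 M').1 * P') * P := by rw [e']
        _ = (P' * P) * (cast3 M').1 * (P' * P) := by simp [mul_assoc]
        _ = _ := by rw [hP'P, one_mul, mul_one]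
    ext a b
    exact (ZMod.castHom (dvd_refl 3) K).injective (congrFun (congrFun e'' a) b)
  · rintro _ ⟨M, rfl⟩
    have hT : ψ (up 1) = up k := by
      apply sl_ext <;>
        simp [hψ, hc3, P, P', up_val, Matrix.mul_apply, Matrix.vecMul, dotProduct, Fin.sum_univ_two, hk] <;> (try field_simp) <;> (try ring)
    have hy : j.1 0 1 = -(1 + j.1 0 0 * j.1 0 0) * k := by
      rw [hjz] at hjsq
      field_simp at hjsq
      linear_combination hjsq
    have hS : ψ sMat = j := by
      apply sl_ext <;>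
        simp [hψ, hc3, sMat_val, P, P', Matrix.mul_apply, Matrix.vecMul, dotProduct, Fin.sum_univ_two, hk, hjz, hjw, hy, ht] <;> (try field_simp) <;> (try ring)
    have hupmem : ∀ c : ZMod 3, up c ∈ X.comap ψ := by
      intro c
      have h1 : up (1 : ZMod 3) ∈ X.comap ψ := by rw [Subgroup.mem_comap, hT]; exact hu
      have := (X.comap ψ).pow_mem h1 c.val
      rwa [up_pow, ZMod.natCast_zmod_val, mul_one] at this
    have hgen : (⊤ : Subgroup SL(2, ZMod 3)) ≤ X.comap ψ := by
      refine le_of_eq (CfsgLib.Classical.sl2_transvections_generate _ (fun c => ?_) (fun c => ?_)).symm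
      · convert hupmem c using 1
        apply sl_ext <;> simp [up_val, Matrix.SpecialLinearGroup.transvection, Matrix.transvection]
      · have hS' : sMat ∈ X.comap ψ := by rw [Subgroup.mem_comap, hS]; exact hjX
        convert mul_mem (mul_mem hS' (hupmem (-c))) (inv_mem hS') using 1
        apply sl_ext <;> simp [sMat_val, up_val, Matrix.SpecialLinearGroup.transvection, Matrix.transvection,
          Matrix.SpecialLinearGroup.coe_mul, Matrix.SpecialLinearGroup.coe_inv, Matrix.adjugate_fin_two,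
          Matrix.mul_apply, Fin.sum_univ_two]
    exact hgen (Subgroup.mem_top M)
where
  normalizer_le_of_char {G : Type v} [Group G] (Q : Subgroup G) (C : Subgroup Q) [C.Characteristic] :
      Subgroup.normalizer (Q : Set G) ≤ Subgroup.normalizer ((C.map Q.subtype : Subgroup G) : Set G) := by
    have key : ∀ g ∈ Subgroup.normalizer (Q : Set G), ∀ y ∈ C.map Q.subtype, g * y * g⁻¹ ∈ C.map Q.subtype := by
      rintro g hg _ ⟨c, hc, rfl⟩
      let φ : Q ≃* Q := Q.normalizerMonoidHom ⟨g, hg⟩
      refine ⟨φ c, ?_, rfl⟩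
      have h := Subgroup.characteristic_iff_map_eq.mp (inferInstance : C.Characteristic) φ
      rw [← h]
      exact Subgroup.mem_map_of_mem _ hc
    intro g hg
    rw [Subgroup.mem_normalizer_iff]
    intro y
    refine ⟨key g hg y, fun h => ?_⟩
    simpa [mul_assoc] using key g⁻¹ (inv_mem hg) _ h

end CfsgLib.Fusion.QuadSL2
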