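import Cfsg.Prelude.Def_PLocal
import Cfsg.Agent.Lib.Fusion.QuadSL2
import Cfsg.Agent.Lib.Fusion.GlaubermanThompson
import Cfsg.Agent.Lib.Involution.BaerSuzuki

/-!
Consequences of the structure of groups generated by two quadratic elements: `p`-stability of `p`-solvable
groups for `p ≥ 5`, and of groups with abelian Sylow `2`-subgroups.
-/

set_option autoImplicit false
set_option linter.style.haveILetI false
set_option linter.unusedSectionVars false

namespace CfsgLib.Fusion.QuadStable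

open Matrix CfsgLib.Perm.SL2Unipotent CfsgLib.Fusion.QuadSL2 CfsgLib.Solvable CfsgLib.Solvable.Basic
open scoped commutatorElement MatrixGroups Pointwise IsMulCommutative

universe v w

/-! ### Subgroups of `SL₂` -/

section SL

variable {K : Type v} [Field K] {p : ℕ} [Fact p.Prime] [CharP K p] {X : Subgroup SL(2, K)} [Finite X] {k : K}

theorem sMat_conj_low (c : K) : sMat * low c * (sMat : SL(2, K))⁻¹ = up (-c) := by
  apply sl_ext <;> simp [sMat_val, low_val, up_val, Matrix.SpecialLinearGroup.coe_mul,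
    Matrix.SpecialLinearGroup.coe_inv, Matrix.adjugate_fin_two, Matrix.mul_apply, Fin.sum_univ_two]

theorem exists_sl23_low (hp : p ≠ 2) (hl : low (1 : K) ∈ X) (M : Subgroup SL(2, K)) (hMX : M ≤ X)
    (hnorm : low (1 : K) ∈ Subgroup.normalizer (M : Set SL(2, K))) (hM : (Nat.card M).Coprime p)
    (hMu : ¬ M ≤ Subgroup.centralizer {low (1 : K)}) :
    p = 3 ∧ ∃ ψ : SL(2, ZMod 3) →* SL(2, K), Function.Injective ψ ∧ ψ.range ≤ X := by
  set c := (MulAut.conj (sMat : SL(2, K))).toMonoidHom with hc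
  haveI : Finite (X.map c) := Finite.of_surjective _ (c.subgroupMap_surjective X)
  have hinj : Function.Injective c := (MulAut.conj (sMat : SL(2, K))).injective
  have hup : c (low 1) = up (-1) := sMat_conj_low 1
  obtain ⟨h3, ψ, hψ, hψX⟩ := exists_sl23 (p := p) (k := (-1 : K)) hp (neg_ne_zero.mpr one_ne_zero)
    (X := X.map c) (hup ▸ Subgroup.mem_map_of_mem c hl) (M.map c) (Subgroup.map_mono hMX)
    (hup ▸ Subgroup.le_normalizer_map c (Subgroup.mem_map_of_mem c hnorm))
    (by rwa [Subgroup.card_map_of_injective hinj]) (fun h => hMu fun m hm => by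
      have h1 := Subgroup.mem_centralizer_singleton_iff.mp (h (Subgroup.mem_map_of_mem c hm))
      rw [← hup, ← map_mul, ← map_mul] at h1
      exact Subgroup.mem_centralizer_singleton_iff.mpr (hinj h1))
  set c' := (MulAut.conj (sMat : SL(2, K))).symm.toMonoidHom with hc'
  refine ⟨h3, c'.comp ψ, (MulAut.conj (sMat : SL(2, K))).symm.injective.comp hψ, ?_⟩
  rintro _ ⟨M', rfl⟩
  obtain ⟨x, hx, hxe⟩ := hψX ⟨M', rfl⟩
  show c' (ψ M') ∈ X
  rw [← hxe]
  simpa [hc, hc', mul_assoc] using hx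

/-- A `p`-solvable group generated by `up k` and `low 1` involves `SL(2, 3)`. -/
theorem exists_sl23_of_psolvable (hp : p ≠ 2) (hk : k ≠ 0) (hu : up k ∈ X) (hl : low (1 : K) ∈ X)
    (hgen : X ≤ Subgroup.closure {up k, low (1 : K)}) (hsol : Cfsg.IsPSolvable p X) :
    p = 3 ∧ ∃ ψ : SL(2, ZMod 3) →* SL(2, K), Function.Injective ψ ∧ ψ.range ≤ X := by
  set M₀ := Cfsg.pPrimeCore p X with hM₀
  haveI : M₀.Normal := Subgroup.sSup_normal _ fun _ h => h.1
  set M := M₀.map X.subtype with hM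
  have hMX : M ≤ X := Subgroup.map_subtype_le _
  have hMc : (Nat.card M).Coprime p := by
    rw [hM, Subgroup.card_subtype]; exact Cores.coprime_card_pPrimeCore p
  have hnorm : X ≤ Subgroup.normalizer (M : Set SL(2, K)) := by
    refine le_trans (le_of_eq ?_) (Subgroup.le_normalizer_map X.subtype)
    rw [Subgroup.normalizer_eq_top, ← MonoidHom.range_eq_map, Subgroup.range_subtype]
  by_cases hMu : M ≤ Subgroup.centralizer {up k}
  swap
  · exact exists_sl23 hp hk hu M hMX (hnorm hu) hMc hMu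
  by_cases hMl : M ≤ Subgroup.centralizer {low (1 : K)}
  swap
  · exact exists_sl23_low hp hl M hMX (hnorm hl) hMc hMl
  exfalso
  -- the `p'`-core is central
  have hXM : X ≤ Subgroup.centralizer (M : Set SL(2, K)) := hgen.trans ((Subgroup.closure_le _).mpr (by
    rintro g (rfl | rfl)
    · exact Subgroup.mem_centralizer_iff.mpr fun m hm => Subgroup.mem_centralizer_singleton_iff.mp (hMu hm)
    · exact Subgroup.mem_centralizer_iff.mpr fun m hm => Subgroup.mem_centralizer_singleton_iff.mp (hMl hm)))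
  have hcent : M₀ ≤ Subgroup.center X := fun m hm => Subgroup.mem_center_iff.mpr fun g =>
    Subtype.ext (Subgroup.mem_centralizer_iff.mp (hXM g.2) _ (Subgroup.mem_map_of_mem X.subtype hm)).symm
  set π := QuotientGroup.mk' M₀ with hπ
  have hπs := QuotientGroup.mk'_surjective M₀
  set L := (Cfsg.pCore p (X ⧸ M₀)).comap π with hL
  haveI : (Cfsg.pCore p (X ⧸ M₀)).Normal := Subgroup.sSup_normal _ fun _ h => h.1
  haveI hLn : L.Normal := Subgroup.Normal.comap inferInstance π
  haveI := (Cores.isPGroup_pCore (G := X ⧸ M₀) p).isNilpotent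
  let f : L →* Cfsg.pCore p (X ⧸ M₀) := π.subgroupComap _
  haveI : Group.IsNilpotent L := by
    refine Subgroup.isNilpotent_of_ker_le_center f (fun y hy => ?_)
    have hy' : (y : X) ∈ M₀ := by
      rw [← QuotientGroup.eq_one_iff]; exact congrArg Subtype.val hy
    exact Subgroup.mem_center_iff.mpr fun z => Subtype.ext (Subgroup.mem_center_iff.mp (hcent hy') z)
  -- a Sylow subgroup of `L` is a normal `p`-subgroup
  obtain ⟨P₀⟩ : Nonempty (Sylow p L) := inferInstance
  haveI hP₀n : (P₀ : Subgroup L).Normal :=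
    ((Group.isNilpotent_of_finite_tfae (G := L)).out 0 3 rfl rfl).mp ‹Group.IsNilpotent L› p ‹Fact p.Prime› P₀
  haveI : (P₀ : Subgroup L).Characteristic := Sylow.characteristic_of_normal P₀ hP₀n
  have hP₀bot : (P₀ : Subgroup L) = ⊥ := by
    rw [← Subgroup.map_eq_bot_iff_of_injective _ L.subtype_injective, eq_bot_iff,
      ← pCore_eq_bot (p := p) hk hu hl]
    exact Cores.le_pCore (P₀.isPGroup'.map _)
  have hLc : (Nat.card L).Coprime p := by
    refine ((Fact.out : p.Prime).coprime_iff_not_dvd.mpr ?_).symm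
    have := P₀.not_dvd_index
    rwa [hP₀bot, Subgroup.index_bot] at this
  have hLM : L ≤ M₀ := Cores.le_pPrimeCore hLc
  have hcore : Cfsg.pCore p (X ⧸ M₀) = ⊥ := by
    rw [← Subgroup.map_comap_eq_self_of_surjective hπs (Cfsg.pCore p (X ⧸ M₀)), ← hL, eq_bot_iff]
    exact (Subgroup.map_mono hLM).trans (QuotientGroup.map_mk'_self M₀).le
  have h1 := Fusion.PSolvable.centralizer_pCore_le (Fusion.PSolvable.psolvable_quotient hsol M₀)
    CfsgLib.Components.pPrimeCore_quotient_eq_bot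
  rw [hcore] at h1
  have htop : M₀ = ⊤ := by
    rw [eq_top_iff]
    intro x _
    rw [← QuotientGroup.eq_one_iff, ← Subgroup.mem_bot]
    exact h1 (Subgroup.mem_centralizer_iff.mpr fun y hy => by
      rw [Subgroup.mem_bot.mp hy, one_mul, mul_one])
  have huM : (⟨up k, hu⟩ : X) ∈ M₀ := by rw [htop]; trivial
  have hc := Subgroup.mem_center_iff.mp (hcent huM) ⟨_, hl⟩
  exact not_commute_up_low hk (congrArg Subtype.val hc).symm

end SL

/-! ### The representation-theoretic statements -/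

variable {H : Type w} [Group H] [Finite H] {p : ℕ} [Fact p.Prime]
  {W : Type v} [AddCommGroup W] [Finite W]

/-- `g` acts quadratically. -/
def IsQuad (ρ : H →* (AddMonoid.End W)ˣ) (g : H) : Prop :=
  ∀ u : W, (ρ g : AddMonoid.End W) ((ρ g : AddMonoid.End W) u - u) = (ρ g : AddMonoid.End W) u - u

theorem pow_eq_one_of_isQuad (hW : ∀ u : W, p • u = 0) (ρ : H →* (AddMonoid.End W)ˣ)
    (hρ : Function.Injective ρ) {g : H} (hg : IsQuad ρ g) : g ^ p = 1 := by
  refine hρ (Units.ext (AddMonoidHom.ext fun u => ?_))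
  rw [map_pow, Units.val_pow_eq_pow_val, map_one]
  show ((ρ g : AddMonoid.End W) ^ p) u = u
  set d := (ρ g : AddMonoid.End W) u - u with hd
  have hpow : ∀ i : ℕ, ((ρ g : AddMonoid.End W) ^ i) u = u + i • d := by
    intro i
    induction i with
    | zero => simp
    | succ i ih =>
      rw [pow_succ', AddMonoid.End.coe_mul, Function.comp_apply, ih, map_add, map_nsmul, hd, hg u,
        succ_nsmul, ← hd, show (ρ g : AddMonoid.End W) u = u + d by rw [hd]; abel]
      abel
  rw [hpow, hW, add_zero]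

/-- A non-`p`-group contains a nontrivial element of order prime to `p`. -/
theorem exists_coprime_ne_one (h : ¬ IsPGroup p H) : ∃ c : H, (orderOf c).Coprime p ∧ c ≠ 1 := by
  by_contra hall
  push Not at hall
  refine h fun x => ?_
  obtain ⟨a, b, hab, ⟨i, hi⟩, hb, -, -⟩ : ∃ a b : H, x = a * b ∧ (∃ i, orderOf a = p ^ i) ∧
      (orderOf b).Coprime p ∧ a ∈ Subgroup.zpowers x ∧ b ∈ Subgroup.zpowers x :=
    ZJConstrained.isPStableOn_quotient.exists_parts x
  exact ⟨i, by rw [hab, hall b hb, mul_one, ← hi, pow_orderOf_eq_one]⟩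

theorem exists_hom_sl2 (hW : ∀ u : W, p • u = 0) (ρ : H →* (AddMonoid.End W)ˣ) (a b : H)
    (hgen : Subgroup.closure ({a, b} : Set H) = ⊤) (ha : IsQuad ρ a) (hb : IsQuad ρ b)
    {c : H} (hc : (orderOf c).Coprime p) (hρc : ρ c ≠ 1) :
    ∃ (K : Type v) (_ : Field K) (_ : Finite K) (_ : CharP K p) (k : K) (φ : H →* SL(2, K)),
      k ≠ 0 ∧ φ a = up k ∧ φ b = low 1 ∧ φ c ≠ 1 ∧ φ.range ≤ Subgroup.closure {up k, low (1 : K)} := by
  obtain ⟨K, i1, i2, i3, k, φ, hk, hφa, hφb, hφc⟩ :=
    QuadSL2.exists_sl2 a b hgen (Nat.card W) W rfl hW ρ ha hb c hc hρc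
  refine ⟨K, i1, i2, i3, k, φ, hk, hφa, hφb, hφc, ?_⟩
  rw [MonoidHom.range_eq_map, ← hgen, MonoidHom.map_closure, Set.image_insert_eq, Set.image_singleton,
    hφa, hφb]

/-- Two quadratic generators of a group which is not a `p`-group force non-abelian Sylow `2`-subgroups. -/
theorem sylow_two_not_comm_of_pair (hp : p ≠ 2) (hW : ∀ u : W, p • u = 0) (ρ : H →* (AddMonoid.End W)ˣ)
    (hρ : Function.Injective ρ) (a b : H) (hgen : Subgroup.closure ({a, b} : Set H) = ⊤)
    (ha : IsQuad ρ a) (hb : IsQuad ρ b) (hnp : ¬ IsPGroup p H) (T : Sylow 2 H) :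
    ¬ IsMulCommutative T := by
  intro hT
  obtain ⟨c, hc, hc1⟩ := exists_coprime_ne_one hnp
  obtain ⟨K, _, _, _, k, φ, hk, hφa, hφb, -, hle⟩ := exists_hom_sl2 hW ρ a b hgen ha hb hc
    (fun e => hc1 (hρ (e.trans (map_one ρ).symm)))
  haveI : Fact (Nat.Prime 2) := ⟨Nat.prime_two⟩
  refine sylow_two_not_comm (p := p) hp hk (X := φ.range) ⟨a, hφa⟩ ⟨b, hφb⟩ hle
    (T.mapSurjective φ.rangeRestrict_surjective) ?_
  refine IsMulCommutative.of_comm fun s t => ?_
  obtain ⟨x, hx, hxs⟩ := s.2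
  obtain ⟨y, hy, hyt⟩ := t.2
  refine Subtype.ext ?_
  show (s : φ.range) * t = t * s
  have e : x * y = y * x := congrArg Subtype.val (hT.is_comm.comm (⟨x, hx⟩ : (T : Subgroup H)) ⟨y, hy⟩)
  rw [← hxs, ← hyt, ← map_mul, ← map_mul, e]

/-- A copy of `SL(2, 3)` in the image gives a section. -/
theorem section_of_hom {K : Type v} [Field K] (φ : H →* SL(2, K)) {ψ : SL(2, ZMod 3) →* SL(2, K)}
    (hψ : Function.Injective ψ) (hle : ψ.range ≤ φ.range) :
    ∃ (L : Subgroup H) (f : L →* SL(2, ZMod 3)), Function.Surjective f := by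
  refine ⟨ψ.range.comap φ, (MonoidHom.ofInjective hψ).symm.toMonoidHom.comp (φ.subgroupComap ψ.range),
    (MonoidHom.ofInjective hψ).symm.surjective.comp ?_⟩
  rintro ⟨y, hy⟩
  obtain ⟨x, rfl⟩ := hle hy
  exact ⟨⟨x, hy⟩, rfl⟩

/-- Two quadratic generators, one of which acts nontrivially on a normal `p'`-subgroup. -/
theorem section_of_pair_normal (hp : p ≠ 2) (hW : ∀ u : W, p • u = 0) (ρ : H →* (AddMonoid.End W)ˣ)
    (hρ : Function.Injective ρ) (a b : H) (hgen : Subgroup.closure ({a, b} : Set H) = ⊤)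
    (ha : IsQuad ρ a) (hb : IsQuad ρ b) (Q : Subgroup H) [hQn : Q.Normal] (hQ : (Nat.card Q).Coprime p)
    {q : H} (hq : q ∈ Q) (hqa : q * a ≠ a * q) :
    p = 3 ∧ ∃ (L : Subgroup H) (f : L →* SL(2, ZMod 3)), Function.Surjective f := by
  have hcQ : ⁅q, a⁆ ∈ Q := by
    rw [commutatorElement_def, show q * a * q⁻¹ * a⁻¹ = q * (a * q⁻¹ * a⁻¹) by group]
    exact Q.mul_mem hq (hQn.conj_mem _ (Q.inv_mem hq) a)
  have hc : (orderOf ⁅q, a⁆).Coprime p :=
    Nat.Coprime.coprime_dvd_left (Subgroup.orderOf_dvd_natCard Q hcQ) hQ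
  have hc1 : ⁅q, a⁆ ≠ 1 := fun e => hqa (commutatorElement_eq_one_iff_mul_comm.mp e)
  obtain ⟨K, _, _, _, k, φ, hk, hφa, -, hφc, -⟩ := exists_hom_sl2 hW ρ a b hgen ha hb hc
    (fun e => hc1 (hρ (e.trans (map_one ρ).symm)))
  have hn : up k ∈ Subgroup.normalizer ((Q.map φ : Subgroup SL(2, K)) : Set SL(2, K)) := by
    refine Subgroup.le_normalizer_map φ ?_
    refine ⟨a, ?_, hφa⟩
    rw [Subgroup.normalizer_eq_top]; trivial
  have hcard : (Nat.card (Q.map φ)).Coprime p :=
    Nat.Coprime.coprime_dvd_left (Subgroup.card_dvd_of_surjective (φ.subgroupMap Q) (φ.subgroupMap_surjective Q)) hQ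
  have hnc : ¬ Q.map φ ≤ Subgroup.centralizer {up k} := fun h => hφc (by
    rw [map_commutatorElement, commutatorElement_eq_one_iff_mul_comm, hφa]
    exact Subgroup.mem_centralizer_singleton_iff.mp (h (Subgroup.mem_map_of_mem φ hq)))
  obtain ⟨h3, ψ, hψ, hle⟩ := exists_sl23 hp hk (X := φ.range) ⟨a, hφa⟩ (Q.map φ)
    (Subgroup.map_le_range φ Q) hn hcard hnc
  exact ⟨h3, section_of_hom φ hψ hle⟩

theorem section_of_pair (hp : p ≠ 2) (hW : ∀ u : W, p • u = 0) (ρ : H →* (AddMonoid.End W)ˣ)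
    (hρ : Function.Injective ρ) (a b : H) (hgen : Subgroup.closure ({a, b} : Set H) = ⊤)
    (ha : IsQuad ρ a) (hb : IsQuad ρ b) (hnp : ¬ IsPGroup p H) (hsol : Cfsg.IsPSolvable p H) :
    p = 3 ∧ ∃ (L : Subgroup H) (f : L →* SL(2, ZMod 3)), Function.Surjective f := by
  obtain ⟨c, hc, hc1⟩ := exists_coprime_ne_one hnp
  obtain ⟨K, _, _, _, k, φ, hk, hφa, hφb, -, hle⟩ := exists_hom_sl2 hW ρ a b hgen ha hb hc
    (fun e => hc1 (hρ (e.trans (map_one ρ).symm)))
  obtain ⟨h3, ψ, hψ, hψle⟩ := exists_sl23_of_psolvable hp hk (X := φ.range) ⟨a, hφa⟩ ⟨b, hφb⟩ hle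
    (PSolvable.psolvable_of_surjective φ.rangeRestrict φ.rangeRestrict_surjective hsol)
  exact ⟨h3, section_of_hom φ hψ hψle⟩

/-- A quadratic element outside `O_p` gives a pair of quadratic conjugates generating a non-`p`-group. -/
theorem exists_pair (hW : ∀ u : W, p • u = 0) (ρ : H →* (AddMonoid.End W)ˣ)
    (hρ : Function.Injective ρ) {a : H} (ha : IsQuad ρ a) (hna : a ∉ Cfsg.pCore p H) :
    ∃ (L : Subgroup H) (a' b' : L), Subgroup.closure ({a', b'} : Set L) = ⊤ ∧
      IsQuad (ρ.comp L.subtype) a' ∧ IsQuad (ρ.comp L.subtype) b' ∧ ¬ IsPGroup p L := by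
  have hap : IsPGroup p (Subgroup.zpowers a) := by
    rcases (Nat.dvd_prime (Fact.out : p.Prime)).mp
      (orderOf_dvd_of_pow_eq_one (pow_eq_one_of_isQuad hW ρ hρ ha)) with hj | hj
    · exact IsPGroup.of_card (n := 0) (by rw [Nat.card_zpowers, hj, pow_zero])
    · exact IsPGroup.of_card (n := 1) (by rw [Nat.card_zpowers, hj, pow_one])
  obtain ⟨g, hg⟩ : ∃ g : H, ¬ IsPGroup p
      ↥(Subgroup.zpowers a ⊔ (Subgroup.zpowers a).map (MulAut.conj g).toMonoidHom) := by
    by_contra hall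
    push Not at hall
    obtain ⟨N, hN, hNp, hle⟩ := CfsgLib.Involution.BaerSuzuki.exists_normal (Subgroup.zpowers a) hall
    exact hna (Cores.le_pCore hNp (hle (Subgroup.mem_zpowers a)))
  set b := g * a * g⁻¹ with hb
  set L := Subgroup.closure ({a, b} : Set H) with hL
  have haL : a ∈ L := Subgroup.subset_closure (Or.inl rfl)
  have hbL : b ∈ L := Subgroup.subset_closure (Or.inr rfl)
  refine ⟨L, ⟨a, haL⟩, ⟨b, hbL⟩, ?_, ha, fun u => ?_, ?_⟩
  · apply Subgroup.map_injective L.subtype_injective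
    rw [MonoidHom.map_closure, Set.image_insert_eq, Set.image_singleton, ← MonoidHom.range_eq_map,
      Subgroup.range_subtype]
    rfl
  · show (ρ b : AddMonoid.End W) ((ρ b : AddMonoid.End W) u - u) = (ρ b : AddMonoid.End W) u - u
    have hρb : ∀ z, (ρ b : AddMonoid.End W) z =
        (ρ g : AddMonoid.End W) ((ρ a : AddMonoid.End W) ((ρ g⁻¹ : AddMonoid.End W) z)) := fun z => by
      rw [hb, map_mul, map_mul]; rfl
    have hgg : ∀ z, (ρ g⁻¹ : AddMonoid.End W) ((ρ g : AddMonoid.End W) z) = z := fun z => by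
      rw [map_inv]; exact DFunLike.congr_fun (Units.inv_mul (ρ g)) z
    have hgg' : ∀ z, (ρ g : AddMonoid.End W) ((ρ g⁻¹ : AddMonoid.End W) z) = z := fun z => by
      rw [map_inv]; exact DFunLike.congr_fun (Units.mul_inv (ρ g)) z
    set w := (ρ g⁻¹ : AddMonoid.End W) u with hw
    have e : (ρ b : AddMonoid.End W) u - u = (ρ g : AddMonoid.End W) ((ρ a : AddMonoid.End W) w - w) := by
      rw [hρb u, map_sub, hw, hgg']
    rw [e, hρb, hgg, ha w]
  · intro hp'
    refine hg (hp'.to_le (sup_le (Subgroup.zpowers_le.mpr haL) ?_))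
    rw [MonoidHom.map_zpowers, Subgroup.zpowers_le]
    exact hbL

theorem section_of_not_mem_pCore (hp : p ≠ 2) (hW : ∀ u : W, p • u = 0) (ρ : H →* (AddMonoid.End W)ˣ)
    (hρ : Function.Injective ρ) (hsol : Cfsg.IsPSolvable p H) {a : H} (ha : IsQuad ρ a)
    (hna : a ∉ Cfsg.pCore p H) :
    p = 3 ∧ ∃ (L : Subgroup H) (f : L →* SL(2, ZMod 3)), Function.Surjective f := by
  obtain ⟨L, a', b', hgen, hqa, hqb, hnp⟩ := exists_pair hW ρ hρ ha hna
  obtain ⟨h3, L', f, hf⟩ := section_of_pair hp hW (ρ.comp L.subtype) (hρ.comp L.subtype_injective) a' b'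
    hgen hqa hqb hnp (PSolvable.psolvable_subgroup hsol L)
  let e := L'.equivMapOfInjective L.subtype L.subtype_injective
  exact ⟨h3, L'.map L.subtype, f.comp e.symm.toMonoidHom, hf.comp e.symm.surjective⟩

theorem sylow_two_not_comm_of_not_mem_pCore (hp : p ≠ 2) (hW : ∀ u : W, p • u = 0)
    (ρ : H →* (AddMonoid.End W)ˣ) (hρ : Function.Injective ρ) {a : H} (ha : IsQuad ρ a)
    (hna : a ∉ Cfsg.pCore p H) (T : Sylow 2 H) : ¬ IsMulCommutative T := by
  intro hT
  obtain ⟨L, a', b', hgen, hqa, hqb, hnp⟩ := exists_pair hW ρ hρ ha hna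
  haveI : Fact (Nat.Prime 2) := ⟨Nat.prime_two⟩
  obtain ⟨T'⟩ : Nonempty (Sylow 2 L) := inferInstance
  refine sylow_two_not_comm_of_pair hp hW (ρ.comp L.subtype) (hρ.comp L.subtype_injective) a' b' hgen hqa hqb
    hnp T' ?_
  obtain ⟨S, hS⟩ := (T'.isPGroup'.map L.subtype).exists_le_sylow
  obtain ⟨g, hg⟩ := MulAction.exists_smul_eq H S T
  refine IsMulCommutative.of_comm fun s t => Subtype.ext (L.subtype_injective ?_)
  have key : ∀ z : L, z ∈ (T' : Subgroup L) → g * (z : H) * g⁻¹ ∈ (T : Subgroup H) := fun z hz => by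
    rw [← hg, Sylow.coe_subgroup_smul]
    exact ⟨_, hS (Subgroup.mem_map_of_mem _ hz), rfl⟩
  have e : g * ((s : L) : H) * g⁻¹ * (g * ((t : L) : H) * g⁻¹) =
      g * ((t : L) : H) * g⁻¹ * (g * ((s : L) : H) * g⁻¹) :=
    congrArg Subtype.val (hT.is_comm.comm (⟨_, key _ s.2⟩ : (T : Subgroup H)) ⟨_, key _ t.2⟩)
  show ((s : L) : H) * ((t : L) : H) = ((t : L) : H) * ((s : L) : H)
  calc ((s : L) : H) * ((t : L) : H)
      = g⁻¹ * (g * ((s : L) : H) * g⁻¹ * (g * ((t : L) : H) * g⁻¹)) * g := by group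
    _ = _ := by rw [e]; group

/-! ### The conjugation action on an elementary abelian subgroup -/

variable {G : Type v} [Group G] [Finite G]

/-- The conjugation action of `H` on a subgroup `V` normalised by it. -/
def conjEnd (V H : Subgroup G) [IsMulCommutative V] (h : H ≤ Subgroup.normalizer (V : Set G)) :
    H →* (AddMonoid.End (Additive V))ˣ :=
  MonoidHom.toHomUnits
    { toFun := fun x => MonoidHom.toAdditive
        (V.normalizerMonoidHom (Subgroup.inclusion h x)).toMonoidHom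
      map_one' := by rw [map_one, map_one]; rfl
      map_mul' := fun x y => by rw [map_mul, map_mul]; rfl }

theorem conjEnd_apply (V H : Subgroup G) [IsMulCommutative V] (h : H ≤ Subgroup.normalizer (V : Set G))
    (x : H) (v : Additive V) :
    ((Additive.toMul ((conjEnd V H h x : AddMonoid.End (Additive V)) v) : V) : G) =
      (x : G) * ((Additive.toMul v : V) : G) * (x : G)⁻¹ := rfl

theorem conjEnd_injective {V H : Subgroup G} [IsMulCommutative V] (h : H ≤ Subgroup.normalizer (V : Set G))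
    (hf : H ⊓ Subgroup.centralizer (V : Set G) = ⊥) : Function.Injective (conjEnd V H h) := by
  rw [injective_iff_map_eq_one]
  intro x hx
  have hmem : (x : G) ∈ H ⊓ Subgroup.centralizer (V : Set G) := by
    refine ⟨x.2, Subgroup.mem_centralizer_iff.mpr fun v hv => ?_⟩
    have := conjEnd_apply V H h x (Additive.ofMul ⟨v, hv⟩)
    rw [hx] at this
    exact (mul_inv_eq_iff_eq_mul.mp this.symm).symm
  rw [hf, Subgroup.mem_bot] at hmem
  exact Subtype.ext hmem

theorem conjEnd_isQuad {V H : Subgroup G} [IsMulCommutative V] (h : H ≤ Subgroup.normalizer (V : Set G))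
    {a : G} (ha : a ∈ H) (hq : ⁅⁅V, Subgroup.zpowers a⁆, Subgroup.zpowers a⁆ = ⊥) :
    IsQuad (conjEnd V H h) ⟨a, ha⟩ := by
  intro u
  apply Additive.toMul.injective
  apply Subtype.ext
  rw [conjEnd_apply]
  set v := ((Additive.toMul u : V) : G) with hv
  have hd : ((Additive.toMul ((conjEnd V H h ⟨a, ha⟩ : AddMonoid.End (Additive V)) u - u) : V) : G) =
      a * v * a⁻¹ * v⁻¹ := by
    rw [toMul_sub, div_eq_mul_inv, Subgroup.coe_mul, Subgroup.coe_inv, conjEnd_apply]
  rw [hd]
  have hmem : ⁅v, a⁆ ∈ ⁅V, Subgroup.zpowers a⁆ :=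
    Subgroup.commutator_mem_commutator (Additive.toMul u : V).2 (Subgroup.mem_zpowers a)
  have h2 : a * ⁅v, a⁆ = ⁅v, a⁆ * a :=
    Subgroup.mem_centralizer_iff.mp (Subgroup.commutator_eq_bot_iff_le_centralizer.mp hq hmem) a
      (Subgroup.mem_zpowers a)
  have e : a * v * a⁻¹ * v⁻¹ = ⁅v, a⁆⁻¹ := by rw [commutatorElement_def]; group
  have h3 : a * ⁅v, a⁆⁻¹ = ⁅v, a⁆⁻¹ * a := (Commute.inv_right (show Commute a ⁅v, a⁆ from h2)).eq
  rw [e, h3, mul_inv_cancel_right]

theorem additive_exponent {V : Subgroup G} (hV : Cfsg.IsElementaryAbelian p V) (u : Additive V) :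
    letI := hV.1; p • u = 0 := by
  letI := hV.1
  apply Additive.toMul.injective
  rw [toMul_nsmul]
  exact Subtype.ext (hV.2 _ (Additive.toMul u : V).2)

/-! ### Stability in the action sense -/

/-- Every quadratic element of a faithful action lies in `O_p`, for all groups with a given property. -/
def QuadInCore (p : ℕ) (H : Type v) [Group H] : Prop :=
  ∀ (W : Type v) [AddCommGroup W] [Finite W], (∀ u : W, p • u = 0) →
    ∀ ρ : H →* (AddMonoid.End W)ˣ, Function.Injective ρ → ∀ a : H, IsQuad ρ a → a ∈ Cfsg.pCore p H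

theorem isPStableOn_of_quadInCore (V : Subgroup G) [hVn : V.Normal] (hV : Cfsg.IsElementaryAbelian p V)
    (h : QuadInCore p (G ⧸ Subgroup.centralizer (V : Set G))) : Cfsg.IsPStableOn p V := by
  haveI := hV.1
  have hle : (⊤ : Subgroup G) ≤ Subgroup.normalizer (V : Set G) := by rw [Subgroup.normalizer_eq_top]
  let ρ₀ : G →* (AddMonoid.End (Additive V))ˣ := (conjEnd V ⊤ hle).comp Subgroup.topEquiv.symm.toMonoidHom
  have hker : ∀ g : G, ρ₀ g = 1 ↔ g ∈ Subgroup.centralizer (V : Set G) := by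
    intro g
    rw [Subgroup.mem_centralizer_iff]
    constructor
    · intro e v hv
      have h1 := conjEnd_apply V ⊤ hle ⟨g, trivial⟩ (Additive.ofMul ⟨v, hv⟩)
      rw [show conjEnd V ⊤ hle ⟨g, trivial⟩ = 1 from e] at h1
      exact (mul_inv_eq_iff_eq_mul.mp h1.symm).symm
    · intro e
      refine Units.ext (AddMonoidHom.ext fun u => ?_)
      apply Additive.toMul.injective
      apply Subtype.ext
      show g * ((Additive.toMul u : V) : G) * g⁻¹ = ((Additive.toMul u : V) : G)
      rw [← e _ (Additive.toMul u : V).2, mul_inv_cancel_right]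
  let ρ : G ⧸ Subgroup.centralizer (V : Set G) →* (AddMonoid.End (Additive V))ˣ :=
    QuotientGroup.lift _ ρ₀ fun g hg => (hker g).mpr hg
  have hρ : Function.Injective ρ := by
    rw [injective_iff_map_eq_one]
    intro x hx
    obtain ⟨g, rfl⟩ := QuotientGroup.mk'_surjective _ x
    exact (QuotientGroup.eq_one_iff g).mpr ((hker g).mp hx)
  intro a hq
  exact h (Additive V) (additive_exponent hV) ρ hρ _
    (conjEnd_isQuad hle (Subgroup.mem_top a) hq)

theorem omegaCenterThompson_isEA {P : Type v} [Group P] [Finite P] :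
    Cfsg.IsElementaryAbelian p (Cfsg.omegaCenterThompson p P) := by
  have hle : Cfsg.omegaCenterThompson p P ≤
      Cfsg.thompsonSubgroup p P ⊓ Subgroup.centralizer (Cfsg.thompsonSubgroup p P : Set P) := by
    rw [Cfsg.omegaCenterThompson, Cfsg.omegaOne, Subgroup.closure_le]
    exact fun z hz => hz.1
  obtain ⟨A, hA⟩ := Thompson.exists_maxEA (p := p) (G := P)
  have hgen : Cfsg.omegaCenterThompson p P ≤ A := by
    rw [Cfsg.omegaCenterThompson, Cfsg.omegaOne, Subgroup.closure_le]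
    rintro y ⟨hy, hyp⟩
    exact Thompson.mem_of_mem_centralizer_thompson hA hy.2 hyp
  exact Thompson.isEA_le hA.1 hgen

theorem isActionPStable_of_quadInCore
    (hsub : ∀ (L : Subgroup G) (N : Subgroup L) [N.Normal], QuadInCore p (L ⧸ N))
    (hquot : ∀ (M : Subgroup G) [M.Normal] (N : Subgroup (G ⧸ M)) [N.Normal], QuadInCore p ((G ⧸ M) ⧸ N))
    (htop : ∀ (N : Subgroup G) [N.Normal], QuadInCore p (G ⧸ N)) :
    Cfsg.IsActionPStable p G := by
  refine ⟨fun V _ hV => isPStableOn_of_quadInCore V hV (htop _), ?_, ?_⟩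
  · intro a hq
    set Q := Cfsg.pCore p G with hQ
    set Φ := (frattini ↥Q).map Q.subtype with hΦ
    set π := QuotientGroup.mk' Φ with hπ
    set V := Q.map π with hV
    haveI : Q.Normal := Subgroup.sSup_normal _ fun _ h => h.1
    haveI : V.Normal := Subgroup.Normal.map inferInstance π (QuotientGroup.mk'_surjective Φ)
    have hVEA : Cfsg.IsElementaryAbelian p V := by
      refine ⟨isMulCommutative_subgroup_iff.mpr ?_, ?_⟩
      · rintro _ ⟨x, hx, rfl⟩ _ ⟨y, hy, rfl⟩
        rw [← commutatorElement_eq_one_iff_mul_comm, ← map_commutatorElement]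
        exact (QuotientGroup.eq_one_iff _).mpr ⟨⁅(⟨x, hx⟩ : Q), ⟨y, hy⟩⁆,
          CfsgLib.PGroup.Frattini.commutatorElement_mem_frattini (Cores.isPGroup_pCore p) _ _, rfl⟩
      · rintro _ ⟨x, hx, rfl⟩
        rw [← map_pow]
        exact (QuotientGroup.eq_one_iff _).mpr ⟨(⟨x, hx⟩ : Q) ^ p,
          CfsgLib.PGroup.Frattini.pow_mem_frattini (Cores.isPGroup_pCore p) _, rfl⟩
    have hst := isPStableOn_of_quadInCore V hVEA (hquot Φ _)
    have hqa : ⁅⁅V, Subgroup.zpowers (π a)⁆, Subgroup.zpowers (π a)⁆ = ⊥ := by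
      rw [← MonoidHom.map_zpowers, hV, ← Subgroup.map_commutator, ← Subgroup.map_commutator,
        Subgroup.map_eq_bot_iff, QuotientGroup.ker_mk']
      exact hq
    set C := Subgroup.centralizer (V : Set (G ⧸ Φ)) with hC
    let θ : G →* (G ⧸ Φ) ⧸ C := (QuotientGroup.mk' C).comp π
    have hθs : Function.Surjective θ :=
      (QuotientGroup.mk'_surjective C).comp (QuotientGroup.mk'_surjective Φ)
    have hker : θ.ker = Cfsg.sectionKernel Q Φ := by
      ext x
      rw [MonoidHom.mem_ker, Cfsg.sectionKernel, Subgroup.mem_comap]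
      exact QuotientGroup.eq_one_iff _
    refine ⟨(Cfsg.pCore p ((G ⧸ Φ) ⧸ C)).comap θ, Subgroup.Normal.comap inferInstance θ, ?_, ?_, hst _ hqa⟩
    · rw [← hker]; exact θ.ker_le_comap _
    · obtain ⟨j, hj⟩ := IsPGroup.iff_card.mp (Cores.isPGroup_pCore (G := (G ⧸ Φ) ⧸ C) p)
      refine ⟨j, ?_⟩
      rw [← hker, ← MonoidHom.comap_bot, Subgroup.relIndex_comap,
        Subgroup.map_comap_eq_self_of_surjective hθs, Subgroup.relIndex_bot_left, hj]
  · intro S V _ hVle
    refine isPStableOn_of_quadInCore V ?_ (hsub _ _)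
    have h1 : Cfsg.IsElementaryAbelian p (V.map
        (Subgroup.normalizer (Cfsg.thompsonSubgroupOf p (S : Subgroup G) : Set G)).subtype) :=
      Thompson.isEA_le (Thompson.isEA_map _ omegaCenterThompson_isEA) hVle
    exact isEA_of_map _ (Subgroup.subtype_injective _) h1
where
  isEA_of_map {L : Type v} [Group L] (f : L →* G) (hf : Function.Injective f) {V : Subgroup L}
      (h : Cfsg.IsElementaryAbelian p (V.map f)) : Cfsg.IsElementaryAbelian p V := by
    refine ⟨isMulCommutative_subgroup_iff.mpr fun x hx y hy => hf ?_, fun x hx => hf ?_⟩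
    · rw [map_mul, map_mul]
      exact isMulCommutative_subgroup_iff.mp h.1 _ (Subgroup.mem_map_of_mem f hx) _ (Subgroup.mem_map_of_mem f hy)
    · rw [map_pow, map_one]
      exact h.2 _ (Subgroup.mem_map_of_mem f hx)

theorem isActionPStable_of_psolvable (hp : 5 ≤ p) (hsep : Cfsg.IsPSolvable p G) :
    Cfsg.IsActionPStable p G := by
  have key : ∀ (X : Type v) [Group X] [Finite X], Cfsg.IsPSolvable p X → QuadInCore p X := by
    intro X _ _ hX W _ _ hW ρ hρ a ha
    by_contra hna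
    have := (section_of_not_mem_pCore (by omega) hW ρ hρ hX ha hna).1
    omega
  exact isActionPStable_of_quadInCore
    (fun L N _ => key _ (PSolvable.psolvable_quotient (PSolvable.psolvable_subgroup hsep L) N))
    (fun M _ N _ => key _ (PSolvable.psolvable_quotient (PSolvable.psolvable_quotient hsep M) N))
    (fun N _ => key _ (PSolvable.psolvable_quotient hsep N))

theorem isActionPStable_of_abelian_sylow_two (hp : p ≠ 2) (hab : ∀ T : Sylow 2 G, IsMulCommutative T) :
    Cfsg.IsActionPStable p G := by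
  haveI : Fact (Nat.Prime 2) := ⟨Nat.prime_two⟩
  have key : ∀ (X : Type v) [Group X] [Finite X], (∀ T : Sylow 2 X, IsMulCommutative T) → QuadInCore p X := by
    intro X _ _ hX W _ _ hW ρ hρ a ha
    by_contra hna
    obtain ⟨T⟩ : Nonempty (Sylow 2 X) := inferInstance
    exact sylow_two_not_comm_of_not_mem_pCore hp hW ρ hρ ha hna T (hX T)
  have hsurj : ∀ (A B : Type v) [Group A] [Group B] [Finite A] (f : A →* B), Function.Surjective f →
      (∀ T : Sylow 2 A, IsMulCommutative T) → ∀ T : Sylow 2 B, IsMulCommutative T := by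
    intro A B _ _ _ f hf hA T
    haveI : Finite B := Finite.of_surjective f hf
    obtain ⟨S⟩ : Nonempty (Sylow 2 A) := inferInstance
    obtain ⟨g, hg⟩ := MulAction.exists_smul_eq B (S.mapSurjective hf) T
    obtain ⟨g', rfl⟩ := hf g
    rw [isMulCommutative_subgroup_iff]
    have hS' := isMulCommutative_subgroup_iff.mp (hA (g' • S))
    have heq : (T : Subgroup B) = ((g' • S : Sylow 2 A) : Subgroup A).map f := by
      rw [← hg, Sylow.coe_subgroup_smul, Sylow.coe_mapSurjective, Sylow.coe_subgroup_smul]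
      ext z
      simp only [Subgroup.mem_map, Subgroup.mem_smul_pointwise_iff_exists, MulAut.smul_def, MulAut.conj_apply]
      constructor
      · rintro ⟨_, ⟨s, hs, rfl⟩, rfl⟩
        exact ⟨g' * s * g'⁻¹, ⟨s, hs, rfl⟩, by simp⟩
      · rintro ⟨_, ⟨s, hs, rfl⟩, rfl⟩
        exact ⟨f s, ⟨s, hs, rfl⟩, by simp⟩
    rw [heq]
    rintro _ ⟨x, hx, rfl⟩ _ ⟨y, hy, rfl⟩
    rw [← map_mul, ← map_mul, hS' x hx y hy]
  have hinj : ∀ (L : Subgroup G), ∀ T : Sylow 2 L, IsMulCommutative T := by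
    intro L T
    obtain ⟨S, hS⟩ := (T.isPGroup'.map L.subtype).exists_le_sylow
    have hS' := isMulCommutative_subgroup_iff.mp (hab S)
    rw [isMulCommutative_subgroup_iff]
    exact fun x hx y hy => Subtype.ext
      (hS' _ (hS (Subgroup.mem_map_of_mem L.subtype hx)) _ (hS (Subgroup.mem_map_of_mem L.subtype hy)))
  exact isActionPStable_of_quadInCore
    (fun L N _ => key _ (hsurj _ _ (QuotientGroup.mk' N) (QuotientGroup.mk'_surjective N) (hinj L)))
    (fun M _ N _ => key _ (hsurj _ _ (QuotientGroup.mk' N) (QuotientGroup.mk'_surjective N)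
      (hsurj _ _ (QuotientGroup.mk' M) (QuotientGroup.mk'_surjective M) hab)))
    (fun N _ => key _ (hsurj _ _ (QuotientGroup.mk' N) (QuotientGroup.mk'_surjective N) hab))

end CfsgLib.Fusion.QuadStable
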