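import Cfsg.Agent.Lib.Fusion.QuadSL2
import Cfsg.Agent.Lib.Fusion.QuadStable
import Cfsg.Agent.Lib.Fusion.Alperin
import Cfsg.Agent.Lib.Perm.Quad.SL2Finite

/-!
Dickson's lemma in odd characteristic: a finite subgroup of `SL₂` containing two non-commuting elements of
`p`-power order contains a copy of `SL(2, p)`.
-/

set_option autoImplicit false
set_option linter.style.haveILetI false
set_option linter.unusedSectionVars false

namespace CfsgLib.Fusion.Dickson

open Matrix CfsgLib.Perm.SL2Unipotent CfsgLib.Fusion.QuadSL2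
open scoped MatrixGroups commutatorElement

universe v

variable {K : Type v} [Field K]

theorem sl_mul_apply (g h : SL(2, K)) (i j : Fin 2) :
    (g * h).1 i j = g.1 i 0 * h.1 0 j + g.1 i 1 * h.1 1 j := by
  rw [Matrix.SpecialLinearGroup.coe_mul, Matrix.mul_apply, Fin.sum_univ_two]

theorem sl_det (g : SL(2, K)) : g.1 0 0 * g.1 1 1 - g.1 0 1 * g.1 1 0 = 1 := by
  rw [← Matrix.det_fin_two]; exact g.2

theorem low_pow (k : K) (n : ℕ) : (low k) ^ n = low ((n : K) * k) := by
  induction n with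
  | zero => rw [pow_zero, Nat.cast_zero, zero_mul, low_zero]
  | succ n ih => rw [pow_succ, ih, low_mul, Nat.cast_succ, add_mul, one_mul]

/-- The entries of a conjugate by the diagonal matrix with entries `1`, `t`. -/
def scaleFun {t : K} (ht : t ≠ 0) (M : SL(2, K)) : SL(2, K) :=
  ⟨!![M.1 0 0, M.1 0 1 * t⁻¹; M.1 1 0 * t, M.1 1 1], by
    have h := sl_det M
    rw [Matrix.det_fin_two_of]
    linear_combination h - M.1 0 1 * M.1 1 0 * inv_mul_cancel₀ ht⟩

theorem scaleFun_val {t : K} (ht : t ≠ 0) (M : SL(2, K)) :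
    (scaleFun ht M).1 = !![M.1 0 0, M.1 0 1 * t⁻¹; M.1 1 0 * t, M.1 1 1] := rfl

/-- Conjugation by the diagonal matrix with entries `1`, `t`. -/
def scale {t : K} (ht : t ≠ 0) : SL(2, K) →* SL(2, K) where
  toFun := scaleFun ht
  map_one' := by apply sl_ext <;> simp [scaleFun_val]
  map_mul' M N := by
    apply sl_ext <;> simp [scaleFun_val, sl_mul_apply] <;> field_simp <;> ring

theorem scale_val {t : K} (ht : t ≠ 0) (M : SL(2, K)) :
    (scale ht M).1 = !![M.1 0 0, M.1 0 1 * t⁻¹; M.1 1 0 * t, M.1 1 1] := rfl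

theorem scale_up {t : K} (ht : t ≠ 0) (c : K) : scale ht (up c) = up (c * t⁻¹) := by
  apply sl_ext <;> simp [scale_val, up_val]

theorem scale_low {t : K} (ht : t ≠ 0) (c : K) : scale ht (low c) = low (c * t) := by
  apply sl_ext <;> simp [scale_val, low_val]

theorem scale_scale_inv {t : K} (ht : t ≠ 0) (M : SL(2, K)) :
    scale (inv_ne_zero ht) (scale ht M) = M := by
  apply sl_ext <;> simp [scale_val, ht]

theorem scale_injective {t : K} (ht : t ≠ 0) : Function.Injective (scale ht) :=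
  Function.LeftInverse.injective (scale_scale_inv ht)

theorem map_transvection {R : Type*} [CommRing R] (f : R →+* K) (d : R) :
    Matrix.SpecialLinearGroup.map f (Matrix.SpecialLinearGroup.transvection (zero_ne_one : (0 : Fin 2) ≠ 1) d) =
      up (f d) ∧
    Matrix.SpecialLinearGroup.map f (Matrix.SpecialLinearGroup.transvection (one_ne_zero : (1 : Fin 2) ≠ 0) d) =
      low (f d) := by
  constructor <;> apply Subtype.ext <;> ext i j
  · show f ((1 + Matrix.single (0 : Fin 2) (1 : Fin 2) d : Matrix _ _ R) i j) = !![1, f d; 0, 1] i j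
    fin_cases i <;> fin_cases j <;> simp
  · show f ((1 + Matrix.single (1 : Fin 2) (0 : Fin 2) d : Matrix _ _ R) i j) = !![1, 0; f d, 1] i j
    fin_cases i <;> fin_cases j <;> simp

section Char

variable {p : ℕ} [Fact p.Prime] [CharP K p]

theorem two_ne (hp : p ≠ 2) : (2 : K) ≠ 0 := fun h2 =>
  hp ((Nat.prime_dvd_prime_iff_eq (Fact.out : p.Prime) Nat.prime_two).mp
    ((CharP.cast_eq_zero_iff K p 2).mp (by exact_mod_cast h2)))

/-- Enough upper unitriangular elements give the conclusion. -/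
theorem exists_slp_of_five_le [Fintype K] (hp : p ≠ 2) {X : Subgroup SL(2, K)} {k : K} (hk : k ≠ 0)
    (hu : up k ∈ X) (hl : low (1 : K) ∈ X) (h5 : 5 ≤ Nat.card {r : K // up r ∈ X}) :
    ∃ ψ : SL(2, ZMod p) →* SL(2, K), Function.Injective ψ ∧ ψ.range ≤ X := by
  classical
  have h2 : (2 : K) ≠ 0 := two_ne hp
  set c : SL(2, K) →* SL(2, K) := scale hk with hc
  set Y := X.map c with hY
  have hu1 : up (1 : K) ∈ Y := ⟨up k, hu, by rw [hc, scale_up, mul_inv_cancel₀ hk]⟩
  have hlk : low k ∈ Y := ⟨low 1, hl, by rw [hc, scale_low, one_mul]⟩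
  let H : Subgroup SL(2, K) :=
    { carrier := {g | g ∈ Y ∨ -g ∈ Y}
      one_mem' := Or.inl (one_mem Y)
      mul_mem' := by
        rintro a b (ha | ha) (hb | hb)
        · exact Or.inl (mul_mem ha hb)
        · exact Or.inr (by simpa using mul_mem ha hb)
        · exact Or.inr (by simpa using mul_mem ha hb)
        · exact Or.inl (by simpa using mul_mem ha hb)
      inv_mem' := by
        rintro a (ha | ha)
        · exact Or.inl (inv_mem ha)
        · refine Or.inr ?_
          have e : (-a)⁻¹ = -a⁻¹ := inv_eq_of_mul_eq_one_right (by simp)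
          rw [← e]; exact inv_mem ha }
  have hmem : ∀ {r : K}, r ∈ Perm.Quad.SL2Count.ups H ↔ up r ∈ H :=
    fun {r} => Perm.Quad.SL2Count.mem_ups
  have hcard : 5 ≤ (Perm.Quad.SL2Count.ups H).card := by
    refine h5.trans ?_
    rw [← Fintype.card_coe, ← Nat.card_eq_fintype_card]
    refine Nat.card_le_card_of_injective (fun r => ⟨r.1 * k⁻¹, hmem.mpr (Or.inl ⟨up r.1, r.2, scale_up hk _⟩)⟩) ?_
    intro r s e
    exact Subtype.ext (mul_right_cancel₀ (inv_ne_zero hk) (congrArg Subtype.val e))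
  obtain ⟨hmul, hkmem⟩ := Perm.Quad.SL2Finite.upSet_closed h2 (H := H) (Or.inr (by simpa using one_mem Y))
    (Or.inl hu1) hk (Or.inl hlk) hcard
  have h1 : (1 : K) ∈ Perm.Quad.SL2Count.ups H := hmem.mpr (Or.inl hu1)
  have hneg : ∀ a ∈ Perm.Quad.SL2Count.ups H, -a ∈ Perm.Quad.SL2Count.ups H := fun a ha =>
    hmem.mpr (by rw [← up_inv]; exact inv_mem (hmem.mp ha))
  have hpow : ∀ n : ℕ, k ^ n ∈ Perm.Quad.SL2Count.ups H := fun n => by
    induction n with
    | zero => simpa using h1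
    | succ n ih => rw [pow_succ]; exact hmul _ ih _ hkmem
  have hinv : k⁻¹ ∈ Perm.Quad.SL2Count.ups H := by
    have e := FiniteField.pow_card_sub_one_eq_one k hk
    rw [← Nat.sub_add_cancel (show 1 ≤ Fintype.card K - 1 by
      have := Fintype.one_lt_card (α := K); omega), pow_succ] at e
    exact (eq_inv_of_mul_eq_one_left e) ▸ hpow _
  -- an element exchanging the two root groups
  set s : SL(2, K) := up (-k⁻¹) * low k * up (-k⁻¹) with hs
  have hsH : s ∈ H := mul_mem (mul_mem (hmem.mp (hneg _ hinv)) (Or.inl hlk)) (hmem.mp (hneg _ hinv))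
  have hs0 : s.1 0 0 = 0 := by simp [hs, up_val, low_val, hk]
  have hs1 : s.1 1 0 = k := by simp [hs, up_val, low_val]
  have hlow1 : low (1 : K) ∈ H := by
    have hr : -(k⁻¹ * k⁻¹) ∈ Perm.Quad.SL2Count.ups H := hneg _ (hmul _ hinv _ hinv)
    have := mul_mem (mul_mem hsH (hmem.mp hr)) (inv_mem hsH)
    rw [show s * up (-(k⁻¹ * k⁻¹)) * s⁻¹ = low (1 : K) from
      (Perm.Quad.SL2.conj_up_of_zero hs0 (-(k⁻¹ * k⁻¹))).trans (by
        rw [hs1]; show low _ = low (1 : K); congr 1; field_simp)] at this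
    exact this
  -- remove the sign
  have hodd : p = 2 * (p / 2) + 1 :=
    (Nat.two_mul_div_two_add_one_of_odd ((Fact.out : p.Prime).odd_of_ne_two hp)).symm
  have hhalf : ((p / 2 + 1 : ℕ) : K) * 2 = 1 := by
    have h0 : ((2 * (p / 2) + 1 : ℕ) : K) = 0 := by rw [← hodd, CharP.cast_eq_zero]
    push_cast at h0 ⊢
    linear_combination h0
  have hlY : low (1 : K) ∈ Y := by
    have h2l : low (2 : K) ∈ Y := by
      rcases hlow1 with h | h
      · have := mul_mem h h
        rwa [low_mul, one_add_one_eq_two] at this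
      · have := mul_mem h h
        rwa [neg_mul_neg, low_mul, one_add_one_eq_two] at this
    have := pow_mem h2l (p / 2 + 1)
    rwa [low_pow, hhalf] at this
  -- the prime field group
  let ψ : SL(2, ZMod p) →* SL(2, K) :=
    (scale (inv_ne_zero hk)).comp (Matrix.SpecialLinearGroup.map (ZMod.castHom (dvd_refl p) K))
  refine ⟨ψ, (scale_injective (inv_ne_zero hk)).comp ?_, ?_⟩
  · intro M N e
    ext i j
    exact (ZMod.castHom (dvd_refl p) K).injective (congrArg (fun g : SL(2, K) => g.1 i j) e)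
  rintro _ ⟨M, rfl⟩
  have key : ∀ g, g ∈ Y → scale (inv_ne_zero hk) g ∈ X := by
    rintro _ ⟨x, hx, rfl⟩
    rw [hc, scale_scale_inv]; exact hx
  suffices h : (⊤ : Subgroup SL(2, ZMod p)) ≤
      Y.comap (Matrix.SpecialLinearGroup.map (ZMod.castHom (dvd_refl p) K)) from
    key _ (h (Subgroup.mem_top M))
  refine le_of_eq (CfsgLib.Classical.sl2_transvections_generate _ (fun d => ?_) (fun d => ?_)).symm
  · rw [Subgroup.mem_comap, (map_transvection _ d).1]
    have := pow_mem hu1 d.val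
    rwa [up_pow, mul_one, ← map_natCast (ZMod.castHom (dvd_refl p) K), ZMod.natCast_zmod_val] at this
  · rw [Subgroup.mem_comap, (map_transvection _ d).2]
    have := pow_mem hlY d.val
    rwa [low_pow, mul_one, ← map_natCast (ZMod.castHom (dvd_refl p) K), ZMod.natCast_zmod_val] at this

/-- An element of `p`-power order is unipotent. -/
theorem trace_eq_two {u : SL(2, K)} (hu : ∃ n, u ^ p ^ n = 1) : u.1 0 0 + u.1 1 1 = 2 := by
  obtain ⟨n, hn⟩ := hu
  have hnil : IsNilpotent (u.1 - 1) := by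
    refine ⟨p ^ n, ?_⟩
    rw [sub_pow_char_pow_of_commute _ _ (Commute.one_right u.1), one_pow, ← Matrix.SpecialLinearGroup.coe_pow,
      hn, Matrix.SpecialLinearGroup.coe_one, sub_self]
  have := (Matrix.isNilpotent_trace_of_isNilpotent hnil).eq_zero
  rw [Matrix.trace_fin_two] at this
  simp at this
  linear_combination this

/-- Conjugating a unipotent element to lower form. -/
theorem conj_to_low {u : SL(2, K)} (ht : u.1 0 0 + u.1 1 1 = 2) (h : u.1 1 0 ≠ 0) :
    up (-((u.1 0 0 - 1) / u.1 1 0)) * u * (up (-((u.1 0 0 - 1) / u.1 1 0)))⁻¹ = low (u.1 1 0) := by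
  have hd := sl_det u
  rw [up_inv]
  apply sl_ext <;> simp [sl_mul_apply, up_val, low_val] <;> field_simp <;> first
    | ring1
    | linear_combination ht
    | linear_combination (2 - u.1 0 0) * ht
    | linear_combination ht - hd

theorem exists_conj_up {u : SL(2, K)} (ht : u.1 0 0 + u.1 1 1 = 2) :
    ∃ (w : SL(2, K)) (c : K), w * u * w⁻¹ = up c := by
  by_cases h : u.1 1 0 = 0
  · have hd := sl_det u
    rw [h, mul_zero, sub_zero] at hd
    have hsq : (u.1 0 0 - 1) * (u.1 0 0 - 1) = 0 := by linear_combination u.1 0 0 * ht - hd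
    have h00 : u.1 0 0 = 1 := sub_eq_zero.mp (mul_self_eq_zero.mp hsq)
    refine ⟨1, u.1 0 1, ?_⟩
    rw [one_mul, inv_one, mul_one]
    apply sl_ext <;> simp [up_val, h, h00]
    linear_combination ht - h00
  · refine ⟨sMat * up (-((u.1 0 0 - 1) / u.1 1 0)), -(u.1 1 0), ?_⟩
    rw [← QuadStable.sMat_conj_low (u.1 1 0), ← conj_to_low ht h]
    group

/-- Two non-commuting elements of `p`-power order in normal form. -/
theorem exists_normal_form {a b : SL(2, K)} (ha : ∃ n, a ^ p ^ n = 1) (hb : ∃ n, b ^ p ^ n = 1)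
    (hab : a * b ≠ b * a) :
    ∃ (φ : SL(2, K) →* SL(2, K)) (k : K), Function.Bijective φ ∧ k ≠ 0 ∧ φ a = up k ∧ φ b = low 1 := by
  obtain ⟨w, c, hw⟩ := exists_conj_up (trace_eq_two ha)
  have htb : (w * b * w⁻¹).1 0 0 + (w * b * w⁻¹).1 1 1 = 2 := by
    rw [Perm.Quad.SL2Commute.trace_conj]; exact trace_eq_two hb
  set b' := w * b * w⁻¹ with hb'
  have hnc : up c * b' ≠ b' * up c := fun e => hab (by
    rw [← hw, hb'] at e
    refine mul_left_cancel (a := w) (mul_right_cancel (b := w⁻¹) ?_)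
    calc w * (a * b) * w⁻¹ = w * a * w⁻¹ * (w * b * w⁻¹) := by group
      _ = w * b * w⁻¹ * (w * a * w⁻¹) := e
      _ = w * (b * a) * w⁻¹ := by group)
  have hc : c ≠ 0 := by
    rintro rfl
    exact hnc (by rw [up_zero, one_mul, mul_one])
  have h10 : b'.1 1 0 ≠ 0 := by
    intro h
    apply hnc
    have hd := sl_det b'
    rw [h, mul_zero, sub_zero] at hd
    have hsq : (b'.1 0 0 - 1) * (b'.1 0 0 - 1) = 0 := by linear_combination b'.1 0 0 * htb - hd
    have h00 : b'.1 0 0 = 1 := sub_eq_zero.mp (mul_self_eq_zero.mp hsq)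
    have h11 : b'.1 1 1 = 1 := by linear_combination htb - h00
    apply sl_ext <;> simp [sl_mul_apply, up_val, h, h00, h11, add_comm]
  set r := -((b'.1 0 0 - 1) / b'.1 1 0) with hr
  set φ : SL(2, K) →* SL(2, K) :=
    (scale (inv_ne_zero h10)).comp (MulAut.conj (up r * w)).toMonoidHom with hφ
  refine ⟨φ, c * (b'.1 1 0), ?_, mul_ne_zero hc h10, ?_, ?_⟩
  · exact Function.Bijective.comp (g := scale (inv_ne_zero h10))
      ⟨scale_injective _, fun M => ⟨scale h10 M, scale_scale_inv h10 M⟩⟩ (MulAut.conj (up r * w)).bijective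
  · show scale (inv_ne_zero h10) (up r * w * a * (up r * w)⁻¹) = _
    rw [show up r * w * a * (up r * w)⁻¹ = up r * (w * a * w⁻¹) * (up r)⁻¹ by group, hw, up_inv, up_mul, up_mul,
      scale_up, inv_inv]
    congr 1; ring
  · show scale (inv_ne_zero h10) (up r * w * b * (up r * w)⁻¹) = _
    rw [show up r * w * b * (up r * w)⁻¹ = up r * (w * b * w⁻¹) * (up r)⁻¹ by group, ← hb', hr,
      conj_to_low htb h10, scale_low, mul_inv_cancel₀ h10]

set_option maxHeartbeats 1000000 in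
/-- An element of order prime to `6p` centralises every `2`-subgroup it normalises. -/
theorem centralizes_of_coprime_six [Finite K] (hp : p ≠ 2) {g : SL(2, K)} (hg2 : (orderOf g).Coprime 2)
    (hg3 : (orderOf g).Coprime 3) (hgp : (orderOf g).Coprime p) :
    ∀ (n : ℕ) (Q : Subgroup SL(2, K)), Nat.card Q = n → IsPGroup 2 Q →
      g ∈ Subgroup.normalizer (Q : Set SL(2, K)) → ∀ x ∈ Q, g * x = x * g := by
  have h2 : (2 : K) ≠ 0 := two_ne hp
  have h04 : ∀ z : SL(2, K), z.1 0 0 + z.1 1 1 = 0 → (z.1 0 0 + z.1 1 1) ^ 2 ≠ 4 := fun z hz e => by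
    rw [hz] at e
    exact mul_ne_zero h2 h2 (by linear_combination -e)
  haveI := Fintype.ofFinite K
  intro n
  induction n using Nat.strong_induction_on with
  | _ n ih =>
  intro Q hn hQ hgQ x hx
  by_contra hxg
  haveI := Fact.mk Nat.prime_two
  have hgnc : Perm.Quad.SL2Commute.NC g :=
    ⟨fun e => hxg (by rw [e, one_mul, mul_one]), fun e => hxg (by rw [e]; simp)⟩
  have htg : (g.1 0 0 + g.1 1 1) ^ 2 ≠ 4 := by
    intro e
    refine hgnc.1 (orderOf_eq_one_iff.mp ?_)
    have hdvd : orderOf g ∣ 2 * p := by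
      apply orderOf_dvd_of_pow_eq_one
      rcases mul_self_eq_mul_self_iff.mp (show (g.1 0 0 + g.1 1 1) * (g.1 0 0 + g.1 1 1) = 2 * 2 by
        linear_combination e) with h | h
      · rw [mul_comm, pow_mul, Perm.Quad.SL2Count.pow_char_eq_one p h, one_pow]
      · have hneg := Perm.Quad.SL2Count.pow_char_eq_one p (y := -g) (by simp; linear_combination -h)
        rw [show g ^ (2 * p) = ((-g) ^ p) ^ 2 by rw [← pow_mul, mul_comm p 2, pow_mul, pow_mul, neg_sq], hneg,
          one_pow]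
    exact Nat.eq_one_of_dvd_coprimes (Nat.Coprime.mul_right hg2 hgp) dvd_rfl hdvd
  -- the Frattini subgroup consists of scalars
  set Φ := (frattini Q).map Q.subtype with hΦ
  have hΦQ : Φ ≤ Q := Subgroup.map_subtype_le _
  have hgΦ : g ∈ Subgroup.normalizer (Φ : Set SL(2, K)) :=
    exists_sl23.normalizer_le_of_char Q (frattini Q) hgQ
  have hΦne : Φ ≠ Q := by
    intro heq
    haveI : Nontrivial Q := by
      rw [Subgroup.nontrivial_iff_ne_bot]
      intro e; rw [e, Subgroup.mem_bot] at hx; exact hxg (by rw [hx, one_mul, mul_one])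
    have htop : frattini Q = ⊤ := by
      apply Subgroup.map_injective Q.subtype_injective
      rw [← hΦ, heq, ← MonoidHom.range_eq_map, Subgroup.range_subtype]
    exact bot_ne_top (frattini_nongenerating (K := (⊥ : Subgroup Q)) (by rw [htop, bot_sup_eq]))
  have hΦcard : Nat.card Φ < n := hn ▸ lt_of_not_ge fun h => hΦne (Subgroup.eq_of_le_of_card_ge hΦQ h)
  have hΦg : ∀ z ∈ Φ, g * z = z * g := fun z hz => ih _ hΦcard Φ rfl (hQ.to_le hΦQ) hgΦ z hz
  have hsc : ∀ z ∈ Φ, z = 1 ∨ z = -1 := by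
    intro z hz
    by_contra hz'
    rw [not_or] at hz'
    refine hxg ?_
    obtain ⟨z', hz'F, rfl⟩ := hz
    have hFn : (frattini Q).Normal := inferInstance
    have hconj : x * (z' : SL(2, K)) * x⁻¹ ∈ Φ :=
      Subgroup.mem_map.mpr ⟨(⟨x, hx⟩ : Q) * z' * (⟨x, hx⟩ : Q)⁻¹, hFn.conj_mem z' hz'F ⟨x, hx⟩, by simp⟩
    have h1 : g * (z' : SL(2, K)) = (z' : SL(2, K)) * g := hΦg _ ⟨z', hz'F, rfl⟩
    have hcomm : x * g * x⁻¹ * g = g * (x * g * x⁻¹) := by
      refine Perm.Quad.SL2Commute.commute_of_commute (Perm.Quad.SL2Commute.nc_conj hz' x) ?_ (hΦg _ hconj)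
      show x * g * x⁻¹ * (x * (z' : SL(2, K)) * x⁻¹) = x * (z' : SL(2, K)) * x⁻¹ * (x * g * x⁻¹)
      rw [show x * g * x⁻¹ * (x * (z' : SL(2, K)) * x⁻¹) = x * (g * (z' : SL(2, K))) * x⁻¹ by group, h1]; group
    rcases Perm.Quad.SL2Commute.eq_self_or_inv hgnc h2 htg hcomm (Perm.Quad.SL2Commute.trace_conj x g) with e | e
    · exact (mul_inv_eq_iff_eq_mul.mp e).symm
    · exfalso
      have hmem : (g ^ 2)⁻¹ ∈ Q := by
        rw [show (g ^ 2)⁻¹ = x * g * x⁻¹ * g⁻¹ by rw [e]; group,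
          show x * g * x⁻¹ * g⁻¹ = x * (g * x⁻¹ * g⁻¹) by group]
        exact Q.mul_mem hx ((Subgroup.mem_normalizer_iff.mp hgQ _).mp (Q.inv_mem hx))
      obtain ⟨i, hi⟩ := hQ ⟨g ^ 2, inv_mem_iff.mp hmem⟩
      have hi' : (g ^ 2) ^ 2 ^ i = 1 := congrArg Subtype.val hi
      rw [← pow_mul, ← pow_succ'] at hi'
      exact hgnc.1 (orderOf_eq_one_iff.mp (Nat.eq_one_of_dvd_coprimes (hg2.pow_right (i + 1)) dvd_rfl
        (orderOf_dvd_of_pow_eq_one hi')))
  have hQp := hQ
  have hsqΦ : ∀ z ∈ Q, z * z ∈ Φ := fun z hz =>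
    ⟨(⟨z, hz⟩ : Q) ^ 2, CfsgLib.PGroup.Frattini.pow_mem_frattini hQp _, by simp [sq]⟩
  have hcomΦ : ∀ y ∈ Q, ∀ z ∈ Q, ⁅y, z⁆ ∈ Φ := fun y hy z hz =>
    ⟨⁅(⟨y, hy⟩ : Q), ⟨z, hz⟩⁆, CfsgLib.PGroup.Frattini.commutatorElement_mem_frattini hQp _ _, rfl⟩
  have htr : ∀ z ∈ Q, Perm.Quad.SL2Commute.NC z → z.1 0 0 + z.1 1 1 = 0 := by
    intro z hz hnc
    have hzz : z * z = -1 := (hsc _ (hsqΦ z hz)).resolve_left fun h =>
      hnc.2 (Subtype.ext (by simp [val_eq_neg_one (p := p) hp hnc.1 h]))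
    have e00 := congrArg (fun w : SL(2, K) => w.1 0 0) hzz
    have e01 := congrArg (fun w : SL(2, K) => w.1 0 1) hzz
    have e10 := congrArg (fun w : SL(2, K) => w.1 1 0) hzz
    have e11 := congrArg (fun w : SL(2, K) => w.1 1 1) hzz
    simp [sl_mul_apply] at e00 e01 e10 e11
    have hd := sl_det z
    have t00 : z.1 0 0 * (z.1 0 0 + z.1 1 1) = 0 := by linear_combination e00 + hd
    have t11 : z.1 1 1 * (z.1 0 0 + z.1 1 1) = 0 := by linear_combination e11 + hd
    have t01 : z.1 0 1 * (z.1 0 0 + z.1 1 1) = 0 := by linear_combination e01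
    linear_combination (-(z.1 0 0 + z.1 1 1)) * hd + z.1 1 1 * t00 - z.1 1 0 * t01
  have hanti : ∀ y ∈ Q, ∀ z ∈ Q, y * z ≠ z * y → y * z = -(z * y) := by
    intro y hy z hz hne
    have e : y * z = ⁅y, z⁆ * (z * y) := by simp only [commutatorElement_def]; group
    rcases hsc _ (hcomΦ y hy z hz) with h | h
    · exact absurd (by rw [e, h, one_mul]) hne
    · rw [e, h, neg_one_mul]
  have hclass : ∀ u ∈ Q, ∀ z ∈ Q, Perm.Quad.SL2Commute.NC u → Perm.Quad.SL2Commute.NC z → z * u = u * z →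
      z = u ∨ z = u⁻¹ := fun u hu z hz hun hzn h =>
    Perm.Quad.SL2Commute.eq_self_or_inv hun h2 (h04 u (htr u hu hun)) h ((htr z hz hzn).trans (htr u hu hun).symm)
  have hodd : ∀ d : ℕ, 1 ≤ d → d ≤ 3 → ¬ Commute (g ^ (2 * d)) x := by
    intro d hd1 hd3 h
    obtain ⟨m, hm⟩ := exists_pow_eq_self_of_coprime (n := 2 * d) (x := g) (by
      refine (Nat.Coprime.mul_right hg2 ?_).symm
      interval_cases d
      · exact Nat.coprime_one_right _
      · exact hg2
      · exact hg3)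
    exact hxg (hm ▸ h.pow_left m).eq
  have hxnc : Perm.Quad.SL2Commute.NC x :=
    ⟨fun e => hxg (by rw [e, one_mul, mul_one]), fun e => hxg (by rw [e]; simp)⟩
  let z : ℕ → SL(2, K) := fun i => g ^ i * x * (g ^ i)⁻¹
  have hzQ : ∀ i, z i ∈ Q := fun i => (Subgroup.mem_normalizer_iff.mp (pow_mem hgQ i) x).mp hx
  have hznc : ∀ i, Perm.Quad.SL2Commute.NC (z i) := fun i => Perm.Quad.SL2Commute.nc_conj hxnc _
  have hsame : ∀ i d : ℕ, 1 ≤ d → d ≤ 3 → z (i + d) = z i ∨ z (i + d) = (z i)⁻¹ → False := by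
    intro i d hd1 hd3 h
    refine hodd d hd1 hd3 ?_
    have e0 : z (i + d) = g ^ i * (g ^ d * x * (g ^ d)⁻¹) * (g ^ i)⁻¹ := by simp [z, pow_add, mul_assoc]
    have e1 : (z i)⁻¹ = g ^ i * x⁻¹ * (g ^ i)⁻¹ := by simp [z, mul_assoc]
    rw [e0, e1] at h
    show g ^ (2 * d) * x = x * g ^ (2 * d)
    rw [two_mul, pow_add, ← mul_inv_eq_iff_eq_mul,
      show g ^ d * g ^ d * x * (g ^ d * g ^ d)⁻¹ = g ^ d * (g ^ d * x * (g ^ d)⁻¹) * (g ^ d)⁻¹ by group]
    rcases h with h | h
    · have h' : g ^ d * x * (g ^ d)⁻¹ = x := mul_left_cancel (mul_right_cancel h)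
      rw [h', h']
    · have h' : g ^ d * x * (g ^ d)⁻¹ = x⁻¹ := mul_left_cancel (mul_right_cancel h)
      rw [h', show g ^ d * x⁻¹ * (g ^ d)⁻¹ = (g ^ d * x * (g ^ d)⁻¹)⁻¹ by group, h', inv_inv]
  by_cases hxy : z 1 * x = x * z 1
  · exact hsame 0 1 le_rfl (by omega) (by
      have := hclass x hx (z 1) (hzQ 1) hxnc (hznc 1) hxy
      simpa [z] using this)
  have hxyQ : x * z 1 ∈ Q := Q.mul_mem hx (hzQ 1)
  have hxync : Perm.Quad.SL2Commute.NC (x * z 1) := by
    constructor <;> intro e <;> apply hxy <;>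
      rw [show z 1 = x⁻¹ * (x * z 1) by group, e] <;> simp
  have hthree : ∀ i, ∃ c : Fin 3, z i = ![x, z 1, x * z 1] c ∨ z i = (![x, z 1, x * z 1] c)⁻¹ := by
    intro i
    by_cases h0 : z i * x = x * z i
    · exact ⟨0, hclass x hx _ (hzQ i) hxnc (hznc i) h0⟩
    by_cases h1 : z i * z 1 = z 1 * z i
    · exact ⟨1, hclass _ (hzQ 1) _ (hzQ i) (hznc 1) (hznc i) h1⟩
    refine ⟨2, hclass _ hxyQ _ (hzQ i) hxync (hznc i) ?_⟩
    rw [← mul_assoc, hanti _ (hzQ i) _ hx h0, neg_mul, mul_assoc x, hanti _ (hzQ i) _ (hzQ 1) h1, mul_neg,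
      neg_neg, ← mul_assoc]
  choose c hc using hthree
  obtain ⟨i, j, hij, he⟩ := Fintype.exists_ne_map_eq_of_card_lt (fun i : Fin 4 => c (i : ℕ)) (by simp)
  have key : ∀ i j : Fin 4, (i : ℕ) < j → c (i : ℕ) = c (j : ℕ) → False := by
    intro i j hlt he
    refine hsame i ((j : ℕ) - i) (by omega) (by omega) ?_
    rw [Nat.add_sub_cancel' hlt.le]
    have hi := hc i
    have hj := hc j
    rw [← he] at hj
    rcases hi with hi | hi <;> rcases hj with hj | hj
    · exact Or.inl (hj.trans hi.symm)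
    · exact Or.inr (by rw [hi, hj])
    · exact Or.inr (by rw [hi, inv_inv, hj])
    · exact Or.inl (hj.trans hi.symm)
  rcases lt_or_gt_of_ne (fun h : (i : ℕ) = j => hij (Fin.ext h)) with h | h
  · exact key i j h he
  · exact key j i h he.symm

/-- Conjugate a `3`-element normalising a `2`-subgroup without centralising it. -/
theorem exists_sl23_of_unipotent (hp : p ≠ 2) {X M : Subgroup SL(2, K)} [Finite X] {u : SL(2, K)}
    (hu : ∃ n, u ^ p ^ n = 1) (huX : u ∈ X) (hMX : M ≤ X)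
    (hnorm : u ∈ Subgroup.normalizer (M : Set SL(2, K))) (hM : (Nat.card M).Coprime p)
    (hMu : ¬ M ≤ Subgroup.centralizer {u}) :
    p = 3 ∧ ∃ ψ : SL(2, ZMod 3) →* SL(2, K), Function.Injective ψ ∧ ψ.range ≤ X := by
  obtain ⟨w, c, hw⟩ := exists_conj_up (trace_eq_two hu)
  set f := (MulAut.conj w).toMonoidHom with hf
  have hinj : Function.Injective f := (MulAut.conj w).injective
  have hfu : f u = up c := hw
  have hc : c ≠ 0 := by
    rintro rfl
    rw [up_zero, ← map_one f] at hfu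
    exact hMu fun m _ => Subgroup.mem_centralizer_singleton_iff.mpr (by rw [hinj hfu, mul_one, one_mul])
  haveI : Finite (X.map f) := Finite.of_surjective _ (f.subgroupMap_surjective X)
  obtain ⟨h3, ψ, hψ, hψX⟩ := exists_sl23 (p := p) hp hc (X := X.map f) (hfu ▸ Subgroup.mem_map_of_mem f huX)
    (M.map f) (Subgroup.map_mono hMX) (hfu ▸ Subgroup.le_normalizer_map f (Subgroup.mem_map_of_mem f hnorm))
    (by rwa [Subgroup.card_map_of_injective hinj]) (fun h => hMu fun m hm => by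
      have h1 := Subgroup.mem_centralizer_singleton_iff.mp (h (Subgroup.mem_map_of_mem f hm))
      rw [← hfu, ← map_mul, ← map_mul] at h1
      exact Subgroup.mem_centralizer_singleton_iff.mpr (hinj h1))
  refine ⟨h3, (MulAut.conj w).symm.toMonoidHom.comp ψ, (MulAut.conj w).symm.injective.comp hψ, ?_⟩
  rintro _ ⟨M', rfl⟩
  obtain ⟨x, hx, hxe⟩ := hψX ⟨M', rfl⟩
  show (MulAut.conj w).symm (ψ M') ∈ X
  rw [← hxe]
  show (MulAut.conj w).symm (MulAut.conj w x) ∈ X
  rwa [MulEquiv.symm_apply_apply]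

/-- The exceptional characteristic. -/
theorem exists_sl23_of_normal_form [Finite K] (hp3 : p = 3) {X : Subgroup SL(2, K)} {k : K} (hk : k ≠ 0)
    (hu : up k ∈ X) (hl : low (1 : K) ∈ X) :
    ∃ ψ : SL(2, ZMod 3) →* SL(2, K), Function.Injective ψ ∧ ψ.range ≤ X := by
  have hp : p ≠ 2 := by omega
  haveI := Fact.mk Nat.prime_two
  have hev := even_card (p := p) hk hu hl
  have hnpc : ¬ Cfsg.HasNormalPComplement 2 X := by
    intro hnpc
    have hc := Fusion.Basic.npc_iff_coprime.mp hnpc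
    have hmem : ∀ g : SL(2, K), ∀ hg : g ∈ X, g ^ p = 1 → (⟨g, hg⟩ : X) ∈ Cfsg.pResidual 2 X := by
      intro g hg ho
      refine Fusion.Basic.mem_pResidual_of_coprime ?_
      rw [← Subgroup.orderOf_coe]
      exact Nat.Coprime.coprime_dvd_left (orderOf_dvd_of_pow_eq_one ho)
        ((Nat.coprime_primes (Fact.out : p.Prime) Nat.prime_two).mpr hp)
    set R := (Cfsg.pResidual 2 X).map X.subtype with hR
    haveI : Finite R := inferInstance
    have hoddR : ¬ Even (Nat.card R) := by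
      rw [hR, Subgroup.card_subtype, Nat.not_even_iff_odd]
      exact Nat.coprime_two_right.mp hc
    refine hoddR (even_card (p := p) hk (X := R) ⟨_, hmem _ hu ?_, rfl⟩ ⟨_, hmem _ hl ?_, rfl⟩)
    · rw [up_pow, CharP.cast_eq_zero, zero_mul, up_zero]
    · rw [low_pow, CharP.cast_eq_zero, zero_mul, low_zero]
  obtain ⟨P⟩ : Nonempty (Sylow 2 X) := inferInstance
  have := mt (Fusion.Alperin.npc_of_frobenius P) hnpc
  push Not at this
  obtain ⟨Q, hQP, g, hgN, hgo, hgC⟩ := this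
  obtain ⟨a, b, hab, ⟨i, hi⟩, hb, haz, hbz⟩ : ∃ a b : X, g = a * b ∧ (∃ i, orderOf a = p ^ i) ∧
      (orderOf b).Coprime p ∧ a ∈ Subgroup.zpowers g ∧ b ∈ Subgroup.zpowers g :=
    ZJConstrained.isPStableOn_quotient.exists_parts g
  set M := Q.map X.subtype with hM
  have hMp : IsPGroup 2 M := (P.isPGroup'.to_le hQP).map _
  have hMc : (Nat.card M).Coprime p := by
    obtain ⟨j, hj⟩ := IsPGroup.iff_card.mp hMp
    rw [hj]
    exact ((Nat.coprime_primes Nat.prime_two (Fact.out : p.Prime)).mpr hp.symm).pow_left j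
  have hN : ∀ y ∈ Subgroup.zpowers g, (y : SL(2, K)) ∈ Subgroup.normalizer (M : Set SL(2, K)) := fun y hy =>
    Subgroup.le_normalizer_map X.subtype (Subgroup.mem_map_of_mem _ (Subgroup.zpowers_le.mpr hgN hy))
  by_cases haM : M ≤ Subgroup.centralizer {(a : SL(2, K))}
  · exfalso
    have hb6 : ∀ q, (orderOf g).Coprime q → (orderOf (b : SL(2, K))).Coprime q := fun q hq => by
      rw [Subgroup.orderOf_coe]
      exact Nat.Coprime.coprime_dvd_left (orderOf_dvd_of_mem_zpowers hbz) hq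
    have hbp : (orderOf (b : SL(2, K))).Coprime p := by rwa [Subgroup.orderOf_coe]
    have hcent := centralizes_of_coprime_six hp (hb6 2 hgo) (hp3 ▸ hbp) hbp _ M rfl hMp (hN b hbz)
    apply hgC
    rw [Subgroup.mem_centralizer_iff]
    intro y hy
    have h1 := Subgroup.mem_centralizer_singleton_iff.mp (haM (Subgroup.mem_map_of_mem X.subtype hy))
    have h2 := hcent _ (Subgroup.mem_map_of_mem X.subtype hy)
    apply Subtype.ext
    rw [hab]
    simp only [Subgroup.coe_mul, Subgroup.coe_subtype] at h1 h2 ⊢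
    rw [← mul_assoc, h1, mul_assoc, ← h2, mul_assoc]
  · refine (exists_sl23_of_unipotent hp (u := (a : SL(2, K))) ⟨i, ?_⟩ a.2 (Subgroup.map_subtype_le _)
      (hN a haz) hMc haM).2
    rw [← Subgroup.coe_pow, ← hi, pow_orderOf_eq_one]; rfl

/-- Dickson's lemma, normal form. -/
theorem exists_slp [Finite K] (hp : p ≠ 2) {X : Subgroup SL(2, K)} {k : K} (hk : k ≠ 0)
    (hu : up k ∈ X) (hl : low (1 : K) ∈ X) :
    ∃ ψ : SL(2, ZMod p) →* SL(2, K), Function.Injective ψ ∧ ψ.range ≤ X := by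
  by_cases hp3 : p = 3
  · obtain ⟨ψ, h⟩ := exists_sl23_of_normal_form hp3 hk hu hl
    subst hp3
    exact ⟨ψ, h⟩
  haveI := Fintype.ofFinite K
  refine exists_slp_of_five_le hp hk hu hl ?_
  have h5 : 5 ≤ p := (Fact.out : p.Prime).five_le_of_ne_two_of_ne_three hp hp3
  refine h5.trans ?_
  have hinj : Function.Injective (fun n : ZMod p =>
      (⟨(n.val : K) * k, by rw [← up_pow]; exact pow_mem hu _⟩ : {r : K // up r ∈ X})) := by
    intro m n e
    have e' := mul_right_cancel₀ hk (congrArg Subtype.val e)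
    rw [ZMod.natCast_val, ZMod.natCast_val] at e'
    exact (ZMod.castHom (dvd_refl p) K).injective e'
  simpa using Nat.card_le_card_of_injective _ hinj

/-- Dickson's lemma. -/
theorem exists_slp_of_noncommuting [Finite K] (hp : p ≠ 2) {X : Subgroup SL(2, K)} {a b : SL(2, K)}
    (ha : a ∈ X) (hb : b ∈ X) (hap : ∃ n, a ^ p ^ n = 1) (hbp : ∃ n, b ^ p ^ n = 1) (hab : a * b ≠ b * a) :
    ∃ ψ : SL(2, ZMod p) →* SL(2, K), Function.Injective ψ ∧ ψ.range ≤ X := by
  obtain ⟨φ, k, hφ, hk, hφa, hφb⟩ := exists_normal_form hap hbp hab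
  obtain ⟨ψ, hψ, hψX⟩ := exists_slp hp hk (X := X.map φ) (hφa ▸ Subgroup.mem_map_of_mem φ ha)
    (hφb ▸ Subgroup.mem_map_of_mem φ hb)
  let e : SL(2, K) ≃* SL(2, K) := MulEquiv.ofBijective φ hφ
  refine ⟨e.symm.toMonoidHom.comp ψ, e.symm.injective.comp hψ, ?_⟩
  rintro _ ⟨M, rfl⟩
  obtain ⟨x, hx, hxe⟩ := hψX ⟨M, rfl⟩
  show e.symm (ψ M) ∈ X
  rw [← hxe]
  show e.symm (e x) ∈ X
  rwa [MulEquiv.symm_apply_apply]

end Char

end CfsgLib.Fusion.Dickson
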