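import Cfsg.Agent.Lib.Fusion.QuadStable

/-! Helpers for turning the quadratic-pair results into statements about subgroups of an ambient group. -/

set_option autoImplicit false
set_option linter.style.haveILetI false

namespace CfsgLib.Fusion.QuadSection

universe v

variable {G : Type v} [Group G] [Finite G]

/-- A homomorphism from a subgroup of `H` onto a group gives a section of `G` below `H`. -/
theorem exists_section {H : Subgroup G} {Y : Type*} [Group Y] (L : Subgroup H) (f : L →* Y)
    (hf : Function.Surjective f) :
    ∃ (K L' : Subgroup G) (_hL : (L'.subgroupOf K).Normal), K ≤ H ∧ Nonempty ((K ⧸ L'.subgroupOf K) ≃* Y) := by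
  set e := L.equivMapOfInjective H.subtype H.subtype_injective with he
  let g : ↥(L.map H.subtype) →* Y := f.comp e.symm.toMonoidHom
  have hg : Function.Surjective g := hf.comp e.symm.surjective
  have hsub : (g.ker.map (L.map H.subtype).subtype).subgroupOf (L.map H.subtype) = g.ker :=
    Subgroup.comap_map_eq_self_of_injective (Subgroup.subtype_injective _) g.ker
  haveI hn : ((g.ker.map (L.map H.subtype).subtype).subgroupOf (L.map H.subtype)).Normal := by
    rw [hsub]; infer_instance
  exact ⟨L.map H.subtype, g.ker.map (L.map H.subtype).subtype, hn, Subgroup.map_subtype_le _,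
    ⟨(QuotientGroup.quotientMulEquivOfEq hsub).trans (QuotientGroup.quotientKerEquivOfSurjective g hg)⟩⟩

theorem closure_pair_top {H : Subgroup G} {a b : G} (hab : H = Subgroup.closure {a, b}) (ha : a ∈ H)
    (hb : b ∈ H) : Subgroup.closure ({⟨a, ha⟩, ⟨b, hb⟩} : Set H) = ⊤ := by
  apply Subgroup.map_injective H.subtype_injective
  rw [MonoidHom.map_closure, Set.image_insert_eq, Set.image_singleton, ← MonoidHom.range_eq_map,
    Subgroup.range_subtype]
  exact hab.symm

end CfsgLib.Fusion.QuadSection
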