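import Cfsg.Agent.Lib.Fusion.Dickson
import Cfsg.Agent.Lib.Fusion.QuadSection
import Cfsg.Agent.Lib.Fusion.StableClosure

/-!
For odd `p`, failure of `p`-stability produces a section `SL(2, p)`.
-/

set_option autoImplicit false
set_option linter.style.haveILetI false
set_option linter.unusedSectionVars false

namespace CfsgLib.Fusion.SL2Sections

open Matrix CfsgLib.Solvable CfsgLib.Solvable.Basic CfsgLib.Fusion.QuadStable
open scoped MatrixGroups commutatorElement IsMulCommutative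

universe v w

/-- A group has `SL(2, p)` as a section. -/
def HasSL2Section (p : ℕ) (X : Type*) [Group X] : Prop :=
  ∃ (L : Subgroup X) (f : L →* SL(2, ZMod p)), Function.Surjective f

theorem HasSL2Section.of_surjective {p : ℕ} {X Y : Type*} [Group X] [Group Y] (φ : X →* Y)
    (hφ : Function.Surjective φ) (h : HasSL2Section p Y) : HasSL2Section p X := by
  obtain ⟨L, f, hf⟩ := h
  refine ⟨L.comap φ, f.comp (φ.subgroupComap L), hf.comp ?_⟩
  rintro ⟨y, hy⟩
  obtain ⟨x, rfl⟩ := hφ y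
  exact ⟨⟨x, hy⟩, rfl⟩

theorem HasSL2Section.of_subgroup {p : ℕ} {X : Type*} [Group X] (L : Subgroup X) (h : HasSL2Section p L) :
    HasSL2Section p X := by
  obtain ⟨L', f, hf⟩ := h
  let e := L'.equivMapOfInjective L.subtype L.subtype_injective
  exact ⟨L'.map L.subtype, f.comp e.symm.toMonoidHom, hf.comp e.symm.surjective⟩

variable {p : ℕ} [Fact p.Prime]

/-- A quadratic element outside `O_p` gives a section `SL(2, p)`. -/
theorem slp_section_of_not_mem_pCore (hp : p ≠ 2) {H : Type w} [Group H] [Finite H] {W : Type v}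
    [AddCommGroup W] [Finite W] (hW : ∀ u : W, p • u = 0) (ρ : H →* (AddMonoid.End W)ˣ)
    (hρ : Function.Injective ρ) {a : H} (ha : IsQuad ρ a) (hna : a ∉ Cfsg.pCore p H) :
    HasSL2Section p H := by
  obtain ⟨L, a', b', hgen, hqa, hqb, hnp⟩ := exists_pair hW ρ hρ ha hna
  obtain ⟨c, hc, hc1⟩ := exists_coprime_ne_one hnp
  obtain ⟨K, _, _, _, k, φ, hk, hφa, hφb, -, -⟩ := exists_hom_sl2 hW (ρ.comp L.subtype) a' b' hgen hqa hqb hc
    (fun e => hc1 ((hρ.comp L.subtype_injective) (e.trans (map_one _).symm)))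
  obtain ⟨ψ, hψ, hle⟩ := Dickson.exists_slp hp hk (X := φ.range) ⟨a', hφa⟩ ⟨b', hφb⟩
  refine HasSL2Section.of_subgroup L ⟨ψ.range.comap φ,
    (MonoidHom.ofInjective hψ).symm.toMonoidHom.comp (φ.subgroupComap ψ.range),
    (MonoidHom.ofInjective hψ).symm.surjective.comp ?_⟩
  rintro ⟨y, hy⟩
  obtain ⟨x, rfl⟩ := hle hy
  exact ⟨⟨x, hy⟩, rfl⟩

theorem quadInCore_of_free (hp : p ≠ 2) {X : Type v} [Group X] [Finite X] (h : ¬ HasSL2Section p X) :
    QuadInCore p X := by
  intro W _ _ hW ρ hρ a ha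
  by_contra hna
  exact h (slp_section_of_not_mem_pCore hp hW ρ hρ ha hna)

/-- Stability on the Frattini quotient gives stability. -/
theorem isPStableOn_of_frattini {G : Type v} [Group G] [Finite G] (P : Subgroup G) [hPn : P.Normal]
    (hP : IsPGroup p P)
    (h : ∀ (V : Subgroup (G ⧸ (frattini ↥P).map P.subtype)) [V.Normal],
      Cfsg.IsElementaryAbelian p V → Cfsg.IsPStableOn p V) : Cfsg.IsPStableOn p P := by
  set Φ := (frattini ↥P).map P.subtype with hΦ
  haveI : Φ.Normal := inferInstance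
  set π := QuotientGroup.mk' Φ with hπ
  have hπs := QuotientGroup.mk'_surjective Φ
  set V := P.map π with hV
  haveI : V.Normal := Subgroup.Normal.map inferInstance π hπs
  have hVEA : Cfsg.IsElementaryAbelian p V := by
    refine ⟨isMulCommutative_subgroup_iff.mpr ?_, ?_⟩
    · rintro _ ⟨x, hx, rfl⟩ _ ⟨y, hy, rfl⟩
      rw [← commutatorElement_eq_one_iff_mul_comm, ← map_commutatorElement]
      exact (QuotientGroup.eq_one_iff _).mpr ⟨⁅(⟨x, hx⟩ : P), ⟨y, hy⟩⁆,
        CfsgLib.PGroup.Frattini.commutatorElement_mem_frattini hP _ _, rfl⟩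
    · rintro _ ⟨x, hx, rfl⟩
      rw [← map_pow]
      exact (QuotientGroup.eq_one_iff _).mpr ⟨(⟨x, hx⟩ : P) ^ p,
        CfsgLib.PGroup.Frattini.pow_mem_frattini hP _, rfl⟩
  set C := Subgroup.centralizer (V : Set (G ⧸ Φ)) with hC
  let θ : G →* (G ⧸ Φ) ⧸ C := (QuotientGroup.mk' C).comp π
  have hst := h V hVEA
  intro a hq
  set CP := Subgroup.centralizer (P : Set G) with hCP
  haveI : CP.Normal := inferInstance
  have hθa : θ a ∈ Cfsg.pCore p ((G ⧸ Φ) ⧸ C) := hst (π a) (by
    rw [← MonoidHom.map_zpowers, hV, ← Subgroup.map_commutator, ← Subgroup.map_commutator, hq, Subgroup.map_bot])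
  haveI : (Cfsg.pCore p ((G ⧸ Φ) ⧸ C)).Normal := Subgroup.sSup_normal _ fun _ h => h.1
  set D := (Cfsg.pCore p ((G ⧸ Φ) ⧸ C)).comap θ with hD
  haveI : (D.map (QuotientGroup.mk' CP)).Normal :=
    Subgroup.Normal.map (Subgroup.Normal.comap inferInstance θ) _ (QuotientGroup.mk'_surjective CP)
  refine Cores.le_pCore ?_ (Subgroup.mem_map_of_mem (QuotientGroup.mk' CP) (show a ∈ D from hθa))
  rintro ⟨_, x, hx, rfl⟩
  obtain ⟨x₁, b, hxab, ⟨i, hi⟩, hb, -, hbmem⟩ : ∃ x₁ b : G, x = x₁ * b ∧ (∃ i, orderOf x₁ = p ^ i) ∧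
      (orderOf b).Coprime p ∧ x₁ ∈ Subgroup.zpowers x ∧ b ∈ Subgroup.zpowers x :=
    ZJConstrained.isPStableOn_quotient.exists_parts x
  have hbD : b ∈ D := Subgroup.zpowers_le.mpr hx hbmem
  have hθb : θ b = 1 := congrArg Subtype.val (Fusion.Basic.eq_one_of_isPGroup_of_coprime
    (Cores.isPGroup_pCore (G := (G ⧸ Φ) ⧸ C) p) (x := ⟨θ b, hbD⟩) (by
      rw [← Subgroup.orderOf_coe]
      exact Nat.Coprime.coprime_dvd_left (orderOf_map_dvd θ b) hb))
  have hπb : π b ∈ C := (QuotientGroup.eq_one_iff (π b)).mp hθb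
  have hbP : b ∈ CP := by
    refine (Coprime.le_centralizer_of_frattini (A := Subgroup.zpowers b) (K := P)
      (by rw [Subgroup.normalizer_eq_top]; exact le_top) ?_ ?_) (Subgroup.mem_zpowers b)
    · obtain ⟨j, hj⟩ := IsPGroup.iff_card.mp (hP.to_subgroup (frattini P))
      rw [Nat.card_zpowers, hj]
      exact hb.pow_right j
    · intro c hc' y hy
      obtain ⟨j, rfl⟩ := hc'
      have hcj : π (b ^ j) ∈ C := by rw [map_zpow]; exact C.zpow_mem hπb j
      rw [← hΦ, ← QuotientGroup.eq_one_iff]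
      show π ⁅b ^ j, y⁆ = 1
      rw [map_commutatorElement, commutatorElement_eq_one_iff_mul_comm]
      exact (Subgroup.mem_centralizer_iff.mp hcj _ (Subgroup.mem_map_of_mem _ hy)).symm
  refine ⟨i, Subtype.ext ?_⟩
  rw [Subgroup.coe_pow, Subgroup.coe_one]
  show (QuotientGroup.mk' CP x) ^ p ^ i = 1
  rw [hxab, map_mul, (QuotientGroup.eq_one_iff b).mpr hbP |> fun e => (show QuotientGroup.mk' CP b = 1 from e),
    mul_one, ← map_pow, ← hi, pow_orderOf_eq_one, map_one]

/-- Without a section `SL(2, p)` the action on every normal `p`-subgroup is `p`-stable. -/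
theorem isPStableOn_of_free (hp : p ≠ 2) {G : Type v} [Group G] [Finite G] (h : ¬ HasSL2Section p G)
    (P : Subgroup G) [hPn : P.Normal] (hP : IsPGroup p P) : Cfsg.IsPStableOn p P :=
  isPStableOn_of_frattini P hP fun V _ hV => isPStableOn_of_quadInCore V hV
    (quadInCore_of_free hp fun h' =>
      h ((h'.of_surjective (QuotientGroup.mk' (Subgroup.centralizer
            (V : Set (G ⧸ (frattini ↥P).map P.subtype)))) (QuotientGroup.mk'_surjective _)).of_surjective
        (QuotientGroup.mk' ((frattini ↥P).map P.subtype)) (QuotientGroup.mk'_surjective _)))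

/-- Without a section `SL(2, p)` a group with a nontrivial normal `p`-subgroup is `p`-stable modulo its
`p'`-core. -/
theorem isPStable_of_free (hp : p ≠ 2) {G : Type v} [Group G] [Finite G] (h : ¬ HasSL2Section p G)
    (hbot : Cfsg.pPrimeCore p G = ⊥) (hcore : Cfsg.pCore p G ≠ ⊥) : Cfsg.IsPStable p G := by
  refine ⟨(Fact.out : p.Prime).odd_of_ne_two hp, hcore, fun A B hA hB hAB _ hn hq => ?_⟩
  haveI hBn : B.Normal := by rwa [hbot, bot_sup_eq] at hn
  have hst := isPStableOn_of_free hp h B hB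
  set N := Subgroup.normalizer (B : Set G) with hN
  have hNt : N = ⊤ := by rw [hN, Subgroup.normalizer_eq_top]
  let φ : G →* ↥N ⧸ (Subgroup.centralizer (B : Set G)).subgroupOf N :=
    (QuotientGroup.mk' _).comp ((MulEquiv.subgroupCongr hNt).trans Subgroup.topEquiv).symm.toMonoidHom
  have hk : Subgroup.centralizer (B : Set G) ≤ φ.ker := by
    intro g hg
    rw [MonoidHom.mem_ker]
    exact (QuotientGroup.eq_one_iff _).mpr hg
  let g := QuotientGroup.lift _ φ hk
  have hgs : Function.Surjective g := fun z => by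
    obtain ⟨w, rfl⟩ := QuotientGroup.mk'_surjective _ z
    exact ⟨QuotientGroup.mk (w : G), rfl⟩
  haveI : (Cfsg.pCore p (G ⧸ Subgroup.centralizer (B : Set G))).Normal :=
    Subgroup.sSup_normal _ fun _ h => h.1
  haveI := Subgroup.Normal.map (inferInstance :
    (Cfsg.pCore p (G ⧸ Subgroup.centralizer (B : Set G))).Normal) g hgs
  rintro _ ⟨w, hw, rfl⟩
  refine Cores.le_pCore ((Cores.isPGroup_pCore p).map g) ⟨QuotientGroup.mk (w : G), hst _ ?_, rfl⟩
  exact le_bot_iff.mp ((Subgroup.commutator_mono (Subgroup.commutator_mono le_rfl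
    (Subgroup.zpowers_le.mpr (show (w : G) ∈ A from hw))) (Subgroup.zpowers_le.mpr (show (w : G) ∈ A from hw))).trans hq.le)

end CfsgLib.Fusion.SL2Sections
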