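import Cfsg.Agent.Lib.LocalEven.InvolvesDihedral
import Cfsg.Agent.Lib.Solvable.Cores
import Cfsg.Agent.Lib.Involution.BaerSuzuki
import Cfsg.Agent.Lib.Fusion.Thompson

/-!
Central quadratic offenders in groups without a section `S₃` lie in `O₂`.

If every element of `E` is central in each 2-subgroup containing it, `E` acts quadratically on an
elementary abelian 2-group `V` and `E` is a best offender, then `E ≤ O₂(G)`.
-/

set_option autoImplicit false
set_option linter.unusedSectionVars false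
set_option linter.style.haveILetI false

namespace CfsgLib.Fusion.CentralOffender

open CfsgLib.Solvable CfsgLib.LocalEven.InvolvesDihedral

universe u

/-- No section `S₃`. -/
def NoS3 (G : Type*) [Group G] : Prop := ¬ Cfsg.Involves (Equiv.Perm (Fin 3)) G

theorem noS3_range {G H : Type*} [Group G] [Group H] (h : NoS3 G) (f : G →* H) : NoS3 f.range := by
  intro hI
  obtain ⟨K, g, hg⟩ := exists_surjective hI
  refine h (of_surjective (K := K.comap f.rangeRestrict)
    (g.comp (f.rangeRestrict.subgroupComap K)) (hg.comp ?_))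
  rintro ⟨⟨_, x, rfl⟩, hx⟩
  exact ⟨⟨x, hx⟩, rfl⟩

theorem noS3_subgroup {G : Type*} [Group G] (h : NoS3 G) (K : Subgroup G) : NoS3 K := by
  intro hI
  obtain ⟨K', g, hg⟩ := exists_surjective hI
  let e := K'.equivMapOfInjective K.subtype K.subtype_injective
  exact h (of_surjective (K := K'.map K.subtype) (g.comp e.symm.toMonoidHom) (hg.comp e.symm.surjective))

section Defs

variable {V : Type u} [CommGroup V] {G : Type u} [Group G] (φ : G →* MulAut V)

/-- The fixed points of a subgroup. -/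
def fix (E : Subgroup G) : Subgroup V where
  carrier := {v | ∀ e ∈ E, φ e v = v}
  one_mem' := fun e _ => map_one _
  mul_mem' := fun {a b} ha hb e he => by rw [map_mul, ha e he, hb e he]
  inv_mem' := fun {a} ha e he => by rw [map_inv, ha e he]

theorem mem_fix {E : Subgroup G} {v : V} : v ∈ fix φ E ↔ ∀ e ∈ E, φ e v = v := Iff.rfl

theorem fix_anti {B E : Subgroup G} (h : B ≤ E) : fix φ E ≤ fix φ B := fun _ hv e he => hv e (h he)

theorem apply_mul (g h : G) (v : V) : φ (g * h) v = φ g (φ h v) := by rw [map_mul]; rfl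

theorem apply_one (v : V) : φ 1 v = v := by rw [map_one]; rfl

theorem apply_inv (g : G) (v : V) : φ g⁻¹ (φ g v) = v := by rw [← apply_mul, inv_mul_cancel, apply_one]

theorem apply_inv' (g : G) (v : V) : φ g (φ g⁻¹ v) = v := by rw [← apply_mul, mul_inv_cancel, apply_one]

/-- The weight of a subgroup. -/
noncomputable def wt (E : Subgroup G) : ℕ := Nat.card E * Nat.card (fix φ E)

/-- Quadratic action. -/
def Quad (E : Subgroup G) : Prop := ∀ e ∈ E, ∀ f ∈ E, ∀ v : V, φ e (φ f v * v⁻¹) = φ f v * v⁻¹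

/-- Maximal weight among the subgroups. -/
def Best (E : Subgroup G) : Prop := ∀ B ≤ E, wt φ B ≤ wt φ E

/-- Each element is central in every 2-subgroup containing it. -/
def Central {H : Type*} [Group H] (E : Subgroup H) : Prop :=
  ∀ e ∈ E, ∀ P : Subgroup H, IsPGroup 2 P → e ∈ P → ∀ x ∈ P, e * x = x * e

theorem wt_bot : wt φ ⊥ = Nat.card V := by
  have : fix φ ⊥ = ⊤ := eq_top_iff.2 fun v _ e he => by rw [Subgroup.mem_bot.1 he]; exact apply_one φ v
  rw [wt, this, Subgroup.card_bot, one_mul, Subgroup.card_top]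

theorem Best.card_le {φ : G →* MulAut V} {E : Subgroup G} (h : Best φ E) : Nat.card V ≤ wt φ E :=
  (wt_bot φ).symm.le.trans (h ⊥ bot_le)

theorem quad_sq (h2 : ∀ v : V, v * v = 1) {E : Subgroup G} (hq : Quad φ E) {e : G} (he : e ∈ E) (v : V) :
    φ (e * e) v = v := by
  set c := φ e v * v⁻¹ with hc
  have h1 : φ e v = c * v := by rw [hc, inv_mul_cancel_right]
  rw [apply_mul, h1, map_mul, h1, show φ e c = c from hq e he e he v, ← mul_assoc, h2, one_mul]

theorem Quad.mem_fix {φ : G →* MulAut V} {E : Subgroup G} (hq : Quad φ E) {f : G} (hf : f ∈ E) (v : V) :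
    φ f v * v⁻¹ ∈ fix φ E := fun e he => hq e he f hf v

/-- The action on an invariant subgroup. -/
def restr (U : Subgroup V) (hU : ∀ g : G, ∀ u ∈ U, φ g u ∈ U) : G →* MulAut U where
  toFun g :=
    { toFun := fun u => ⟨φ g u, hU g u u.2⟩
      invFun := fun u => ⟨φ g⁻¹ u, hU g⁻¹ u u.2⟩
      left_inv := fun u => Subtype.ext (apply_inv φ g u)
      right_inv := fun u => Subtype.ext (apply_inv' φ g u)
      map_mul' := fun u v => Subtype.ext (map_mul (φ g) (u : V) v) }
  map_one' := MulEquiv.ext fun u => Subtype.ext (apply_one φ u)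
  map_mul' g h := MulEquiv.ext fun u => Subtype.ext (apply_mul φ g h u)

theorem restr_apply (U : Subgroup V) (hU : ∀ g : G, ∀ u ∈ U, φ g u ∈ U) (g : G) (u : U) :
    (restr φ U hU g u : V) = φ g u := rfl

/-- The action on the quotient by an invariant subgroup. -/
def quot (U : Subgroup V) (hU : ∀ g : G, ∀ u ∈ U, φ g u ∈ U) : G →* MulAut (V ⧸ U) where
  toFun g :=
    { toFun := QuotientGroup.map U U (φ g).toMonoidHom (fun u hu => hU g u hu)
      invFun := QuotientGroup.map U U (φ g⁻¹).toMonoidHom (fun u hu => hU g⁻¹ u hu)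
      left_inv := fun x => QuotientGroup.induction_on x fun v => congrArg QuotientGroup.mk (apply_inv φ g v)
      right_inv := fun x => QuotientGroup.induction_on x fun v => congrArg QuotientGroup.mk (apply_inv' φ g v)
      map_mul' := map_mul _ }
  map_one' := MulEquiv.ext fun x =>
    QuotientGroup.induction_on x fun v => congrArg QuotientGroup.mk (apply_one φ v)
  map_mul' g h := MulEquiv.ext fun x =>
    QuotientGroup.induction_on x fun v => congrArg QuotientGroup.mk (apply_mul φ g h v)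

theorem quot_mk (U : Subgroup V) (hU : ∀ g : G, ∀ u ∈ U, φ g u ∈ U) (g : G) (v : V) :
    quot φ U hU g (QuotientGroup.mk v) = QuotientGroup.mk (φ g v) := rfl

theorem eq_mk_iff (U : Subgroup V) (v w : V) :
    (QuotientGroup.mk v : V ⧸ U) = QuotientGroup.mk w ↔ v * w⁻¹ ∈ U := by
  rw [QuotientGroup.eq, ← U.inv_mem_iff, mul_inv_rev, inv_inv, mul_comm]

theorem quad_restr {U : Subgroup V} (hU : ∀ g : G, ∀ u ∈ U, φ g u ∈ U) {E : Subgroup G} (hq : Quad φ E) :
    Quad (restr φ U hU) E := fun e he f hf u => Subtype.ext (hq e he f hf u)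

theorem quad_quot {U : Subgroup V} (hU : ∀ g : G, ∀ u ∈ U, φ g u ∈ U) {E : Subgroup G} (hq : Quad φ E) :
    Quad (quot φ U hU) E := fun e he f hf x =>
  QuotientGroup.induction_on x fun v => congrArg QuotientGroup.mk (hq e he f hf v)

theorem fix_map {g : G} (B : Subgroup G) :
    fix φ (B.map (MulAut.conj g).toMonoidHom) = (fix φ B).map (φ g).toMonoidHom := by
  ext v
  constructor
  · intro hv
    refine ⟨φ g⁻¹ v, fun e he => ?_, apply_inv' φ g v⟩
    have := hv _ ⟨e, he, rfl⟩
    calc φ e (φ g⁻¹ v) = φ g⁻¹ (φ (g * e * g⁻¹) v) := by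
          rw [← apply_mul, ← apply_mul]; congr 2; group
      _ = φ g⁻¹ v := congrArg _ this
  · rintro ⟨w, hw, rfl⟩ _ ⟨e, he, rfl⟩
    show φ (g * e * g⁻¹) (φ g w) = φ g w
    rw [← apply_mul, show g * e * g⁻¹ * g = g * e by group, apply_mul, hw e he]

theorem wt_map [Finite V] {g : G} (B : Subgroup G) :
    wt φ (B.map (MulAut.conj g).toMonoidHom) = wt φ B := by
  rw [wt, wt, fix_map, Subgroup.card_map_of_injective (MulAut.conj g).injective,
    Subgroup.card_map_of_injective (φ g).injective]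

theorem best_map [Finite V] {E : Subgroup G} (h : Best φ E) (g : G) :
    Best φ (E.map (MulAut.conj g).toMonoidHom) := by
  intro B hB
  have e : (B.comap (MulAut.conj g).toMonoidHom).map (MulAut.conj g).toMonoidHom = B :=
    Subgroup.map_comap_eq_self_of_surjective (MulAut.conj g).surjective B
  rw [← e, wt_map, wt_map]
  exact h _ ((Subgroup.comap_mono hB).trans (le_of_eq
    (Subgroup.comap_map_eq_self_of_injective (MulAut.conj g).injective E)))

theorem quad_map {E : Subgroup G} (h : Quad φ E) (g : G) :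
    Quad φ (E.map (MulAut.conj g).toMonoidHom) := by
  rintro _ he _ ⟨f, hf, rfl⟩ v
  have := (h.mem_fix hf (φ g⁻¹ v) : φ f (φ g⁻¹ v) * (φ g⁻¹ v)⁻¹ ∈ fix φ E)
  have hm : φ g (φ f (φ g⁻¹ v) * (φ g⁻¹ v)⁻¹) ∈ fix φ (E.map (MulAut.conj g).toMonoidHom) := by
    rw [fix_map]; exact ⟨_, this, rfl⟩
  rw [map_mul (φ g), map_inv (φ g), apply_inv', ← apply_mul, ← apply_mul] at hm
  exact hm _ he

end Defs

theorem central_map {G : Type*} [Group G] {E : Subgroup G} (h : Central E) (g : G) :
    Central (E.map (MulAut.conj g).toMonoidHom) := by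
  rintro _ ⟨e, he, rfl⟩ P hP heP x hx
  have h1 := h e he _ (hP.map (MulAut.conj g⁻¹).toMonoidHom) ⟨_, heP, by simp [mul_assoc]⟩
    (g⁻¹ * x * g) ⟨x, hx, by simp⟩
  show g * e * g⁻¹ * x = x * (g * e * g⁻¹)
  calc g * e * g⁻¹ * x = g * (e * (g⁻¹ * x * g)) * g⁻¹ := by group
    _ = g * (g⁻¹ * x * g * e) * g⁻¹ := by rw [h1]
    _ = _ := by group

theorem isPGroup_zpowers_of_sq {G : Type*} [Group G] {e : G} (he : e * e = 1) :
    IsPGroup 2 (Subgroup.zpowers e) := by
  rintro ⟨_, n, rfl⟩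
  refine ⟨1, Subtype.ext ?_⟩
  show (e ^ n) ^ (2 ^ 1) = 1
  rw [pow_one, pow_two, ← (Commute.refl e).mul_zpow, he, one_zpow]

/-- An element that normalises a 2-subgroup and is central in every 2-subgroup containing it commutes with it. -/
theorem Central.commute {G : Type*} [Group G] {E R : Subgroup G} (h : Central E) {e : G} (he : e ∈ E)
    (he2 : e * e = 1) (hR : IsPGroup 2 R) (hn : e ∈ Subgroup.normalizer (R : Set G)) {x : G} (hx : x ∈ R) :
    e * x = x * e :=
  h e he _ (IsPGroup.to_sup_of_normal_left' hR (isPGroup_zpowers_of_sq he2) (Subgroup.zpowers_le.2 hn))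
    (Subgroup.mem_sup_right (Subgroup.mem_zpowers e)) x (Subgroup.mem_sup_left hx)

/-- The image in the group induced on a module. -/
theorem central_range {G H : Type*} [Group G] [Finite G] [Group H] {E : Subgroup G} (h : Central E)
    (he2 : ∀ e ∈ E, e * e = 1) (f : G →* H) : Central (E.map f.rangeRestrict) := by
  rintro _ ⟨e, he, rfl⟩ P hP heP x hx
  haveI : Fact (Nat.Prime 2) := ⟨Nat.prime_two⟩
  set H0 := P.comap f.rangeRestrict with hH0
  have hle : (Subgroup.zpowers (⟨e, heP⟩ : H0)) ≤ ⊤ := le_top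
  obtain ⟨U, hU⟩ := (isPGroup_zpowers_of_sq (e := (⟨e, heP⟩ : H0)) (Subtype.ext (he2 e he))).exists_le_sylow
  have hsurj : Function.Surjective (f.rangeRestrict.subgroupComap P) := by
    rintro ⟨⟨_, g, rfl⟩, hg⟩
    exact ⟨⟨g, hg⟩, rfl⟩
  have hmap : (U : Subgroup H0).map (f.rangeRestrict.subgroupComap P) = ⊤ := by
    rw [← Sylow.coe_mapSurjective hsurj U]
    exact ((U.mapSurjective hsurj).3 (hP.to_subgroup ⊤ |>.of_equiv (MulEquiv.refl _)) le_top).symm
  obtain ⟨u, hu, huv⟩ := (hmap.symm ▸ Subgroup.mem_top (⟨x, hx⟩ : P) :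
    (⟨x, hx⟩ : P) ∈ (U : Subgroup H0).map (f.rangeRestrict.subgroupComap P))
  have hc := h e he _ (U.2.map H0.subtype) ⟨_, hU (Subgroup.mem_zpowers _), rfl⟩ (u : G) ⟨u, hu, rfl⟩
  have hx' : f.rangeRestrict (u : G) = x := congrArg Subtype.val huv
  rw [← hx', ← map_mul, ← map_mul, hc]

/-- The kernel of an action on an invariant subgroup and its quotient has exponent two. -/
theorem sq_eq_one {V G : Type u} [CommGroup V] [Group G] (φ : G →* MulAut V) (hinj : Function.Injective φ)
    (h2 : ∀ v : V, v * v = 1) {U : Subgroup V} {x : G} (h1 : ∀ u ∈ U, φ x u = u)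
    (h3 : ∀ v, φ x v * v⁻¹ ∈ U) : x * x = 1 := by
  refine hinj (MulEquiv.ext fun v => ?_)
  rw [apply_one φ v, apply_mul]
  have e : φ x v = (φ x v * v⁻¹) * v := (inv_mul_cancel_right _ _).symm
  calc φ x (φ x v) = φ x ((φ x v * v⁻¹) * v) := by rw [← e]
    _ = (φ x v * v⁻¹) * ((φ x v * v⁻¹) * v) := by rw [map_mul, h1 _ (h3 v), ← e]
    _ = v := by rw [← mul_assoc, h2, one_mul]

/-- A subgroup acting as a 2-group on an invariant subgroup and on its quotient is a 2-group. -/
theorem isPGroup_of_series {V G : Type u} [CommGroup V] [Group G] (φ : G →* MulAut V)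
    (hinj : Function.Injective φ) (h2 : ∀ v : V, v * v = 1) {U : Subgroup V}
    (hU : ∀ g : G, ∀ u ∈ U, φ g u ∈ U) {P : Subgroup G}
    (h1 : ∀ x ∈ P, ∃ k : ℕ, restr φ U hU (x ^ 2 ^ k) = 1)
    (h3 : ∀ x ∈ P, ∃ k : ℕ, quot φ U hU (x ^ 2 ^ k) = 1) : IsPGroup 2 P := by
  rintro ⟨x, hx⟩
  obtain ⟨k, hk⟩ := h1 x hx
  obtain ⟨l, hl⟩ := h3 x hx
  refine ⟨k + l + 1, Subtype.ext ?_⟩
  show x ^ 2 ^ (k + l + 1) = 1
  rw [pow_succ 2, pow_mul, pow_two]
  refine sq_eq_one φ hinj h2 (U := U) (fun u hu => ?_) (fun v => ?_)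
  · have : restr φ U hU (x ^ 2 ^ (k + l)) = 1 := by
      rw [pow_add, pow_mul, map_pow, hk, one_pow]
    exact congrArg Subtype.val (DFunLike.congr_fun this (⟨u, hu⟩ : U))
  · have : quot φ U hU (x ^ 2 ^ (k + l)) = 1 := by
      rw [add_comm k l, pow_add, pow_mul, map_pow, hl, one_pow]
    exact (eq_mk_iff U _ _).1 (DFunLike.congr_fun this (QuotientGroup.mk v))

theorem card_sup_mul_inf {V : Type*} [CommGroup V] [Finite V] (X Y : Subgroup V) :
    Nat.card ↥(X ⊔ Y) * Nat.card ↥(X ⊓ Y) = Nat.card X * Nat.card Y :=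
  Thompson.card_sup_mul_card_inf (by rw [Subgroup.normalizer_eq_top]; exact le_top)

section Main

variable {V : Type u} [CommGroup V] [Finite V] {G : Type u} [Group G] [Finite G] (φ : G →* MulAut V)

/-- Restriction keeps best offenders. -/
theorem best_restr {U : Subgroup V} (hU : ∀ g : G, ∀ u ∈ U, φ g u ∈ U) {E : Subgroup G} (hb : Best φ E) :
    Best (restr φ U hU) E := by
  intro B hB
  have hf : ∀ A : Subgroup G, fix (restr φ U hU) A = (fix φ A).subgroupOf U := fun A => by
    ext u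
    exact ⟨fun h e he => congrArg Subtype.val (h e he), fun h e he => Subtype.ext (h e he)⟩
  have hc : ∀ A : Subgroup G, Nat.card (fix (restr φ U hU) A) = Nat.card ↥(fix φ A ⊓ U) := fun A => by
    rw [hf, ← Subgroup.inf_subgroupOf_right]
    exact Nat.card_congr (Subgroup.subgroupOfEquivOfLe inf_le_right).toEquiv
  rw [wt, wt, hc, hc]
  have h1 := card_sup_mul_inf (fix φ B ⊓ U) (fix φ E)
  have h2 : fix φ B ⊓ U ⊓ fix φ E = fix φ E ⊓ U := by
    rw [inf_comm, ← inf_assoc, inf_eq_left.2 (fix_anti φ hB)]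
  rw [h2] at h1
  have h3 : Nat.card ↥(fix φ B ⊓ U ⊔ fix φ E) ≤ Nat.card (fix φ B) :=
    Subgroup.card_le_of_le (sup_le inf_le_left (fix_anti φ hB))
  refine Nat.le_of_mul_le_mul_right ?_ (Nat.card_pos (α := fix φ E))
  calc Nat.card B * Nat.card ↥(fix φ B ⊓ U) * Nat.card (fix φ E)
      = Nat.card B * (Nat.card ↥(fix φ B ⊓ U ⊔ fix φ E) * Nat.card ↥(fix φ E ⊓ U)) := by rw [h1, mul_assoc]
    _ ≤ Nat.card B * (Nat.card (fix φ B) * Nat.card ↥(fix φ E ⊓ U)) :=
        Nat.mul_le_mul_left _ (Nat.mul_le_mul_right _ h3)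
    _ = wt φ B * Nat.card ↥(fix φ E ⊓ U) := by rw [wt, mul_assoc]
    _ ≤ wt φ E * Nat.card ↥(fix φ E ⊓ U) := Nat.mul_le_mul_right _ (hb B hB)
    _ = _ := by rw [wt]; ring

/-- The statement for all pairs of smaller order. -/
def Smaller (n : ℕ) : Prop :=
  ∀ (W : Type u) [CommGroup W] [Finite W] (H : Type u) [Group H] [Finite H] (ψ : H →* MulAut W),
    Nat.card H + Nat.card W < n → Function.Injective ψ → (∀ w : W, w * w = 1) → NoS3 H →
    ∀ E : Subgroup H, Quad ψ E → Best ψ E → Central E → E ≤ Cfsg.pCore 2 H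

variable {φ}

/-- The induction hypothesis for an action with kernel. -/
theorem Smaller.of_hom {n : ℕ} (IH : Smaller.{u} n) {W : Type u} [CommGroup W] [Finite W] (ψ : G →* MulAut W)
    (hn : Nat.card G + Nat.card W < n) (hw : ∀ w : W, w * w = 1) (hG : NoS3 G) {E : Subgroup G}
    (hE2 : ∀ e ∈ E, e * e = 1) (hq : Quad ψ E)
    (hb : ∀ B ≤ E, E ⊓ ψ.ker ≤ B → wt ψ B ≤ wt ψ E) (hc : Central E) :
    E ≤ (Cfsg.pCore 2 ψ.range).comap ψ.rangeRestrict := by
  rw [← Subgroup.map_le_iff_le_comap]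
  have hr : ∀ B : Subgroup G, fix ψ.range.subtype (B.map ψ.rangeRestrict) = fix ψ B := fun B => by
    ext v
    exact ⟨fun h e he => h _ ⟨e, he, rfl⟩, by rintro h _ ⟨e, he, rfl⟩; exact h e he⟩
  refine IH W ψ.range ψ.range.subtype ?_ Subtype.val_injective hw (noS3_range hG ψ) _ ?_ ?_
    (central_range hc hE2 ψ)
  · exact lt_of_le_of_lt (Nat.add_le_add_right (Nat.card_le_card_of_surjective _ ψ.rangeRestrict_surjective) _) hn
  · rintro _ ⟨e, he, rfl⟩ _ ⟨f, hf, rfl⟩ v
    exact hq e he f hf v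
  · intro B hB
    set B₀ := E ⊓ B.comap ψ.rangeRestrict
    have hker : E ⊓ ψ.ker ≤ B₀ := fun x hx => ⟨hx.1, show ψ.rangeRestrict x ∈ B by
      rw [show ψ.rangeRestrict x = 1 from Subtype.ext hx.2]; exact one_mem B⟩
    have hBeq : B₀.map ψ.rangeRestrict = B := by
      refine le_antisymm (by rintro _ ⟨x, hx, rfl⟩; exact hx.2) fun y hy => ?_
      obtain ⟨x, hx, rfl⟩ := hB hy
      exact ⟨x, ⟨hx, hy⟩, rfl⟩
    have hcard : ∀ A ≤ E, E ⊓ ψ.ker ≤ A →
        Nat.card (A.map ψ.rangeRestrict) * Nat.card ↥(E ⊓ ψ.ker) = Nat.card A := by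
      intro A hA hAk
      have e : A ⊓ ψ.ker = E ⊓ ψ.ker := le_antisymm (inf_le_inf_right _ hA) (le_inf hAk inf_le_right)
      have h := Subgroup.index_mul_card (ψ.rangeRestrict.comp A.subtype).ker
      rw [Subgroup.index_ker, MonoidHom.range_comp, Subgroup.range_subtype, ← MonoidHom.comap_ker,
        MonoidHom.ker_rangeRestrict] at h
      rw [← e]
      refine Eq.trans ?_ h
      congr 1
      rw [← Nat.card_congr (Subgroup.subgroupOfEquivOfLe (inf_le_left : A ⊓ ψ.ker ≤ A)).toEquiv,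
        Subgroup.inf_subgroupOf_left]
      rfl
    have h := hb B₀ inf_le_left hker
    rw [← hBeq, wt, wt, hr, hr]
    rw [wt, wt, ← hcard B₀ inf_le_left hker, ← hcard E le_rfl inf_le_left] at h
    refine Nat.le_of_mul_le_mul_right ?_ (Nat.card_pos (α := ↥(E ⊓ ψ.ker)))
    linarith

/-- Conjugates of `E` generate; an image in a 2-group makes everything one. -/
theorem pow_of_le_pCore {W : Type u} [CommGroup W] (ψ : G →* MulAut W) {E : Subgroup G}
    (hgen : Subgroup.normalClosure (E : Set G) = ⊤)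
    (hle : E ≤ (Cfsg.pCore 2 ψ.range).comap ψ.rangeRestrict) (x : G) : ∃ k : ℕ, ψ (x ^ 2 ^ k) = 1 := by
  haveI := (Cores.pCore_normal (G := ψ.range) 2).comap ψ.rangeRestrict
  have hx : x ∈ (Cfsg.pCore 2 ψ.range).comap ψ.rangeRestrict :=
    Subgroup.normalClosure_le_normal hle (hgen ▸ Subgroup.mem_top x)
  obtain ⟨k, hk⟩ := Cores.isPGroup_pCore 2 ⟨_, hx⟩
  exact ⟨k, by rw [map_pow]; exact congrArg (fun z : Cfsg.pCore 2 ψ.range => ((z : ψ.range) : MulAut W)) hk⟩

/-- The heart: an invariant subgroup on which the group acts as a 2-group reduces to the quotient. -/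
theorem false_of_series {n : ℕ} (IH : Smaller.{u} n) (hn : Nat.card G + Nat.card V = n)
    (hinj : Function.Injective φ) (h2 : ∀ v : V, v * v = 1) (hG : NoS3 G) {E : Subgroup G}
    (hE2 : ∀ e ∈ E, e * e = 1) (hq : Quad φ E) (hb : Best φ E) (hc : Central E) (hne : E ≠ ⊥)
    (hEQ : E ⊓ Cfsg.pCore 2 G = ⊥) {U : Subgroup V} (hU : ∀ g : G, ∀ u ∈ U, φ g u ∈ U) (hUne : U ≠ ⊥)
    (h1 : ∀ x : G, ∃ k : ℕ, restr φ U hU (x ^ 2 ^ k) = 1) : False := by
  classical
  set ψ := quot φ U hU with hψ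
  haveI := (Cores.pCore_normal (G := ψ.range) 2).comap ψ.rangeRestrict
  have hP2 : IsPGroup 2 ↥((Cfsg.pCore 2 ψ.range).comap ψ.rangeRestrict) :=
    isPGroup_of_series φ hinj h2 hU (fun x _ => h1 x) fun x hx => by
      obtain ⟨k, hk⟩ := Cores.isPGroup_pCore 2 ⟨_, hx⟩
      exact ⟨k, by rw [map_pow]; exact congrArg (fun z : Cfsg.pCore 2 ψ.range => ((z : ψ.range) : MulAut (V ⧸ U))) hk⟩
  have hPQ := Cores.le_pCore hP2
  have hkerP : ψ.ker ≤ (Cfsg.pCore 2 ψ.range).comap ψ.rangeRestrict := fun x hx => by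
    rw [Subgroup.mem_comap, show ψ.rangeRestrict x = 1 from Subtype.ext hx]; exact one_mem _
  have hEk : E ⊓ ψ.ker = ⊥ := le_bot_iff.1 (hEQ ▸ inf_le_inf_left E (hkerP.trans hPQ))
  -- the weight of `E` on the quotient
  have hwE : Nat.card (V ⧸ U) ≤ wt ψ E := by
    have hmap : (fix φ E).map (QuotientGroup.mk' U) ≤ fix ψ E := by
      rintro _ ⟨v, hv, rfl⟩ e he
      exact congrArg QuotientGroup.mk (hv e he)
    have hcm : Nat.card ((fix φ E).map (QuotientGroup.mk' U)) * Nat.card ↥(fix φ E ⊓ U) = Nat.card (fix φ E) := by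
      have h := Subgroup.index_mul_card ((QuotientGroup.mk' U).comp (fix φ E).subtype).ker
      rw [Subgroup.index_ker, MonoidHom.range_comp, Subgroup.range_subtype, ← MonoidHom.comap_ker,
        QuotientGroup.ker_mk'] at h
      refine Eq.trans ?_ h
      congr 1
      rw [← Nat.card_congr (Subgroup.subgroupOfEquivOfLe (inf_le_left : fix φ E ⊓ U ≤ fix φ E)).toEquiv,
        Subgroup.inf_subgroupOf_left]
      rfl
    have h0 : Nat.card (V ⧸ U) * Nat.card U = Nat.card V := by
      rw [← Subgroup.index_eq_card, Subgroup.index_mul_card]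
    refine Nat.le_of_mul_le_mul_right ?_ (Nat.card_pos (α := U))
    calc Nat.card (V ⧸ U) * Nat.card U = Nat.card V := h0
      _ ≤ wt φ E := hb.card_le
      _ = Nat.card E * (Nat.card ((fix φ E).map (QuotientGroup.mk' U)) * Nat.card ↥(fix φ E ⊓ U)) := by
          rw [hcm, wt]
      _ ≤ Nat.card E * (Nat.card (fix ψ E) * Nat.card U) :=
          Nat.mul_le_mul_left _ (Nat.mul_le_mul (Subgroup.card_le_of_le hmap) (Subgroup.card_le_of_le inf_le_right))
      _ = wt ψ E * Nat.card U := by rw [wt]; ring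
  -- a best subgroup on the quotient
  obtain ⟨E', hE', hmax⟩ := Set.exists_max_image {B : Subgroup G | B ≤ E ∧ B ≠ ⊥} (wt ψ)
    (Set.toFinite _) ⟨E, le_rfl, hne⟩
  have hb' : Best ψ E' := fun B hB => by
    by_cases h : B = ⊥
    · rw [h, wt_bot]; exact hwE.trans (hmax E ⟨le_rfl, hne⟩)
    · exact hmax B ⟨hB.trans hE'.1, h⟩
  have hlt : Nat.card (V ⧸ U) < Nat.card V := by
    rw [← Subgroup.index_eq_card, ← Subgroup.index_mul_card U]
    exact lt_mul_of_one_lt_right (Nat.pos_of_ne_zero Subgroup.index_ne_zero_of_finite)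
      ((Subgroup.one_lt_card_iff_ne_bot U).2 hUne)
  have hquad : Quad ψ E' := fun e he f hf x => quad_quot φ hU hq e (hE'.1 he) f (hE'.1 hf) x
  have hfin := Smaller.of_hom (E := E') IH ψ (by omega)
    (fun w => QuotientGroup.induction_on w fun v => congrArg QuotientGroup.mk (h2 v)) hG
    (fun e he => hE2 e (hE'.1 he)) hquad (fun B hB _ => hb' B hB) (fun e he => hc e (hE'.1 he))
  exact hE'.2 (le_bot_iff.1 (hEQ ▸ le_inf hE'.1 (hfin.trans hPQ)))

/-- The endgame: two opposite conjugates give a section `S₃`. -/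
theorem false_of_opposite (hinj : Function.Injective φ) (h2 : ∀ v : V, v * v = 1) (hG : NoS3 G)
    {E : Subgroup G} (hq : Quad φ E) (hb : Best φ E) (hne : E ≠ ⊥) {g : G}
    (hsup : fix φ E ⊔ fix φ (E.map (MulAut.conj g).toMonoidHom) = ⊤)
    (hinf : fix φ E ⊓ fix φ (E.map (MulAut.conj g).toMonoidHom) = ⊥)
    (hsemi : ∀ a ∈ E, a ≠ 1 → fix φ (Subgroup.zpowers a) = fix φ E) : False := by
  classical
  set B := E.map (MulAut.conj g).toMonoidHom with hB
  set X := fix φ E with hX
  set Y := fix φ B with hY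
  have hcXY : Nat.card Y = Nat.card X := by
    rw [hY, hB, fix_map, Subgroup.card_map_of_injective (φ g).injective]
  have hV : Nat.card X * Nat.card X = Nat.card V := by
    have h := card_sup_mul_inf X Y
    rw [hsup, hinf, Subgroup.card_top, Subgroup.card_bot, mul_one, hcXY] at h
    exact h.symm
  have hfixy : ∀ a ∈ E, ∀ y ∈ Y, y ≠ 1 → φ a y = y → a = 1 := by
    intro a ha y hy hy1 hay
    by_contra h1
    have : y ∈ fix φ (Subgroup.zpowers a) := fun e he => by
      obtain ⟨n, rfl⟩ := he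
      exact (Subgroup.zpowers_le.2 (show a ∈ (MulAction.stabilizer (MulAut V) y).comap φ from hay)
        (Subgroup.mem_zpowers_iff.2 ⟨n, rfl⟩) : φ (a ^ n) y = y)
    rw [hsemi a ha h1] at this
    exact hy1 (Subgroup.mem_bot.1 (hinf ▸ Subgroup.mem_inf.2 ⟨this, hy⟩))
  have hcE : Nat.card X ≤ Nat.card E := by
    have := hb.card_le
    rw [wt, ← hX, ← hV] at this
    exact Nat.le_of_mul_le_mul_right this Nat.card_pos
  have hsurj : ∀ y ∈ Y, y ≠ 1 → ∀ x ∈ X, ∃ a ∈ E, φ a y * y⁻¹ = x := by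
    intro y hy hy1 x hx
    let f : E → X := fun a => ⟨φ a y * y⁻¹, hq.mem_fix a.2 y⟩
    have hf : Function.Injective f := by
      intro a b hab
      have h := mul_right_cancel (congrArg Subtype.val hab)
      have h1 := hfixy ((b : G)⁻¹ * a) (mul_mem (inv_mem b.2) a.2) y hy hy1
        (by rw [apply_mul, h, apply_inv])
      exact Subtype.ext (inv_mul_eq_one.1 h1).symm
    obtain ⟨a, ha⟩ := (Nat.bijective_iff_injective_and_card f).2
      ⟨hf, le_antisymm (Nat.card_le_card_of_injective f hf) hcE⟩ |>.2 ⟨x, hx⟩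
    exact ⟨a, a.2, congrArg Subtype.val ha⟩
  obtain ⟨⟨a0, ha0⟩, ha01'⟩ := E.ne_bot_iff_exists_ne_one.1 hne
  have ha01 : a0 ≠ 1 := fun h => ha01' (Subtype.ext h)
  have hXne : X ≠ ⊥ := fun h => by
    rw [h, Subgroup.card_bot, one_mul] at hV
    haveI := (Nat.card_eq_one_iff_unique.1 hV.symm).1
    exact ha01 (hinj (MulEquiv.ext fun v => Subsingleton.elim _ _))
  obtain ⟨⟨x, hx⟩, hx1⟩ := X.ne_bot_iff_exists_ne_one.1 hXne
  replace hx1 : x ≠ 1 := fun h => hx1 (Subtype.ext h)
  set b := g * a0 * g⁻¹ with hbdef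
  have hbB : b ∈ B := ⟨a0, ha0, rfl⟩
  set y := φ b x * x⁻¹ with hydef
  have hyY : y ∈ Y := (quad_map φ hq g).mem_fix hbB x
  have hy1 : y ≠ 1 := by
    intro h
    have hbx : φ b x = x := mul_inv_eq_one.1 h
    have hbb : fix φ (Subgroup.zpowers b) = Y := by
      rw [hY, hB, fix_map, ← (hsemi a0 ha0 ha01).trans hX, ← fix_map, MonoidHom.map_zpowers]
      rfl
    have : x ∈ Y := hbb ▸ fun e he => by
      obtain ⟨n, rfl⟩ := he
      exact (Subgroup.zpowers_le.2 (show b ∈ (MulAction.stabilizer (MulAut V) x).comap φ from hbx)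
        (Subgroup.mem_zpowers_iff.2 ⟨n, rfl⟩) : φ (b ^ n) x = x)
    exact hx1 (Subgroup.mem_bot.1 (hinf ▸ Subgroup.mem_inf.2 ⟨hx, this⟩))
  obtain ⟨a, ha, hay⟩ := hsurj y hyY hy1 x hx
  have hbx : φ b x = x * y := by rw [hydef, mul_comm x, inv_mul_cancel_right]
  have hby : φ b y = y := hyY b hbB
  have hax : φ a x = x := hx a ha
  have hay' : φ a y = x * y := by rw [← hay, inv_mul_cancel_right]
  have haxy : φ a (x * y) = y := by rw [map_mul, hax, hay', ← mul_assoc, h2, one_mul]
  have hbxy : φ b (x * y) = x := by rw [map_mul, hbx, hby, mul_assoc, h2, mul_one]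
  let ι : Fin 3 → V := ![x, y, x * y]
  have hxy : x ≠ y := fun h => hx1 (Subgroup.mem_bot.1 (hinf ▸ Subgroup.mem_inf.2 ⟨hx, h ▸ hyY⟩))
  have hι : Function.Injective ι := by
    have hxxy : x ≠ x * y := fun h => hy1 (mul_left_cancel (h.symm.trans (mul_one x).symm))
    have hyxy : y ≠ x * y := fun h => hx1 (mul_right_cancel (h.symm.trans (one_mul y).symm))
    intro i j hij
    fin_cases i <;> fin_cases j <;>
      first
        | rfl
        | exact absurd hij hxy
        | exact absurd hij hxy.symm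
        | exact absurd hij hxxy
        | exact absurd hij hxxy.symm
        | exact absurd hij hyxy
        | exact absurd hij hyxy.symm
  let K : Subgroup G :=
    { carrier := {c | ∀ i, ∃ j, φ c (ι i) = ι j}
      one_mem' := fun i => ⟨i, apply_one φ _⟩
      mul_mem' := fun {c d} hc hd i => by
        obtain ⟨j, hj⟩ := hd i
        obtain ⟨k, hk⟩ := hc j
        exact ⟨k, by rw [apply_mul, hj, hk]⟩
      inv_mem' := fun {c} hc i => by
        choose π hπ using hc
        have hi : Function.Injective π := fun u v h => hι ((φ c).injective (by rw [hπ, hπ, h]))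
        obtain ⟨i', hi'⟩ := (Finite.injective_iff_surjective.1 hi) i
        exact ⟨i', by rw [← hi', ← hπ, apply_inv]⟩ }
  have hKmem : ∀ k ∈ K, ∀ i, ∃ j, φ k (ι i) = ι j := fun k hk => hk
  choose π hπ using fun k : K => hKmem k k.2
  have hπi : ∀ k, Function.Injective (π k) := fun k i j h =>
    hι ((φ (k : G)).injective (by rw [hπ, hπ, h]))
  let f : K →* Equiv.Perm (Fin 3) := MonoidHom.mk'
    (fun k => Equiv.ofBijective (π k) (Finite.injective_iff_bijective.1 (hπi k))) fun k l => Equiv.ext fun i =>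
      hι (by
        show ι (π (k * l) i) = ι (π k (π l i))
        rw [← hπ, ← hπ, ← hπ]
        exact apply_mul φ (k : G) l (ι i))
  have hmem : ∀ c : G, ∀ σ : Equiv.Perm (Fin 3), (∀ i, φ c (ι i) = ι (σ i)) → ∃ k, f k = σ := by
    intro c σ hσ
    have hc : c ∈ K := fun i => ⟨σ i, hσ i⟩
    exact ⟨⟨c, hc⟩, Equiv.ext fun i => hι ((hπ ⟨c, hc⟩ i).symm.trans (hσ i))⟩
  obtain ⟨ka, hka⟩ := hmem a (Equiv.swap 1 2) (fun i => by fin_cases i <;> simp [ι, hax, hay', haxy, Equiv.swap_apply_def])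
  obtain ⟨kb, hkb⟩ := hmem b (Equiv.swap 0 2) (fun i => by fin_cases i <;> simp [ι, hbx, hby, hbxy, Equiv.swap_apply_def])
  refine hG (of_surjective f fun σ => ?_)
  have hσ : ∀ σ : Equiv.Perm (Fin 3), σ = 1 ∨ σ = Equiv.swap 1 2 ∨ σ = Equiv.swap 0 2 ∨
      σ = Equiv.swap 1 2 * Equiv.swap 0 2 ∨ σ = Equiv.swap 0 2 * Equiv.swap 1 2 ∨
      σ = Equiv.swap 1 2 * Equiv.swap 0 2 * Equiv.swap 1 2 := by decide
  rcases hσ σ with rfl | rfl | rfl | rfl | rfl | rfl
  exacts [⟨1, map_one f⟩, ⟨ka, hka⟩, ⟨kb, hkb⟩, ⟨ka * kb, by rw [map_mul, hka, hkb]⟩,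
    ⟨kb * ka, by rw [map_mul, hka, hkb]⟩, ⟨ka * kb * ka, by rw [map_mul, map_mul, hka, hkb]⟩]

theorem exists_fixed {Q : Subgroup G} (hQ : IsPGroup 2 Q) (h2 : ∀ v : V, v * v = 1) (hV : Nat.card V ≠ 1) :
    fix φ Q ≠ ⊥ := by
  haveI : Fact (Nat.Prime 2) := ⟨Nat.prime_two⟩
  letI : MulAction Q V := MulAction.compHom V (φ.comp Q.subtype)
  have hp : IsPGroup 2 V := fun v => ⟨1, by rw [pow_one, pow_two, h2]⟩
  obtain ⟨k, hk⟩ := IsPGroup.iff_card.1 hp
  have hd : 2 ∣ Nat.card V := by
    rw [hk]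
    exact dvd_pow_self 2 (fun h => hV (by rw [hk, h, pow_zero]))
  have h1 : (1 : V) ∈ MulAction.fixedPoints Q V := fun q => map_one (φ (q : G))
  obtain ⟨b, hb, hb1⟩ := hQ.exists_fixed_point_of_prime_dvd_card_of_fixed_point V hd h1
  exact fun h => hb1 ((Subgroup.mem_bot.1 (h ▸ (fun e he => hb ⟨e, he⟩ : b ∈ fix φ Q))).symm)

/-- The induction step. -/
theorem step {n : ℕ} (IH : Smaller.{u} n) (hn : Nat.card G + Nat.card V = n)
    (hinj : Function.Injective φ) (h2 : ∀ v : V, v * v = 1) (hG : NoS3 G) {E : Subgroup G}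
    (hq : Quad φ E) (hb : Best φ E) (hc : Central E) : E ≤ Cfsg.pCore 2 G := by
  classical
  haveI : Fact (Nat.Prime 2) := ⟨Nat.prime_two⟩
  have hE2 : ∀ e ∈ E, e * e = 1 := fun e he => hinj (MulEquiv.ext fun v => by
    rw [quad_sq φ h2 hq he, apply_one])
  have hEp : IsPGroup 2 E := fun e => ⟨1, Subtype.ext (by
    show (e : G) ^ (2 ^ 1) = 1; rw [pow_one, pow_two]; exact hE2 _ e.2)⟩
  by_cases hne : E = ⊥
  · rw [hne]; exact bot_le
  have hV : Nat.card V ≠ 1 := fun h => hne (by
    haveI := (Nat.card_eq_one_iff_unique.1 h).1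
    rw [Subgroup.eq_bot_iff_forall]
    exact fun e _ => hinj (MulEquiv.ext fun v => Subsingleton.elim _ _))
  -- a proper subgroup
  have hproper : ∀ H : Subgroup G, H ≠ ⊤ → ∀ g : G, E.map (MulAut.conj g).toMonoidHom ≤ H →
      E.map (MulAut.conj g).toMonoidHom ≤ (Cfsg.pCore 2 H).map H.subtype := by
    intro H hH g hle
    set B := E.map (MulAut.conj g).toMonoidHom with hB
    have hlt : Nat.card H < Nat.card G := lt_of_le_of_ne (Subgroup.card_le_card_group H) fun h =>
      hH (Subgroup.eq_top_of_card_eq H h)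
    have hBq := quad_map φ hq g
    have hBb := best_map φ hb g
    have hBc := central_map hc g
    have hfx : ∀ A : Subgroup H, fix (φ.comp H.subtype) A = fix φ (A.map H.subtype) := fun A => by
      ext v
      exact ⟨by rintro h _ ⟨e, he, rfl⟩; exact h e he, fun h e he => h _ ⟨e, he, rfl⟩⟩
    have hmap : (B.subgroupOf H).map H.subtype = B := Subgroup.map_subgroupOf_eq_of_le hle
    have hwt : ∀ A : Subgroup H, wt (φ.comp H.subtype) A = wt φ (A.map H.subtype) := fun A => by
      rw [wt, wt, hfx, Subgroup.card_map_of_injective H.subtype_injective]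
    have h := IH V H (φ.comp H.subtype) (by omega) (hinj.comp H.subtype_injective) h2 (noS3_subgroup hG H)
      (B.subgroupOf H) (fun e he f hf v => hBq e he f hf v)
      (fun A hA => by rw [hwt, hwt, hmap]; exact hBb _ ((Subgroup.map_mono hA).trans hmap.le))
      (fun e he P hP heP x hx => Subtype.ext (hBc e he _ (hP.map H.subtype) ⟨e, heP, rfl⟩ x ⟨x, hx, rfl⟩))
    exact hmap ▸ Subgroup.map_mono h
  have hE1 : E.map (MulAut.conj (1 : G)).toMonoidHom = E := by
    rw [map_one]; exact E.map_id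
  -- the conjugates generate
  haveI hQn : (Cfsg.pCore 2 G).Normal := Cores.pCore_normal 2
  by_cases hgen : Subgroup.normalClosure (E : Set G) = ⊤
  swap
  · have h := hproper _ hgen 1 (hE1.symm ▸ Subgroup.le_normalClosure)
    rw [hE1] at h
    exact h.trans (Cores.map_pCore_le 2 _)
  by_contra hnle
  set Q := Cfsg.pCore 2 G with hQdef
  have hQ2 : IsPGroup 2 Q := Cores.isPGroup_pCore 2
  have hnot2 : ¬ IsPGroup 2 G := fun h => hnle ((le_top : E ≤ ⊤).trans (Cores.le_pCore (h.to_subgroup ⊤)))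
  have hnorm : ∀ x : G, x ∈ Subgroup.normalizer (Q : Set G) := fun x => by
    rw [Subgroup.normalizer_eq_top]; trivial
  by_cases hB0 : E ⊓ Q = ⊥
  swap
  · -- `E ⊓ Q` is central
    have hcen : ∀ b ∈ E ⊓ Q, ∀ x : G, b * x = x * b := by
      intro b hb' x
      have hx : x ∈ Subgroup.centralizer {b} := by
        refine (Subgroup.closure_le _).2 (fun y hy => ?_) (hgen ▸ Subgroup.mem_top x :
          x ∈ Subgroup.normalClosure (E : Set G))
        obtain ⟨e, he, hey⟩ := Group.mem_conjugatesOfSet_iff.1 hy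
        obtain ⟨c, rfl⟩ := isConj_iff.1 hey
        have h1 := Central.commute hc he (hE2 e he) hQ2 (hnorm e) (hQn.conj_mem _ hb'.2 c⁻¹)
        rw [SetLike.mem_coe, Subgroup.mem_centralizer_singleton_iff]
        calc c * e * c⁻¹ * b = c * (e * (c⁻¹ * b * c⁻¹⁻¹)) * c⁻¹ := by group
          _ = c * (c⁻¹ * b * c⁻¹⁻¹ * e) * c⁻¹ := by rw [h1]
          _ = _ := by group
      exact (Subgroup.mem_centralizer_singleton_iff.1 hx).symm
    set U := fix φ (E ⊓ Q)
    have hU : ∀ g : G, ∀ u ∈ U, φ g u ∈ U := fun g u hu e he => by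
      rw [← apply_mul, hcen e he g, apply_mul, hu e he]
    have hUlt : Nat.card U < Nat.card V := by
      refine lt_of_le_of_ne (Subgroup.card_le_card_group U) fun h => hB0 ?_
      rw [Subgroup.eq_bot_iff_forall]
      exact fun e he => hinj (MulEquiv.ext fun v => by
        rw [apply_one]; exact (Subgroup.eq_top_of_card_eq U h ▸ Subgroup.mem_top v : v ∈ U) e he)
    have h1 := Smaller.of_hom IH (restr φ U hU) (by omega) (fun w => Subtype.ext (h2 _)) hG hE2
      (quad_restr φ hU hq) (fun B hB _ => best_restr φ hU hb B hB) hc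
    have h3 : ∀ x : G, quot φ U hU x = 1 := by
      intro x
      have hle : E ≤ (quot φ U hU).ker := fun e he => MulEquiv.ext fun w =>
        QuotientGroup.induction_on w fun v => by
          rw [quot_mk, MulAut.one_apply, eq_mk_iff]
          exact fix_anti φ inf_le_left (hq.mem_fix he v)
      exact Subgroup.normalClosure_le_normal hle (hgen ▸ Subgroup.mem_top x)
    refine hnot2 fun x => ?_
    obtain ⟨k, hk⟩ := isPGroup_of_series φ hinj h2 hU (P := ⊤) (fun x _ => pow_of_le_pCore _ hgen h1 x)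
      (fun x _ => ⟨0, h3 _⟩) ⟨x, trivial⟩
    exact ⟨k, congrArg Subtype.val hk⟩
  by_cases hQ : Q = ⊥
  swap
  · set U := fix φ Q
    have hU : ∀ g : G, ∀ u ∈ U, φ g u ∈ U := fun g u hu q hq' => by
      rw [← apply_mul, show q * g = g * (g⁻¹ * q * g) by group, apply_mul]
      exact congrArg _ (hu _ (by simpa using hQn.conj_mem q hq' g⁻¹))
    have hUlt : Nat.card U < Nat.card V := by
      refine lt_of_le_of_ne (Subgroup.card_le_card_group U) fun h => hQ ?_
      rw [Subgroup.eq_bot_iff_forall]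
      exact fun e he => hinj (MulEquiv.ext fun v => by
        rw [apply_one]; exact (Subgroup.eq_top_of_card_eq U h ▸ Subgroup.mem_top v : v ∈ U) e he)
    exact false_of_series IH hn hinj h2 hG hE2 hq hb hc hne hB0 hU (exists_fixed hQ2 h2 hV) fun x =>
      pow_of_le_pCore _ hgen (Smaller.of_hom IH (restr φ U hU) (by omega) (fun w => Subtype.ext (h2 _)) hG hE2
        (quad_restr φ hU hq) (fun B hB _ => best_restr φ hU hb B hB) hc) x
  -- trivial core
  have hFbot : fix φ ⊤ = ⊥ := by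
    by_contra hF
    exact false_of_series IH hn hinj h2 hG hE2 hq hb hc hne hB0 (U := fix φ ⊤)
      (fun g u hu => by rw [hu g trivial]; exact hu) hF
      fun x => ⟨0, MulEquiv.ext fun u => Subtype.ext (u.2 _ trivial)⟩
  set U := Subgroup.closure {w : V | ∃ g v, φ g v * v⁻¹ = w} with hUdef
  have hUmem : ∀ g v, φ g v * v⁻¹ ∈ U := fun g v => Subgroup.subset_closure ⟨g, v, rfl⟩
  have hUtop : U = ⊤ := by
    by_contra hUne
    have hU : ∀ g : G, ∀ u ∈ U, φ g u ∈ U := fun g u hu => by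
      have := mul_mem (hUmem g u) hu
      rwa [inv_mul_cancel_right] at this
    have hUlt : Nat.card U < Nat.card V :=
      lt_of_le_of_ne (Subgroup.card_le_card_group U) fun h => hUne (Subgroup.eq_top_of_card_eq U h)
    set ψ := restr φ U hU
    have h1 := Smaller.of_hom IH ψ (by omega) (fun w => Subtype.ext (h2 _)) hG hE2
      (quad_restr φ hU hq) (fun B hB _ => best_restr φ hU hb B hB) hc
    haveI := (Cores.pCore_normal (G := ψ.range) 2).comap ψ.rangeRestrict
    have hP2 : IsPGroup 2 ↥((Cfsg.pCore 2 ψ.range).comap ψ.rangeRestrict) :=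
      isPGroup_of_series φ hinj h2 hU (fun x hx => by
          obtain ⟨k, hk⟩ := Cores.isPGroup_pCore 2 ⟨_, hx⟩
          exact ⟨k, by rw [map_pow]; exact congrArg (fun z : Cfsg.pCore 2 ψ.range => ((z : ψ.range) : MulAut U)) hk⟩)
        fun x _ => ⟨0, MulEquiv.ext fun w => QuotientGroup.induction_on w fun v => by
          rw [quot_mk, MulAut.one_apply, eq_mk_iff]; exact hUmem _ v⟩
    exact hnle (h1.trans (Cores.le_pCore hP2))
  -- two conjugates inside a proper subgroup generate a 2-group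
  have hcomm : ∀ g : G, E ⊔ E.map (MulAut.conj g).toMonoidHom ≠ ⊤ →
      IsPGroup 2 ↥(E ⊔ E.map (MulAut.conj g).toMonoidHom) := by
    intro g hg
    have h1 := hproper _ hg 1 (hE1.le.trans le_sup_left)
    rw [hE1] at h1
    exact ((Cores.isPGroup_pCore 2).map _).to_le (sup_le h1 (hproper _ hg g le_sup_right))
  obtain ⟨g, hg⟩ : ∃ g : G, E ⊔ E.map (MulAut.conj g).toMonoidHom = ⊤ := by
    by_contra hall
    push Not at hall
    obtain ⟨N, hN, hN2, hEN⟩ := Involution.BaerSuzuki.exists_normal E fun g => hcomm g (hall g)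
    haveI := hN
    exact hnle (hEN.trans (Cores.le_pCore hN2))
  have hinf : ∀ g : G, E ⊔ E.map (MulAut.conj g).toMonoidHom = ⊤ →
      fix φ E ⊓ fix φ (E.map (MulAut.conj g).toMonoidHom) = ⊥ := by
    intro g hg
    refine le_bot_iff.1 (hFbot ▸ ?_)
    rintro v ⟨hv1, hv2⟩ x -
    exact ((sup_le (fun e he => hv1 e he) (fun e he => hv2 e he)) :
      E ⊔ E.map (MulAut.conj g).toMonoidHom ≤ (MulAction.stabilizer (MulAut V) v).comap φ) (hg ▸ Subgroup.mem_top x)
  have hsup : ∀ g : G, E ⊔ E.map (MulAut.conj g).toMonoidHom = ⊤ →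
      fix φ E ⊔ fix φ (E.map (MulAut.conj g).toMonoidHom) = ⊤ := by
    intro g hg
    set W := fix φ E ⊔ fix φ (E.map (MulAut.conj g).toMonoidHom)
    let S : Subgroup G :=
      { carrier := {x | ∀ v, φ x v * v⁻¹ ∈ W}
        one_mem' := fun v => by rw [apply_one, mul_inv_cancel]; exact one_mem W
        mul_mem' := fun {x y} hx hy v => by
          have := mul_mem (hx (φ y v)) (hy v)
          rwa [mul_assoc, inv_mul_cancel_left, ← apply_mul] at this
        inv_mem' := fun {x} hx v => by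
          have := inv_mem (hx (φ x⁻¹ v))
          rwa [apply_inv', mul_inv_rev, inv_inv] at this }
    have hS : S = ⊤ := top_le_iff.1 (hg ▸ sup_le (fun e he v => Subgroup.mem_sup_left (hq.mem_fix he v))
      (fun e he v => Subgroup.mem_sup_right ((quad_map φ hq g).mem_fix he v)))
    refine top_le_iff.1 (hUtop ▸ (Subgroup.closure_le _).2 ?_)
    rintro _ ⟨x, v, rfl⟩
    exact (hS ▸ Subgroup.mem_top x : x ∈ S) v
  refine false_of_opposite hinj h2 hG hq hb hne (hsup g hg) (hinf g hg) fun a ha ha1 => ?_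
  -- semiregularity
  have hle : fix φ E ≤ fix φ (Subgroup.zpowers a) := fix_anti φ (Subgroup.zpowers_le.2 ha)
  by_contra hne'
  have hlt : fix φ E < fix φ (Subgroup.zpowers a) := lt_of_le_of_ne hle (Ne.symm hne')
  have hcommute : ∀ c : G, ∀ f ∈ E, a * (c * f * c⁻¹) = (c * f * c⁻¹) * a := by
    intro c f hf
    by_cases hc' : E ⊔ E.map (MulAut.conj c).toMonoidHom = ⊤
    swap
    · exact hc a ha _ (hcomm c hc') (Subgroup.mem_sup_left ha) _ (Subgroup.mem_sup_right ⟨f, hf, rfl⟩)
    · have hmeet : fix φ (Subgroup.zpowers a) ⊓ fix φ (E.map (MulAut.conj c).toMonoidHom) ≠ ⊥ := by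
        intro h
        have e1 := card_sup_mul_inf (fix φ (Subgroup.zpowers a)) (fix φ (E.map (MulAut.conj c).toMonoidHom))
        have e2 := card_sup_mul_inf (fix φ E) (fix φ (E.map (MulAut.conj c).toMonoidHom))
        rw [h, Subgroup.card_bot, mul_one] at e1
        rw [hinf c hc', hsup c hc', Subgroup.card_bot, mul_one, Subgroup.card_top] at e2
        have h3 : Nat.card (fix φ E) < Nat.card (fix φ (Subgroup.zpowers a)) := by
          refine lt_of_le_of_ne (Subgroup.card_le_of_le hle) fun h => hne' ?_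
          exact (Subgroup.eq_of_le_of_card_ge hle h.ge).symm
        have h4 := Nat.mul_lt_mul_of_lt_of_le h3 le_rfl
          (Nat.card_pos (α := fix φ (E.map (MulAut.conj c).toMonoidHom)))
        rw [← e1, ← e2] at h4
        exact h4.not_ge (Subgroup.card_le_card_group _)
      obtain ⟨⟨y, hy⟩, hy1⟩ := Subgroup.ne_bot_iff_exists_ne_one.1 hmeet
      replace hy1 : y ≠ 1 := fun h => hy1 (Subtype.ext h)
      set H := (MulAction.stabilizer (MulAut V) y).comap φ with hH
      have hHne : H ≠ ⊤ := fun h => hy1 (Subgroup.mem_bot.1 (hFbot ▸ fun e _ =>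
        (h ▸ Subgroup.mem_top e : e ∈ H)))
      have haH : a ∈ H := hy.1 a (Subgroup.mem_zpowers a)
      have hR := hproper H hHne c (fun e he => hy.2 e he)
      have hn' : a ∈ Subgroup.normalizer (((Cfsg.pCore 2 H).map H.subtype : Subgroup G) : Set G) :=
        Subgroup.le_normalizer_map H.subtype ⟨⟨a, haH⟩, by
          rw [Subgroup.normalizer_eq_top]; trivial, rfl⟩
      exact Central.commute hc ha (hE2 a ha) ((Cores.isPGroup_pCore 2).map _) hn' (hR ⟨f, hf, rfl⟩)
  have hacen : ∀ x : G, a * x = x * a := by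
    intro x
    have hx : x ∈ Subgroup.centralizer {a} := by
      refine (Subgroup.closure_le _).2 (fun y hy => ?_) (hgen ▸ Subgroup.mem_top x :
        x ∈ Subgroup.normalClosure (E : Set G))
      obtain ⟨e, he, hey⟩ := Group.mem_conjugatesOfSet_iff.1 hy
      obtain ⟨c, rfl⟩ := isConj_iff.1 hey
      rw [SetLike.mem_coe, Subgroup.mem_centralizer_singleton_iff]
      exact (hcommute c e he).symm
    exact (Subgroup.mem_centralizer_singleton_iff.1 hx).symm
  haveI : (Subgroup.zpowers a).Normal := ⟨fun z hz x => by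
    obtain ⟨k, rfl⟩ := hz
    rw [show x * a ^ k * x⁻¹ = a ^ k by
      rw [← (Commute.zpow_left (show Commute a x from hacen x) k).eq, mul_inv_cancel_right]]
    exact Subgroup.zpow_mem _ (Subgroup.mem_zpowers a) k⟩
  exact ha1 (Subgroup.mem_bot.1 (hQ ▸ Cores.le_pCore (isPGroup_zpowers_of_sq (hE2 a ha)) (Subgroup.mem_zpowers a)))

end Main

/-- Central quadratic best offenders lie in `O₂`. -/
theorem le_pCore {V G : Type u} [CommGroup V] [Finite V] [Group G] [Finite G] (φ : G →* MulAut V)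
    (hinj : Function.Injective φ) (h2 : ∀ v : V, v * v = 1) (hG : NoS3 G) (E : Subgroup G)
    (hq : Quad φ E) (hb : Best φ E) (hc : Central E) : E ≤ Cfsg.pCore 2 G := by
  suffices ∀ n, Smaller.{u} n from this (Nat.card G + Nat.card V + 1) V G φ (by omega) hinj h2 hG E hq hb hc
  intro n
  induction n with
  | zero => intro W _ _ H _ _ ψ h; omega
  | succ k ih =>
    intro W _ _ H _ _ ψ h hψ hw hH E hq hb hc
    rcases Nat.lt_succ_iff_lt_or_eq.1 h with h' | h'
    · exact ih W H ψ h' hψ hw hH E hq hb hc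
    · exact step ih h' hψ hw hH hq hb hc

end CfsgLib.Fusion.CentralOffender
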