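import Cfsg.Agent.Lib.Fusion.RankTwoOmega
import Cfsg.Prelude.Def_OddOrderLocal
import Mathlib

/-!
Huppert's criterion for metacyclic `p`-groups, `p > 3`.
-/

set_option autoImplicit false
set_option linter.style.haveILetI false

open scoped commutatorElement

namespace CfsgLib.Fusion.Huppert

universe u

variable {p : ℕ} [hp : Fact p.Prime]

/-- `Ω₁` has order at most `p ^ 2`. -/
def SmallOmega (p : ℕ) (R : Type u) [Group R] : Prop :=
  Nat.card ↥(Subgroup.closure {x : R | x ^ p = 1}) ≤ p ^ 2

variable {R : Type u} [Group R] [Finite R]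

theorem exists_exponent_subgroup (hp3 : 3 < p) (hR : IsPGroup p R) (h : ¬ SmallOmega p R) :
    ∃ U : Subgroup R, Nat.card U = p ^ 3 ∧ ∀ x ∈ U, x ^ p = 1 := by
  have key : ∀ V : Subgroup R, p ^ 3 ≤ Nat.card V → (∀ x ∈ V, x ^ p = 1) →
      ∃ U : Subgroup R, Nat.card U = p ^ 3 ∧ ∀ x ∈ U, x ^ p = 1 := by
    intro V hV hx
    obtain ⟨n, hn⟩ := (hR.to_subgroup V).exists_card_eq
    rw [hn] at hV
    have h3 := (Nat.pow_le_pow_iff_right hp.out.one_lt).1 hV
    obtain ⟨U, hU⟩ := Sylow.exists_subgroup_card_pow_prime p (G := V) (n := 3)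
      (by rw [hn]; exact pow_dvd_pow p h3)
    refine ⟨U.map V.subtype, by rw [Subgroup.card_map_of_injective V.subtype_injective, hU], ?_⟩
    rintro _ ⟨x, -, rfl⟩
    exact hx x x.2
  by_cases hrk : ∀ E : Subgroup R, Cfsg.IsElementaryAbelian p E → Nat.card E ≤ p ^ 2
  · refine key _ ?_ (RankTwoOmega.pow_eq_one_of_mem_closure hp3 hR hrk)
    obtain ⟨n, hn⟩ := (hR.to_subgroup (Subgroup.closure {x : R | x ^ p = 1})).exists_card_eq
    simp only [SmallOmega, not_le] at h
    rw [hn] at h ⊢
    exact Nat.pow_le_pow_right hp.out.pos ((Nat.pow_lt_pow_iff_right hp.out.one_lt).1 h)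
  · push Not at hrk
    obtain ⟨E, hE, hlt⟩ := hrk
    refine key E ?_ hE.2
    obtain ⟨n, hn⟩ := (hR.to_subgroup E).exists_card_eq
    rw [hn] at hlt ⊢
    exact Nat.pow_le_pow_right hp.out.pos ((Nat.pow_lt_pow_iff_right hp.out.one_lt).1 hlt)

/-- Small `Ω₁` passes to a quotient by a central subgroup of order `p`. -/
theorem smallOmega_quotient_central (hp3 : 3 < p) (hR : IsPGroup p R) (hS : SmallOmega p R) {z : R}
    (hz : orderOf z = p) [(Subgroup.zpowers z).Normal] (hzc : z ∈ Subgroup.center R) :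
    SmallOmega p (R ⧸ Subgroup.zpowers z) := by
  by_contra hcon
  obtain ⟨U, hU, hUx⟩ := exists_exponent_subgroup hp3 (hR.to_quotient _) hcon
  set Z := Subgroup.zpowers z with hZ
  set q := QuotientGroup.mk' Z
  have hzp : z ^ p = 1 := by rw [← hz, pow_orderOf_eq_one]
  set V := U.comap q with hV
  have hmemU : ∀ v : V, q (v : R) ∈ U := fun v => v.2
  -- a quotient of order `p ^ 3` and exponent `p` has central derived subgroup
  have hcentral : ∀ g h k : R, g ∈ V → h ∈ V → k ∈ V → ⁅g, ⁅h, k⁆⁆ ∈ Z := by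
    intro g h k hg hh hk
    have hUp : IsPGroup p U := (hR.to_quotient Z).to_subgroup U
    haveI := hUp.isNilpotent
    haveI : Nontrivial U := Finite.one_lt_card_iff_nontrivial.1 (by
      rw [hU]; exact Nat.one_lt_pow (by norm_num) hp.out.one_lt)
    haveI := hUp.center_nontrivial
    obtain ⟨j, hj⟩ := (hUp.to_subgroup (Subgroup.center U)).exists_card_eq
    have hj1 : 1 ≤ j := Nat.one_le_iff_ne_zero.2 fun h0 => by
      have := Finite.one_lt_card (α := Subgroup.center U)
      rw [hj, h0, pow_zero] at this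
      omega
    have hidx : (Subgroup.center U).index ∣ p ^ 2 := by
      have h1 := Subgroup.card_mul_index (Subgroup.center U)
      rw [hU, hj] at h1
      obtain ⟨i, -, hi⟩ := (Nat.dvd_prime_pow hp.out).1 (⟨_, h1.symm.trans (mul_comm _ _)⟩ :
        (Subgroup.center U).index ∣ p ^ 3)
      rw [hi, ← pow_add] at h1
      have := Nat.pow_right_injective hp.out.two_le h1
      rw [hi]
      exact pow_dvd_pow p (by omega)
    have hab : ∀ a b : U, ⁅a, b⁆ ∈ Subgroup.center U := by
      intro a b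
      obtain ⟨i, hi, hi'⟩ := (Nat.dvd_prime_pow hp.out).1 hidx
      have hcard : Nat.card (U ⧸ Subgroup.center U) = p ^ i := by rw [← Subgroup.index_eq_card, hi']
      rw [← QuotientGroup.eq_one_iff]
      show QuotientGroup.mk' _ ⁅a, b⁆ = 1
      rw [map_commutatorElement, commutatorElement_eq_one_iff_mul_comm]
      interval_cases i
      · haveI := (Nat.card_eq_one_iff_unique.1 (hcard.trans (pow_zero p))).1
        exact Subsingleton.elim _ _
      · haveI : IsCyclic (U ⧸ Subgroup.center U) := isCyclic_of_prime_card (p := p) (by rw [hcard, pow_one])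
        letI : CommGroup (U ⧸ Subgroup.center U) := IsCyclic.commGroup
        exact mul_comm _ _
      · haveI := IsPGroup.isMulCommutative_of_card_eq_prime_sq hcard
        exact mul_comm' _ _
    rw [← QuotientGroup.eq_one_iff]
    show q ⁅g, ⁅h, k⁆⁆ = 1
    rw [map_commutatorElement, map_commutatorElement]
    have h1 := Subgroup.mem_center_iff.1 (hab ⟨q h, hh⟩ ⟨q k, hk⟩) ⟨q g, hg⟩
    exact congrArg Subtype.val (commutatorElement_eq_one_iff_mul_comm.2 h1)
  have hsc : ClassThree.SmallClass p V := by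
    refine ⟨by omega, fun g h k => Subgroup.mem_center_iff.2 fun t => Subtype.ext ?_, Or.inl hp3⟩
    obtain ⟨i, hi⟩ := hcentral g h k g.2 h.2 k.2
    have hmem : ⁅(g : R), ⁅(h : R), (k : R)⁆⁆ ∈ Subgroup.center R := hi ▸ zpow_mem hzc i
    exact Subgroup.mem_center_iff.1 hmem (t : R)
  have hpow : ∀ v : V, (v : R) ^ p ∈ Z := fun v => by
    rw [← QuotientGroup.eq_one_iff]
    show q ((v : R) ^ p) = 1
    rw [map_pow]
    exact hUx _ v.2
  have hZp : ∀ w ∈ Z, w ^ p = 1 := by
    rintro w ⟨i, rfl⟩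
    rw [← zpow_natCast, ← zpow_mul, mul_comm, zpow_mul, zpow_natCast, hzp, one_zpow]
  have hcomm : ∀ a b : V, ⁅a, b⁆ ^ p = 1 := by
    intro a b
    have hsw : a * b * a⁻¹ = ⁅a, b⁆ * b := by rw [commutatorElement_def]; group
    have hbp : (⁅a, b⁆ * b) ^ p = b ^ p := by
      rw [← hsw, conj_pow]
      refine Subtype.ext ?_
      obtain ⟨i, hi⟩ := hpow b
      show (a : R) * (b : R) ^ p * (a : R)⁻¹ = (b : R) ^ p
      rw [← hi, Subgroup.mem_center_iff.1 (zpow_mem hzc i) (a : R), mul_inv_cancel_right]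
    set c := ⁅a, b⁆ with hc
    obtain ⟨h1, -, h3'⟩ := ClassThree.dvd_choose hsc
    set a' := ⁅c, ⁅b, c⁆⁆
    set b' := ⁅b, ⁅b, c⁆⁆
    rw [ClassThree.mul_pow_eq (x := c) (y := b) (c := ⁅b, c⁆) (a := a') (b := b')
      (ClassThree.swap_eq c b) (ClassThree.swap_eq ⁅b, c⁆ c) (ClassThree.swap_eq ⁅b, c⁆ b)
      (hsc.central _ _ _) (hsc.central _ _ _)] at hbp
    have hZ' : ∀ g h k : V, (⁅g, ⁅h, k⁆⁆ : V) ^ p = 1 := fun g h k =>
      Subtype.ext (hZp _ (hcentral g h k g.2 h.2 k.2))
    have hbc : (⁅b, c⁆ : V) ^ p = 1 := hZ' b a b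
    obtain ⟨k, hk⟩ := h1
    obtain ⟨m, hm⟩ := h3' hp3
    have e : ∀ t : V, t ^ p = 1 → ∀ i, (t⁻¹) ^ (p * i) = 1 := fun t ht i => by
      rw [_root_.pow_mul, inv_pow, ht, inv_one, one_pow]
    rw [hk, _root_.pow_mul, hbc, one_pow, mul_one, hm, e a' (hZ' _ _ _), mul_left_comm 2 p,
      e b' (hZ' _ _ _), mul_one, mul_one] at hbp
    exact mul_eq_right.1 hbp
  let f : V →* Z := MonoidHom.mk' (fun v => ⟨(v : R) ^ p, hpow v⟩) fun a b =>
    Subtype.ext (by simpa using congrArg Subtype.val (ClassThree.pow_mul hsc a b hcomm))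
  have hker : f.ker.map V.subtype ≤ Subgroup.closure {x : R | x ^ p = 1} := by
    rintro _ ⟨v, hv, rfl⟩
    exact Subgroup.subset_closure (show (v : R) ^ p = 1 from congrArg Subtype.val hv)
  have hcardV : Nat.card V = p ^ 4 := by
    have h1 : Nat.card V = Nat.card U * Nat.card Z := by
      rw [← Subgroup.card_mul_index (Z.subgroupOf V),
        Nat.card_congr (Subgroup.subgroupOfEquivOfLe (show Z ≤ V from fun w hw => by
          show q w ∈ U
          rw [show q w = 1 from (QuotientGroup.eq_one_iff w).2 hw]; exact one_mem U)).toEquiv, mul_comm]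
      congr 1
      show Z.relIndex V = Nat.card U
      have hker : Z = (⊥ : Subgroup (R ⧸ Z)).comap q := by
        rw [MonoidHom.comap_bot]; exact (QuotientGroup.ker_mk' _).symm
      calc Z.relIndex V = ((⊥ : Subgroup (R ⧸ Z)).comap q).relIndex (U.comap q) := by rw [← hker]
        _ = Nat.card U := by
          rw [Subgroup.relIndex_comap, Subgroup.map_comap_eq_self_of_surjective
            (QuotientGroup.mk'_surjective Z), Subgroup.relIndex_bot_left]
    rw [h1, hU, hZ, Nat.card_zpowers, hz]; ring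
  have h5 := Subgroup.card_mul_index f.ker
  rw [hcardV] at h5
  have h6 : f.ker.index ≤ p := by
    rw [Subgroup.index_ker]
    exact (Subgroup.card_le_card_group _).trans (le_of_eq (by rw [hZ, Nat.card_zpowers, hz]))
  have h7 := Subgroup.card_le_of_le hker
  rw [Subgroup.card_map_of_injective V.subtype_injective] at h7
  have h8 : p ^ 4 ≤ p ^ 2 * p := h5.symm.le.trans (Nat.mul_le_mul (h7.trans hS) h6)
  rw [← pow_succ] at h8
  exact absurd ((Nat.pow_le_pow_iff_right hp.out.one_lt).1 h8) (by norm_num)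

theorem smallOmega_congr {S : Type u} [Group S] (e : R ≃* S) (h : SmallOmega p R) : SmallOmega p S := by
  refine le_trans (le_of_eq ?_) h
  rw [show Subgroup.closure {x : S | x ^ p = 1} = (Subgroup.closure {x : R | x ^ p = 1}).map e.toMonoidHom by
    rw [MonoidHom.map_closure]; congr 1; ext y
    constructor
    · exact fun hy => ⟨e.symm y, by show (e.symm y) ^ p = 1; rw [← map_pow, hy, map_one], e.apply_symm_apply y⟩
    · rintro ⟨x, hx, rfl⟩; show (e x) ^ p = 1; rw [← map_pow, hx, map_one]]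
  exact Subgroup.card_map_of_injective e.injective

/-- Small `Ω₁` passes to all quotients. -/
theorem smallOmega_quotient (hp3 : 3 < p) (hR : IsPGroup p R) (hS : SmallOmega p R) :
    ∀ (T : Subgroup R) [T.Normal], SmallOmega p (R ⧸ T) := by
  intro T hT
  induction hn : Nat.card R using Nat.strong_induction_on generalizing R with
  | _ n ih =>
    subst hn
    by_cases hbot : T = ⊥
    · subst hbot
      exact smallOmega_congr (QuotientGroup.quotientBot).symm hS
    haveI := hR.isNilpotent
    have hne := CfsgLib.Solvable.FrattiniFitting.inf_center_ne_bot T hbot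
    obtain ⟨i, hi⟩ := (hR.to_subgroup (T ⊓ Subgroup.center R : Subgroup R)).exists_card_eq
    obtain ⟨z, hz⟩ := exists_prime_orderOf_dvd_card' (G := (T ⊓ Subgroup.center R : Subgroup R)) p (by
      rw [hi]; exact dvd_pow_self p fun h0 => hne (Subgroup.eq_bot_of_card_eq _ (by rw [hi, h0, pow_zero])))
    rw [← Subgroup.orderOf_coe] at hz
    obtain ⟨hzT, hzc⟩ := Subgroup.mem_inf.1 z.2
    set Z := Subgroup.zpowers (z : R)
    haveI : Z.Normal := ⟨fun w hw g => by
      obtain ⟨j, rfl⟩ := Subgroup.mem_zpowers_iff.1 hw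
      rw [Subgroup.mem_center_iff.1 (zpow_mem hzc j) g, mul_inv_cancel_right]; exact hw⟩
    have hlt : Nat.card (R ⧸ Z) < Nat.card R := by
      rw [Subgroup.card_eq_card_quotient_mul_card_subgroup Z]
      exact lt_mul_of_one_lt_right Nat.card_pos (by rw [Nat.card_zpowers, hz]; exact hp.out.one_lt)
    have h1 := ih _ hlt (hR.to_quotient Z) (smallOmega_quotient_central hp3 hR hS hz hzc)
      (T.map (QuotientGroup.mk' Z)) rfl
    exact smallOmega_congr (QuotientGroup.quotientQuotientEquivQuotient Z T (Subgroup.zpowers_le.2 hzT)) h1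

/-- The metacyclic step for a derived subgroup of order `p`. -/
theorem metacyclic_of_card_commutator (hp3 : 3 < p) (hR : IsPGroup p R) (hS : SmallOmega p R) {z : R}
    (hz : orderOf z = p) (hzc : z ∈ Subgroup.center R) (hD : commutator R = Subgroup.zpowers z) :
    Cfsg.IsMetacyclic R := by
  have hzp : z ^ p = 1 := by rw [← hz, pow_orderOf_eq_one]
  have hc : ∀ a b : R, ⁅a, b⁆ ∈ Subgroup.zpowers z := fun a b =>
    hD ▸ Subgroup.commutator_mem_commutator (Subgroup.mem_top a) (Subgroup.mem_top b)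
  have hsc : ClassThree.SmallClass p R := by
    refine ⟨by omega, fun g h k => ?_, Or.inl hp3⟩
    obtain ⟨i, hi⟩ := hc g ⁅h, k⁆
    exact hi ▸ zpow_mem hzc i
  let f : R →* R := MonoidHom.mk' (fun x => x ^ p) fun a b => ClassThree.pow_mul hsc a b fun u v => by
    obtain ⟨i, hi⟩ := hc u v
    rw [← hi, ← zpow_natCast, ← zpow_mul, mul_comm, zpow_mul, zpow_natCast, hzp, one_zpow]
  set Φ := f.range ⊔ Subgroup.zpowers z with hΦ
  haveI hΦn : Φ.Normal := ⟨fun w hw g => by
    rw [show g * w * g⁻¹ = ⁅g, w⁆ * w by rw [commutatorElement_def]; group]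
    exact mul_mem (Subgroup.mem_sup_right (hc g w)) hw⟩
  have hquot : Nat.card (R ⧸ Φ) ≤ p ^ 2 := by
    refine le_trans (le_of_eq ?_) (smallOmega_quotient hp3 hR hS Φ)
    rw [show Subgroup.closure {x : R ⧸ Φ | x ^ p = 1} = ⊤ from eq_top_iff.2 fun x _ => Subgroup.subset_closure (by
      obtain ⟨r, rfl⟩ := QuotientGroup.mk'_surjective Φ x
      show (QuotientGroup.mk' Φ r) ^ p = 1
      rw [← map_pow]
      exact (QuotientGroup.eq_one_iff _).2 (Subgroup.mem_sup_left ⟨r, rfl⟩)), Subgroup.card_top]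
  have hfrat : Φ ≤ frattini R :=
    sup_le (by rintro _ ⟨x, rfl⟩; exact CfsgLib.PGroup.Frattini.pow_mem_frattini hR x)
      (hD ▸ (Subgroup.commutator_le.2 fun a _ b _ =>
        CfsgLib.PGroup.Frattini.commutatorElement_mem_frattini hR a b))
  -- `z` is a `p`-th power
  have hzpow : z ∈ f.range := by
    by_contra hzn
    have hinf : f.range ⊓ Subgroup.zpowers z = ⊥ := by
      have hd := Subgroup.card_dvd_of_le (inf_le_right : f.range ⊓ Subgroup.zpowers z ≤ _)
      rw [Nat.card_zpowers, hz] at hd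
      rcases hp.out.eq_one_or_self_of_dvd _ hd with h | h
      · exact Subgroup.eq_bot_of_card_eq _ h
      · exact absurd (inf_eq_right.1 (Subgroup.eq_of_le_of_card_ge inf_le_right
          (by rw [h, Nat.card_zpowers, hz])) (Subgroup.mem_zpowers z)) hzn
    have h1 := Thompson.card_sup_mul_card_inf (N := f.range) (K := Subgroup.zpowers z) (by
      refine Subgroup.zpowers_le.2 (Subgroup.mem_normalizer_iff.2 fun y => ?_)
      rw [← Subgroup.mem_center_iff.1 hzc y, mul_inv_cancel_right])
    rw [hinf, Subgroup.card_bot, mul_one, Nat.card_zpowers, hz] at h1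
    have hidx : p ^ 2 ≤ Φ.index := by
      obtain ⟨k, hk⟩ := hR.index Φ
      rw [hk]
      refine Nat.pow_le_pow_right hp.out.pos ?_
      by_contra hk2
      have : IsCyclic (R ⧸ Φ) := by
        rcases Nat.le_one_iff_eq_zero_or_eq_one.1 (show k ≤ 1 by omega) with rfl | rfl
        · haveI := (Nat.card_eq_one_iff_unique.1 (show Nat.card (R ⧸ Φ) = 1 by rw [← Subgroup.index_eq_card, hk, pow_zero])).1
          exact isCyclic_of_subsingleton
        · exact isCyclic_of_prime_card (p := p) (by rw [← Subgroup.index_eq_card, hk, pow_one])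
      obtain ⟨g, hg⟩ := this.exists_generator
      obtain ⟨r, rfl⟩ := QuotientGroup.mk'_surjective Φ g
      have htop : Subgroup.zpowers r = ⊤ := by
        refine frattini_nongenerating (eq_top_iff.2 fun x _ => ?_)
        obtain ⟨i, hi⟩ := hg (QuotientGroup.mk' Φ x)
        have : (r ^ i)⁻¹ * x ∈ Φ := by
          rw [← QuotientGroup.eq_one_iff]
          show QuotientGroup.mk' Φ ((r ^ i)⁻¹ * x) = 1
          rw [map_mul, map_inv, map_zpow, ← hi]; exact inv_mul_cancel _
        rw [show x = r ^ i * ((r ^ i)⁻¹ * x) by group]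
        exact Subgroup.mul_mem_sup (zpow_mem (Subgroup.mem_zpowers r) i) (hfrat this)
      have hab : ∀ a b : R, ⁅a, b⁆ = 1 := fun a b => by
        obtain ⟨i, rfl⟩ := Subgroup.mem_zpowers_iff.1 (htop.ge (Subgroup.mem_top a))
        obtain ⟨j, rfl⟩ := Subgroup.mem_zpowers_iff.1 (htop.ge (Subgroup.mem_top b))
        exact commutatorElement_eq_one_iff_mul_comm.2 ((Commute.refl r).zpow_zpow i j).eq
      have : commutator R = ⊥ := le_bot_iff.1 (Subgroup.commutator_le.2 fun a _ b _ => by simp [hab a b])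
      rw [hD, Subgroup.zpowers_eq_bot] at this
      rw [this, orderOf_one] at hz
      exact hp.out.ne_one hz.symm
    have h2 := Subgroup.card_mul_index Φ
    have h3 := Subgroup.card_mul_index f.ker
    rw [Subgroup.index_ker] at h3
    have h4 : Nat.card f.ker ≤ p ^ 2 := le_trans (Subgroup.card_le_of_le fun x hx =>
      Subgroup.subset_closure (show x ^ p = 1 from hx)) hS
    have h5 : Nat.card f.range * p * p ^ 2 ≤ Nat.card f.range * p ^ 2 := by
      calc Nat.card f.range * p * p ^ 2 ≤ Nat.card Φ * Φ.index := by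
            rw [← h1]; exact Nat.mul_le_mul_left _ hidx
        _ = Nat.card f.ker * Nat.card f.range := h2.trans h3.symm
        _ ≤ p ^ 2 * Nat.card f.range := Nat.mul_le_mul_right _ h4
        _ = _ := mul_comm _ _
    rw [mul_assoc] at h5
    have h6 := Nat.le_of_mul_le_mul_left h5 Nat.card_pos
    have h7 : 1 * p ^ 2 < p * p ^ 2 := Nat.mul_lt_mul_of_pos_right hp.out.one_lt (pow_pos hp.out.pos 2)
    omega
  obtain ⟨g₀, hg₀⟩ := hzpow
  have hg₀' : z ∈ Subgroup.zpowers g₀ := hg₀ ▸ pow_mem (Subgroup.mem_zpowers g₀) p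
  obtain ⟨g, ⟨hgz, hgo⟩, hmax⟩ := Set.exists_max_image {g : R | z ∈ Subgroup.zpowers g ∧ p < orderOf g}
    orderOf (Set.toFinite _) ⟨g₀, hg₀', by
      refine lt_of_le_of_ne (Nat.le_of_dvd (orderOf_pos g₀) ?_) fun h => ?_
      · rw [← hz, ← Nat.card_zpowers, ← Nat.card_zpowers]
        exact Subgroup.card_dvd_of_le (Subgroup.zpowers_le.2 hg₀')
      · have : z = 1 := by rw [← hg₀]; show g₀ ^ p = 1; rw [h, pow_orderOf_eq_one]
        rw [this, orderOf_one] at hz
        exact hp.out.ne_one hz.symm⟩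
  have hgΦ : g ∉ Φ := by
    intro hg
    rw [hΦ, ← SetLike.mem_coe, Subgroup.coe_mul_of_right_le_normalizer_left _ _
      (Subgroup.zpowers_le.2 (Subgroup.mem_normalizer_iff.2 fun y => by
        rw [← Subgroup.mem_center_iff.1 hzc y, mul_inv_cancel_right]))] at hg
    obtain ⟨_, ⟨h, rfl⟩, w, hw, hgw⟩ := Set.mem_mul.1 hg
    obtain ⟨i, rfl⟩ := Subgroup.mem_zpowers_iff.1 hw
    have hhp : h ^ p = g * (z ^ i)⁻¹ := by rw [← hgw, mul_inv_cancel_right]; rfl
    obtain ⟨s, hs⟩ := (hR h)
    have hgh : g ∈ Subgroup.zpowers h ⊔ Subgroup.zpowers z := by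
      rw [← hgw]
      exact Subgroup.mul_mem_sup (pow_mem (Subgroup.mem_zpowers h) p) hw
    -- `g` has order larger than `p`, so its order is that of `h ^ p`
    have hgp : g ^ p = (h ^ p) ^ p := by
      rw [hhp, (show Commute g (z ^ i)⁻¹ from ((Subgroup.mem_center_iff.1 (inv_mem (zpow_mem hzc i))) g)).mul_pow,
        inv_pow, ← zpow_natCast (z ^ i), ← zpow_mul, mul_comm i, zpow_mul, zpow_natCast, hzp, one_zpow,
        inv_one, mul_one]
    obtain ⟨k, hk⟩ := IsPGroup.iff_orderOf.1 hR g
    have hk1 : 1 < k := by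
      rw [hk] at hgo
      exact (Nat.pow_lt_pow_iff_right hp.out.one_lt).1 (by rw [pow_one]; exact hgo)
    have hzg : z ∈ Subgroup.zpowers (g ^ p) := by
      obtain ⟨j, hj⟩ := hgz
      have hdvd : (p : ℤ) ∣ j := by
        by_contra hnd
        have hcop : (j.natAbs).Coprime (orderOf g) := by
          rw [hk]
          exact (Nat.Coprime.pow_right k ((hp.out.coprime_iff_not_dvd.2 fun h => hnd (Int.natCast_dvd.2 h)).symm))
        have hoz : orderOf (g ^ j) = orderOf g := by
          rcases Int.natAbs_eq j with e | e <;> rw [e]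
          · rw [zpow_natCast, hcop.symm.orderOf_pow]
          · rw [zpow_neg, orderOf_inv, zpow_natCast, hcop.symm.orderOf_pow]
        rw [show g ^ j = z from hj, hz] at hoz
        omega
      obtain ⟨m, rfl⟩ := hdvd
      exact ⟨m, by rw [← hj]; show (g ^ p) ^ m = g ^ ((p : ℤ) * m); rw [zpow_mul, zpow_natCast]⟩
    have hord : orderOf g * p ≤ orderOf h := by
      obtain ⟨l, hl⟩ := IsPGroup.iff_orderOf.1 hR h
      have e1 : orderOf (g ^ p) = p ^ (k - 1) := by
        rw [orderOf_pow' g hp.out.ne_zero, hk, Nat.gcd_eq_right (dvd_pow_self p (by omega)),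
          ← Nat.pow_div (by omega) hp.out.pos, pow_one]
      rw [hgp, ← pow_mul, orderOf_pow' h (Nat.mul_ne_zero hp.out.ne_zero hp.out.ne_zero), hl] at e1
      have hl2 : 2 ≤ l := by
        by_contra hlt
        have hd : p ^ l ∣ p * p := by rw [← sq]; exact pow_dvd_pow p (by omega)
        rw [Nat.gcd_eq_left hd, Nat.div_self (pow_pos hp.out.pos l)] at e1
        exact absurd (Nat.pow_right_injective hp.out.two_le (e1.symm.trans (pow_zero p).symm)) (by omega)
      rw [show p * p = p ^ 2 by ring, Nat.gcd_eq_right (pow_dvd_pow p hl2), Nat.pow_div hl2 hp.out.pos] at e1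
      have := Nat.pow_right_injective hp.out.two_le e1
      rw [hk, hl, ← pow_succ]
      exact Nat.pow_le_pow_right hp.out.pos (by omega)
    have hzh : z ∈ Subgroup.zpowers h := by
      have h1 : Subgroup.zpowers (g ^ p) ≤ Subgroup.zpowers h := by
        rw [hgp]; exact Subgroup.zpowers_le.2 (pow_mem (pow_mem (Subgroup.mem_zpowers h) p) p)
      exact h1 hzg
    have hgpos := orderOf_pos g
    have hlt : orderOf g < orderOf h := lt_of_lt_of_le (lt_mul_of_one_lt_right hgpos hp.out.one_lt) hord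
    exact absurd (hmax h ⟨hzh, by omega⟩) (not_le.2 hlt)
  haveI hgn : (Subgroup.zpowers g).Normal := ⟨fun w hw r => by
    rw [show r * w * r⁻¹ = ⁅r, w⁆ * w by rw [commutatorElement_def]; group]
    exact mul_mem ((Subgroup.zpowers_le.2 hgz) (hc r w)) hw⟩
  refine ⟨Subgroup.zpowers g, hgn, inferInstance, ?_⟩
  set M := Φ ⊔ Subgroup.zpowers g with hM
  obtain ⟨y, hy⟩ : ∃ y : R, M ⊔ Subgroup.zpowers y = ⊤ := by
    by_cases hMt : M = ⊤
    · exact ⟨1, by rw [hMt, top_sup_eq]⟩
    obtain ⟨y, hy⟩ := SetLike.exists_not_mem_of_ne_top _ hMt rfl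
    refine ⟨y, Subgroup.eq_top_of_le_card _ ?_⟩
    have hlt1 : Φ < M := lt_of_le_of_ne le_sup_left fun h => hgΦ (h ▸ Subgroup.mem_sup_right (Subgroup.mem_zpowers g))
    have hlt2 : M < M ⊔ Subgroup.zpowers y := lt_of_le_of_ne le_sup_left fun h =>
      hy (h ▸ Subgroup.mem_sup_right (Subgroup.mem_zpowers y))
    obtain ⟨a, ha⟩ := (hR.to_subgroup Φ).exists_card_eq
    obtain ⟨b, hb⟩ := (hR.to_subgroup M).exists_card_eq
    obtain ⟨c, hc'⟩ := (hR.to_subgroup (M ⊔ Subgroup.zpowers y)).exists_card_eq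
    have h1 := CfsgLib.PGroup.Regular.card_lt_of_lt hlt1
    have h2 := CfsgLib.PGroup.Regular.card_lt_of_lt hlt2
    rw [ha, hb] at h1
    rw [hb, hc'] at h2
    have h1' := (Nat.pow_lt_pow_iff_right hp.out.one_lt).1 h1
    have h2' := (Nat.pow_lt_pow_iff_right hp.out.one_lt).1 h2
    rw [hc', ← Subgroup.card_mul_index Φ, ha, Subgroup.index_eq_card]
    exact (Nat.mul_le_mul_left _ hquot).trans
      (by rw [← pow_add]; exact Nat.pow_le_pow_right hp.out.pos (by omega))
  have htop : Subgroup.zpowers g ⊔ Subgroup.zpowers y = ⊤ := by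
    refine frattini_nongenerating (eq_top_iff.2 ?_)
    rw [← hy]
    exact sup_le (sup_le (hfrat.trans le_sup_right) (le_sup_left.trans le_sup_left))
      (le_sup_right.trans le_sup_left)
  refine ⟨⟨QuotientGroup.mk' _ y, fun x => ?_⟩⟩
  obtain ⟨r, rfl⟩ := QuotientGroup.mk'_surjective _ x
  have hr : QuotientGroup.mk' (Subgroup.zpowers g) r ∈
      (Subgroup.zpowers g ⊔ Subgroup.zpowers y).map (QuotientGroup.mk' (Subgroup.zpowers g)) :=
    Subgroup.mem_map_of_mem _ (htop.ge (Subgroup.mem_top r))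
  rwa [Subgroup.map_sup, show (Subgroup.zpowers g).map (QuotientGroup.mk' (Subgroup.zpowers g)) = ⊥ by
    rw [Subgroup.map_eq_bot_iff, QuotientGroup.ker_mk'], bot_sup_eq, MonoidHom.map_zpowers] at hr

/-- Huppert's criterion. -/
theorem isMetacyclic (hp3 : 3 < p) (hR : IsPGroup p R) (hS : SmallOmega p R) : Cfsg.IsMetacyclic R := by
  induction hn : Nat.card R using Nat.strong_induction_on generalizing R with
  | _ n ih =>
    subst hn
    haveI := hR.isNilpotent
    by_cases hab : commutator R = ⊥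
    · -- abelian, two generators
      have hcomm : ∀ a b : R, a * b = b * a := fun a b => commutatorElement_eq_one_iff_mul_comm.1
        (Subgroup.mem_bot.1 (hab ▸ Subgroup.commutator_mem_commutator (Subgroup.mem_top a) (Subgroup.mem_top b)))
      letI : CommGroup R := { (inferInstance : Group R) with mul_comm := hcomm }
      set Φ := (powMonoidHom p : R →* R).range with hΦ
      have hquot : Nat.card (R ⧸ Φ) ≤ p ^ 2 := by
        refine le_trans (le_of_eq ?_) (smallOmega_quotient hp3 hR hS Φ)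
        rw [show Subgroup.closure {x : R ⧸ Φ | x ^ p = 1} = ⊤ from eq_top_iff.2 fun x _ => Subgroup.subset_closure (by
          obtain ⟨r, rfl⟩ := QuotientGroup.mk'_surjective Φ x
          show (QuotientGroup.mk' Φ r) ^ p = 1
          rw [← map_pow]
          exact (QuotientGroup.eq_one_iff _).2 ⟨r, rfl⟩), Subgroup.card_top]
      have hfrat : Φ ≤ frattini R := by
        rintro _ ⟨x, rfl⟩; exact CfsgLib.PGroup.Frattini.pow_mem_frattini hR x
      have hstep : ∀ M : Subgroup R, Φ ≤ M → M ≠ ⊤ → ∃ y, Nat.card M * p ≤ Nat.card ↥(M ⊔ Subgroup.zpowers y) := by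
        intro M _ hMt
        obtain ⟨y, hy⟩ := SetLike.exists_not_mem_of_ne_top _ hMt rfl
        have hlt : M < M ⊔ Subgroup.zpowers y := lt_of_le_of_ne le_sup_left fun h =>
          hy (h ▸ Subgroup.mem_sup_right (Subgroup.mem_zpowers y))
        refine ⟨y, ?_⟩
        obtain ⟨a, ha⟩ := (hR.to_subgroup M).exists_card_eq
        obtain ⟨c, hc⟩ := (hR.to_subgroup (M ⊔ Subgroup.zpowers y)).exists_card_eq
        have h1 := CfsgLib.PGroup.Regular.card_lt_of_lt hlt
        rw [ha, hc] at h1
        rw [ha, hc, ← pow_succ]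
        exact Nat.pow_le_pow_right hp.out.pos ((Nat.pow_lt_pow_iff_right hp.out.one_lt).1 h1)
      obtain ⟨g, y, hgy⟩ : ∃ g y : R, Φ ⊔ Subgroup.zpowers g ⊔ Subgroup.zpowers y = ⊤ := by
        by_cases h0 : Φ = ⊤
        · exact ⟨1, 1, by rw [h0, top_sup_eq, top_sup_eq]⟩
        obtain ⟨g, hg⟩ := hstep Φ le_rfl h0
        by_cases h1 : Φ ⊔ Subgroup.zpowers g = ⊤
        · exact ⟨g, 1, by rw [h1, top_sup_eq]⟩
        obtain ⟨y, hy⟩ := hstep _ le_sup_left h1
        refine ⟨g, y, Subgroup.eq_top_of_le_card _ ?_⟩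
        rw [← Subgroup.card_mul_index Φ, Subgroup.index_eq_card]
        refine le_trans ?_ ((Nat.mul_le_mul_right p hg).trans hy)
        rw [mul_assoc, ← sq]
        exact Nat.mul_le_mul_left _ hquot
      have htop : Subgroup.zpowers g ⊔ Subgroup.zpowers y = ⊤ := by
        refine frattini_nongenerating (eq_top_iff.2 ?_)
        rw [← hgy]
        exact sup_le (sup_le (hfrat.trans le_sup_right) (le_sup_left.trans le_sup_left))
          (le_sup_right.trans le_sup_left)
      refine ⟨Subgroup.zpowers g, inferInstance, inferInstance, ⟨⟨QuotientGroup.mk' _ y, fun x => ?_⟩⟩⟩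
      obtain ⟨r, rfl⟩ := QuotientGroup.mk'_surjective _ x
      have hr : QuotientGroup.mk' (Subgroup.zpowers g) r ∈
          (Subgroup.zpowers g ⊔ Subgroup.zpowers y).map (QuotientGroup.mk' (Subgroup.zpowers g)) :=
        Subgroup.mem_map_of_mem _ (htop.ge (Subgroup.mem_top r))
      rwa [Subgroup.map_sup, show (Subgroup.zpowers g).map (QuotientGroup.mk' (Subgroup.zpowers g)) = ⊥ by
        rw [Subgroup.map_eq_bot_iff, QuotientGroup.ker_mk'], bot_sup_eq, MonoidHom.map_zpowers] at hr
    · have hne := CfsgLib.Solvable.FrattiniFitting.inf_center_ne_bot (commutator R) hab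
      obtain ⟨i, hi⟩ := (hR.to_subgroup (commutator R ⊓ Subgroup.center R : Subgroup R)).exists_card_eq
      obtain ⟨z₀, hz⟩ := exists_prime_orderOf_dvd_card' (G := (commutator R ⊓ Subgroup.center R : Subgroup R)) p (by
        rw [hi]; exact dvd_pow_self p fun h0 => hne (Subgroup.eq_bot_of_card_eq _ (by rw [hi, h0, pow_zero])))
      rw [← Subgroup.orderOf_coe] at hz
      obtain ⟨hzD, hzc⟩ := Subgroup.mem_inf.1 z₀.2
      set z := (z₀ : R)
      set Z := Subgroup.zpowers z
      haveI : Z.Normal := ⟨fun w hw g => by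
        obtain ⟨j, rfl⟩ := Subgroup.mem_zpowers_iff.1 hw
        rw [Subgroup.mem_center_iff.1 (zpow_mem hzc j) g, mul_inv_cancel_right]; exact hw⟩
      by_cases hDZ : commutator R = Z
      · exact metacyclic_of_card_commutator hp3 hR hS hz hzc hDZ
      have hlt : Nat.card (R ⧸ Z) < Nat.card R := by
        rw [Subgroup.card_eq_card_quotient_mul_card_subgroup Z]
        exact lt_mul_of_one_lt_right Nat.card_pos (by rw [Nat.card_zpowers, hz]; exact hp.out.one_lt)
      obtain ⟨Nb, hNb, hNc, hQc⟩ := ih _ hlt (hR.to_quotient Z) (smallOmega_quotient hp3 hR hS Z) rfl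
      haveI := hNb
      set π := QuotientGroup.mk' Z
      refine ⟨Nb.comap π, inferInstance, ?_, ?_⟩
      swap
      · haveI := hQc
        refine isCyclic_of_injective (QuotientGroup.map (Nb.comap π) Nb π le_rfl) ?_
        refine (MonoidHom.ker_eq_bot_iff _).mp (eq_bot_iff.mpr fun x hx => ?_)
        obtain ⟨a, rfl⟩ := QuotientGroup.mk'_surjective (Nb.comap π) x
        rw [MonoidHom.mem_ker, QuotientGroup.mk'_apply, QuotientGroup.map_mk, QuotientGroup.eq_one_iff] at hx
        exact Subgroup.mem_bot.mpr ((QuotientGroup.eq_one_iff a).mpr hx)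
      obtain ⟨⟨ab, hab'⟩, hgen⟩ := hNc.exists_generator
      obtain ⟨a, rfl⟩ := QuotientGroup.mk'_surjective Z ab
      have hNeq : Nb.comap π ≤ Subgroup.zpowers a ⊔ Z := by
        intro w hw
        obtain ⟨j, hj⟩ := hgen ⟨π w, hw⟩
        rw [show w = a ^ j * ((a ^ j)⁻¹ * w) by group]
        refine Subgroup.mul_mem_sup (zpow_mem (Subgroup.mem_zpowers a) j) ((QuotientGroup.eq_one_iff _).1 ?_)
        show π ((a ^ j)⁻¹ * w) = 1
        rw [map_mul, map_inv, map_zpow, inv_mul_eq_one]
        exact congrArg Subtype.val hj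
      have hle : Subgroup.zpowers a ⊔ Z ≤ Nb.comap π := sup_le (Subgroup.zpowers_le.2 hab')
        (fun w hw => by show π w ∈ Nb; rw [show π w = 1 from (QuotientGroup.eq_one_iff w).2 hw]; exact one_mem Nb)
      by_cases hza : z ∈ Subgroup.zpowers a
      · rw [show Nb.comap π = Subgroup.zpowers a from le_antisymm
          (hNeq.trans (sup_le le_rfl (Subgroup.zpowers_le.2 hza))) (le_sup_left.trans hle)]
        infer_instance
      exfalso
      obtain ⟨bb, hbgen⟩ := hQc.exists_generator
      obtain ⟨b1, rfl⟩ := QuotientGroup.mk'_surjective Nb bb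
      obtain ⟨b, rfl⟩ := QuotientGroup.mk'_surjective Z b1
      have hall : ∀ x : R, ∃ (j : ℤ) (w : R), w ∈ Nb.comap π ∧ x = b ^ j * w := by
        intro x
        obtain ⟨j, hj⟩ := hbgen (QuotientGroup.mk' Nb (π x))
        refine ⟨j, (b ^ j)⁻¹ * x, ?_, by group⟩
        show π ((b ^ j)⁻¹ * x) ∈ Nb
        rw [← QuotientGroup.eq_one_iff]
        show QuotientGroup.mk' Nb (π ((b ^ j)⁻¹ * x)) = 1
        rw [map_mul, map_mul, map_inv, map_inv, map_zpow, map_zpow, inv_mul_eq_one]
        exact hj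
      have hNab : ∀ u ∈ Nb.comap π, Commute a u := by
        intro u hu
        refine (Subgroup.mem_centralizer_singleton_iff.1 ((sup_le (Subgroup.zpowers_le.2
          (Subgroup.mem_centralizer_singleton_iff.2 rfl)) (Subgroup.zpowers_le.2
          (Subgroup.mem_centralizer_singleton_iff.2 (Subgroup.mem_center_iff.1 hzc a).symm)) :
          Subgroup.zpowers a ⊔ Z ≤ Subgroup.centralizer {a}) (hNeq hu))).symm
      have hcN : ⁅b, a⁆ ∈ Nb.comap π := by
        rw [commutatorElement_def]
        exact mul_mem ((inferInstance : (Nb.comap π).Normal).conj_mem a (hle (Subgroup.mem_sup_left (Subgroup.mem_zpowers a))) b)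
          (inv_mem (hle (Subgroup.mem_sup_left (Subgroup.mem_zpowers a))))
      have h1 := hNeq hcN
      rw [← SetLike.mem_coe, Subgroup.coe_mul_of_right_le_normalizer_left _ _
        (Subgroup.zpowers_le.2 (Subgroup.mem_normalizer_iff.2 fun y => by
          rw [← Subgroup.mem_center_iff.1 hzc y, mul_inv_cancel_right]))] at h1
      obtain ⟨_, ⟨i', rfl⟩, _, ⟨j', rfl⟩, hc⟩ := Set.mem_mul.1 h1
      simp only at hc
      set c := ⁅b, a⁆ with hcdef
      have hzj : Commute b (z ^ j') := Subgroup.mem_center_iff.1 (zpow_mem hzc j') b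
      have hbc : b * c * b⁻¹ = c ^ (i' + 1) := by
        have hba : b * a * b⁻¹ = c * a := by rw [hcdef, commutatorElement_def]; group
        calc b * c * b⁻¹ = b * (a ^ i' * z ^ j') * b⁻¹ := by rw [hc]
          _ = (b * a * b⁻¹) ^ i' * (b * z ^ j' * b⁻¹) := by rw [conj_zpow]; group
          _ = (c * a) ^ i' * z ^ j' := by rw [hba, hzj.eq, mul_inv_cancel_right]
          _ = c ^ i' * a ^ i' * z ^ j' := by rw [(hNab c hcN).symm.mul_zpow]
          _ = c ^ i' * c := by rw [mul_assoc, hc]
          _ = _ := (zpow_add_one c i').symm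
      have hac : a ∈ Subgroup.normalizer (Subgroup.zpowers c : Set R) := by
        refine Subgroup.centralizer_le_normalizer _ (Subgroup.mem_centralizer_iff.2 fun w hw => ?_)
        obtain ⟨j, rfl⟩ := Subgroup.mem_zpowers_iff.1 hw
        exact ((hNab c hcN).zpow_right j).eq.symm
      have hbn : b ∈ Subgroup.normalizer (Subgroup.zpowers c : Set R) := by
        refine CfsgLib.Coprime.mem_normalizer_of_conj_map_le fun w hw => ?_
        obtain ⟨j, rfl⟩ := Subgroup.mem_zpowers_iff.1 hw
        rw [← conj_zpow, hbc, ← zpow_mul]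
        exact zpow_mem (Subgroup.mem_zpowers c) _
      have hzn : z ∈ Subgroup.normalizer (Subgroup.zpowers c : Set R) :=
        Subgroup.centralizer_le_normalizer _ (Subgroup.mem_centralizer_iff.2 fun w _ =>
          Subgroup.mem_center_iff.1 hzc w)
      haveI hcn : (Subgroup.zpowers c).Normal := Subgroup.normalizer_eq_top_iff.1 (eq_top_iff.2 fun x _ => by
        obtain ⟨j, w, hw, rfl⟩ := hall x
        exact mul_mem (zpow_mem hbn j)
          ((sup_le (Subgroup.zpowers_le.2 hac) (Subgroup.zpowers_le.2 hzn)) (hNeq hw)))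
      have hD : commutator R ≤ Subgroup.zpowers c := by
        have hgen' : ∀ x : R, QuotientGroup.mk' (Subgroup.zpowers c) x ∈
            Subgroup.closure (QuotientGroup.mk' (Subgroup.zpowers c) '' ({b, a, z} : Set R)) := by
          intro x
          rw [← MonoidHom.map_closure]
          refine Subgroup.mem_map_of_mem _ ?_
          obtain ⟨j, w, hw, rfl⟩ := hall x
          have hb0 : b ∈ Subgroup.closure ({b, a, z} : Set R) := Subgroup.subset_closure (Or.inl rfl)
          have ha0 : a ∈ Subgroup.closure ({b, a, z} : Set R) := Subgroup.subset_closure (Or.inr (Or.inl rfl))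
          have hz0 : z ∈ Subgroup.closure ({b, a, z} : Set R) := Subgroup.subset_closure (Or.inr (Or.inr rfl))
          exact mul_mem (zpow_mem hb0 j)
            ((sup_le (Subgroup.zpowers_le.2 ha0) (Subgroup.zpowers_le.2 hz0)) (hNeq hw))
        have hone : QuotientGroup.mk' (Subgroup.zpowers c) c = 1 :=
          (QuotientGroup.eq_one_iff c).2 (Subgroup.mem_zpowers c)
        have hzcomm : ∀ u : R, Commute (QuotientGroup.mk' (Subgroup.zpowers c) z) (QuotientGroup.mk' (Subgroup.zpowers c) u) :=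
          fun u => (show Commute z u from (Subgroup.mem_center_iff.1 hzc u).symm).map _
        have hbac : Commute (QuotientGroup.mk' (Subgroup.zpowers c) b) (QuotientGroup.mk' (Subgroup.zpowers c) a) := by
          rw [← commutatorElement_eq_one_iff_commute, ← map_commutatorElement]
          exact hone
        have hcomm : ∀ u ∈ QuotientGroup.mk' (Subgroup.zpowers c) '' ({b, a, z} : Set R),
            ∀ v ∈ QuotientGroup.mk' (Subgroup.zpowers c) '' ({b, a, z} : Set R), u * v = v * u := by
          rintro _ ⟨u, (rfl | rfl | rfl), rfl⟩ _ ⟨v, (rfl | rfl | rfl), rfl⟩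
          exacts [rfl, hbac.eq, (hzcomm _).symm.eq, hbac.symm.eq, rfl, (hzcomm _).symm.eq, (hzcomm _).eq,
            (hzcomm _).eq, rfl]
        haveI := Subgroup.isMulCommutative_closure hcomm
        refine Subgroup.commutator_le.2 fun u _ v _ => (QuotientGroup.eq_one_iff _).1 ?_
        show QuotientGroup.mk' _ ⁅u, v⁆ = 1
        rw [map_commutatorElement, commutatorElement_eq_one_iff_mul_comm]
        exact congrArg Subtype.val (mul_comm' (⟨_, hgen' u⟩ : Subgroup.closure _) ⟨_, hgen' v⟩)
      obtain ⟨m, hm⟩ := hD hzD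
      simp only at hm
      have hcom : Commute (a ^ i') (z ^ j') := Subgroup.mem_center_iff.1 (zpow_mem hzc j') (a ^ i')
      have h3 : a ^ (i' * m) = z ^ (1 - j' * m) := by
        rw [← hc, hcom.mul_zpow, ← zpow_mul, ← zpow_mul] at hm
        rw [zpow_sub, zpow_one, eq_mul_inv_iff_mul_eq]
        exact hm
      have h4 : a ^ (i' * m) = 1 := by
        have hd := Subgroup.card_dvd_of_le (inf_le_right : Subgroup.zpowers a ⊓ Z ≤ _)
        rw [Nat.card_zpowers, hz] at hd
        have hinf : Subgroup.zpowers a ⊓ Z = ⊥ := by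
          rcases hp.out.eq_one_or_self_of_dvd _ hd with h | h
          · exact Subgroup.eq_bot_of_card_eq _ h
          · exact absurd ((inf_eq_right.1 (Subgroup.eq_of_le_of_card_ge inf_le_right
              (by rw [h, Nat.card_zpowers, hz]))) (Subgroup.mem_zpowers z)) hza
        rw [← Subgroup.mem_bot, ← hinf]
        exact Subgroup.mem_inf.2 ⟨zpow_mem (Subgroup.mem_zpowers a) _, h3 ▸ zpow_mem (Subgroup.mem_zpowers z) _⟩
      have h5 : (p : ℤ) ∣ 1 - j' * m := by
        have := h3.symm.trans h4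
        rw [← orderOf_dvd_iff_zpow_eq_one, hz] at this
        exact this
      have h6 : ¬ p ∣ m.natAbs := fun h => by
        have h' : (p : ℤ) ∣ m := Int.natCast_dvd.2 h
        have h'' : (p : ℤ) ∣ 1 := by
          have := dvd_add h5 (dvd_mul_of_dvd_right h' j')
          simpa using this
        exact absurd (Int.le_of_dvd one_pos h'') (by have := hp.out.one_lt; omega)
      have h7 : a ^ i' = 1 := by
        have hd : (orderOf (a ^ i') : ℤ) ∣ m := orderOf_dvd_iff_zpow_eq_one.2 (by rw [← zpow_mul]; exact h4)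
        obtain ⟨k, hk⟩ := IsPGroup.iff_orderOf.1 hR (a ^ i')
        rcases Nat.eq_zero_or_pos k with h0 | h0
        · rw [h0, pow_zero, orderOf_eq_one_iff] at hk; exact hk
        · exact absurd ((dvd_pow_self p h0.ne').trans (hk ▸ Int.natCast_dvd.1 hd)) h6
      rw [h7, one_mul] at hc
      exact hDZ (le_antisymm (hD.trans (Subgroup.zpowers_le.2 (hc ▸ zpow_mem (Subgroup.mem_zpowers z) j')))
        (Subgroup.zpowers_le.2 hzD))

end CfsgLib.Fusion.Huppert
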