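import Cfsg.Agent.Lib.OddOrder.SCNTransitivity
import Cfsg.Agent.Lib.OddOrder.SCN3
import Cfsg.Agent.Lib.Fusion.NormalRankTwo
import Cfsg.Agent.Lib.Fusion.Thompson
import Cfsg.Agent.Lib.Solvable.ThompsonReplacement
import Mathlib

/-!
A normal elementary abelian subgroup of order `p ^ 4` in a `p`-group, `p` odd.
-/

set_option autoImplicit false
set_option linter.style.haveILetI false

open scoped commutatorElement

namespace CfsgLib.Fusion.NormalRankFour

variable {G : Type*} [Group G] [Finite G] {p : ℕ} [hp : Fact p.Prime]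

theorem mul_card_le_of_lt (hG : IsPGroup p G) {U V : Subgroup G} (h : U < V) :
    p * Nat.card U ≤ Nat.card V := by
  obtain ⟨a, ha⟩ := (hG.to_subgroup U).exists_card_eq
  obtain ⟨b, hb⟩ := (hG.to_subgroup V).exists_card_eq
  have h1 : Nat.card U < Nat.card V := Set.ncard_lt_ncard (SetLike.coe_ssubset_coe.mpr h)
  rw [ha, hb] at h1
  rw [ha, hb, ← pow_succ']
  exact Nat.pow_le_pow_right hp.out.pos ((Nat.pow_lt_pow_iff_right hp.out.one_lt).1 h1)

omit hp in
/-- Counting through the commutator with a fixed element. -/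
theorem card_le_of_comm {H F : Subgroup G} {a : G} (h : ∀ x ∈ H, ⁅a, x⁆ ∈ F) :
    Nat.card H ≤ Nat.card F * Nat.card ↥(H ⊓ Subgroup.centralizer {a}) := by
  let f : H ⧸ (Subgroup.centralizer ({a} : Set G)).subgroupOf H → F := fun x =>
    ⟨⁅a, ((x.out : H) : G)⁆, h _ (x.out : H).2⟩
  have hinj : Function.Injective f := by
    intro x y hxy
    rw [← Quotient.out_eq x, ← Quotient.out_eq y]
    refine QuotientGroup.eq.mpr ?_
    rw [Subgroup.mem_subgroupOf, Subgroup.mem_centralizer_singleton_iff]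
    have h : ⁅a, ((x.out : H) : G)⁆ = ⁅a, ((y.out : H) : G)⁆ := congrArg Subtype.val hxy
    simp only [commutatorElement_def] at h
    set u := ((x.out : H) : G)
    set v := ((y.out : H) : G)
    have h2 : u * a⁻¹ * u⁻¹ = v * a⁻¹ * v⁻¹ := by simpa [mul_assoc] using h
    have h3 : u * a * u⁻¹ = v * a * v⁻¹ := by
      have := congrArg (·⁻¹) h2
      simpa [mul_assoc] using this
    show u⁻¹ * v * a = a * (u⁻¹ * v)
    calc u⁻¹ * v * a = u⁻¹ * (v * a * v⁻¹) * v := by group
      _ = u⁻¹ * (u * a * u⁻¹) * v := by rw [h3]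
      _ = _ := by group
  rw [Subgroup.card_eq_card_quotient_mul_card_subgroup ((Subgroup.centralizer ({a} : Set G)).subgroupOf H)]
  refine Nat.mul_le_mul (Nat.card_le_card_of_injective f hinj) (le_of_eq ?_)
  exact Nat.card_congr ⟨fun x => ⟨x.1.1, x.1.2, x.2⟩, fun x => ⟨⟨x.1, x.2.1⟩, x.2.2⟩, fun _ => rfl, fun _ => rfl⟩

/-- An elementary abelian subgroup induces at most `p ^ 2` on a normal one of order at most `p ^ 3`. -/
theorem card_le (hG : IsPGroup p G) {A E : Subgroup G} [A.Normal] (hA : Cfsg.IsElementaryAbelian p A)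
    (hA3 : Nat.card A ≤ p ^ 3) (hE : Cfsg.IsElementaryAbelian p E) :
    Nat.card E ≤ p ^ 2 * Nat.card ↥(E ⊓ Subgroup.centralizer (A : Set G)) := by
  have hp0 := hp.out.pos
  have hAc := CfsgLib.Solvable.Basic.isMulCommutative_subgroup_iff.1 hA.1
  by_cases hAbot : A = ⊥
  · subst hAbot
    have : E ⊓ Subgroup.centralizer ((⊥ : Subgroup G) : Set G) = E :=
      inf_eq_left.2 fun x _ => Subgroup.mem_centralizer_iff.2 fun y hy => by
        rw [Subgroup.mem_bot.1 hy, one_mul, mul_one]
    rw [this]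
    exact Nat.le_mul_of_pos_left _ (pow_pos hp0 2)
  set D := ⁅A, (⊤ : Subgroup G)⁆ with hD
  have hDA : D < A := CfsgLib.Coprime.commutator_lt_of_isPGroup (hG.to_subgroup ⊤) (hG.to_subgroup A)
    (by rw [Subgroup.normalizer_eq_top]) hAbot
  have hD2 : Nat.card D ≤ p ^ 2 := by
    have := (mul_card_le_of_lt hG hDA).trans hA3
    rw [pow_succ'] at this
    exact Nat.le_of_mul_le_mul_left this hp0
  have hin : ∀ a ∈ A, ∀ x, ⁅a, x⁆ ∈ D := fun a ha x => Subgroup.commutator_mem_commutator ha (Subgroup.mem_top x)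
  have hcen : ∀ {H : Subgroup G} {U : Subgroup G} {a : G}, H ≤ E → U ≤ Subgroup.centralizer (H : Set G) →
      A ≤ U ⊔ Subgroup.zpowers a → H ⊓ Subgroup.centralizer {a} ≤ E ⊓ Subgroup.centralizer (A : Set G) := by
    intro H U a hH hU hA x hx
    refine ⟨hH hx.1, Subgroup.mem_centralizer_iff.2 fun y hy => ?_⟩
    have hle : U ⊔ Subgroup.zpowers a ≤ Subgroup.centralizer {x} := by
      refine sup_le (fun u hu => Subgroup.mem_centralizer_singleton_iff.2
        (Subgroup.mem_centralizer_iff.1 (hU hu) x hx.1).symm) (Subgroup.zpowers_le.2 ?_)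
      exact Subgroup.mem_centralizer_singleton_iff.2 (Subgroup.mem_centralizer_singleton_iff.1 hx.2).symm
    exact Subgroup.mem_centralizer_singleton_iff.1 (hle (hA hy))
  by_cases hAE : A ≤ Subgroup.centralizer (E : Set G)
  · rw [inf_eq_left.2 (Subgroup.le_centralizer_iff.1 hAE)]
    exact Nat.le_mul_of_pos_left _ (pow_pos hp0 2)
  set B := A ⊓ Subgroup.centralizer (E : Set G) with hB
  by_cases hB2 : p * p ≤ Nat.card B
  · obtain ⟨a, haA, haE⟩ := SetLike.not_le_iff_exists.1 hAE
    have hlt : B < B ⊔ Subgroup.zpowers a := lt_of_le_of_ne le_sup_left fun h =>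
      haE (Subgroup.mem_inf.1 (h ▸ Subgroup.mem_sup_right (Subgroup.mem_zpowers a) : a ∈ B)).2
    have hAle : A ≤ B ⊔ Subgroup.zpowers a := by
      refine (Subgroup.eq_of_le_of_card_ge (sup_le inf_le_left (Subgroup.zpowers_le.2 haA)) ?_).ge
      refine hA3.trans (le_trans ?_ (mul_card_le_of_lt hG hlt))
      rw [pow_succ', pow_two]
      exact Nat.mul_le_mul_left p hB2
    refine (card_le_of_comm fun x _ => hin a haA x).trans (Nat.mul_le_mul hD2 ?_)
    exact Subgroup.card_le_of_le (hcen le_rfl inf_le_right hAle)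
  · have hBp : Nat.card B ≤ p := by
      obtain ⟨i, hi⟩ := (hG.to_subgroup B).exists_card_eq
      rw [hi, ← pow_two] at hB2
      rw [hi]
      exact (Nat.pow_le_pow_right hp0 (show i ≤ 1 by
        by_contra h; exact hB2 (Nat.pow_le_pow_right hp0 (by omega)))).trans (pow_one p).le
    have hfix : ∀ a ∈ A, ∀ k ∈ E, (∀ d ∈ D, k * d = d * k) → ⁅a, k⁆ ∈ B := by
      intro a ha k hk hkD
      refine ⟨hDA.le (hin a ha k), Subgroup.mem_centralizer_iff.2 fun e he => ?_⟩
      have hek := CfsgLib.Solvable.Basic.isMulCommutative_subgroup_iff.1 hE.1 e he k hk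
      have h1 : e * a * e⁻¹ ∈ A := (inferInstance : A.Normal).conj_mem a ha e
      have hu : a⁻¹ * (e * a * e⁻¹) ∈ D := by
        have := hin a⁻¹ (inv_mem ha) e
        rwa [show a⁻¹ * (e * a * e⁻¹) = ⁅a⁻¹, e⁆ by simp [commutatorElement_def, mul_assoc]]
      set u := a⁻¹ * (e * a * e⁻¹) with hudef
      have key : e * ⁅a, k⁆ * e⁻¹ = ⁅a, k⁆ := by
        have h2 : e * ⁅a, k⁆ * e⁻¹ = ⁅e * a * e⁻¹, e * k * e⁻¹⁆ := by simp [commutatorElement_def, mul_assoc]
        have h3 : ⁅a * u, k⁆ = ⁅a, k⁆ := by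
          rw [commutatorElement_mul_left_eq_conj_mul,
            commutatorElement_eq_one_iff_mul_comm.2 (hkD u hu).symm, mul_one, mul_inv_cancel, one_mul]
        rw [h2, show e * k * e⁻¹ = k by rw [hek, mul_inv_cancel_right],
          show e * a * e⁻¹ = a * u by rw [hudef]; group, h3]
      exact mul_inv_eq_iff_eq_mul.1 key
    have hDn : D.Normal := inferInstance
    obtain ⟨i, hi⟩ := (hG.to_subgroup D).exists_card_eq
    by_cases hi2 : i = 2
    · -- `D` has index at most `p`
      subst hi2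
      obtain ⟨a, haA, haD⟩ := SetLike.exists_of_lt hDA
      have hlt : D < D ⊔ Subgroup.zpowers a := lt_of_le_of_ne le_sup_left fun h =>
        haD (h ▸ Subgroup.mem_sup_right (Subgroup.mem_zpowers a))
      have hAle : A ≤ D ⊔ Subgroup.zpowers a := by
        refine (Subgroup.eq_of_le_of_card_ge (sup_le hDA.le (Subgroup.zpowers_le.2 haA)) ?_).ge
        refine hA3.trans (le_trans ?_ (mul_card_le_of_lt hG hlt))
        rw [hi, pow_succ']
      set K := E ⊓ Subgroup.centralizer (D : Set G) with hK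
      have hKcard : Nat.card E ≤ p * Nat.card K := by
        haveI := hG.isNilpotent
        have hne := CfsgLib.Solvable.FrattiniFitting.inf_center_ne_bot D fun h => by
          rw [h, Subgroup.card_bot] at hi
          exact absurd hi.symm (Nat.one_lt_pow (by norm_num) hp.out.one_lt).ne'
        by_cases hDZ : D ≤ Subgroup.center G
        · rw [hK, inf_eq_left.2 fun x _ => Subgroup.mem_centralizer_iff.2 fun y hy =>
            (Subgroup.mem_center_iff.1 (hDZ hy) x).symm]
          exact Nat.le_mul_of_pos_left _ hp0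
        obtain ⟨d, hdD, hdZ⟩ := SetLike.not_le_iff_exists.1 hDZ
        have hDgen : D ≤ (D ⊓ Subgroup.center G) ⊔ Subgroup.zpowers d := by
          have hlt' : D ⊓ Subgroup.center G < (D ⊓ Subgroup.center G) ⊔ Subgroup.zpowers d :=
            lt_of_le_of_ne le_sup_left fun h =>
              hdZ (Subgroup.mem_inf.1 (h ▸ Subgroup.mem_sup_right (Subgroup.mem_zpowers d) :
                d ∈ D ⊓ Subgroup.center G)).2
          refine (Subgroup.eq_of_le_of_card_ge (sup_le inf_le_left (Subgroup.zpowers_le.2 hdD)) ?_).ge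
          refine le_trans ?_ (mul_card_le_of_lt hG hlt')
          obtain ⟨j, hj⟩ := (hG.to_subgroup (D ⊓ Subgroup.center G : Subgroup G)).exists_card_eq
          rw [hi, hj, pow_two]
          refine Nat.mul_le_mul_left p ?_
          refine (pow_one p).ge.trans (Nat.pow_le_pow_right hp0 (Nat.one_le_iff_ne_zero.2 fun h0 => hne ?_))
          exact Subgroup.eq_bot_of_card_eq _ (by rw [hj, h0, pow_zero])
        have hle : E ⊓ Subgroup.centralizer {d} ≤ K := by
          intro x hx
          refine ⟨hx.1, Subgroup.mem_centralizer_iff.2 fun y hy => ?_⟩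
          have hle' : (D ⊓ Subgroup.center G) ⊔ Subgroup.zpowers d ≤ Subgroup.centralizer {x} :=
            sup_le (fun u hu => Subgroup.mem_centralizer_singleton_iff.2 (Subgroup.mem_center_iff.1 hu.2 x).symm)
              (Subgroup.zpowers_le.2 (Subgroup.mem_centralizer_singleton_iff.2
                (Subgroup.mem_centralizer_singleton_iff.1 hx.2).symm))
          exact Subgroup.mem_centralizer_singleton_iff.1 (hle' (hDgen hy))
        have hF : Nat.card ↥(⁅D, (⊤ : Subgroup G)⁆) ≤ p := by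
          have hlt2 := CfsgLib.Coprime.commutator_lt_of_isPGroup (hG.to_subgroup ⊤) (hG.to_subgroup D)
            (by rw [Subgroup.normalizer_eq_top]) (fun h => hne (by rw [h, bot_inf_eq]))
          have := mul_card_le_of_lt hG hlt2
          rw [hi, pow_two] at this
          exact Nat.le_of_mul_le_mul_left this hp0
        refine (card_le_of_comm fun x _ => Subgroup.commutator_mem_commutator hdD (Subgroup.mem_top x)).trans
          (Nat.mul_le_mul hF (Subgroup.card_le_of_le hle))
      have hKA := card_le_of_comm (H := K) (F := B) (a := a) fun k hk => hfix a haA k hk.1 fun d hd =>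
        (Subgroup.mem_centralizer_iff.1 hk.2 d hd).symm
      calc Nat.card E ≤ p * Nat.card K := hKcard
        _ ≤ p * (p * Nat.card ↥(E ⊓ Subgroup.centralizer (A : Set G))) := by
            refine Nat.mul_le_mul_left p (hKA.trans (Nat.mul_le_mul hBp (Subgroup.card_le_of_le ?_)))
            exact hcen inf_le_left (Subgroup.le_centralizer_iff.1 inf_le_right) hAle
        _ = _ := by ring
    · -- `D` is central of order at most `p`
      have hi1 : i ≤ 1 := by
        rw [hi] at hD2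
        have := (Nat.pow_le_pow_iff_right hp.out.one_lt).1 hD2
        omega
      have hDB : D ≤ B := by
        rcases Nat.eq_zero_or_pos i with rfl | hi0
        · rw [Subgroup.eq_bot_of_card_eq D (by rw [hi, pow_zero])]; exact bot_le
        refine le_inf hDA.le fun d hd => Subgroup.mem_centralizer_iff.2 fun e _ => ?_
        haveI := hG.isNilpotent
        have hne := CfsgLib.Solvable.FrattiniFitting.inf_center_ne_bot D fun h => by
          rw [h, Subgroup.card_bot] at hi
          exact absurd hi.symm (Nat.one_lt_pow (by omega) hp.out.one_lt).ne'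
        have heq : D ⊓ Subgroup.center G = D := Subgroup.eq_of_le_of_card_ge inf_le_left (by
          obtain ⟨j, hj⟩ := (hG.to_subgroup (D ⊓ Subgroup.center G : Subgroup G)).exists_card_eq
          rw [hi, hj]
          refine Nat.pow_le_pow_right hp0 (le_trans hi1 (Nat.one_le_iff_ne_zero.2 fun h0 => hne ?_))
          exact Subgroup.eq_bot_of_card_eq _ (by rw [hj, h0, pow_zero]))
        exact Subgroup.mem_center_iff.1 (Subgroup.mem_inf.1 (heq.ge hd)).2 e
      have hBne : p ≤ Nat.card B := by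
        haveI := hG.isNilpotent
        have hne := CfsgLib.Solvable.FrattiniFitting.inf_center_ne_bot A hAbot
        obtain ⟨j, hj⟩ := (hG.to_subgroup B).exists_card_eq
        rw [hj]
        refine (pow_one p).ge.trans (Nat.pow_le_pow_right hp0 (Nat.one_le_iff_ne_zero.2 fun h0 => hne ?_))
        rw [eq_bot_iff, ← Subgroup.eq_bot_of_card_eq B (by rw [hj, h0, pow_zero])]
        exact fun x hx => ⟨hx.1, Subgroup.mem_centralizer_iff.2 fun e _ => Subgroup.mem_center_iff.1 hx.2 e⟩
      obtain ⟨a₁, ha₁A, ha₁⟩ := SetLike.not_le_iff_exists.1 hAE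
      set M := B ⊔ Subgroup.zpowers a₁ with hM
      have hlt1 : B < M := lt_of_le_of_ne le_sup_left fun h =>
        ha₁ (Subgroup.mem_inf.1 (h ▸ Subgroup.mem_sup_right (Subgroup.mem_zpowers a₁) : a₁ ∈ B)).2
      obtain ⟨a₂, ha₂A, hAle⟩ : ∃ a₂ ∈ A, A ≤ M ⊔ Subgroup.zpowers a₂ := by
        by_cases hMA : A ≤ M
        · exact ⟨1, one_mem A, hMA.trans le_sup_left⟩
        obtain ⟨a₂, ha₂A, ha₂⟩ := SetLike.not_le_iff_exists.1 hMA
        have hlt2 : M < M ⊔ Subgroup.zpowers a₂ := lt_of_le_of_ne le_sup_left fun h =>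
          ha₂ (h ▸ Subgroup.mem_sup_right (Subgroup.mem_zpowers a₂))
        refine ⟨a₂, ha₂A, (Subgroup.eq_of_le_of_card_ge (sup_le (sup_le inf_le_left
          (Subgroup.zpowers_le.2 ha₁A)) (Subgroup.zpowers_le.2 ha₂A)) (hA3.trans ?_)).ge⟩
        refine le_trans ?_ (mul_card_le_of_lt hG hlt2)
        rw [pow_succ', pow_two]
        refine Nat.mul_le_mul_left p (le_trans ?_ (mul_card_le_of_lt hG hlt1))
        exact Nat.mul_le_mul_left p hBne
      have e1 := card_le_of_comm (H := E) (F := B) (a := a₁) fun x _ => hDB (hin a₁ ha₁A x)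
      have e2 := card_le_of_comm (H := E ⊓ Subgroup.centralizer {a₁}) (F := B) (a := a₂) fun x _ =>
        hDB (hin a₂ ha₂A x)
      have e3 : Nat.card ↥(E ⊓ Subgroup.centralizer {a₁} ⊓ Subgroup.centralizer {a₂}) ≤
          Nat.card ↥(E ⊓ Subgroup.centralizer (A : Set G)) := by
        refine Subgroup.card_le_of_le (hcen inf_le_left ?_ hAle)
        refine sup_le (fun u hu => Subgroup.mem_centralizer_iff.2 fun x hx =>
          Subgroup.mem_centralizer_iff.1 hu.2 x hx.1) (Subgroup.zpowers_le.2 ?_)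
        exact Subgroup.mem_centralizer_iff.2 fun x hx => Subgroup.mem_centralizer_singleton_iff.1 hx.2
      calc Nat.card E ≤ _ := e1
        _ ≤ p * (p * Nat.card ↥(E ⊓ Subgroup.centralizer (A : Set G))) :=
            Nat.mul_le_mul hBp (e2.trans (Nat.mul_le_mul hBp e3))
        _ = _ := by ring

/-- For odd `p`, an elementary abelian subgroup of order `p ^ 4` forces a normal one. -/
theorem exists_normal (hp2 : p ≠ 2) (hG : IsPGroup p G) (E : Subgroup G) (hE : Cfsg.IsElementaryAbelian p E)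
    (hE4 : Nat.card E = p ^ 4) :
    ∃ M : Subgroup G, M.Normal ∧ Cfsg.IsElementaryAbelian p M ∧ Nat.card M = p ^ 4 := by
  classical
  have hp0 := hp.out.pos
  obtain ⟨A, hAmax⟩ := (Set.toFinite {B : Subgroup G | B.Normal ∧ Cfsg.IsElementaryAbelian p B}).exists_maximal
    ⟨⊥, inferInstance, Thompson.isEA_bot⟩
  obtain ⟨⟨hAn, hA⟩, hmax⟩ := hAmax
  haveI := hAn
  by_cases hA4 : p ^ 4 ≤ Nat.card A
  · obtain ⟨M, hMn, hMA, hM⟩ := NormalRankTwo.exists_normal_card hG (N := A) hA4
    exact ⟨M, hMn, Thompson.isEA_le hA hMA, hM⟩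
  have hA3 : Nat.card A ≤ p ^ 3 := by
    obtain ⟨i, hi⟩ := (hG.to_subgroup A).exists_card_eq
    rw [hi] at hA4 ⊢
    refine Nat.pow_le_pow_right hp0 ?_
    by_contra h
    exact hA4 (Nat.pow_le_pow_right hp0 (by omega))
  have hAl : ∀ x ∈ Subgroup.centralizer (A : Set G), x ^ p = 1 → x ∈ A := fun x hx hxp =>
    OddOrder.SCN3.omega_centralizer_le hp2 hG A hA (fun D h1 h2 h3 => le_antisymm (hmax ⟨h1, h2⟩ h3) h3) hx hxp
  have hAc := CfsgLib.Solvable.Basic.isMulCommutative_subgroup_iff.1 hA.1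
  have hEc := CfsgLib.Solvable.Basic.isMulCommutative_subgroup_iff.1 hE.1
  set B := E ⊓ A with hBdef
  have hEC : E ⊓ Subgroup.centralizer (A : Set G) = B :=
    le_antisymm (fun x hx => ⟨hx.1, hAl x hx.2 (hE.2 x hx.1)⟩)
      fun x hx => ⟨hx.1, Subgroup.mem_centralizer_iff.2 fun a ha => hAc a ha x hx.2⟩
  have hB2 : p ^ 2 ≤ Nat.card B := by
    have := card_le hG hA hA3 hE
    rw [hEC, hE4, show (p : ℕ) ^ 4 = p ^ 2 * p ^ 2 by ring] at this
    exact Nat.le_of_mul_le_mul_left this (pow_pos hp0 2)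
  have hBA : ¬ A ≤ B := by
    intro h
    have hEA : E ≤ A := fun x hx => hAl x (Subgroup.mem_centralizer_iff.2 fun a ha => hEc a (h ha).1 x hx) (hE.2 x hx)
    have := Subgroup.card_le_of_le hEA
    rw [hE4] at this
    exact absurd ((Nat.pow_le_pow_iff_right hp.out.one_lt).1 (this.trans hA3)) (by norm_num)
  have hBlt : B < A := lt_of_le_not_ge inf_le_right hBA
  have hAcard : Nat.card A = p ^ 3 ∧ Nat.card B = p ^ 2 := by
    have h1 := mul_card_le_of_lt hG hBlt
    have h2 : p * Nat.card B ≤ p * p ^ 2 := by rw [← pow_succ']; exact h1.trans hA3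
    have hB : Nat.card B = p ^ 2 := le_antisymm (Nat.le_of_mul_le_mul_left h2 hp0) hB2
    exact ⟨le_antisymm hA3 (by rw [pow_succ', ← hB]; exact h1), hB⟩
  obtain ⟨hAcard, hBcard⟩ := hAcard
  obtain ⟨a, haA, haB⟩ := SetLike.exists_of_lt hBlt
  have hgenA : A ≤ B ⊔ Subgroup.zpowers a := by
    refine (Subgroup.eq_of_le_of_card_ge (sup_le hBlt.le (Subgroup.zpowers_le.2 haA)) ?_).ge
    have hlt : B < B ⊔ Subgroup.zpowers a := lt_of_le_of_ne le_sup_left fun h =>
      haB (h ▸ Subgroup.mem_sup_right (Subgroup.mem_zpowers a))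
    have := mul_card_le_of_lt hG hlt
    rw [hBcard, ← pow_succ'] at this
    rw [hAcard]; exact this
  have hEBc : ∀ e ∈ E, ∀ b ∈ B, e * b = b * e := fun e he b hb => hEc e he b hb.1
  have hcenA : ∀ x : G, (∀ b ∈ B, x * b = b * x) → x * a = a * x → x ∈ Subgroup.centralizer (A : Set G) := by
    intro x h1 h2
    refine Subgroup.mem_centralizer_iff.2 fun y hy => ?_
    exact Subgroup.mem_centralizer_singleton_iff.1 ((sup_le (fun b hb => Subgroup.mem_centralizer_singleton_iff.2
      (h1 b hb).symm) (Subgroup.zpowers_le.2 (Subgroup.mem_centralizer_singleton_iff.2 h2.symm)) :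
        B ⊔ Subgroup.zpowers a ≤ Subgroup.centralizer {x}) (hgenA hy))
  -- `B = [A, G]`
  set D := ⁅A, (⊤ : Subgroup G)⁆ with hD
  have hDA : D < A := CfsgLib.Coprime.commutator_lt_of_isPGroup (hG.to_subgroup ⊤) (hG.to_subgroup A)
    (by rw [Subgroup.normalizer_eq_top]) (fun h => hBA (h ▸ bot_le))
  have hD2 : Nat.card D ≤ p ^ 2 := by
    have := (mul_card_le_of_lt hG hDA).trans hA3
    rw [pow_succ'] at this
    exact Nat.le_of_mul_le_mul_left this hp0
  have hDB : D = B := by
    have hEcard := card_le_of_comm (H := E) (F := D) (a := a) fun x _ =>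
      Subgroup.commutator_mem_commutator haA (Subgroup.mem_top x)
    have hle : E ⊓ Subgroup.centralizer {a} ≤ B := hEC ▸ fun x hx =>
      ⟨hx.1, hcenA x (fun b hb => hEBc x hx.1 b hb) (Subgroup.mem_centralizer_singleton_iff.1 hx.2)⟩
    have h1 : Nat.card E ≤ Nat.card D * p ^ 2 :=
      hEcard.trans (Nat.mul_le_mul_left _ ((Subgroup.card_le_of_le hle).trans hBcard.le))
    rw [hE4, show (p : ℕ) ^ 4 = p ^ 2 * p ^ 2 by ring] at h1
    have hDcard : Nat.card D = p ^ 2 := le_antisymm hD2 (Nat.le_of_mul_le_mul_right h1 (pow_pos hp0 2))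
    by_contra hne
    obtain ⟨d, hdD, hdB⟩ := SetLike.not_le_iff_exists.1 fun h : D ≤ B =>
      hne (Subgroup.eq_of_le_of_card_ge h (by rw [hDcard, hBcard]))
    have hlt2 := CfsgLib.Coprime.commutator_lt_of_isPGroup (hG.to_subgroup ⊤) (hG.to_subgroup D)
      (by rw [Subgroup.normalizer_eq_top]) (fun h => by
        rw [h, Subgroup.mem_bot] at hdD; exact hdB (hdD ▸ one_mem B))
    have hF : Nat.card ↥(⁅D, (⊤ : Subgroup G)⁆) ≤ p := by
      have := mul_card_le_of_lt hG hlt2
      rw [hDcard, pow_two] at this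
      exact Nat.le_of_mul_le_mul_left this hp0
    have hgen2 : A ≤ B ⊔ Subgroup.zpowers d := by
      refine (Subgroup.eq_of_le_of_card_ge (sup_le hBlt.le (Subgroup.zpowers_le.2 (hDA.le hdD))) ?_).ge
      have hlt : B < B ⊔ Subgroup.zpowers d := lt_of_le_of_ne le_sup_left fun h =>
        hdB (h ▸ Subgroup.mem_sup_right (Subgroup.mem_zpowers d))
      have := mul_card_le_of_lt hG hlt
      rw [hBcard, ← pow_succ'] at this
      rw [hAcard]; exact this
    have hle2 : E ⊓ Subgroup.centralizer {d} ≤ B := hEC ▸ fun x hx => ⟨hx.1,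
      Subgroup.mem_centralizer_iff.2 fun y hy => Subgroup.mem_centralizer_singleton_iff.1
        ((sup_le (fun b hb => Subgroup.mem_centralizer_singleton_iff.2 (hEBc x hx.1 b hb).symm)
          (Subgroup.zpowers_le.2 (Subgroup.mem_centralizer_singleton_iff.2
            (Subgroup.mem_centralizer_singleton_iff.1 hx.2).symm)) :
          B ⊔ Subgroup.zpowers d ≤ Subgroup.centralizer {x}) (hgen2 hy))⟩
    have h2 := (card_le_of_comm (H := E) (a := d) fun x _ =>
      Subgroup.commutator_mem_commutator hdD (Subgroup.mem_top x)).trans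
      (Nat.mul_le_mul hF ((Subgroup.card_le_of_le hle2).trans hBcard.le))
    rw [hE4, ← pow_succ'] at h2
    exact absurd ((Nat.pow_le_pow_iff_right hp.out.one_lt).1 h2) (by norm_num)
  haveI hBn : B.Normal := hDB ▸ inferInstance
  -- `E` is the only abelian subgroup of order `p ^ 4` of `A ⊔ E` containing `B`
  have hAE : Nat.card ↥(A ⊔ E) = p ^ 5 := by
    have h := Thompson.card_sup_mul_card_inf (N := A) (K := E) (by rw [Subgroup.normalizer_eq_top]; exact le_top)
    rw [inf_comm A E, ← hBdef, hBcard, hAcard, hE4, show (p : ℕ) ^ 3 * p ^ 4 = p ^ 5 * p ^ 2 by ring] at h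
    exact Nat.eq_of_mul_eq_mul_right (pow_pos hp0 2) h
  have hunique : ∀ W : Subgroup G, B ≤ W → W ≤ A ⊔ E → Nat.card W = p ^ 4 →
      (∀ u ∈ W, ∀ v ∈ W, u * v = v * u) → W = E := by
    intro W hBW hW hWc hWab
    refine Subgroup.eq_of_le_of_card_ge (fun w hw => ?_) (by rw [hWc, hE4])
    have hw' := hW hw
    rw [← SetLike.mem_coe, Subgroup.normal_mul] at hw'
    obtain ⟨α, hα, e, he, rfl⟩ := Set.mem_mul.1 hw'
    by_cases hαB : α ∈ B
    · exact mul_mem hαB.1 he
    exfalso
    have hWE : p ^ 3 ≤ Nat.card ↥(W ⊓ E) := by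
      by_contra hlt
      push Not at hlt
      obtain ⟨i, hi⟩ := (hG.to_subgroup (W ⊓ E : Subgroup G)).exists_card_eq
      have hi2 : i ≤ 2 := by
        rw [hi] at hlt
        have := (Nat.pow_lt_pow_iff_right hp.out.one_lt).1 hlt
        omega
      have hcardprod : Nat.card W * Nat.card E ≤ Nat.card ↥(A ⊔ E) * Nat.card ↥(W ⊓ E) := by
        let f : W × E → ↥(A ⊔ E) × ↥(W ⊓ E) := fun x => (⟨x.1 * x.2, mul_mem (hW x.1.2) (Subgroup.mem_sup_right x.2.2)⟩,
          if h : ((x.1 : G) * x.2) ∈ Set.range (fun y : W × E => (y.1 : G) * y.2) then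
            ⟨(h.choose.1 : G)⁻¹ * x.1, by
              have hs : (h.choose.1 : G) * h.choose.2 = x.1 * x.2 := h.choose_spec
              refine Subgroup.mem_inf.2 ⟨mul_mem (inv_mem h.choose.1.2) x.1.2, ?_⟩
              rw [show (h.choose.1 : G)⁻¹ * x.1 = h.choose.2 * (x.2 : G)⁻¹ by
                rw [inv_mul_eq_iff_eq_mul, ← mul_assoc, hs, mul_inv_cancel_right]]
              exact mul_mem h.choose.2.2 (inv_mem x.2.2)⟩
          else 1)
        rw [← Nat.card_prod, ← Nat.card_prod]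
        refine Nat.card_le_card_of_injective f fun x y hxy => ?_
        simp only [f, Prod.mk.injEq, Subtype.mk.injEq] at hxy
        obtain ⟨h1, h2⟩ := hxy
        rw [dif_pos ⟨x, rfl⟩, dif_pos ⟨y, rfl⟩] at h2
        have h3 := congrArg Subtype.val h2
        simp only [h1] at h3
        have h4 : (x.1 : G) = y.1 := mul_left_cancel h3
        exact Prod.ext (Subtype.ext h4) (Subtype.ext (mul_left_cancel (h4 ▸ h1)))
      rw [hWc, hE4, hAE, hi, ← pow_add, ← pow_add] at hcardprod
      have := (Nat.pow_le_pow_iff_right hp.out.one_lt).1 hcardprod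
      omega
    obtain ⟨e', ⟨he'W, he'E⟩, he'B⟩ := SetLike.not_le_iff_exists.1 (show ¬ W ⊓ E ≤ B from fun h => by
      have := hWE.trans (Subgroup.card_le_of_le h)
      rw [hBcard] at this
      exact absurd ((Nat.pow_le_pow_iff_right hp.out.one_lt).1 this) (by norm_num))
    have h1 := hWab _ hw e' he'W
    have h2 : α * e' = e' * α := by
      have : α * e' * e = e' * α * e := by rw [mul_assoc α, ← hEc e he e' he'E, ← mul_assoc, h1, mul_assoc]
      exact mul_right_cancel this
    refine he'B (hEC ▸ ⟨he'E, Subgroup.mem_centralizer_iff.2 fun y hy => ?_⟩)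
    have hgen3 : A ≤ B ⊔ Subgroup.zpowers α := by
      refine (Subgroup.eq_of_le_of_card_ge (sup_le hBlt.le (Subgroup.zpowers_le.2 hα)) ?_).ge
      have hlt : B < B ⊔ Subgroup.zpowers α := lt_of_le_of_ne le_sup_left fun h =>
        hαB (h ▸ Subgroup.mem_sup_right (Subgroup.mem_zpowers α))
      have := mul_card_le_of_lt hG hlt
      rw [hBcard, ← pow_succ'] at this
      rw [hAcard]; exact this
    exact Subgroup.mem_centralizer_singleton_iff.1 ((sup_le (fun b hb =>
      Subgroup.mem_centralizer_singleton_iff.2 (hEBc e' he'E b hb).symm)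
      (Subgroup.zpowers_le.2 (Subgroup.mem_centralizer_singleton_iff.2 h2)) :
        B ⊔ Subgroup.zpowers α ≤ Subgroup.centralizer {e'}) (hgen3 hy))
  refine ⟨E, ?_, hE, hE4⟩
  by_contra hEn
  haveI := hG.isNilpotent
  set N := Subgroup.normalizer (E : Set G) with hN
  have hNlt : N < ⊤ := lt_top_iff_ne_top.2 fun h => hEn (Subgroup.normalizer_eq_top_iff.1 h)
  obtain ⟨g, hgN', hgN⟩ := SetLike.exists_of_lt (Group.normalizerCondition_of_isNilpotent N hNlt)
  set E' := E.map (MulAut.conj g).toMonoidHom with hE'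
  have hE'ea : Cfsg.IsElementaryAbelian p E' := Thompson.isEA_map _ hE
  have hE'ne : E' ≠ E := fun h => hgN (Subgroup.mem_normalizer_iff_map_conj_eq.2 h)
  have hE'4 : Nat.card E' = p ^ 4 := by
    rw [hE', Subgroup.card_map_of_injective (f := (MulAut.conj g).toMonoidHom) (MulAut.conj g).injective, hE4]
  have hEN : E ≤ N := Subgroup.le_normalizer
  have hE'N : E' ≤ N := by
    rintro _ ⟨e, he, rfl⟩
    exact (Subgroup.mem_normalizer_iff.1 hgN' e).1 (hEN he)
  have hN' : ∀ n ∈ N, ∀ y ∈ E', n * y * n⁻¹ ∈ E' := by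
    rintro n hn _ ⟨e, he, rfl⟩
    have hn' : g⁻¹ * n * g ∈ N := by
      have := (Subgroup.mem_normalizer_iff.1 (inv_mem hgN') n).1 hn
      simpa using this
    refine ⟨g⁻¹ * n * g * e * (g⁻¹ * n * g)⁻¹, (Subgroup.mem_normalizer_iff.1 hn' e).1 he, ?_⟩
    show g * (g⁻¹ * n * g * e * (g⁻¹ * n * g)⁻¹) * g⁻¹ = n * (g * e * g⁻¹) * n⁻¹
    group
  have hBE' : B ≤ E' := fun b hb =>
    ⟨g⁻¹ * b * g, (by simpa using hBn.conj_mem b hb g⁻¹ : g⁻¹ * b * g ∈ B).1, by
      show g * (g⁻¹ * b * g) * g⁻¹ = b; group⟩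
  have hEc' := CfsgLib.Solvable.Basic.isMulCommutative_subgroup_iff.1 hE'ea.1
  set Y := E ⊔ E' with hY
  have hcm : ∀ u ∈ E, ∀ v ∈ E', ⁅v, u⁆ ∈ E ∧ ⁅v, u⁆ ∈ E' := by
    intro u hu v hv
    rw [commutatorElement_def]
    refine ⟨mul_mem ((Subgroup.mem_normalizer_iff.1 (hE'N hv) u).1 hu) (inv_mem hu), ?_⟩
    rw [show v * u * v⁻¹ * u⁻¹ = v * (u * v⁻¹ * u⁻¹) by group]
    exact mul_mem hv (hN' u (hEN hu) _ (inv_mem hv))
  have hYp : ∀ y ∈ Y, y ^ p = 1 := by
    intro y hy
    rw [hY, ← SetLike.mem_coe, Subgroup.coe_mul_of_right_le_normalizer_left E E' hE'N] at hy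
    obtain ⟨u, hu, v, hv, rfl⟩ := Set.mem_mul.1 hy
    obtain ⟨hzE, hzE'⟩ := hcm u hu v hv
    refine OddOrder.SCN3.pow_eq_one_of_class_two hp2 (hE.2 u hu) (hE'ea.2 v hv) (z := ⁅v, u⁆) ?_
      (hEc' _ hzE' v hv) (hEc _ hzE u hu) (hE.2 _ hzE)
    rw [commutatorElement_def]; group
  have hYB : ∀ y ∈ Y, ∀ b ∈ B, y * b = b * y := by
    intro y hy b hb
    have hle : Y ≤ Subgroup.centralizer {b} :=
      sup_le (fun u hu => Subgroup.mem_centralizer_singleton_iff.2 (hEBc u hu b hb))
        (fun v hv => Subgroup.mem_centralizer_singleton_iff.2 (hEc' v hv b (hBE' hb)))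
    exact Subgroup.mem_centralizer_singleton_iff.1 (hle hy)
  have hYA : Y ⊓ Subgroup.centralizer {a} ≤ A := fun y hy =>
    hAl y (hcenA y (hYB y hy.1) (Subgroup.mem_centralizer_singleton_iff.1 hy.2)) (hYp y hy.1)
  have h1 : Nat.card Y ≤ p ^ 2 * Nat.card ↥(Y ⊓ Subgroup.centralizer {a}) := by
    refine (card_le_of_comm (H := Y) (F := B) (a := a) fun x _ => hDB ▸
      Subgroup.commutator_mem_commutator haA (Subgroup.mem_top x)).trans ?_
    rw [hBcard]
  have hYgt : p ^ 5 ≤ Nat.card Y := by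
    have hlt : E < Y := lt_of_le_of_ne le_sup_left fun h => hE'ne
      (Subgroup.eq_of_le_of_card_ge (show E' ≤ E from h ▸ le_sup_right) (by rw [hE4, hE'4]))
    have := mul_card_le_of_lt hG hlt
    rwa [hE4, ← pow_succ'] at this
  have hAY : A ≤ Y := by
    have hge : Nat.card A ≤ Nat.card ↥(Y ⊓ Subgroup.centralizer {a}) := by
      rw [hAcard]
      have := hYgt.trans h1
      rw [show (p : ℕ) ^ 5 = p ^ 2 * p ^ 3 by ring] at this
      exact Nat.le_of_mul_le_mul_left this (pow_pos hp0 2)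
    rw [← Subgroup.eq_of_le_of_card_ge hYA hge]
    exact inf_le_left
  have hYeq : A ⊔ E = Y := by
    refine Subgroup.eq_of_le_of_card_ge (sup_le hAY le_sup_left) ?_
    rw [hAE]
    refine h1.trans ?_
    rw [show (p : ℕ) ^ 5 = p ^ 2 * p ^ 3 by ring, ← hAcard]
    exact Nat.mul_le_mul_left _ (Subgroup.card_le_of_le hYA)
  exact hE'ne (hunique E' hBE' (hYeq ▸ le_sup_right) hE'4 hEc')

end CfsgLib.Fusion.NormalRankFour
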