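import Cfsg.Agent.Lib.Fusion.ReplacementEA

/-!
Timmesfeld replacement for a group acting on an abelian group with abelian image, in terms of weights.
-/

open scoped commutatorElement
set_option linter.style.haveILetI false
set_option linter.unusedSectionVars false

namespace CfsgLib.Fusion.Offender

open CfsgLib.Fusion.ReplacementEA (wt Good comm1)
open CfsgLib.Solvable.Basic

variable {G : Type*} [Group G] [Finite G] {V A : Subgroup G}

/-- `|B₁| |B₂| ≤ |B₁ ⊔ B₂| |B₁ ⊓ B₂|`. -/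
theorem card_mul_card_le (B₁ B₂ : Subgroup G) :
    Nat.card B₁ * Nat.card B₂ ≤ Nat.card (B₁ ⊔ B₂ : Subgroup G) * Nat.card (B₁ ⊓ B₂ : Subgroup G) := by
  have h1 : B₁.relIndex B₂ ≤ B₁.relIndex (B₁ ⊔ B₂) :=
    Subgroup.relIndex_le_of_le_right le_sup_right Subgroup.index_ne_zero_of_finite
  have h2 := Subgroup.relIndex_mul_relIndex (⊥ : Subgroup G) B₁ (B₁ ⊔ B₂) bot_le le_sup_left
  have h3 := Subgroup.relIndex_mul_relIndex (⊥ : Subgroup G) (B₁ ⊓ B₂) B₂ bot_le inf_le_right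
  rw [Subgroup.relIndex_bot_left, Subgroup.relIndex_bot_left] at h2 h3
  rw [Subgroup.inf_relIndex_right] at h3
  rw [← h2, ← h3]
  calc Nat.card B₁ * (Nat.card (B₁ ⊓ B₂ : Subgroup G) * B₁.relIndex B₂)
      ≤ Nat.card B₁ * (Nat.card (B₁ ⊓ B₂ : Subgroup G) * B₁.relIndex (B₁ ⊔ B₂)) :=
        Nat.mul_le_mul_left _ (Nat.mul_le_mul_left _ h1)
    _ = _ := by ring

theorem good_inf (hVc : ∀ x ∈ V, ∀ y ∈ V, x * y = y * x) (hoff : ∀ B ≤ A, wt V B ≤ wt V A)
    {U B₁ B₂ : Subgroup G} (h1 : Good V A U B₁) (h2 : Good V A U B₂) : Good V A U (B₁ ⊓ B₂) := by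
  set C₁ := V ⊓ Subgroup.centralizer (B₁ : Set G) with hC₁
  set C₂ := V ⊓ Subgroup.centralizer (B₂ : Set G) with hC₂
  set C₀ := V ⊓ Subgroup.centralizer ((B₁ ⊓ B₂ : Subgroup G) : Set G) with hC₀
  have hle : C₁ ⊔ C₂ ≤ C₀ := sup_le
    (inf_le_inf_left _ (Subgroup.centralizer_le (SetLike.coe_subset_coe.mpr inf_le_left)))
    (inf_le_inf_left _ (Subgroup.centralizer_le (SetLike.coe_subset_coe.mpr inf_le_right)))
  have hinf : C₁ ⊓ C₂ = V ⊓ Subgroup.centralizer ((B₁ ⊔ B₂ : Subgroup G) : Set G) := by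
    refine le_antisymm (fun x hx => ⟨hx.1.1, ?_⟩) (le_inf
      (inf_le_inf_left _ (Subgroup.centralizer_le (SetLike.coe_subset_coe.mpr le_sup_left)))
      (inf_le_inf_left _ (Subgroup.centralizer_le (SetLike.coe_subset_coe.mpr le_sup_right))))
    have : B₁ ⊔ B₂ ≤ Subgroup.centralizer {x} := sup_le
      (fun b hb => Subgroup.mem_centralizer_singleton_iff.mpr (Subgroup.mem_centralizer_iff.mp hx.1.2 b hb))
      (fun b hb => Subgroup.mem_centralizer_singleton_iff.mpr (Subgroup.mem_centralizer_iff.mp hx.2.2 b hb))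
    exact Subgroup.mem_centralizer_iff.mpr fun b hb => Subgroup.mem_centralizer_singleton_iff.mp (this hb)
  have e1 := card_mul_card_le B₁ B₂
  have e2 := card_mul_card_le C₁ C₂
  rw [hinf] at e2
  have hge : wt V A ≤ Nat.card (B₁ ⊓ B₂ : Subgroup G) * Nat.card (C₁ ⊔ C₂ : Subgroup G) := by
    refine Nat.le_of_mul_le_mul_left ?_ (Nat.mul_pos Nat.card_pos Nat.card_pos : 0 < wt V A)
    calc wt V A * wt V A ≤ wt V B₁ * wt V B₂ := Nat.mul_le_mul h1.2.1 h2.2.1
      _ = (Nat.card B₁ * Nat.card B₂) * (Nat.card C₁ * Nat.card C₂) := by simp only [wt, ← hC₁, ← hC₂]; ring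
      _ ≤ _ := Nat.mul_le_mul e1 e2
      _ = wt V (B₁ ⊔ B₂) * (Nat.card (B₁ ⊓ B₂ : Subgroup G) * Nat.card (C₁ ⊔ C₂ : Subgroup G)) := by
        simp only [wt]; ring
      _ ≤ _ := Nat.mul_le_mul_right _ (hoff _ (sup_le h1.1 h2.1))
  have hA0 := hoff _ (inf_le_left.trans h1.1 : B₁ ⊓ B₂ ≤ A)
  have heq : C₁ ⊔ C₂ = C₀ := Subgroup.eq_of_le_of_card_ge hle
    (Nat.le_of_mul_le_mul_left ((hA0.trans hge) : Nat.card (B₁ ⊓ B₂ : Subgroup G) * Nat.card C₀ ≤
      Nat.card (B₁ ⊓ B₂ : Subgroup G) * Nat.card (C₁ ⊔ C₂ : Subgroup G)) Nat.card_pos)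
  refine ⟨inf_le_left.trans h1.1, ?_, ?_⟩
  · show wt V A ≤ Nat.card (B₁ ⊓ B₂ : Subgroup G) * Nat.card C₀
    rw [← heq]; exact hge
  · rw [← hC₀, ← heq]; exact sup_le h1.2.2 h2.2.2

theorem good_comm1 (hVc : ∀ x ∈ V, ∀ y ∈ V, x * y = y * x) (hAV : A ≤ Subgroup.normalizer (V : Set G))
    (hab : ⁅A, A⁆ ≤ Subgroup.centralizer (V : Set G)) (hoff : ∀ B ≤ A, wt V B ≤ wt V A) {U : Subgroup G}
    {v : G} (hv : v ∈ V) (hU : comm1 A v ≤ U) :
    Good V A U (A ⊓ Subgroup.centralizer (comm1 A v : Set G)) := by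
  set M := comm1 A v with hM
  set C := A ⊓ Subgroup.centralizer (M : Set G) with hC
  set D := V ⊓ Subgroup.centralizer (A : Set G) with hD
  have hMV : M ≤ V := by
    rw [hM, comm1, Subgroup.closure_le]
    rintro _ ⟨a, ha, rfl⟩
    show v * a * v⁻¹ * a⁻¹ ∈ V
    rw [show v * a * v⁻¹ * a⁻¹ = v * (a * v⁻¹ * a⁻¹) by group]
    exact mul_mem hv ((Subgroup.mem_normalizer_iff.mp (hAV ha) _).mp (inv_mem hv))
  have hsymm : ∀ a ∈ A, ∀ b ∈ A, a * (v * b * v⁻¹ * b⁻¹) * a⁻¹ * (v * b * v⁻¹ * b⁻¹)⁻¹ =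
      b * (v * a * v⁻¹ * a⁻¹) * b⁻¹ * (v * a * v⁻¹ * a⁻¹)⁻¹ := by
    intro a ha b hb
    have hcc := Subgroup.mem_centralizer_iff.mp (hab (Subgroup.commutator_mem_commutator
      (inv_mem ha) (inv_mem hb))) v hv
    have hR : a * b * v * b⁻¹ * a⁻¹ = b * a * v * a⁻¹ * b⁻¹ := by
      calc a * b * v * b⁻¹ * a⁻¹ = b * a * (⁅a⁻¹, b⁻¹⁆ * v) * ⁅a⁻¹, b⁻¹⁆⁻¹ * a⁻¹ * b⁻¹ := by
            simp only [commutatorElement_def]; group
        _ = b * a * (v * ⁅a⁻¹, b⁻¹⁆) * ⁅a⁻¹, b⁻¹⁆⁻¹ * a⁻¹ * b⁻¹ := by rw [hcc]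
        _ = _ := by group
    set P := a * v * a⁻¹ with hP
    set Q := b * v * b⁻¹ with hQ
    set R := a * b * v * b⁻¹ * a⁻¹ with hRd
    have hPV : P ∈ V := (Subgroup.mem_normalizer_iff.mp (hAV ha) _).mp hv
    have hQV : Q ∈ V := (Subgroup.mem_normalizer_iff.mp (hAV hb) _).mp hv
    have hRV : R ∈ V := by
      rw [show R = a * (b * v * b⁻¹) * a⁻¹ by rw [hRd]; group]
      exact (Subgroup.mem_normalizer_iff.mp (hAV ha) _).mp hQV
    calc a * (v * b * v⁻¹ * b⁻¹) * a⁻¹ * (v * b * v⁻¹ * b⁻¹)⁻¹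
        = P * (R⁻¹ * Q) * v⁻¹ := by rw [hP, hQ, hRd]; group
      _ = P * (Q * R⁻¹) * v⁻¹ := by rw [hVc _ (inv_mem hRV) _ hQV]
      _ = (P * Q) * R⁻¹ * v⁻¹ := by group
      _ = (Q * P) * R⁻¹ * v⁻¹ := by rw [hVc _ hPV _ hQV]
      _ = Q * (P * R⁻¹) * v⁻¹ := by group
      _ = Q * (R⁻¹ * P) * v⁻¹ := by rw [hVc _ hPV _ (inv_mem hRV)]
      _ = _ := by rw [hR, hP, hQ]; group
  have hkey : C.relIndex A ≤ D.relIndex M := by
    let f : A ⧸ C.subgroupOf A → M ⧸ D.subgroupOf M := fun t =>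
      QuotientGroup.mk ⟨_, Subgroup.subset_closure ⟨(t.out : A), (t.out : A).2, rfl⟩⟩
    refine Nat.card_le_card_of_injective f fun s t hst => ?_
    rw [← QuotientGroup.out_eq' s, ← QuotientGroup.out_eq' t, QuotientGroup.eq, Subgroup.mem_subgroupOf]
    set a : G := ((s.out : A) : G) with ha
    set a' : G := ((t.out : A) : G) with ha'
    have haA : a ∈ A := (s.out : A).2
    have ha'A : a' ∈ A := (t.out : A).2
    refine ⟨((s.out)⁻¹ * t.out : A).2, Subgroup.mem_centralizer_iff.mpr ?_⟩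
    show ∀ m ∈ M, m * (a⁻¹ * a') = (a⁻¹ * a') * m
    have hmk : QuotientGroup.mk (s := D.subgroupOf M)
          (⟨_, Subgroup.subset_closure ⟨a, haA, rfl⟩⟩ : M) =
        QuotientGroup.mk ⟨_, Subgroup.subset_closure ⟨a', ha'A, rfl⟩⟩ := hst
    have hα' := QuotientGroup.eq.mp hmk
    have hα : (v * a * v⁻¹ * a⁻¹)⁻¹ * (v * a' * v⁻¹ * a'⁻¹) ∈ D := hα'
    have hle : M ≤ Subgroup.centralizer {a⁻¹ * a'} := by
      rw [hM, comm1, Subgroup.closure_le]
      rintro _ ⟨b, hb, rfl⟩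
      rw [SetLike.mem_coe, Subgroup.mem_centralizer_singleton_iff]
      set x := v * a * v⁻¹ * a⁻¹ with hxdef
      set x' := v * a' * v⁻¹ * a'⁻¹ with hx'def
      set y := v * b * v⁻¹ * b⁻¹ with hydef
      have e3 : b * x * b⁻¹ * x⁻¹ = b * x' * b⁻¹ * x'⁻¹ := by
        have hbα : b * (x⁻¹ * x') = (x⁻¹ * x') * b := Subgroup.mem_centralizer_iff.mp hα.2 b hb
        calc b * x * b⁻¹ * x⁻¹ = b * x * b⁻¹ * (x⁻¹ * x') * x'⁻¹ := by group
          _ = b * x * b⁻¹ * ((x⁻¹ * x') * b) * b⁻¹ * x'⁻¹ := by group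
          _ = b * x * b⁻¹ * (b * (x⁻¹ * x')) * b⁻¹ * x'⁻¹ := by rw [hbα]
          _ = b * x' * b⁻¹ * x'⁻¹ := by group
      rw [hxdef, hx'def, ← hsymm a haA b hb, ← hsymm a' ha'A b hb, ← hydef, mul_left_inj] at e3
      calc y * (a⁻¹ * a') = a⁻¹ * (a * y * a⁻¹) * a' := by group
        _ = a⁻¹ * (a' * y * a'⁻¹) * a' := by rw [e3]
        _ = a⁻¹ * a' * y := by group
    exact fun m hm => Subgroup.mem_centralizer_singleton_iff.mp (hle hm)
  set C' := V ⊓ Subgroup.centralizer (C : Set G) with hC'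
  have hMDC : M ⊔ D ≤ C' := sup_le
    (le_inf hMV fun m hm => Subgroup.mem_centralizer_iff.mpr fun c hc =>
      (Subgroup.mem_centralizer_iff.mp hc.2 m hm).symm)
    (inf_le_inf_left _ (Subgroup.centralizer_le (SetLike.coe_subset_coe.mpr inf_le_left)))
  have hge : wt V A ≤ Nat.card C * Nat.card (M ⊔ D : Subgroup G) := by
    have h1 := Thompson.card_sup_mul_card_inf (N := M) (K := D)
      (le_trans (fun d hd => Subgroup.mem_centralizer_iff.mpr fun m hm => hVc m (hMV hm) d hd.1)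
        (Subgroup.centralizer_le_normalizer _))
    have h2 := Subgroup.relIndex_mul_relIndex (⊥ : Subgroup G) C A bot_le inf_le_left
    have h3 := Subgroup.relIndex_mul_relIndex (⊥ : Subgroup G) (M ⊓ D) M bot_le inf_le_left
    rw [Subgroup.relIndex_bot_left, Subgroup.relIndex_bot_left] at h2 h3
    rw [Subgroup.inf_relIndex_left] at h3
    refine Nat.le_of_mul_le_mul_right ?_ (Nat.card_pos (α := (M ⊓ D : Subgroup G)))
    calc wt V A * Nat.card (M ⊓ D : Subgroup G)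
        = Nat.card C * Nat.card D * Nat.card (M ⊓ D : Subgroup G) * C.relIndex A := by
          rw [wt, ← hD, ← h2]; ring
      _ ≤ Nat.card C * Nat.card D * Nat.card (M ⊓ D : Subgroup G) * D.relIndex M :=
          Nat.mul_le_mul_left _ hkey
      _ = Nat.card C * (Nat.card M * Nat.card D) := by rw [← h3]; ring
      _ = _ := by rw [← h1]; ring
  have heq : M ⊔ D = C' := Subgroup.eq_of_le_of_card_ge hMDC (Nat.le_of_mul_le_mul_left
    ((hoff C inf_le_left).trans hge) Nat.card_pos)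
  refine ⟨inf_le_left, ?_, ?_⟩
  · show wt V A ≤ Nat.card C * Nat.card C'
    rw [← heq]; exact hge
  · rw [← hC', ← heq]; exact sup_le_sup_right hU _

/-- Timmesfeld's replacement: `C_A([U, A])` has full weight and fixed points `[U, A] C_V(A)`. -/
theorem replacement (hVc : ∀ x ∈ V, ∀ y ∈ V, x * y = y * x) (hAV : A ≤ Subgroup.normalizer (V : Set G))
    (hab : ⁅A, A⁆ ≤ Subgroup.centralizer (V : Set G)) (hoff : ∀ B ≤ A, wt V B ≤ wt V A) {U : Subgroup G}
    (hU : U ≤ V) :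
    wt V (A ⊓ Subgroup.centralizer ((⁅U, A⁆ : Subgroup G) : Set G)) = wt V A ∧
      V ⊓ Subgroup.centralizer ((A ⊓ Subgroup.centralizer ((⁅U, A⁆ : Subgroup G) : Set G) : Subgroup G) : Set G) =
        ⁅U, A⁆ ⊔ (V ⊓ Subgroup.centralizer (A : Set G)) := by
  classical
  haveI : Fintype U := Fintype.ofFinite U
  have hle1 : ∀ u ∈ U, comm1 A u ≤ ⁅U, A⁆ := by
    intro u hu
    rw [comm1, Subgroup.closure_le]
    rintro _ ⟨a, ha, rfl⟩
    exact Subgroup.commutator_mem_commutator hu ha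
  have h : ∀ T : Finset U, Good V A ⁅U, A⁆
      (A ⊓ ⨅ v ∈ T, Subgroup.centralizer (comm1 A (v : G) : Set G)) := by
    intro T
    induction T using Finset.induction with
    | empty =>
      refine ⟨inf_le_left, ?_, ?_⟩ <;> simp only [Finset.notMem_empty, iInf_false, iInf_top, inf_top_eq]
      · exact le_rfl
      · exact le_sup_right
    | @insert v T _ ih =>
      rw [Finset.iInf_insert, inf_inf_distrib_left]
      exact good_inf hVc hoff (good_comm1 hVc hAV hab hoff (hU v.2) (hle1 _ v.2)) ih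
  have he : A ⊓ Subgroup.centralizer ((⁅U, A⁆ : Subgroup G) : Set G) =
      A ⊓ ⨅ v ∈ (Finset.univ : Finset U), Subgroup.centralizer (comm1 A (v : G) : Set G) := by
    refine le_antisymm (inf_le_inf_left _ (le_iInf₂ fun v _ => Subgroup.centralizer_le
      (SetLike.coe_subset_coe.mpr (hle1 _ v.2)))) (inf_le_inf_left _ fun x hx => ?_)
    have hle : ⁅U, A⁆ ≤ Subgroup.centralizer {x} := by
      rw [Subgroup.commutator_le]
      intro v hv a ha
      rw [Subgroup.mem_centralizer_singleton_iff]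
      have h1 := Subgroup.mem_iInf.mp (Subgroup.mem_iInf.mp hx ⟨v, hv⟩) (Finset.mem_univ _)
      exact Subgroup.mem_centralizer_iff.mp h1 _ (Subgroup.subset_closure ⟨a, ha, rfl⟩)
    exact Subgroup.mem_centralizer_iff.mpr fun m hm => Subgroup.mem_centralizer_singleton_iff.mp (hle hm)
  have hg := h Finset.univ
  rw [← he] at hg
  have hUV : ⁅U, A⁆ ≤ V := by
    rw [Subgroup.commutator_le]
    intro u hu a ha
    rw [commutatorElement_def, show u * a * u⁻¹ * a⁻¹ = u * (a * u⁻¹ * a⁻¹) by group]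
    exact V.mul_mem (hU hu) ((Subgroup.mem_normalizer_iff.mp (hAV ha) _).mp (V.inv_mem (hU hu)))
  refine ⟨le_antisymm (hoff _ inf_le_left) hg.2.1, le_antisymm hg.2.2 (sup_le (le_inf hUV ?_) ?_)⟩
  · exact fun m hm => Subgroup.mem_centralizer_iff.mpr fun c hc =>
      (Subgroup.mem_centralizer_iff.mp hc.2 m hm).symm
  · exact inf_le_inf_left _ (Subgroup.centralizer_le (SetLike.coe_subset_coe.mpr inf_le_left))

/-- A group inducing a `p`-group on `V` does not fix `V` through `[V, A]`. -/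
theorem commutator_eq_bot_of_le {p : ℕ} [Fact p.Prime] (hV : IsPGroup p V) (hVc : ∀ x ∈ V, ∀ y ∈ V, x * y = y * x)
    (hAV : A ≤ Subgroup.normalizer (V : Set G)) (hpow : ∀ a ∈ A, a ^ p ∈ Subgroup.centralizer (V : Set G))
    (h : V ≤ ⁅V, A⁆ ⊔ (V ⊓ Subgroup.centralizer (A : Set G))) : ⁅V, A⁆ = ⊥ := by
  obtain ⟨S⟩ : Nonempty (Sylow p A) := inferInstance
  set B := (S : Subgroup A).map A.subtype with hB
  have hBA : B ≤ A := Subgroup.map_subtype_le _
  -- `B` covers `A` modulo the centraliser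
  have hcover : ∀ a ∈ A, ∃ b ∈ B, b⁻¹ * a ∈ Subgroup.centralizer (V : Set G) := by
    intro a ha
    set N := (A ⊓ Subgroup.centralizer (V : Set G)).subgroupOf A with hN
    haveI hNn : N.Normal := ⟨fun n hn g => by
      rw [hN, Subgroup.mem_subgroupOf] at hn ⊢
      refine ⟨(g * n * g⁻¹).2, Subgroup.mem_centralizer_iff.mpr fun v hv => ?_⟩
      have hv' : (g : G)⁻¹ * v * g ∈ V := (Subgroup.mem_normalizer_iff''.mp (hAV g.2) v).mp hv
      have e := Subgroup.mem_centralizer_iff.mp hn.2 _ hv'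
      simp only [Subgroup.coe_mul, Subgroup.coe_inv]
      calc v * ((g : G) * (n : G) * (g : G)⁻¹) = (g : G) * ((g : G)⁻¹ * v * g * n) * (g : G)⁻¹ := by group
        _ = (g : G) * ((n : G) * ((g : G)⁻¹ * v * g)) * (g : G)⁻¹ := by rw [e]
        _ = _ := by group⟩
    have hq : IsPGroup p (A ⧸ N) := fun y => by
      obtain ⟨x, rfl⟩ := QuotientGroup.mk'_surjective N y
      refine ⟨1, ?_⟩
      rw [pow_one, ← map_pow, QuotientGroup.mk'_apply, QuotientGroup.eq_one_iff, hN, Subgroup.mem_subgroupOf]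
      exact ⟨(x ^ p).2, hpow _ x.2⟩
    have hmax := (S.mapSurjective (QuotientGroup.mk'_surjective N)).3 (hq.of_equiv Subgroup.topEquiv.symm) le_top
    have hm : QuotientGroup.mk' N ⟨a, ha⟩ ∈
        ((S.mapSurjective (QuotientGroup.mk'_surjective N) : Sylow p (A ⧸ N)) : Subgroup (A ⧸ N)) :=
      hmax ▸ Subgroup.mem_top _
    rw [Sylow.coe_mapSurjective] at hm
    obtain ⟨s, hs, hse⟩ := hm
    exact ⟨(s : G), Subgroup.mem_map_of_mem A.subtype hs, (QuotientGroup.eq.mp hse).2⟩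
  have hVA : ⁅V, A⁆ ≤ ⁅V, B⁆ := by
    rw [Subgroup.commutator_le]
    intro v hv a ha
    obtain ⟨b, hb, hc⟩ := hcover a ha
    have hcv := Subgroup.mem_centralizer_iff.mp hc v⁻¹ (inv_mem hv)
    have : ⁅v, a⁆ = ⁅v, b⁆ := by
      calc ⁅v, a⁆ = v * b * ((b⁻¹ * a) * v⁻¹) * (b⁻¹ * a)⁻¹ * b⁻¹ := by
            simp only [commutatorElement_def]; group
        _ = v * b * (v⁻¹ * (b⁻¹ * a)) * (b⁻¹ * a)⁻¹ * b⁻¹ := by rw [hcv]
        _ = _ := by simp only [commutatorElement_def]; group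
    rw [this]
    exact Subgroup.commutator_mem_commutator hv hb
  by_contra hne
  set W := ⁅V, B⁆ with hW
  have hWV : W ≤ V := by
    rw [hW, Subgroup.commutator_le]
    intro u hu a ha
    rw [commutatorElement_def, show u * a * u⁻¹ * a⁻¹ = u * (a * u⁻¹ * a⁻¹) by group]
    exact V.mul_mem hu ((Subgroup.mem_normalizer_iff.mp (hAV (hBA ha)) _).mp (V.inv_mem hu))
  have hWne : W ≠ ⊥ := fun e => hne (le_bot_iff.mp (e ▸ hVA))
  have hWle : W ≤ ⁅W, B⁆ := by
    rw [hW, Subgroup.commutator_le]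
    intro v hv b hb
    set D := V ⊓ Subgroup.centralizer (A : Set G) with hD
    have hv' : v ∈ W ⊔ D := sup_le (hVA.trans le_sup_left) le_sup_right (h hv)
    rw [← SetLike.mem_coe, Subgroup.coe_mul_of_right_le_normalizer_left W D
        (le_trans (fun d hd => Subgroup.mem_centralizer_iff.mpr fun u hu => hVc u (hWV hu) d hd.1)
          (Subgroup.centralizer_le_normalizer _))] at hv'
    obtain ⟨u, hu, d, hd, rfl⟩ := hv'
    have hda : d * b = b * d := (Subgroup.mem_centralizer_iff.mp hd.2 b (hBA hb)).symm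
    have h1 : ⁅u * d, b⁆ = ⁅u, b⁆ := by
      calc ⁅u * d, b⁆ = u * (d * b) * d⁻¹ * u⁻¹ * b⁻¹ := by simp only [commutatorElement_def]; group
        _ = u * (b * d) * d⁻¹ * u⁻¹ * b⁻¹ := by rw [hda]
        _ = ⁅u, b⁆ := by simp only [commutatorElement_def]; group
    rw [h1]
    exact Subgroup.commutator_mem_commutator hu hb
  exact (CfsgLib.Coprime.commutator_lt_of_isPGroup (S.isPGroup'.map _) (hV.to_le hWV)
    (Subgroup.normalizer_commutator_ge_right V B) hWne).not_ge hWle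

end CfsgLib.Fusion.Offender
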