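import Cfsg.Agent.Lib.Fusion.Thompson
import Cfsg.Agent.Lib.Fusion.PSolvable

/-!
The normal closure of `Ω₁(Z(S))` in a `p`-separable group with trivial `p'`-core.
-/

set_option autoImplicit false
set_option linter.unusedSectionVars false

namespace CfsgLib.Fusion.OmegaCenter

open CfsgLib.Solvable

universe u

variable {G : Type u} [Group G] {p : ℕ}

/-- The subgroup generated by all `Ω₁(Z(S))`. -/
def closureOmega (p : ℕ) (G : Type u) [Group G] : Subgroup G :=
  ⨆ S : Sylow p G, Cfsg.omegaOne p ((S : Subgroup G) ⊓ Subgroup.centralizer ((S : Subgroup G) : Set G))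

theorem omega_le [Finite G] [Fact p.Prime] (hsep : Cfsg.IsPSolvable p G) (hO : Cfsg.pPrimeCore p G = ⊥) :
    closureOmega p G ≤ Cfsg.pCore p G ⊓ Subgroup.centralizer (Cfsg.pCore p G : Set G) := by
  refine iSup_le fun S => (Subgroup.closure_le _).2 fun x hx => ?_
  have hxc : x ∈ Subgroup.centralizer (Cfsg.pCore p G : Set G) :=
    Subgroup.mem_centralizer_iff.2 fun y hy =>
      Subgroup.mem_centralizer_iff.1 hx.1.2 y (Cores.pCore_le_sylow S hy)
  exact ⟨PSolvable.centralizer_pCore_le hsep hO hxc, hxc⟩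

theorem isEA [Finite G] [Fact p.Prime] (hsep : Cfsg.IsPSolvable p G) (hO : Cfsg.pPrimeCore p G = ⊥) :
    Cfsg.IsElementaryAbelian p (closureOmega p G) := by
  have hVQ := omega_le hsep hO
  have hVc : ∀ x ∈ closureOmega p G, ∀ y ∈ closureOmega p G, x * y = y * x := fun x hx y hy =>
    Subgroup.mem_centralizer_iff.1 (hVQ hy).2 x (hVQ hx).1
  refine ⟨Solvable.Basic.isMulCommutative_subgroup_iff.2 hVc, fun x hx => ?_⟩
  induction hx using Subgroup.iSup_induction' with
  | hp S x hx =>
    induction hx using Subgroup.closure_induction with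
    | mem y hy => exact hy.2
    | one => exact one_pow _
    | mul a b ha hb iha ihb =>
      rw [Commute.mul_pow (hVc a (Subgroup.mem_iSup_of_mem S ha) b (Subgroup.mem_iSup_of_mem S hb)),
        iha, ihb, one_mul]
    | inv a _ iha => rw [inv_pow, iha, inv_one]
  | h1 => exact one_pow _
  | hmul a b ha hb iha ihb => rw [Commute.mul_pow (hVc a ha b hb), iha, ihb, one_mul]

theorem normal [Finite G] [Fact p.Prime] : (closureOmega p G).Normal := by
  set W := fun S : Sylow p G => Cfsg.omegaOne p ((S : Subgroup G) ⊓ Subgroup.centralizer ((S : Subgroup G) : Set G))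
  refine ⟨fun x hx d => ?_⟩
  have hle : closureOmega p G ≤ (closureOmega p G).comap (MulAut.conj d).toMonoidHom := by
    refine iSup_le fun T => le_trans ?_ (Subgroup.comap_mono (le_iSup W (d • T)))
    refine (Subgroup.closure_le _).mpr fun y hy => Subgroup.subset_closure ⟨⟨⟨y, hy.1.1, rfl⟩, ?_⟩, ?_⟩
    · rintro _ ⟨u, hu, rfl⟩
      show d * u * d⁻¹ * (d * y * d⁻¹) = d * y * d⁻¹ * (d * u * d⁻¹)
      rw [show d * u * d⁻¹ * (d * y * d⁻¹) = d * (u * y) * d⁻¹ by group, hy.1.2 u hu]
      group
    · show (d * y * d⁻¹) ^ p = 1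
      rw [conj_pow, hy.2, mul_one, mul_inv_cancel]
  exact hle hx

theorem pCore_quotient [Finite G] [Fact p.Prime] [(closureOmega p G).Normal] :
    Cfsg.pCore p (G ⧸ Subgroup.centralizer (closureOmega p G : Set G)) = ⊥ := by
  set C := Subgroup.centralizer (closureOmega p G : Set G)
  set U := (Cfsg.pCore p (G ⧸ C)).comap (QuotientGroup.mk' C) with hU
  have hUV : U ≤ C := by
    refine Subgroup.le_centralizer_iff.1 (iSup_le fun S => Subgroup.le_centralizer_iff.1 ?_)
    have hWS : C ⊔ (S : Subgroup G) ≤ Subgroup.centralizer ((Cfsg.omegaOne p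
        ((S : Subgroup G) ⊓ Subgroup.centralizer ((S : Subgroup G) : Set G)) : Subgroup G) : Set G) := by
      refine sup_le (Subgroup.centralizer_le (SetLike.coe_subset_coe.2
        (le_iSup (fun S : Sylow p G => Cfsg.omegaOne p
          ((S : Subgroup G) ⊓ Subgroup.centralizer ((S : Subgroup G) : Set G))) S))) ?_
      rw [Subgroup.le_centralizer_iff]
      exact (Subgroup.closure_le _).2 fun x hx => hx.1.2
    refine le_trans ?_ hWS
    have h1 := Cores.pCore_le_sylow (S.mapSurjective (QuotientGroup.mk'_surjective C))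
    rw [Sylow.coe_mapSurjective] at h1
    refine (Subgroup.comap_mono h1).trans (le_of_eq ?_)
    rw [Subgroup.comap_map_eq, QuotientGroup.ker_mk', sup_comm]
  rw [eq_bot_iff]
  intro x hx
  obtain ⟨g, rfl⟩ := QuotientGroup.mk'_surjective C x
  exact Subgroup.mem_bot.2 ((QuotientGroup.eq_one_iff g).2 (hUV hx))

end CfsgLib.Fusion.OmegaCenter
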