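import Cfsg.Agent.Lib.Fusion.OffenderMain
import Mathlib.GroupTheory.Perm.Finite
import Mathlib.SetTheory.Cardinal.Finite

/-!
Norms over the orbit of a commuting family of small subgroups under a `q`-group of operators.
-/

set_option autoImplicit false
set_option linter.unusedSectionVars false
set_option linter.deprecated false
set_option linter.style.haveILetI false

open scoped MatrixGroups

namespace CfsgLib.Fusion.OrbitNorm

variable {q : ℕ} [hq : Fact q.Prime]

/-- A permutation of order dividing `q` of fewer than `q` points is trivial. -/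
theorem perm_fix {T : Type*} [Finite T] (π : Equiv.Perm T) (hπ : π ^ q = 1) (h : Nat.card T < q) :
    π = 1 := by
  rcases hq.out.eq_one_or_self_of_dvd _ (orderOf_dvd_of_pow_eq_one hπ) with h1 | h1
  · exact orderOf_eq_one_iff.1 h1
  · classical
    haveI := Fintype.ofFinite T
    have := orderOf_dvd_natCard π
    rw [h1, Nat.card_eq_fintype_card, Fintype.card_perm, hq.out.dvd_factorial,
      ← Nat.card_eq_fintype_card] at this
    omega

/-- A fixed point in an invariant coset. -/
theorem exists_fixed_coset {K X : Type*} [Group K] [Finite K] [Group X] [Finite X] (σ : X →* MulAut K)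
    (hX : IsPGroup q X) (hK : ¬ q ∣ Nat.card K) (C : Subgroup K) (hC : ∀ x, ∀ c ∈ C, σ x c ∈ C)
    {k : K} (hk : ∀ x, σ x k * k⁻¹ ∈ C) : ∃ k', (∀ x, σ x k' = k') ∧ k' * k⁻¹ ∈ C := by
  letI : MulAction X {z : K // z * k⁻¹ ∈ C} :=
    { smul := fun x z => ⟨σ x z, by
        rw [show σ x (z : K) * k⁻¹ = σ x ((z : K) * k⁻¹) * (σ x k * k⁻¹) by rw [map_mul, map_inv]; group]
        exact mul_mem (hC x _ z.2) (hk x)⟩
      one_smul := fun z => Subtype.ext (by show σ 1 (z : K) = z; rw [map_one]; rfl)
      mul_smul := fun x y z => Subtype.ext (by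
        show σ (x * y) (z : K) = σ x (σ y z); rw [map_mul]; rfl) }
  have hcard : Nat.card {z : K // z * k⁻¹ ∈ C} = Nat.card C :=
    Nat.card_congr ((Equiv.mulRight k⁻¹).subtypeEquiv fun _ => Iff.rfl)
  obtain ⟨z, hz⟩ := hX.nonempty_fixed_point_of_prime_not_dvd_card {z : K // z * k⁻¹ ∈ C}
    (by rw [hcard]; exact fun h => hK (h.trans C.card_subgroup_dvd_card))
  exact ⟨z, fun x => congrArg Subtype.val (hz x), z.2⟩

/-- An automorphism of prime order at least five fixes an invariant `SL(2,2)` or `SL(2,3)`. -/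
theorem fix_of_map_eq {Q : Type*} [Group Q] [Finite Q] (hq5 : 5 ≤ q) {p : ℕ} (hp : p = 2 ∨ p = 3)
    (E : Subgroup Q) (φ : E ≃* SL(2, ZMod p)) (α : MulAut Q) (hα : α ^ q = 1)
    (hE : ∀ e ∈ E, α e ∈ E) (hgen : E ≤ Subgroup.closure {e | e ∈ E ∧ e ^ p = 1}) :
    ∀ e ∈ E, α e = e := by
  haveI : Fact p.Prime := ⟨by rcases hp with rfl | rfl <;> norm_num⟩
  have hmap : E.map α.toMonoidHom = E := by
    refine Subgroup.eq_of_le_of_card_ge (by rintro _ ⟨e, he, rfl⟩; exact hE e he) (le_of_eq ?_)
    exact Nat.card_congr (E.equivMapOfInjective _ α.injective).toEquiv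
  -- few subgroups of order `p`
  have hsyl : Nat.card (Sylow p E) ≤ 4 := by
    obtain ⟨P⟩ : Nonempty (Sylow p E) := inferInstance
    have h1 := P.card_dvd_index
    have h2 := card_sylow_modEq_one p E
    have h3 := P.not_dvd_index
    have h4 := Subgroup.index_dvd_card (P : Subgroup E)
    rw [Nat.card_congr φ.toEquiv, Nat.card_eq_fintype_card] at h4
    have h5 : 0 < Nat.card (Sylow p E) := Nat.card_pos
    rcases hp with rfl | rfl
    · rw [show Fintype.card SL(2, ZMod 2) = 6 by decide] at h4
      have h6 := Nat.le_of_dvd (by norm_num) h4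
      have h7 := Nat.le_of_dvd (Nat.pos_of_ne_zero Subgroup.index_ne_zero_of_finite) h1
      by_contra hcon
      have h8 : (P : Subgroup E).index = 5 ∨ (P : Subgroup E).index = 6 := by omega
      rcases h8 with h8 | h8 <;> rw [h8] at h3 h4 <;> revert h3 h4 <;> decide
    · rw [show Fintype.card SL(2, ZMod 3) = 24 by decide] at h4
      have h6 := Nat.le_of_dvd (by norm_num) h4
      have h7 : (P : Subgroup E).index ∣ 8 := by
        rw [show (24 : ℕ) = 8 * 3 from rfl] at h4
        exact (Nat.Coprime.dvd_of_dvd_mul_right ((Nat.Prime.coprime_iff_not_dvd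
          (by norm_num : Nat.Prime 3)).2 h3).symm h4)
      have h9 := h1.trans h7
      have h10 := Nat.le_of_dvd (by norm_num) h9
      by_contra hcon
      unfold Nat.ModEq at h2
      interval_cases h : Nat.card (Sylow 3 E) <;> omega
  have hcardE : ∀ {P : Subgroup Q}, P ≤ E → Nat.card P = p →
      Nat.card (P.subgroupOf E) = p ^ (Nat.card E).factorization p := by
    intro P hP hcard
    rw [Nat.card_congr (Subgroup.subgroupOfEquivOfLe hP).toEquiv, hcard]
    have h24 : (Nat.card E).factorization p = 1 := by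
      rw [Nat.card_congr φ.toEquiv, Nat.card_eq_fintype_card]
      rcases hp with rfl | rfl
      · rw [show Fintype.card SL(2, ZMod 2) = 2 * 3 by decide, Nat.factorization_mul (by norm_num) (by norm_num)]
        simp [Nat.prime_two.factorization_self, Nat.factorization_eq_zero_of_not_dvd]
      · rw [show Fintype.card SL(2, ZMod 3) = 3 * 8 by decide, Nat.factorization_mul (by norm_num) (by norm_num)]
        simp [Nat.prime_three.factorization_self, Nat.factorization_eq_zero_of_not_dvd]
    rw [h24, pow_one]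
  let π : Equiv.Perm {P : Subgroup Q // P ≤ E ∧ Nat.card P = p} :=
    Equiv.ofBijective
      (fun P => ⟨P.1.map α.toMonoidHom, (Subgroup.map_mono P.2.1).trans hmap.le,
        by rw [Subgroup.card_map_of_injective (f := α.toMonoidHom) α.injective]; exact P.2.2⟩)
      (Finite.injective_iff_bijective.1 fun P R h =>
        Subtype.ext (Subgroup.map_injective (f := α.toMonoidHom) α.injective (congrArg Subtype.val h)))
  have hπn : ∀ n : ℕ, ∀ P, ((π ^ n) P).1 = P.1.map (α ^ n).toMonoidHom := by
    intro n
    induction n with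
    | zero =>
      intro P
      simp only [pow_zero, Equiv.Perm.coe_one, id_eq]
      exact (Subgroup.map_id _).symm
    | succ n ih =>
      intro P
      rw [pow_succ', pow_succ', Equiv.Perm.mul_apply]
      show ((π ^ n) P).1.map α.toMonoidHom = _
      rw [ih, Subgroup.map_map]
      rfl
  have hinj : Function.Injective (fun P : {P : Subgroup Q // P ≤ E ∧ Nat.card P = p} =>
      Sylow.ofCard (P.1.subgroupOf E) (hcardE P.2.1 P.2.2)) := by
    intro P R h
    have h1 := congrArg (fun T : Sylow p E => (T : Subgroup E).map E.subtype) h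
    simp only [Sylow.coe_ofCard, Subgroup.subgroupOf_map_subtype, inf_eq_left.2 P.2.1,
      inf_eq_left.2 R.2.1] at h1
    exact Subtype.ext h1
  have hπ1 : π = 1 := perm_fix π
    (Equiv.ext fun P => Subtype.ext (by rw [hπn, hα]; exact Subgroup.map_id _))
    (lt_of_le_of_lt ((Nat.card_le_card_of_injective _ hinj).trans hsyl) (by omega))
  have hgenfix : ∀ e ∈ E, e ^ p = 1 → α e = e := by
    intro e he hep
    rcases eq_or_ne e 1 with rfl | hne
    · exact map_one α
    have hcard : Nat.card (Subgroup.zpowers e) = p := by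
      rw [Nat.card_zpowers, orderOf_eq_prime hep hne]
    have hfix : (Subgroup.zpowers e).map α.toMonoidHom = Subgroup.zpowers e :=
      congrArg Subtype.val (Equiv.congr_fun hπ1 ⟨_, Subgroup.zpowers_le.2 he, hcard⟩)
    let β : Equiv.Perm {x : Q // x ∈ Subgroup.zpowers e} :=
      Equiv.ofBijective (fun x => ⟨α x, hfix.le (Subgroup.mem_map_of_mem α.toMonoidHom x.2)⟩)
        (Finite.injective_iff_bijective.1 fun x y h =>
          Subtype.ext (α.injective (congrArg Subtype.val h)))
    have hβn : ∀ n : ℕ, ∀ x, ((β ^ n) x).1 = (α ^ n) x.1 := by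
      intro n
      induction n with
      | zero => intro x; rfl
      | succ n ih =>
        intro x
        rw [pow_succ', pow_succ', Equiv.Perm.mul_apply]
        show α ((β ^ n) x).1 = _
        rw [ih]
        rfl
    have hβ1 : β = 1 := perm_fix β (Equiv.ext fun x => Subtype.ext (by rw [hβn, hα]; rfl))
      (by rw [hcard]; omega)
    exact congrArg Subtype.val (Equiv.congr_fun hβ1 ⟨e, Subgroup.mem_zpowers e⟩)
  intro e he
  refine (show Subgroup.closure {e | e ∈ E ∧ e ^ p = 1} ≤ MonoidHom.eqLocus α.toMonoidHom (MonoidHom.id Q) from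
    (Subgroup.closure_le _).2 fun x hx => hgenfix x hx.1 hx.2) (hgen he)

variable {Q X : Type*} [Group Q] [Finite Q] [Group X] [Finite X]

/-- A norm: every element of `E` is the `E`-component of a fixed element. -/
theorem exists_norm (τ : X →* MulAut Q) (hX : IsPGroup q X) {E : Subgroup Q} (hEq : ¬ q ∣ Nat.card E)
    (hdich : ∀ x, (∀ e ∈ E, τ x e = e) ∨ ∀ e ∈ E, ∀ f ∈ E, τ x e * f = f * τ x e)
    {M : Subgroup Q} (hM : ∀ x, (¬ ∀ e ∈ E, τ x e = e) → ∀ e ∈ E, τ x e ∈ M)
    {f : Q} (hf : f ∈ E) : ∃ z ∈ M, (∀ e ∈ E, z * e = e * z) ∧ ∀ x, τ x (f * z) = f * z := by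
  classical
  haveI := Fintype.ofFinite X
  let St : Subgroup X :=
    { carrier := {x | ∀ e ∈ E, τ x e = e}
      one_mem' := fun e _ => by rw [map_one]; rfl
      mul_mem' := fun {x y} hx hy e he => by
        rw [map_mul, MulAut.mul_apply, hy e he, hx e he]
      inv_mem' := fun {x} hx e he => by
        have h1 := congrArg (τ x⁻¹) (hx e he)
        rw [← MulAut.mul_apply, ← map_mul, inv_mul_cancel, map_one] at h1
        exact h1.symm }
  obtain ⟨m, hm⟩ := IsPGroup.iff_card.1 (hX.to_subgroup St)
  have hcop : (Nat.card E).Coprime (Nat.card St) := by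
    rw [hm]
    exact ((hq.out.coprime_iff_not_dvd.2 hEq).symm).pow_right m
  obtain ⟨⟨e, he⟩, hef⟩ := (powCoprime hcop).surjective ⟨f, hf⟩
  have hef' : e ^ Nat.card St = f := congrArg Subtype.val hef
  have hcomm : ∀ a ∈ Set.range (fun x => τ x e), ∀ b ∈ Set.range (fun x => τ x e), a * b = b * a := by
    rintro _ ⟨x, rfl⟩ _ ⟨y, rfl⟩
    have h : τ (y⁻¹ * x) e * e = e * τ (y⁻¹ * x) e := by
      rcases hdich (y⁻¹ * x) with h | h
      · rw [h e he]
      · exact h e he e he
    have h' := congrArg (τ y) h
    simp only [map_mul, ← MulAut.mul_apply] at h'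
    rwa [← mul_assoc, ← map_mul τ, mul_inv_cancel, map_one, one_mul] at h'
  letI : CommGroup (Subgroup.closure (Set.range (fun x => τ x e))) :=
    Subgroup.closureCommGroupOfComm hcomm
  let g : X → Subgroup.closure (Set.range (fun x => τ x e)) :=
    fun x => ⟨τ x e, Subgroup.subset_closure ⟨x, rfl⟩⟩
  have hsplit : ((∏ x, g x : _) : Q) =
      ((∏ x ∈ Finset.univ.filter (· ∈ St), g x : _) : Q) *
        ((∏ x ∈ Finset.univ.filter (· ∉ St), g x : _) : Q) := by
    rw [← Subgroup.coe_mul, Finset.prod_filter_mul_prod_filter_not]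
  have hin : ((∏ x ∈ Finset.univ.filter (· ∈ St), g x : _) : Q) = f := by
    rw [Finset.prod_congr rfl (g := fun _ => g 1) fun x hx => Subtype.ext (by
      show τ x e = τ 1 e
      rw [(Finset.mem_filter.1 hx).2 e he, map_one]; rfl),
      Finset.prod_const, Subgroup.coe_pow]
    show τ 1 e ^ _ = f
    rw [map_one, MulAut.one_apply, ← hef', Nat.card_eq_fintype_card, Fintype.card_subtype]
  refine ⟨((∏ x ∈ Finset.univ.filter (· ∉ St), g x : _) : Q), ?_, fun a ha => ?_, fun y => ?_⟩
  · have : (∏ x ∈ Finset.univ.filter (· ∉ St), g x) ∈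
        M.subgroupOf (Subgroup.closure (Set.range (fun x => τ x e))) :=
      Subgroup.prod_mem _ fun x hx =>
        Subgroup.mem_subgroupOf.2 (hM x (Finset.mem_filter.1 hx).2 e he)
    exact Subgroup.mem_subgroupOf.1 this
  · have : (∏ x ∈ Finset.univ.filter (· ∉ St), g x) ∈
        (Subgroup.centralizer {a}).subgroupOf (Subgroup.closure (Set.range (fun x => τ x e))) := by
      refine Subgroup.prod_mem _ fun x hx => Subgroup.mem_subgroupOf.2 ?_
      rcases hdich x with h | h
      · exact absurd (show x ∈ St from h) (Finset.mem_filter.1 hx).2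
      · exact Subgroup.mem_centralizer_singleton_iff.2 (h e he a ha)
    exact Subgroup.mem_centralizer_singleton_iff.1 (Subgroup.mem_subgroupOf.1 this)
  · rw [← hin, ← hsplit]
    have hmem : ∀ a ∈ Subgroup.closure (Set.range (fun x => τ x e)),
        τ y a ∈ Subgroup.closure (Set.range (fun x => τ x e)) := by
      intro a ha
      have : (Subgroup.closure (Set.range (fun x => τ x e))).map (τ y).toMonoidHom ≤
          Subgroup.closure (Set.range (fun x => τ x e)) := by
        rw [MonoidHom.map_closure]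
        refine (Subgroup.closure_le _).2 ?_
        rintro _ ⟨_, ⟨x, rfl⟩, rfl⟩
        exact Subgroup.subset_closure ⟨y * x, show τ (y * x) e = τ y (τ x e) by rw [map_mul]; rfl⟩
      exact this (Subgroup.mem_map_of_mem _ ha)
    let h : Subgroup.closure (Set.range (fun x => τ x e)) →*
        Subgroup.closure (Set.range (fun x => τ x e)) :=
      ((τ y).toMonoidHom.comp (Subgroup.subtype _)).codRestrict _ fun a => hmem a a.2
    show ((h (∏ x, g x) : _) : Q) = _
    rw [map_prod]
    congr 1
    refine Fintype.prod_equiv (Equiv.mulLeft y) _ _ fun x => Subtype.ext ?_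
    show τ y (τ x e) = τ (y * x) e
    rw [map_mul]; rfl

end CfsgLib.Fusion.OrbitNorm
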