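import Cfsg.Agent.Lib.Fusion.FailureFactor
import Cfsg.Agent.Lib.Fusion.OmegaCenter
import Cfsg.Agent.Lib.Fusion.OrbitNorm

/-!
A `q`-group of operators on a `p`-separable group and the `SL(2, p)`'s induced by the Thompson subgroup.
-/

set_option autoImplicit false
set_option linter.style.haveILetI false
set_option linter.unusedSectionVars false

open scoped MatrixGroups commutatorElement

namespace CfsgLib.Fusion.OffenderAction

open CfsgLib.Solvable CfsgLib.Fusion.OffenderTv

universe u

variable {K : Type u} [Group K] [Finite K] {p : ℕ} [Fact p.Prime]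

attribute [local instance] OmegaCenter.normal

local notation "VV" => OmegaCenter.closureOmega p K
local notation "CC" => Subgroup.centralizer (VV : Set K)
local notation "QQ" => K ⧸ CC
local notation "qq" => QuotientGroup.mk' CC
local notation "ii" => (SemidirectProduct.inr : QQ →* FailureFactor.Amb VV)
local notation "HH" => Subgroup.map (FailureFactor.rho VV) (Cfsg.thompsonSubgroup p K)
local notation "KK" => Subgroup.map (Subgroup.subtype HH) (Cfsg.pPrimeCore p ↥HH)

/-- The group induced by the Thompson subgroup. -/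
def jq (p : ℕ) [Fact p.Prime] (K : Type u) [Group K] [Finite K] :
    Subgroup (K ⧸ Subgroup.centralizer (OmegaCenter.closureOmega p K : Set K)) :=
  (Cfsg.thompsonSubgroup p K).map (QuotientGroup.mk' _)

/-- The transvections of the induced group. -/
def IsTv (a : QQ) : Prop := Tv p (FailureFactor.vv VV) HH (ii a)

/-- The `SL(2, p)` of a transvection. -/
def egroup (a : QQ) : Subgroup QQ :=
  Subgroup.closure {x | ∃ h ∈ jq p K, h * a * h⁻¹ = x}

theorem map_jq : (jq p K).map ii = HH := Subgroup.map_map _ _ _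

theorem mem_jq_iff {a : QQ} : ii a ∈ HH ↔ a ∈ jq p K := by
  rw [← map_jq]
  exact Subgroup.mem_map_iff_mem SemidirectProduct.inr_injective

theorem IsTv.mem {a : QQ} (ha : IsTv a) : a ∈ jq p K := mem_jq_iff.1 (Tv.mem ha)

theorem self_mem (a : QQ) : a ∈ egroup a :=
  Subgroup.subset_closure ⟨1, one_mem _, by group⟩

theorem egroup_le {a : QQ} (ha : IsTv a) : egroup a ≤ jq p K := by
  refine (Subgroup.closure_le _).2 ?_
  rintro _ ⟨h, hh, rfl⟩
  exact mul_mem (mul_mem hh ha.mem) (inv_mem hh)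

theorem egroup_conj {a h : QQ} (hh : h ∈ jq p K) : egroup (h * a * h⁻¹) = egroup a := by
  unfold egroup
  congr 1
  ext x
  constructor
  · rintro ⟨g, hg, rfl⟩
    exact ⟨g * h, mul_mem hg hh, by group⟩
  · rintro ⟨g, hg, rfl⟩
    exact ⟨g * h⁻¹, mul_mem hg (inv_mem hh), by group⟩

variable (hsep : Cfsg.IsPSolvable p K) (hO : Cfsg.pPrimeCore p K = ⊥)
include hsep hO

theorem isSetup : OffenderBasic.Setup p (FailureFactor.vv VV) HH KK :=
  FailureFactor.setup VV hsep (OmegaCenter.isEA hsep hO) OmegaCenter.pCore_quotient _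

theorem gen : HH ≤ Subgroup.closure {c | Tv p (FailureFactor.vv VV) HH c} := by
  have hV := OmegaCenter.isEA hsep hO
  rw [Subgroup.map_le_iff_le_comap]
  exact sSup_le fun B hB => Subgroup.map_le_iff_le_comap.1
    ((le_closure_tv (isSetup hsep hO) (Subgroup.map_mono (le_sSup hB))
      (FailureFactor.image_isBest VV hV hB)).trans (Subgroup.closure_mono fun c hc => hc.2))

theorem jq_le_closure : jq p K ≤ Subgroup.closure {a : QQ | IsTv a} := by
  refine (Subgroup.map_le_map_iff_of_injective (f := ii) SemidirectProduct.inr_injective).1 ?_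
  rw [MonoidHom.map_closure, map_jq]
  refine (gen hsep hO).trans (Subgroup.closure_mono fun c hc => ?_)
  obtain ⟨a, -, rfl⟩ : c ∈ (jq p K).map ii := (map_jq (p := p) (K := K)).symm ▸ Tv.mem hc
  exact ⟨a, hc, rfl⟩

theorem exists_isTv (hnf : ¬ Cfsg.thompsonSubgroup p K ≤ CC) : ∃ a : QQ, IsTv a := by
  by_contra h
  push Not at h
  refine hnf fun g hg => ?_
  have h1 := jq_le_closure hsep hO (Subgroup.mem_map_of_mem qq hg)
  have : Subgroup.closure {a : QQ | IsTv a} = ⊥ :=
    le_bot_iff.1 ((Subgroup.closure_le _).2 fun a ha => absurd ha (h a))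
  rw [this, Subgroup.mem_bot] at h1
  exact (QuotientGroup.eq_one_iff g).1 h1

theorem map_egroup {a : QQ} (ha : IsTv a) : (egroup a).map ii = OffenderPlane.eGrp KK (ii a) := by
  have S := isSetup hsep hO
  have hd := (OffenderMain.decomp S (gen hsep hO) ha).1
  have ha1 : a ∈ {x | ∃ g ∈ jq p K, g * a * g⁻¹ = x} := ⟨1, one_mem _, by group⟩
  rw [egroup, MonoidHom.map_closure]
  refine le_antisymm ((Subgroup.closure_le _).2 ?_) (sup_le ?_ (Subgroup.zpowers_le.2
    (Subgroup.subset_closure (Set.mem_image_of_mem _ ha1))))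
  · rintro _ ⟨_, ⟨h, hh, rfl⟩, rfl⟩
    rw [map_mul, map_mul, map_inv]
    exact (Subgroup.mem_normalizer_iff.1 (hd (mem_jq_iff.2 hh)) _).1 (OffenderPlane.mem_eGrp_self _ _)
  · rw [Subgroup.commutator_le]
    intro k hk z hz
    obtain ⟨i, rfl⟩ := Subgroup.mem_zpowers_iff.1 hz
    obtain ⟨h, hh, rfl⟩ : k ∈ (jq p K).map ii := (map_jq (p := p) (K := K)).symm ▸ S.KH hk
    rw [commutatorElement_def, ← conj_zpow, ← map_inv, ← map_mul, ← map_mul]
    exact mul_mem (zpow_mem (Subgroup.subset_closure (Set.mem_image_of_mem _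
      (Set.mem_setOf.2 ⟨h, hh, rfl⟩ : h * a * h⁻¹ ∈ {x | ∃ g ∈ jq p K, g * a * g⁻¹ = x}))) i)
      (inv_mem (zpow_mem (Subgroup.subset_closure (Set.mem_image_of_mem _ ha1)) i))

theorem exists_equiv {a : QQ} (ha : IsTv a) : Nonempty (egroup a ≃* SL(2, ZMod p)) := by
  obtain ⟨φ, -⟩ := OffenderMain.exists_equiv (isSetup hsep hO) ha
  exact ⟨(((egroup a).equivMapOfInjective ii SemidirectProduct.inr_injective).trans
    (MulEquiv.subgroupCongr (map_egroup hsep hO ha))).trans φ⟩

theorem prime_cases {a : QQ} (ha : IsTv a) : p = 2 ∨ p = 3 :=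
  OffenderMain.prime_cases (isSetup hsep hO) ha

theorem eq_or_commute {a c : QQ} (ha : IsTv a) (hc : IsTv c) :
    egroup c = egroup a ∨ ∀ e ∈ egroup c, ∀ f ∈ egroup a, e * f = f * e := by
  have S := isSetup hsep hO
  by_cases h : OffenderPlane.eGrp KK (ii c) = OffenderPlane.eGrp KK (ii a)
  · left
    rw [← map_egroup hsep hO ha, ← map_egroup hsep hO hc] at h
    exact Subgroup.map_injective SemidirectProduct.inr_injective h
  · right
    intro e he f hf
    have h1 := OffenderFamily.factor_le S (gen hsep hO) ha hc h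
      (map_egroup hsep hO hc ▸ Subgroup.mem_map_of_mem ii he)
    have h2 : ii f ∈ OffenderPlane.eGrp KK (ii a) := map_egroup hsep hO ha ▸ Subgroup.mem_map_of_mem ii hf
    have h3 := (OffenderMain.decomp S (gen hsep hO) ha).2.1
    rw [Subgroup.commutator_eq_bot_iff_le_centralizer] at h3
    exact SemidirectProduct.inr_injective (φ := FailureFactor.act VV)
      (by rw [map_mul, map_mul]; exact Subgroup.mem_centralizer_iff.1 (h3 h2) _ h1)

theorem exists_conj_mem {a h : QQ} (ha : IsTv a) (hh : h ∈ jq p K) :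
    ∃ e ∈ egroup a, h * a * h⁻¹ = e * a * e⁻¹ := by
  have S := isSetup hsep hO
  obtain ⟨-, hcomm, -, hsup, -⟩ := OffenderMain.decomp S (gen hsep hO) ha
  rw [Subgroup.commutator_eq_bot_iff_le_centralizer, Subgroup.le_centralizer_iff] at hcomm
  have h1 : ii h ∈ HH := mem_jq_iff.2 hh
  rw [← hsup, ← SetLike.mem_coe, Subgroup.coe_mul_of_right_le_normalizer_left _ _
    (hcomm.trans (Subgroup.centralizer_le_normalizer _))] at h1
  obtain ⟨x, hx, y, hy, hxy⟩ := Set.mem_mul.1 h1
  obtain ⟨e, he, rfl⟩ : x ∈ (egroup a).map ii := (map_egroup hsep hO ha).symm ▸ hx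
  refine ⟨e, he, SemidirectProduct.inr_injective (φ := FailureFactor.act VV) ?_⟩
  have h2 := Subgroup.mem_centralizer_iff.1 (hcomm hy) _ (OffenderPlane.mem_eGrp_self _ _)
  rw [map_mul, map_mul, map_mul, map_mul, map_inv, map_inv, ← hxy, mul_assoc (ii e), ← h2]
  group

theorem exists_conj_sylow {a : QQ} (ha : IsTv a) (S : Sylow p K) :
    ∃ h ∈ jq p K, ∃ u ∈ (S : Subgroup K), qq u = h * a * h⁻¹ := by
  set N := (jq p K).comap qq
  haveI : (jq p K).Normal := (inferInstance : (Cfsg.thompsonSubgroup p K).Normal).map _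
    (QuotientGroup.mk'_surjective _)
  haveI hN : N.Normal := Subgroup.Normal.comap inferInstance _
  let U : Sylow p N := Basic.sylowSubgroupOf (inf_le_right : (S : Subgroup K) ⊓ N ≤ N)
    (S.2.to_le inf_le_left) (Basic.not_dvd_relIndex_of_normal S N)
  have hf : Function.Surjective ((qq).subgroupComap (jq p K)) := by
    rintro ⟨y, hy⟩
    obtain ⟨g, rfl⟩ := QuotientGroup.mk'_surjective CC y
    exact ⟨⟨g, hy⟩, rfl⟩
  let P := U.mapSurjective hf
  have hpg : IsPGroup p (Subgroup.zpowers (⟨a, ha.mem⟩ : jq p K)) := by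
    refine IsPGroup.of_card (n := 1) ?_
    rw [Nat.card_zpowers, pow_one]
    refine orderOf_eq_prime (Subtype.ext (SemidirectProduct.inr_injective (φ := FailureFactor.act VV) ?_))
      fun h => ha.ne ?_
    · show ii (a ^ p) = ii 1
      rw [map_pow, ha.pow, map_one]
    · rw [show a = 1 from congrArg Subtype.val h, map_one]
  obtain ⟨P', hP'⟩ := hpg.exists_le_sylow
  obtain ⟨g, hg⟩ := MulAction.exists_smul_eq (↥(jq p K)) P' P
  have h1 : g * ⟨a, ha.mem⟩ * g⁻¹ ∈ (P : Subgroup (jq p K)) := by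
    rw [← hg, Sylow.coe_subgroup_smul]
    exact Subgroup.smul_mem_pointwise_smul _ (MulAut.conj g) _ (hP' (Subgroup.mem_zpowers _))
  rw [Sylow.coe_mapSurjective] at h1
  obtain ⟨⟨u, hu⟩, hu', e⟩ := h1
  exact ⟨g, g.2, u, (Subgroup.mem_subgroupOf.1 hu').1, congrArg Subtype.val e⟩

variable {q : ℕ} [Fact q.Prime] {X : Type*} [Group X] [Finite X] (σ : X →* MulAut K)

omit hsep hO in
theorem map_closureOmega (α : MulAut K) : (VV).map α.toMonoidHom ≤ VV := by
  rw [OmegaCenter.closureOmega, Subgroup.map_iSup]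
  refine iSup_le fun T => le_trans ?_ (le_iSup (fun S : Sylow p K => Cfsg.omegaOne p
    ((S : Subgroup K) ⊓ Subgroup.centralizer ((S : Subgroup K) : Set K)))
    (T.mapSurjective (f := α.toMonoidHom) α.surjective))
  rw [Cfsg.omegaOne, MonoidHom.map_closure]
  refine (Subgroup.closure_le _).2 ?_
  rintro _ ⟨y, hy, rfl⟩
  refine Subgroup.subset_closure ⟨⟨⟨y, hy.1.1, rfl⟩, ?_⟩, by rw [← map_pow, hy.2, map_one]⟩
  rintro _ ⟨u, hu, rfl⟩
  show α u * α y = α y * α u
  rw [← map_mul, ← map_mul, hy.1.2 u hu]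

omit hsep hO in
theorem mem_closureOmega_iff (α : MulAut K) {v : K} : α v ∈ VV ↔ v ∈ VV := by
  refine ⟨fun h => ?_, fun h => map_closureOmega α (Subgroup.mem_map_of_mem _ h)⟩
  have := map_closureOmega α.symm (Subgroup.mem_map_of_mem α.symm.toMonoidHom h)
  simpa using this

omit hsep hO in
theorem map_cc (α : MulAut K) : (CC).map α.toMonoidHom = CC := by
  refine Subgroup.eq_of_le_of_card_ge ?_ (le_of_eq (Nat.card_congr
    ((CC).equivMapOfInjective _ α.injective).toEquiv))
  rintro _ ⟨g, hg, rfl⟩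
  refine Subgroup.mem_centralizer_iff.2 fun v hv => ?_
  obtain ⟨w, rfl⟩ := α.surjective v
  show α w * α g = α g * α w
  rw [← map_mul, ← map_mul, Subgroup.mem_centralizer_iff.1 hg w ((mem_closureOmega_iff α).1 hv)]

/-- The induced action on `K / C`. -/
def tau : X →* MulAut QQ where
  toFun x := QuotientGroup.congr CC CC (σ x) (map_cc (σ x))
  map_one' := MulEquiv.ext fun y => by
    induction y using QuotientGroup.induction_on
    show QuotientGroup.mk (σ 1 _) = _
    rw [map_one]; rfl
  map_mul' x y := MulEquiv.ext fun z => by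
    induction z using QuotientGroup.induction_on
    show QuotientGroup.mk (σ (x * y) _) = _
    rw [map_mul]; rfl

omit hsep hO in
theorem tau_mk (x : X) (k : K) : tau (p := p) σ x (qq k) = qq (σ x k) := rfl

omit hsep hO in
theorem tau_mem_jq (x : X) {a : QQ} (ha : a ∈ jq p K) : tau (p := p) σ x a ∈ jq p K := by
  obtain ⟨k, hk, rfl⟩ := ha
  refine ⟨σ x k, ?_, rfl⟩
  rw [← Subgroup.characteristic_iff_map_eq.1
    (inferInstance : (Cfsg.thompsonSubgroup p K).Characteristic) (σ x)]
  exact Subgroup.mem_map_of_mem _ hk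

theorem tau_isTv (x : X) {a : QQ} (ha : IsTv a) : IsTv (tau (p := p) σ x a) := by
  obtain ⟨k, rfl⟩ := QuotientGroup.mk'_surjective CC a
  refine ⟨mem_jq_iff.2 (tau_mem_jq σ x ha.mem), ?_, fun h => ha.ne ?_, ?_⟩
  · have h : (qq k) ^ p = 1 :=
      SemidirectProduct.inr_injective (φ := FailureFactor.act VV) (by rw [map_pow, ha.pow, map_one])
    rw [← map_pow, ← map_pow, h, map_one, map_one]
  · rw [← map_one ii, SemidirectProduct.inr_injective.eq_iff, ← map_one (tau (p := p) σ x),
      (tau (p := p) σ x).injective.eq_iff] at h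
    rw [h, map_one]
  · have hfix : ∀ g : K, Nat.card ↥(FailureFactor.vv VV ⊓ Subgroup.centralizer {FailureFactor.rho VV g}) =
        Nat.card ↥(VV ⊓ Subgroup.centralizer {g}) := by
      intro g
      rw [← centralizer_zpowers, ← MonoidHom.map_zpowers, FailureFactor.card_fix, centralizer_zpowers]
    have heq : Nat.card ↥(VV ⊓ Subgroup.centralizer {σ x k}) = Nat.card ↥(VV ⊓ Subgroup.centralizer {k}) := by
      refine (Nat.card_congr ((σ x).toEquiv.subtypeEquiv fun v => ?_)).symm
      show v ∈ VV ⊓ Subgroup.centralizer {k} ↔ σ x v ∈ VV ⊓ Subgroup.centralizer {σ x k}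
      simp only [Subgroup.mem_inf, Subgroup.mem_centralizer_singleton_iff, mem_closureOmega_iff,
        ← map_mul, (σ x).injective.eq_iff]
    have hidx : ∀ U : Subgroup (FailureFactor.Amb VV), U ≤ FailureFactor.vv VV →
        Nat.card U * U.relIndex (FailureFactor.vv VV) = Nat.card (FailureFactor.vv VV) := by
      intro U hU
      have h4 := Subgroup.relIndex_mul_relIndex (⊥ : Subgroup (FailureFactor.Amb VV)) U _ bot_le hU
      rwa [Subgroup.relIndex_bot_left, Subgroup.relIndex_bot_left] at h4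
    have h1 := hidx _ (inf_le_left : FailureFactor.vv VV ⊓
      Subgroup.centralizer {FailureFactor.rho VV (σ x k)} ≤ _)
    have h2 := hidx _ (inf_le_left : FailureFactor.vv VV ⊓
      Subgroup.centralizer {FailureFactor.rho VV k} ≤ _)
    rw [hfix, heq, ← hfix] at h1
    rw [← h2] at h1
    have h3 := Nat.eq_of_mul_eq_mul_left Nat.card_pos h1
    exact h3.trans ha.idx

omit hsep hO in
theorem tau_egroup (x : X) {a e : QQ} (he : e ∈ egroup a) :
    tau (p := p) σ x e ∈ egroup (tau (p := p) σ x a) := by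
  have : (egroup a).map (tau (p := p) σ x).toMonoidHom ≤ egroup (tau (p := p) σ x a) := by
    rw [egroup, MonoidHom.map_closure]
    refine (Subgroup.closure_le _).2 ?_
    rintro _ ⟨_, ⟨h, hh, rfl⟩, rfl⟩
    exact Subgroup.subset_closure ⟨tau (p := p) σ x h, tau_mem_jq σ x hh, by simp⟩
  exact this (Subgroup.mem_map_of_mem _ he)

variable (hX : IsPGroup q X) (hexp : ∀ x : X, x ^ q = 1) (hq : ¬ q ∣ Nat.card K)
include hX hexp hq

omit hX hexp in
theorem five_le {a : QQ} (ha : IsTv a) : 5 ≤ q := by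
  obtain ⟨φ⟩ := exists_equiv hsep hO ha
  have h := (egroup a).card_subgroup_dvd_card.trans (CC).card_quotient_dvd_card
  rw [Nat.card_congr φ.toEquiv] at h
  have h6 : 6 ∣ Nat.card SL(2, ZMod p) := by
    rcases prime_cases hsep hO ha with rfl | rfl <;> rw [Nat.card_eq_fintype_card] <;> decide
  have h' := h6.trans h
  have hq2 := (Fact.out : q.Prime).two_le
  by_contra hcon
  interval_cases q
  · exact hq (dvd_trans (by norm_num) h')
  · exact hq (dvd_trans (by norm_num) h')
  · exact absurd (Fact.out : Nat.Prime 4) (by norm_num)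

theorem fix_of_eq {a : QQ} (ha : IsTv a) (x : X)
    (h : egroup (tau (p := p) σ x a) = egroup a) : ∀ e ∈ egroup a, tau (p := p) σ x e = e := by
  obtain ⟨φ⟩ := exists_equiv hsep hO ha
  refine OrbitNorm.fix_of_map_eq (five_le hsep hO hq ha) (prime_cases hsep hO ha) _ φ _
    (by rw [← map_pow, hexp, map_one]) (fun e he => h ▸ tau_egroup σ x he) ?_
  refine (Subgroup.closure_le _).2 fun y hy => Subgroup.subset_closure ⟨Subgroup.subset_closure hy, ?_⟩
  obtain ⟨g, -, rfl⟩ := hy
  rw [conj_pow, show a ^ p = 1 from SemidirectProduct.inr_injective (φ := FailureFactor.act VV)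
    (by rw [map_pow, ha.pow, map_one]), mul_one, mul_inv_cancel]

theorem dichotomy {a : QQ} (ha : IsTv a) (x : X) :
    (∀ e ∈ egroup a, tau (p := p) σ x e = e) ∨
      ∀ e ∈ egroup a, ∀ f ∈ egroup a, tau (p := p) σ x e * f = f * tau (p := p) σ x e := by
  rcases eq_or_commute hsep hO ha (tau_isTv hsep hO σ x ha) with h | h
  · exact Or.inl (fix_of_eq hsep hO σ hX hexp hq ha x h)
  · exact Or.inr fun e he f hf => h _ (tau_egroup σ x he) f hf

/-- Each element of an `SL(2, p)` is the component of a fixed point of the operators. -/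
theorem exists_fixed {a f : QQ} (ha : IsTv a) (hf : f ∈ egroup a) {M : Subgroup QQ}
    (hM : ∀ c, IsTv c → egroup c ≠ egroup a → egroup c ≤ M) :
    ∃ k : K, (∀ x, σ x k = k) ∧
      ∃ z ∈ M, (∀ e ∈ egroup a, z * e = e * z) ∧ qq k = f * z := by
  have hEq : ¬ q ∣ Nat.card (egroup a) := fun h =>
    hq (h.trans ((egroup a).card_subgroup_dvd_card.trans (CC).card_quotient_dvd_card))
  obtain ⟨z, hzM, hz, hfix⟩ :=
    OrbitNorm.exists_norm (tau (p := p) σ) hX hEq (dichotomy hsep hO σ hX hexp hq ha)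
      (M := M) (fun x hx e he => hM _ (tau_isTv hsep hO σ x ha)
        (fun h => hx (fix_of_eq hsep hO σ hX hexp hq ha x h)) (tau_egroup σ x he)) hf
  obtain ⟨k, hk⟩ := QuotientGroup.mk'_surjective CC (f * z)
  obtain ⟨k', hk', hkk⟩ := OrbitNorm.exists_fixed_coset σ hX hq CC
    (fun x c hc => (map_cc (σ x)).le (Subgroup.mem_map_of_mem (σ x).toMonoidHom hc)) (k := k) fun x => by
      refine (QuotientGroup.eq_one_iff _).1 ?_
      show qq (σ x k * k⁻¹) = 1
      rw [map_mul, map_inv, ← tau_mk, hk, hfix, mul_inv_cancel]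
  refine ⟨k', hk', z, hzM, hz, ?_⟩
  rw [← hk, ← inv_inv (qq k), ← mul_eq_one_iff_eq_inv, ← map_inv, ← map_mul]
  exact (QuotientGroup.eq_one_iff _).2 hkk

end CfsgLib.Fusion.OffenderAction
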