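import Cfsg.Agent.Lib.Fusion.Offender
import Cfsg.Agent.Lib.Coprime.Generation
import Cfsg.Agent.Lib.KGroups.CharP

/-!
Best offenders in a group with a self-centralising `p'`-subgroup: weights, hyperplanes, transvections.
-/

set_option autoImplicit false
set_option linter.style.haveILetI false
set_option linter.unusedSectionVars false

open scoped commutatorElement

namespace CfsgLib.Fusion.OffenderBasic

open CfsgLib.Fusion.ReplacementEA (wt)

variable {G : Type*} [Group G] {p : ℕ}

/-- `H` acts faithfully on the elementary abelian group `V` and has the normal `p'`-subgroup `K`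
containing its centraliser in `H`. -/
structure Setup (p : ℕ) (V H K : Subgroup G) : Prop where
  ea : Cfsg.IsElementaryAbelian p V
  hN : H ≤ Subgroup.normalizer (V : Set G)
  faithful : H ⊓ Subgroup.centralizer (V : Set G) = ⊥
  KH : K ≤ H
  Kn : H ≤ Subgroup.normalizer (K : Set G)
  Kc : (Nat.card K).Coprime p
  cK : ∀ h ∈ H, (∀ k ∈ K, k * h = h * k) → h ∈ K

/-- The `p'`-core of `H` gives a `Setup`. -/
theorem Setup.of_pPrimeCore [Finite G] [Fact p.Prime] {V H : Subgroup G} (hV : Cfsg.IsElementaryAbelian p V)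
    (hHV : H ≤ Subgroup.normalizer (V : Set G)) (hf : H ⊓ Subgroup.centralizer (V : Set G) = ⊥)
    (hS1 : Subgroup.centralizer (Cfsg.pPrimeCore p ↥H : Set ↥H) ≤ Cfsg.pPrimeCore p ↥H) :
    Setup p V H ((Cfsg.pPrimeCore p ↥H).map H.subtype) where
  ea := hV
  hN := hHV
  faithful := hf
  KH := Subgroup.map_subtype_le _
  Kn := by
    intro h hh
    haveI : (Cfsg.pPrimeCore p ↥H).Normal := CfsgLib.Solvable.Cores.pPrimeCore_normal p
    rw [Subgroup.mem_normalizer_iff]
    intro x
    constructor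
    · rintro ⟨k, hk, rfl⟩
      exact ⟨⟨h, hh⟩ * k * ⟨h, hh⟩⁻¹, Subgroup.Normal.conj_mem inferInstance k hk ⟨h, hh⟩, rfl⟩
    · rintro ⟨k, hk, e⟩
      refine ⟨⟨h, hh⟩⁻¹ * k * ⟨h, hh⟩, Subgroup.Normal.conj_mem' (inferInstance) k hk ⟨h, hh⟩, ?_⟩
      show h⁻¹ * (k : G) * h = x
      rw [show (k : G) = h * x * h⁻¹ from e]; group
  Kc := by
    rw [Nat.card_congr (Subgroup.equivMapOfInjective _ _ H.subtype_injective).toEquiv.symm]
    exact CfsgLib.Solvable.Cores.coprime_card_pPrimeCore p
  cK := by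
    intro h hh hc
    refine ⟨⟨h, hh⟩, hS1 (Subgroup.mem_centralizer_iff.2 fun k hk => Subtype.ext ?_), rfl⟩
    exact hc k ⟨k, hk, rfl⟩

variable {V H K : Subgroup G} (S : Setup p V H K)
include S

theorem eq_one_of_fixes {h : G} (hh : h ∈ H) (hfix : ∀ v ∈ V, h * v = v * h) : h = 1 := by
  have : h ∈ H ⊓ Subgroup.centralizer (V : Set G) :=
    Subgroup.mem_inf.2 ⟨hh, Subgroup.mem_centralizer_iff.2 fun v hv => (hfix v hv).symm⟩
  rwa [S.faithful, Subgroup.mem_bot] at this

theorem comm_V {u v : G} (hu : u ∈ V) (hv : v ∈ V) : u * v = v * u :=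
  CfsgLib.Solvable.Basic.isMulCommutative_subgroup_iff.1 S.ea.1 u hu v hv

theorem conj_mem_V {h v : G} (hh : h ∈ H) (hv : v ∈ V) : h * v * h⁻¹ ∈ V :=
  (Subgroup.mem_normalizer_iff.1 (S.hN hh) v).1 hv

theorem conj_mem_K {h k : G} (hh : h ∈ H) (hk : k ∈ K) : h * k * h⁻¹ ∈ K :=
  (Subgroup.mem_normalizer_iff.1 (S.Kn hh) k).1 hk

/-- A best offender inside `H` is elementary abelian. -/
theorem isEA {A : Subgroup G} (hAH : A ≤ H) (hA : Cfsg.IsBestOffenderOn p V A) :
    Cfsg.IsElementaryAbelian p A := by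
  have h1 : ∀ g : G, g ∈ H → g ∈ Subgroup.centralizer (V : Set G) → g = 1 := fun g hg hc =>
    eq_one_of_fixes S hg fun v hv => (Subgroup.mem_centralizer_iff.1 hc v hv).symm
  refine ⟨CfsgLib.Solvable.Basic.isMulCommutative_subgroup_iff.2 fun x hx y hy =>
    commutatorElement_eq_one_iff_mul_comm.1 (h1 _ ?_ (hA.2.1 (Subgroup.commutator_mem_commutator hx hy))),
    fun a ha => h1 _ (pow_mem (hAH ha) _) (hA.2.2 a ha)⟩
  exact Subgroup.commutator_le_self H (Subgroup.commutator_mem_commutator (hAH hx) (hAH hy))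

theorem isBest_of {A : Subgroup G} (hA : Cfsg.IsElementaryAbelian p A)
    (hw : ∀ B ≤ A, wt V B ≤ wt V A) : Cfsg.IsBestOffenderOn p V A := by
  refine ⟨hw, ?_, fun a ha => by rw [hA.2 a ha]; exact one_mem _⟩
  have : ⁅A, A⁆ = ⊥ := Subgroup.commutator_self_eq_bot_iff.2 hA.1
  rw [this]; exact bot_le

theorem wt_bot : wt V ⊥ = Nat.card V := by
  have : V ⊓ Subgroup.centralizer ((⊥ : Subgroup G) : Set G) = V :=
    inf_eq_left.2 fun v _ => Subgroup.mem_centralizer_iff.2 fun b hb => by
      rw [Subgroup.mem_bot.1 hb, one_mul, mul_one]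
  rw [wt, this, Subgroup.card_bot, one_mul]

variable [Finite G] [Fact p.Prime]

theorem card_le_wt {A : Subgroup G} (hA : Cfsg.IsBestOffenderOn p V A) :
    Nat.card V ≤ wt V A := by
  rw [← wt_bot S]; exact hA.1 ⊥ bot_le

theorem mul_card_le_of_lt {Q A B : Subgroup G} (hQ : IsPGroup p Q) (hB : B ≤ Q) (h : A < B) :
    p * Nat.card A ≤ Nat.card B := by
  obtain ⟨a, ha⟩ := IsPGroup.iff_card.1 (hQ.to_le (h.le.trans hB))
  obtain ⟨b, hb⟩ := IsPGroup.iff_card.1 (hQ.to_le hB)
  have hlt : Nat.card A < Nat.card B := lt_of_not_ge fun hge =>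
    h.ne (Subgroup.eq_of_le_of_card_ge h.le hge)
  rw [ha, hb, Nat.pow_lt_pow_iff_right (Fact.out : p.Prime).one_lt] at hlt
  rw [ha, hb, ← pow_succ']
  exact Nat.pow_le_pow_right (Fact.out : p.Prime).pos hlt

/-- A moving hyperplane of a best offender is a best offender of the same weight. -/
theorem moving {A B : Subgroup G} (hAH : A ≤ H) (hA : Cfsg.IsBestOffenderOn p V A) (hBA : B ≤ A)
    (hcard : Nat.card A ≤ p * Nat.card B) {x a : G} (hxK : x ∈ K) (hxB : ∀ b ∈ B, b * x = x * b)
    (haA : a ∈ A) (hxa : a * x ≠ x * a) :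
    Cfsg.IsBestOffenderOn p V B ∧ wt V B = wt V A := by
  have hAc := CfsgLib.Solvable.Basic.isMulCommutative_subgroup_iff.1 (isEA S hAH hA).1
  set CA := V ⊓ Subgroup.centralizer (A : Set G) with hCA
  set CB := V ⊓ Subgroup.centralizer (B : Set G) with hCB
  have hle : CA ≤ CB := inf_le_inf_left _ (Subgroup.centralizer_le (SetLike.coe_subset_coe.2 hBA))
  have hne : CA ≠ CB := by
    intro he
    set y := ⁅x, a⁆ with hy
    have hyH : y ∈ H := Subgroup.commutator_le_self H
      (Subgroup.commutator_mem_commutator (S.KH hxK) (hAH haA))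
    have hyK : y ∈ K := by
      rw [hy, commutatorElement_def, mul_assoc x, mul_assoc x]
      exact mul_mem hxK (conj_mem_K S (hAH haA) (inv_mem hxK))
    have hycop : (orderOf y).Coprime p :=
      Nat.Coprime.coprime_dvd_left (Subgroup.orderOf_dvd_natCard K hyK) S.Kc
    have hyB : ∀ b ∈ B, y * b = b * y := fun b hb => by
      have h1 : Commute b x := hxB b hb
      have h2 : Commute b a := hAc b (hBA hb) a haA
      exact (((h1.mul_right h2).mul_right h1.inv_right).mul_right h2.inv_right).symm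
    have hfix : ∀ v ∈ V, (∀ b ∈ B, b * v = v * b) → y * v = v * y := by
      intro v hv hvB
      have key : ∀ w ∈ V, (∀ b ∈ B, b * w = w * b) → a * w = w * a := fun w hw hwB => by
        have : w ∈ CA := he ▸ Subgroup.mem_inf.2 ⟨hw, Subgroup.mem_centralizer_iff.2 hwB⟩
        exact Subgroup.mem_centralizer_iff.1 this.2 a haA
      have hxv : ∀ w ∈ V, (∀ b ∈ B, b * w = w * b) →
          x⁻¹ * w * x ∈ V ∧ ∀ b ∈ B, b * (x⁻¹ * w * x) = x⁻¹ * w * x * b := by
        intro w hw hwB
        refine ⟨?_, fun b hb => ?_⟩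
        · have := conj_mem_V S (inv_mem (S.KH hxK)) hw
          rwa [inv_inv] at this
        · exact (((Commute.inv_right (hxB b hb)).mul_right (hwB b hb)).mul_right (hxB b hb))
      obtain ⟨h1, h2⟩ := hxv v hv hvB
      have e1 : Commute a (x⁻¹ * v * x) := key _ h1 h2
      have e2 : Commute a v := key v hv hvB
      have e3 : Commute (x * a * x⁻¹) v := by
        have := congrArg (fun g => x * g * x⁻¹) e1.eq
        show x * a * x⁻¹ * v = v * (x * a * x⁻¹)
        simpa [mul_assoc] using this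
      exact (e3.mul_left e2.inv_left).eq
    have h := CfsgLib.KGroups.CharP.commute_of_commute_fixed (p := p) (Thompson.isPGroup_isEA S.ea)
      ((Thompson.isPGroup_isEA (isEA S hAH hA)).to_le hBA) (hBA.trans (hAH.trans S.hN))
      hycop hyB (S.hN hyH) hfix
    have h1 := eq_one_of_fixes S hyH h
    exact hxa (commutatorElement_eq_one_iff_mul_comm.1 h1).symm
  have h1 : p * Nat.card CA ≤ Nat.card CB :=
    mul_card_le_of_lt S (Thompson.isPGroup_isEA S.ea) inf_le_left (lt_of_le_of_ne hle hne)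
  have h2 : wt V A ≤ wt V B := by
    calc wt V A = Nat.card A * Nat.card CA := rfl
      _ ≤ p * Nat.card B * Nat.card CA := Nat.mul_le_mul_right _ hcard
      _ = Nat.card B * (p * Nat.card CA) := by ring
      _ ≤ Nat.card B * Nat.card CB := Nat.mul_le_mul_left _ h1
      _ = wt V B := rfl
  have heq : wt V B = wt V A := le_antisymm (hA.1 B hBA) h2
  exact ⟨isBest_of S (Thompson.isEA_le (isEA S hAH hA) hBA)
    (fun C hC => heq ▸ hA.1 C (hC.trans hBA)), heq⟩

/-- A best offender of order more than `p` is generated by proper best offenders of equal weight. -/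
theorem le_iSup_proper {A : Subgroup G} (hAH : A ≤ H) (hA : Cfsg.IsBestOffenderOn p V A)
    (hp2 : p < Nat.card A) :
    A ≤ ⨆ B ∈ {B : Subgroup G | B < A ∧ Cfsg.IsBestOffenderOn p V B ∧ wt V B = wt V A}, B := by
  have hEA := isEA S hAH hA
  have hp : p.Prime := Fact.out
  haveI := hEA.1
  set T := ⨆ B ∈ {B : Subgroup G | B < A ∧ Cfsg.IsBestOffenderOn p V B ∧ wt V B = wt V A}, B with hT
  by_contra hcon
  have hTA : T ≤ A := iSup₂_le fun B hB => hB.1.le
  have hcop : (Nat.card A).Coprime (Nat.card K) := by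
    obtain ⟨k, hk⟩ := IsPGroup.iff_card.1 (Thompson.isPGroup_isEA hEA)
    rw [hk]
    exact Nat.Coprime.pow_left k S.Kc.symm
  have hgen := CfsgLib.Coprime.iSup_centralizer_of_cyclic_quotient (A := A) (K := K)
    (hAH.trans S.Kn) hcop
  -- the hyperplanes with a moving centraliser lie in `T`
  have hstep : ∀ B : Subgroup G, B ≤ A → (∃ a ∈ A, B ⊔ Subgroup.zpowers a = A) →
      (K ⊓ Subgroup.centralizer (B : Set G) ≤ Subgroup.centralizer (A : Set G)) ∨
      (B ≤ T ∧ B < A ∧ p * Nat.card B = Nat.card A) := by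
    rintro B hBA ⟨a, haA, hBa⟩
    by_cases hc : K ⊓ Subgroup.centralizer (B : Set G) ≤ Subgroup.centralizer (A : Set G)
    · exact Or.inl hc
    right
    obtain ⟨x, hx, hxA⟩ := SetLike.not_le_iff_exists.1 hc
    have hxB : ∀ b ∈ B, b * x = x * b := fun b hb => Subgroup.mem_centralizer_iff.1 hx.2 b hb
    have hax : a * x ≠ x * a := fun h => hxA (by
      have : A ≤ Subgroup.centralizer {x} := by
        rw [← hBa]
        exact sup_le (fun b hb => Subgroup.mem_centralizer_singleton_iff.2 (hxB b hb))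
          (Subgroup.zpowers_le.2 (Subgroup.mem_centralizer_singleton_iff.2 h))
      exact Subgroup.mem_centralizer_iff.2 fun b hb => Subgroup.mem_centralizer_singleton_iff.1 (this hb))
    have hlt : B < A := lt_of_le_of_ne hBA fun e => hax (hxB a (e ▸ haA))
    have hge : p * Nat.card B ≤ Nat.card A :=
      mul_card_le_of_lt S (Thompson.isPGroup_isEA hEA) le_rfl hlt
    have hcard : Nat.card A ≤ p * Nat.card B := by
      have h1 := Thompson.card_sup_mul_card_inf (N := B) (K := Subgroup.zpowers a)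
        (Subgroup.zpowers_le.2 (Subgroup.mem_normalizer_iff.2 fun b => by
          constructor
          · intro hb
            rwa [CfsgLib.Solvable.Basic.isMulCommutative_subgroup_iff.1 hEA.1 a haA b (hBA hb),
              mul_inv_cancel_right]
          · intro hb
            have hb' : b ∈ A := by
              have := mul_mem (mul_mem (inv_mem haA) (hBA hb)) haA
              simpa [mul_assoc] using this
            rwa [CfsgLib.Solvable.Basic.isMulCommutative_subgroup_iff.1 hEA.1 a haA b hb',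
              mul_inv_cancel_right] at hb))
      have h2 : Nat.card (Subgroup.zpowers a) ≤ p := by
        rw [Nat.card_zpowers]
        exact Nat.le_of_dvd hp.pos (orderOf_dvd_of_pow_eq_one (hEA.2 a haA))
      rw [hBa] at h1
      calc Nat.card A ≤ Nat.card A * Nat.card (B ⊓ Subgroup.zpowers a : Subgroup G) :=
            Nat.le_mul_of_pos_right _ Nat.card_pos
        _ = Nat.card B * Nat.card (Subgroup.zpowers a) := h1
        _ ≤ Nat.card B * p := Nat.mul_le_mul_left _ h2
        _ = _ := Nat.mul_comm _ _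
    obtain ⟨hbest, hw⟩ := moving S hAH hA hBA hcard hx.1 hxB haA hax
    exact ⟨le_iSup₂ (f := fun B (_ : B ∈ {B : Subgroup G | B < A ∧ Cfsg.IsBestOffenderOn p V B ∧
      wt V B = wt V A}) => B) B ⟨hlt, hbest, hw⟩, hlt, le_antisymm hge hcard⟩
  -- a nontrivial subgroup of `A` centralising `K`
  obtain ⟨T₀, hT₀A, hT₀ne, hT₀⟩ : ∃ T₀ : Subgroup G, T₀ ≤ A ∧ T₀ ≠ ⊥ ∧
      ∀ B : Subgroup G, B ≤ A → (∃ a ∈ A, B ⊔ Subgroup.zpowers a = A) →
        K ⊓ Subgroup.centralizer (B : Set G) ≤ Subgroup.centralizer (T₀ : Set G) := by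
    by_cases hmov : ∃ B : Subgroup G, B ≤ T ∧ B < A ∧ p * Nat.card B = Nat.card A
    · obtain ⟨B₀, hB₀T, hB₀A, hB₀c⟩ := hmov
      have heq : ∀ B : Subgroup G, B ≤ T → B < A → p * Nat.card B = Nat.card A → T = B := by
        intro B hB hBA hBc
        by_contra hne
        have h1 := mul_card_le_of_lt S (Thompson.isPGroup_isEA hEA) hTA (lt_of_le_of_ne hB (Ne.symm hne))
        have h2 : T = A := Subgroup.eq_of_le_of_card_ge hTA (hBc ▸ h1)
        exact hcon h2.ge
      refine ⟨B₀, hB₀A.le, fun hb => ?_, fun B hBA hBa => ?_⟩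
      · rw [hb, Subgroup.card_bot, mul_one] at hB₀c
        omega
      rcases hstep B hBA hBa with h | ⟨h1, h2, h3⟩
      · exact h.trans (Subgroup.centralizer_le (SetLike.coe_subset_coe.2 hB₀A.le))
      · rw [← heq B₀ hB₀T hB₀A hB₀c, heq B h1 h2 h3]
        exact inf_le_right
    · refine ⟨A, le_rfl, fun hb => ?_, fun B hBA hBa => ?_⟩
      · rw [hb, Subgroup.card_bot] at hp2
        exact absurd hp2 (by have := hp.two_le; omega)
      rcases hstep B hBA hBa with h | h
      · exact h
      · exact absurd ⟨B, h⟩ hmov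
  have hKT : K ≤ Subgroup.centralizer (T₀ : Set G) := by
    rw [← hgen]
    exact iSup₂_le fun B hB => hT₀ B hB.1 hB.2
  refine hT₀ne ((Subgroup.eq_bot_iff_forall _).2 fun t ht => ?_)
  have htK := S.cK t (hAH (hT₀A ht)) fun k hk => (Subgroup.mem_centralizer_iff.1 (hKT hk) t ht).symm
  exact orderOf_eq_one_iff.1 (Nat.eq_one_of_dvd_coprimes S.Kc
    (Subgroup.orderOf_dvd_natCard K htK) (orderOf_dvd_of_pow_eq_one (hEA.2 t (hT₀A ht))))

/-- Every best offender in `H` has weight `|V|`. -/
theorem wt_eq {A : Subgroup G} (hAH : A ≤ H) (hA : Cfsg.IsBestOffenderOn p V A) :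
    wt V A = Nat.card V := by
  induction hn : Nat.card A using Nat.strong_induction_on generalizing A with
  | _ n ih =>
    subst hn
    by_cases hp2 : p < Nat.card A
    · have h := le_iSup_proper S hAH hA hp2
      obtain ⟨B, hBlt, hBb, hBw⟩ : ∃ B : Subgroup G, B < A ∧ Cfsg.IsBestOffenderOn p V B ∧
          wt V B = wt V A := by
        by_contra hcon
        push Not at hcon
        have hbot : A = ⊥ := le_bot_iff.1 (h.trans (iSup₂_le fun B hB =>
          absurd hB.2.2 (hcon B hB.1 hB.2.1)))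
        rw [hbot, Subgroup.card_bot] at hp2
        have := (Fact.out : p.Prime).two_le
        omega
      rw [← hBw]
      refine ih _ (lt_of_not_ge fun hge => hBlt.ne ?_) (hBlt.le.trans hAH) hBb rfl
      exact Subgroup.eq_of_le_of_card_ge hBlt.le hge
    · refine le_antisymm ?_ (card_le_wt S hA)
      by_cases hbot : A = ⊥
      · rw [hbot, wt_bot S]
      have hne : V ⊓ Subgroup.centralizer (A : Set G) ≠ V := fun he => hbot
        ((Subgroup.eq_bot_iff_forall _).2 fun a ha => eq_one_of_fixes S (hAH ha) fun v hv =>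
          Subgroup.mem_centralizer_iff.1 (inf_eq_left.1 he hv) a ha)
      calc wt V A ≤ p * Nat.card (V ⊓ Subgroup.centralizer (A : Set G) : Subgroup G) :=
            Nat.mul_le_mul_right _ (Nat.le_of_not_lt hp2)
        _ ≤ Nat.card V := mul_card_le_of_lt S (Thompson.isPGroup_isEA S.ea) le_rfl
            (lt_of_le_of_ne inf_le_left hne)

end CfsgLib.Fusion.OffenderBasic
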