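import Cfsg.Agent.Lib.Fusion.OffenderMain
import Cfsg.Prelude.Def_PLocal

/-!
Minimal best offenders and the family of direct factors.
-/

set_option autoImplicit false
set_option linter.style.haveILetI false
set_option linter.unusedSectionVars false

open scoped commutatorElement

namespace CfsgLib.Fusion.OffenderFamily

open CfsgLib.Fusion.OffenderBasic CfsgLib.Fusion.OffenderTv CfsgLib.Fusion.OffenderPlane
open CfsgLib.Fusion.OffenderMain

variable {G : Type*} [Group G] {p : ℕ}
variable {V H K : Subgroup G} (S : Setup p V H K) [hp : Fact p.Prime] [Finite G]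
include S

theorem gen_of_offenders
    (h : H = ⨆ A : {A : Subgroup G // A ≤ H ∧ Cfsg.IsBestOffenderOn p V A}, (A : Subgroup G)) :
    H ≤ Subgroup.closure {c | Tv p V H c} := by
  conv_lhs => rw [h]
  exact iSup_le fun A => (le_closure_tv S A.2.1 A.2.2).trans (Subgroup.closure_mono fun c hc => hc.2)

theorem ctr_ne_bot {a : G} (ha : Tv p V H a) : ctr V a ≠ ⊥ := fun h => by
  have := (ctr_props S ha).2.1
  rw [h, Subgroup.card_bot] at this
  exact hp.out.one_lt.ne this

theorem min_zpowers {a : G} (ha : Tv p V H a) {C : Subgroup G} (hC : C ≤ Subgroup.zpowers a)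
    (hne : ⁅V, C⁆ ≠ ⊥) : C = Subgroup.zpowers a := by
  have hd := Subgroup.card_dvd_of_le hC
  rw [Nat.card_zpowers, orderOf_tv S ha] at hd
  rcases hp.out.eq_one_or_self_of_dvd _ hd with h | h
  · rw [Subgroup.eq_bot_of_card_eq C h, Subgroup.commutator_bot_right] at hne
    exact absurd rfl hne
  · exact Subgroup.eq_of_le_of_card_ge hC (by rw [h, Nat.card_zpowers, orderOf_tv S ha])

theorem exists_tv_of_ne {A : Subgroup G} (hAH : A ≤ H) (hA : Cfsg.IsBestOffenderOn p V A)
    (hne : A ≠ ⊥) : ∃ a ∈ A, Tv p V H a := by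
  by_contra hcon
  push Not at hcon
  refine hne (le_bot_iff.1 ((le_closure_tv S hAH hA).trans ?_))
  rw [Subgroup.closure_le]
  exact fun a ha => absurd ha.2 (hcon a ha.1)

theorem exists_tv_of_min {A : Subgroup G} (hAH : A ≤ H) (hA : Cfsg.IsBestOffenderOn p V A)
    (hAV : ⁅V, A⁆ ≠ ⊥)
    (hmin : ∀ B : Subgroup G, B ≤ A → Cfsg.IsBestOffenderOn p V B → ⁅V, B⁆ ≠ ⊥ → B = A) :
    ∃ a, Tv p V H a ∧ A = Subgroup.zpowers a := by
  obtain ⟨a, haA, ha⟩ := exists_tv_of_ne S hAH hA
    (fun h => hAV (by rw [h, Subgroup.commutator_bot_right]))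
  exact ⟨a, ha, (hmin _ (Subgroup.zpowers_le.2 haA) (isBest_zpowers S ha).1 (ctr_ne_bot S ha)).symm⟩

/-- A best offender is the direct product of subgroups generated by transvections. -/
theorem exists_decomposition {A : Subgroup G} (hAH : A ≤ H) (hA : Cfsg.IsBestOffenderOn p V A) :
    ∃ (k : ℕ) (e : Fin k → G), (∀ i, e i ∈ A ∧ Tv p V H (e i)) ∧
      iSupIndep (fun i => Subgroup.zpowers (e i)) ∧ ⨆ i, Subgroup.zpowers (e i) = A := by
  classical
  haveI := Fintype.ofFinite G
  have hAc := CfsgLib.Solvable.Basic.isMulCommutative_subgroup_iff.1 (OffenderBasic.isEA S hAH hA).1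
  have hprime : ∀ {c : G}, Tv p V H c → ∀ B : Subgroup G, c ∉ B → Subgroup.zpowers c ⊓ B = ⊥ := by
    intro c hc B hcB
    have hd := Subgroup.card_dvd_of_le (inf_le_left : Subgroup.zpowers c ⊓ B ≤ _)
    rw [Nat.card_zpowers, orderOf_tv S hc] at hd
    rcases hp.out.eq_one_or_self_of_dvd _ hd with h | h
    · exact Subgroup.eq_bot_of_card_eq _ h
    · exfalso
      have : Subgroup.zpowers c ⊓ B = Subgroup.zpowers c :=
        Subgroup.eq_of_le_of_card_ge inf_le_left (by rw [h, Nat.card_zpowers, orderOf_tv S hc])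
      exact hcB (inf_eq_left.1 this (Subgroup.mem_zpowers c))
  obtain ⟨s, ⟨hsA, hsind⟩, hmax⟩ := Set.Finite.exists_maximal
    (s := {s : Finset G | (∀ a ∈ s, a ∈ A ∧ Tv p V H a) ∧
      ∀ a ∈ s, a ∉ Subgroup.closure ((s.erase a : Finset G) : Set G)}) (Set.toFinite _)
    ⟨∅, by simp, by simp⟩
  have hsub : ∀ c ∈ A, Tv p V H c → c ∈ Subgroup.closure (s : Set G) := by
    intro c hcA hc
    by_contra hcs
    have hcs' : c ∉ s := fun h => hcs (Subgroup.subset_closure (by exact_mod_cast h))
    have hmem : insert c s ∈ {s : Finset G | (∀ a ∈ s, a ∈ A ∧ Tv p V H a) ∧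
        ∀ a ∈ s, a ∉ Subgroup.closure ((s.erase a : Finset G) : Set G)} := by
      refine ⟨?_, ?_⟩
      · intro a ha
        rcases Finset.mem_insert.1 ha with rfl | h
        · exact ⟨hcA, hc⟩
        · exact hsA a h
      · intro a ha hmem
        rcases Finset.mem_insert.1 ha with rfl | h
        · rw [Finset.erase_insert hcs'] at hmem
          exact hcs hmem
        · have hne : a ≠ c := fun e => hcs' (e ▸ h)
          rw [Finset.erase_insert_of_ne (Ne.symm hne), Finset.coe_insert, Set.insert_eq,
            Subgroup.closure_union, ← Subgroup.zpowers_eq_closure] at hmem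
          set R := Subgroup.closure ((s.erase a : Finset G) : Set G) with hR
          have hRA : R ≤ A := (Subgroup.closure_le _).2 fun x hx => (hsA x (Finset.mem_of_mem_erase hx)).1
          rw [← SetLike.mem_coe, Subgroup.coe_mul_of_right_le_normalizer_left (Subgroup.zpowers c) R
            (le_trans (fun y hy => Subgroup.mem_centralizer_iff.2 fun x hx =>
              hAc x (Subgroup.zpowers_le.2 hcA hx) y (hRA hy))
              (Subgroup.centralizer_le_normalizer _))] at hmem
          obtain ⟨u, hu, r, hr, hur⟩ := hmem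
          by_cases hu1 : u = 1
          · have hur' : u * r = a := hur
            rw [hu1, one_mul] at hur'
            rw [hur'] at hr
            exact hsind a h hr
          · refine hcs ?_
            have hgen : Subgroup.zpowers u = Subgroup.zpowers c := by
              refine Subgroup.eq_of_le_of_card_ge (Subgroup.zpowers_le.2 hu) ?_
              rw [Nat.card_zpowers, Nat.card_zpowers, orderOf_tv S hc, orderOf_eq_prime (p := p) ?_ hu1]
              exact (OffenderBasic.isEA S hAH hA).2 u (Subgroup.zpowers_le.2 hcA hu)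
            have hu' : u ∈ Subgroup.closure (s : Set G) := by
              have : u = a * r⁻¹ := eq_mul_inv_of_mul_eq hur
              rw [this]
              exact mul_mem (Subgroup.subset_closure (by exact_mod_cast h))
                (inv_mem (Subgroup.closure_mono (by intro x hx; exact Finset.mem_of_mem_erase hx) hr))
            have : Subgroup.zpowers c ≤ Subgroup.closure (s : Set G) := hgen ▸ Subgroup.zpowers_le.2 hu'
            exact this (Subgroup.mem_zpowers c)
    exact hcs' (hmax hmem (Finset.subset_insert c s) (Finset.mem_insert_self c s))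
  let e : Fin s.card → G := fun i => (s.equivFin.symm i : G)
  have hes : ∀ i, e i ∈ s := fun i => (s.equivFin.symm i).2
  refine ⟨s.card, e, fun i => hsA _ (hes i), ?_, ?_⟩
  · intro i
    rw [disjoint_iff]
    refine le_bot_iff.1 (le_trans (inf_le_inf_left _ ?_)
      (hprime (hsA _ (hes i)).2 _ (hsind _ (hes i))).le)
    refine iSup₂_le fun j hj => Subgroup.zpowers_le.2 (Subgroup.subset_closure ?_)
    exact Finset.mem_coe.2 (Finset.mem_erase.2 ⟨fun h => hj (s.equivFin.symm.injective (Subtype.ext h)), hes j⟩)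
  · refine le_antisymm (iSup_le fun i => Subgroup.zpowers_le.2 (hsA _ (hes i)).1) ?_
    refine (le_closure_tv S hAH hA).trans ((Subgroup.closure_le _).2 fun c hc => ?_)
    have h1 : Subgroup.closure (s : Set G) ≤ ⨆ i, Subgroup.zpowers (e i) := by
      rw [Subgroup.closure_le]
      intro x hx
      have : e (s.equivFin ⟨x, hx⟩) = x := by simp [e]
      refine Subgroup.mem_iSup_of_mem (s.equivFin ⟨x, hx⟩) ?_
      rw [this]
      exact Subgroup.mem_zpowers x
    exact h1 (hsub c hc.1 hc.2)

variable (hgen : H ≤ Subgroup.closure {c | Tv p V H c})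
include hgen

theorem factor_le {a c : G} (ha : Tv p V H a) (hc : Tv p V H c) (hne : eGrp K c ≠ eGrp K a) :
    eGrp K c ≤ H ⊓ Subgroup.centralizer ((⁅V, eGrp K a⁆ : Subgroup G) : Set G) := by
  refine le_inf (eGrp_le S hc) ?_
  obtain ⟨d, hd, hcd⟩ := exists_other S hc
  have hdt := cls_tv S hc hd
  rw [eGrp_eq S hc hd hcd, Subgroup.closure_le]
  rintro x (rfl | rfl)
  · exact (tv_cases S ha hc).resolve_left fun h => hne (eGrp_eq_of_mem S ha hc h)
  · exact (tv_cases S ha hdt).resolve_left fun h => hne
      ((eGrp_eq_of_mem S hc hdt (cls_le_eGrp hd)).symm.trans (eGrp_eq_of_mem S ha hdt h))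

end CfsgLib.Fusion.OffenderFamily
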