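import Cfsg.Agent.Lib.Fusion.OffenderAction

/-!
The plane of a transvection inside the group, and its norms under a `q`-group of operators.
-/

set_option autoImplicit false
set_option linter.style.haveILetI false
set_option linter.unusedSectionVars false

open scoped MatrixGroups commutatorElement

namespace CfsgLib.Fusion.OffenderFixed

open CfsgLib.Solvable CfsgLib.Fusion.OffenderTv CfsgLib.Fusion.OffenderAction

universe u

variable {K : Type u} [Group K] [Finite K] {p : ℕ} [Fact p.Prime]

attribute [local instance] OmegaCenter.normal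

local notation "VV" => OmegaCenter.closureOmega p K
local notation "CC" => Subgroup.centralizer (VV : Set K)
local notation "QQ" => K ⧸ CC
local notation "qq" => QuotientGroup.mk' CC
local notation "ii" => (SemidirectProduct.inr : QQ →* FailureFactor.Amb VV)
local notation "HH" => Subgroup.map (FailureFactor.rho VV) (Cfsg.thompsonSubgroup p K)
local notation "KK" => Subgroup.map (Subgroup.subtype HH) (Cfsg.pPrimeCore p ↥HH)

/-- The plane of a transvection. -/
def plane (a : QQ) : Subgroup K := ⁅VV, (egroup a).comap qq⁆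

theorem plane_le (a : QQ) : plane a ≤ VV := Subgroup.commutator_le_left _ _

theorem normalizer_egroup {a : QQ} {g : K} (hg : qq g ∈ jq p K) :
    g ∈ Subgroup.normalizer ((egroup a).comap qq : Set K) := by
  have h : ∀ g, qq g ∈ jq p K → ∀ x, qq x ∈ egroup a → qq (g * x * g⁻¹) ∈ egroup a := by
    intro g hg x hx
    have : (egroup a).map (MulAut.conj (qq g)).toMonoidHom ≤ egroup a := by
      rw [egroup, MonoidHom.map_closure]
      refine (Subgroup.closure_le _).2 ?_
      rintro _ ⟨_, ⟨h, hh, rfl⟩, rfl⟩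
      exact Subgroup.subset_closure ⟨qq g * h, mul_mem hg hh, by simp [mul_assoc]⟩
    rw [map_mul, map_mul, map_inv]
    exact this (Subgroup.mem_map_of_mem _ hx)
  rw [Subgroup.mem_normalizer_iff]
  intro x
  refine ⟨fun hx => h g hg x hx, fun hx => ?_⟩
  have := h g⁻¹ (by rw [map_inv]; exact inv_mem hg) _ hx
  rwa [show g⁻¹ * (g * x * g⁻¹) * g⁻¹⁻¹ = x by group] at this

theorem normalizer_plane {a : QQ} {g : K} (hg : qq g ∈ jq p K) :
    g ∈ Subgroup.normalizer (plane a : Set K) := by
  rw [plane, Subgroup.mem_normalizer_iff_map_conj_eq, Subgroup.map_commutator,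
    Subgroup.mem_normalizer_iff_map_conj_eq.1 (normalizer_egroup hg),
    Subgroup.mem_normalizer_iff_map_conj_eq.1 (show g ∈ Subgroup.normalizer (VV : Set K) by
      rw [Subgroup.normalizer_eq_top]; exact Subgroup.mem_top g)]

variable (hsep : Cfsg.IsPSolvable p K) (hO : Cfsg.pPrimeCore p K = ⊥)
include hsep hO

theorem map_plane {a : QQ} (ha : IsTv a) :
    ((plane a).subgroupOf VV).map (FailureFactor.iota VV) =
      ⁅FailureFactor.vv VV, OffenderPlane.eGrp KK (ii a)⁆ := by
  rw [← map_egroup hsep hO ha]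
  apply le_antisymm
  · have h : plane a ≤ ((⁅FailureFactor.vv VV, (egroup a).map ii⁆).comap
        (FailureFactor.iota VV)).map (VV).subtype := by
      rw [plane, Subgroup.commutator_le]
      intro v hv g hg
      refine ⟨⟨⁅v, g⁆, Subgroup.commutator_le_left VV ⊤
        (Subgroup.commutator_mem_commutator hv (Subgroup.mem_top g))⟩, ?_, rfl⟩
      have h1 := FailureFactor.rho_conj VV g (⟨v, hv⟩⁻¹ : VV)
      show FailureFactor.iota VV _ ∈ ⁅FailureFactor.vv VV, (egroup a).map ii⁆
      rw [show (⟨⁅v, g⁆, _⟩ : VV) = ⟨v, hv⟩ * ⟨g * (⟨v, hv⟩⁻¹ : VV) * g⁻¹,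
          (OmegaCenter.normal (p := p) (G := K)).conj_mem _ (⟨v, hv⟩⁻¹ : VV).2 g⟩ from
        Subtype.ext (by simp [commutatorElement_def, mul_assoc]), map_mul, ← h1, map_inv,
        show FailureFactor.iota VV ⟨v, hv⟩ * (FailureFactor.rho VV g *
          (FailureFactor.iota VV ⟨v, hv⟩)⁻¹ * (FailureFactor.rho VV g)⁻¹) =
          ⁅FailureFactor.iota VV ⟨v, hv⟩, FailureFactor.rho VV g⁆ by
          rw [commutatorElement_def]; group]
      exact Subgroup.commutator_mem_commutator ⟨_, rfl⟩ (Subgroup.mem_map_of_mem ii hg)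
    rintro _ ⟨w, hw, rfl⟩
    obtain ⟨w', hw', e⟩ := h (Subgroup.mem_subgroupOf.1 hw)
    rwa [show w = w' from Subtype.ext e.symm]
  · rw [Subgroup.commutator_le]
    rintro _ ⟨v, rfl⟩ _ ⟨e, he, rfl⟩
    obtain ⟨g, rfl⟩ := QuotientGroup.mk'_surjective CC e
    refine ⟨⟨⁅(v : K), g⁆, Subgroup.commutator_le_left VV ⊤
      (Subgroup.commutator_mem_commutator v.2 (Subgroup.mem_top g))⟩,
      Subgroup.mem_subgroupOf.2 (Subgroup.commutator_mem_commutator v.2 he), ?_⟩
    have h1 := FailureFactor.rho_conj VV g (v⁻¹ : VV)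
    rw [show (⟨⁅(v : K), g⁆, _⟩ : VV) = v * ⟨g * (v⁻¹ : VV) * g⁻¹,
        (OmegaCenter.normal (p := p) (G := K)).conj_mem _ (v⁻¹ : VV).2 g⟩ from
      Subtype.ext (by simp [commutatorElement_def, mul_assoc]), map_mul, ← h1, map_inv,
      commutatorElement_def]
    show FailureFactor.iota VV v * (FailureFactor.rho VV g * (FailureFactor.iota VV v)⁻¹ *
      (FailureFactor.rho VV g)⁻¹) = FailureFactor.iota VV v * FailureFactor.rho VV g *
      (FailureFactor.iota VV v)⁻¹ * (FailureFactor.rho VV g)⁻¹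
    group

theorem card_plane {a : QQ} (ha : IsTv a) : Nat.card (plane a) = p ^ 2 := by
  have h := (OffenderPlane.plane (isSetup hsep hO) ha).2.2.1
  rw [← map_plane hsep hO ha, Subgroup.card_map_of_injective
    (show Function.Injective (FailureFactor.iota VV) from SemidirectProduct.inl_injective),
    Nat.card_congr (Subgroup.subgroupOfEquivOfLe (plane_le a)).toEquiv] at h
  exact h

theorem eq_one_of_fixes {a : QQ} (ha : IsTv a) {g : K} (hg : qq g ∈ egroup a)
    (hfix : ∀ w ∈ plane a, g * w = w * g) : qq g = 1 := by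
  refine SemidirectProduct.inr_injective (φ := FailureFactor.act VV) (map_one ii ▸ ?_)
  have h : ii (qq g) ∈ OffenderPlane.eGrp KK (ii a) ⊓
      Subgroup.centralizer ((⁅FailureFactor.vv VV, OffenderPlane.eGrp KK (ii a)⁆ :
        Subgroup (FailureFactor.Amb VV)) : Set (FailureFactor.Amb VV)) := by
    refine ⟨map_egroup hsep hO ha ▸ Subgroup.mem_map_of_mem ii hg, ?_⟩
    rw [← map_plane hsep hO ha]
    refine Subgroup.mem_centralizer_iff.2 ?_
    rintro _ ⟨w, hw, rfl⟩
    exact ((FailureFactor.commute_rho_iff VV).2 (hfix w (Subgroup.mem_subgroupOf.1 hw))).eq.symm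
  rwa [OffenderPlane.eGrp_inf (isSetup hsep hO) ha, Subgroup.mem_bot] at h

theorem eq_one_of_central {a : QQ} (ha : IsTv a) {w : K} (hw : w ∈ plane a)
    (hfix : ∀ g, qq g ∈ egroup a → g * w = w * g) : w = 1 := by
  have h : FailureFactor.iota VV ⟨w, plane_le a hw⟩ ∈
      ⁅FailureFactor.vv VV, OffenderPlane.eGrp KK (ii a)⁆ ⊓ (FailureFactor.vv VV ⊓
        Subgroup.centralizer (OffenderPlane.eGrp KK (ii a) : Set (FailureFactor.Amb VV))) := by
    refine ⟨map_plane hsep hO ha ▸ Subgroup.mem_map_of_mem _ (Subgroup.mem_subgroupOf.2 hw),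
      ⟨_, rfl⟩, ?_⟩
    rw [← map_egroup hsep hO ha]
    refine Subgroup.mem_centralizer_iff.2 ?_
    rintro _ ⟨e, he, rfl⟩
    obtain ⟨g, rfl⟩ := QuotientGroup.mk'_surjective CC e
    exact ((FailureFactor.commute_rho_iff VV (v := ⟨w, plane_le a hw⟩)).2 (hfix g he)).eq
  rw [(OffenderPlane.plane (isSetup hsep hO) ha).1, Subgroup.mem_bot,
    ← map_one (FailureFactor.iota VV)] at h
  exact congrArg Subtype.val (SemidirectProduct.inl_injective (φ := FailureFactor.act VV) h)

theorem exists_component {a : QQ} (ha : IsTv a) {g : K} (hg : qq g ∈ jq p K) :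
    ∃ g', qq g' ∈ egroup a ∧ ∀ w ∈ plane a, g * w * g⁻¹ = g' * w * g'⁻¹ := by
  have S := isSetup hsep hO
  obtain ⟨-, hcomm, -, hsup, -⟩ := OffenderMain.decomp S (gen hsep hO) ha
  rw [Subgroup.commutator_eq_bot_iff_le_centralizer, Subgroup.le_centralizer_iff] at hcomm
  have h1 : ii (qq g) ∈ HH := mem_jq_iff.2 hg
  rw [← hsup, ← SetLike.mem_coe, Subgroup.coe_mul_of_right_le_normalizer_left _ _
    (hcomm.trans (Subgroup.centralizer_le_normalizer _))] at h1
  obtain ⟨x, hx, y, hy, hxy⟩ := Set.mem_mul.1 h1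
  obtain ⟨e, he, rfl⟩ : x ∈ (egroup a).map ii := (map_egroup hsep hO ha).symm ▸ hx
  obtain ⟨g', rfl⟩ := QuotientGroup.mk'_surjective CC e
  refine ⟨g', he, fun w hw => ?_⟩
  have hc : Commute (FailureFactor.rho VV (g'⁻¹ * g)) (FailureFactor.iota VV ⟨w, plane_le a hw⟩) := by
    rw [map_mul, map_inv, show FailureFactor.rho VV g = ii (qq g') * y from hxy.symm]
    rw [show (FailureFactor.rho VV g')⁻¹ * (ii (qq g') * y) = y from inv_mul_cancel_left _ _]
    exact (Subgroup.mem_centralizer_iff.1 (Subgroup.mem_inf.1 hy).2 _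
      (map_plane hsep hO ha ▸ Subgroup.mem_map_of_mem _ (Subgroup.mem_subgroupOf.2 hw))).symm
  have hc' := ((FailureFactor.commute_rho_iff VV).1 hc).eq
  calc g * w * g⁻¹ = g' * (g'⁻¹ * g * w) * g⁻¹ := by group
    _ = g' * (w * (g'⁻¹ * g)) * g⁻¹ := by rw [hc']
    _ = g' * w * g'⁻¹ := by group

theorem plane_le_fixed {a c : QQ} (ha : IsTv a) (hc : IsTv c) (hne : egroup c ≠ egroup a) {w : K}
    (hw : w ∈ plane c) {g : K} (hg : qq g ∈ egroup a) : g * w = w * g := by
  have S := isSetup hsep hO
  have hne' : OffenderPlane.eGrp KK (ii c) ≠ OffenderPlane.eGrp KK (ii a) := fun h => hne (by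
    rw [← map_egroup hsep hO ha, ← map_egroup hsep hO hc] at h
    exact Subgroup.map_injective SemidirectProduct.inr_injective h)
  have h1 := (Subgroup.commutator_mono le_rfl (OffenderFamily.factor_le S (gen hsep hO) ha hc hne')).trans
    (OffenderMain.decomp S (gen hsep hO) ha).2.2.2.2
  rw [← map_plane hsep hO hc] at h1
  have h2 := (Subgroup.mem_inf.1 (h1 (Subgroup.mem_map_of_mem _
    (Subgroup.mem_subgroupOf.2 hw : (⟨w, plane_le c hw⟩ : VV) ∈ (plane c).subgroupOf VV)))).2
  have h3 := Subgroup.mem_centralizer_iff.1 h2 (ii (qq g))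
    (map_egroup hsep hO ha ▸ Subgroup.mem_map_of_mem ii hg)
  exact ((FailureFactor.commute_rho_iff VV).1 h3).eq

variable {q : ℕ} [Fact q.Prime] {X : Type*} [Group X] [Finite X] (σ : X →* MulAut K)

omit hsep hO in
theorem sigma_plane (x : X) {a : QQ} {w : K} (hw : w ∈ plane a) :
    σ x w ∈ plane (tau (p := p) σ x a) := by
  have : (plane a).map (σ x).toMonoidHom ≤ plane (tau (p := p) σ x a) := by
    rw [plane, Subgroup.map_commutator]
    refine Subgroup.commutator_mono (map_closureOmega (σ x)) ?_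
    rintro _ ⟨g, hg, rfl⟩
    show qq (σ x g) ∈ egroup (tau (p := p) σ x a)
    rw [← tau_mk]
    exact tau_egroup σ x hg
  exact this (Subgroup.mem_map_of_mem _ hw)

variable (hX : IsPGroup q X) (hq : ¬ q ∣ Nat.card K)
include hX hq

theorem dichotomy {a : QQ} (ha : IsTv a) (x : X) :
    (∀ w ∈ plane a, σ x w = w) ∨ ∀ w ∈ plane a, ∀ g, qq g ∈ egroup a → g * σ x w = σ x w * g := by
  by_cases h : egroup (tau (p := p) σ x a) = egroup a
  · left
    have hinv : ∀ y ∈ Subgroup.zpowers x, ∀ w ∈ plane a, σ y w ∈ plane a := by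
      intro y hy
      rw [← mem_powers_iff_mem_zpowers] at hy
      obtain ⟨n, rfl⟩ := hy
      show ∀ w ∈ plane a, σ (x ^ n) w ∈ plane a
      induction n with
      | zero => intro w hw; rw [pow_zero, map_one]; exact hw
      | succ n ih =>
        intro w hw
        rw [pow_succ', map_mul]
        have := sigma_plane σ x (ih w hw)
        rwa [plane, h] at this
    letI : MulAction (Subgroup.zpowers x) (plane a) :=
      { smul := fun y w => ⟨σ y w, hinv y y.2 w w.2⟩
        one_smul := fun w => Subtype.ext (by show σ 1 (w : K) = w; rw [map_one]; rfl)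
        mul_smul := fun y z w => Subtype.ext (by
          show σ ((y : X) * z) (w : K) = σ y (σ z w); rw [map_mul]; rfl) }
    have h1 := (hX.to_subgroup (Subgroup.zpowers x)).card_modEq_card_fixedPoints (plane a)
    set F : Subgroup K := plane a ⊓ MonoidHom.eqLocus (σ x).toMonoidHom (MonoidHom.id K) with hF
    have hFcard : Nat.card (MulAction.fixedPoints (Subgroup.zpowers x) (plane a)) = Nat.card F := by
      refine Nat.card_congr ⟨fun w => ⟨w.1, w.1.2, congrArg Subtype.val (w.2 ⟨x, Subgroup.mem_zpowers x⟩)⟩,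
        fun w => ⟨⟨w, w.2.1⟩, fun y => ?_⟩, fun _ => rfl, fun _ => rfl⟩
      refine Subtype.ext ?_
      show σ (y : X) (w : K) = w
      have hfix : (Subgroup.zpowers x).map σ ≤ MulAction.stabilizer (MulAut K) (w : K) := by
        rw [MonoidHom.map_zpowers]
        exact Subgroup.zpowers_le.2 w.2.2
      exact hfix (Subgroup.mem_map_of_mem σ y.2)
    rw [card_plane hsep hO ha, hFcard] at h1
    have hdvd := Subgroup.card_dvd_of_le (inf_le_left : F ≤ plane a)
    rw [card_plane hsep hO ha] at hdvd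
    obtain ⟨i, hi, hiF⟩ := (Nat.dvd_prime_pow Fact.out).1 hdvd
    have hq5 := five_le hsep hO hq ha
    rw [hiF] at h1
    have h2 : i = 2 := by
      by_contra hne
      have hqd : q ∣ p ^ 2 - p ^ i := (Nat.modEq_iff_dvd' (Nat.pow_le_pow_right
        (Fact.out : p.Prime).one_le hi)).1 h1.symm
      have h24 : q ∣ 24 := hqd.trans (by
        rcases prime_cases hsep hO ha with rfl | rfl <;> interval_cases i <;> first | exact absurd rfl hne | norm_num)
      rcases (Fact.out : q.Prime).dvd_mul.1 (show q ∣ 2 ^ 3 * 3 by simpa using h24) with h | h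
      · have := Nat.le_of_dvd (by norm_num) ((Fact.out : q.Prime).dvd_of_dvd_pow h)
        omega
      · have := Nat.le_of_dvd (by norm_num) h
        omega
    intro w hw
    have : F = plane a := Subgroup.eq_of_le_of_card_ge inf_le_left (by
      rw [hiF, h2, card_plane hsep hO ha])
    rw [← this] at hw
    exact hw.2
  · exact Or.inr fun w hw g hg =>
      plane_le_fixed hsep hO ha (tau_isTv hsep hO σ x ha) h (sigma_plane σ x hw) hg

/-- The norm of a plane. -/
theorem exists_norm_hom {a : QQ} (ha : IsTv a) :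
    ∃ N : plane a →* K, Function.Injective N ∧ (∀ w, N w ∈ VV) ∧ (∀ x w, σ x (N w) = N w) ∧
      ∀ k : K, (∀ x, σ x k = k) → ∀ w w' : plane a, (w' : K) = k * w * k⁻¹ → N w' = k * N w * k⁻¹ := by
  classical
  haveI := Fintype.ofFinite X
  haveI : IsMulCommutative VV := (OmegaCenter.isEA hsep hO).1
  letI : CommGroup VV := { (inferInstance : Group VV) with mul_comm := fun u v => mul_comm' u v }
  let φ : X → (plane a →* VV) := fun x => ((σ x).toMonoidHom.comp (plane a).subtype).codRestrict VV
    fun w => map_closureOmega (σ x) (Subgroup.mem_map_of_mem _ (plane_le a w.2))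
  let Φ : plane a →* VV := ∏ x, φ x
  have hΦ : ∀ w, Φ w = ∏ x, φ x w := fun w => MonoidHom.finsetProd_apply _ _ _
  let St : Subgroup X :=
    { carrier := {x | ∀ w ∈ plane a, σ x w = w}
      one_mem' := fun w _ => by rw [map_one]; rfl
      mul_mem' := fun {x y} hx hy w hw => by rw [map_mul, MulAut.mul_apply, hy w hw, hx w hw]
      inv_mem' := fun {x} hx w hw => by
        have h1 := congrArg (σ x⁻¹) (hx w hw)
        rw [← MulAut.mul_apply, ← map_mul, inv_mul_cancel, map_one] at h1
        exact h1.symm }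
  refine ⟨(VV).subtype.comp Φ, ?_, fun w => (Φ w).2, fun y w => ?_, fun k hk w w' hw' => ?_⟩
  · rw [← MonoidHom.ker_eq_bot_iff, Subgroup.eq_bot_iff_forall]
    intro w hw
    have hw1 : Φ w = 1 := Subtype.ext hw
    rw [hΦ, ← Finset.prod_filter_mul_prod_filter_not _ (· ∈ St)] at hw1
    rw [Finset.prod_congr rfl (g := fun _ => φ 1 w) (fun x hx => Subtype.ext (by
      show σ x (w : K) = σ 1 (w : K)
      rw [(Finset.mem_filter.1 hx).2 w w.2, map_one]; rfl)), Finset.prod_const] at hw1
    have hm : (Finset.univ.filter (· ∈ St)).card = Nat.card St := by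
      rw [Nat.card_eq_fintype_card, Fintype.card_subtype]
    rw [hm, mul_eq_one_iff_eq_inv] at hw1
    have h1 : ((w ^ Nat.card St : plane a) : K) = 1 := by
      refine eq_one_of_central hsep hO ha (w ^ Nat.card St : plane a).2 fun g hg => ?_
      have hwm : ((w ^ Nat.card St : plane a) : K) = ((φ 1 w ^ Nat.card St : VV) : K) := by
        rw [Subgroup.coe_pow, Subgroup.coe_pow]
        show (w : K) ^ _ = (σ 1 (w : K)) ^ _
        rw [map_one]; rfl
      rw [hwm, hw1]
      have : (∏ x ∈ Finset.univ.filter (· ∉ St), φ x w)⁻¹ ∈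
          (Subgroup.centralizer {g}).subgroupOf VV := by
        refine inv_mem (Subgroup.prod_mem _ fun x hx => Subgroup.mem_subgroupOf.2 ?_)
        rcases dichotomy hsep hO σ hX hq ha x with h | h
        · exact absurd (show x ∈ St from h) (Finset.mem_filter.1 hx).2
        · exact Subgroup.mem_centralizer_singleton_iff.2 (h w w.2 g hg).symm
      exact (Subgroup.mem_centralizer_singleton_iff.1 (Subgroup.mem_subgroupOf.1 this)).symm
    obtain ⟨m, hm'⟩ := IsPGroup.iff_card.1 (hX.to_subgroup St)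
    have hcop : (Nat.card (plane a)).Coprime (Nat.card St) := by
      rw [hm']
      refine (((Fact.out : q.Prime).coprime_iff_not_dvd.2 fun h => hq ?_).symm).pow_right m
      exact h.trans (plane a).card_subgroup_dvd_card
    exact (powCoprime hcop).injective (show w ^ Nat.card St = 1 ^ Nat.card St by
      rw [one_pow]; exact Subtype.ext h1)
  · let s : VV →* VV := ((σ y).toMonoidHom.comp (VV).subtype).codRestrict VV
      fun v => map_closureOmega (σ y) (Subgroup.mem_map_of_mem _ v.2)
    show ((s (Φ w) : VV) : K) = ((Φ w : VV) : K)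
    rw [hΦ, map_prod]
    congr 1
    refine Fintype.prod_equiv (Equiv.mulLeft y) _ _ fun x => Subtype.ext ?_
    show σ y (σ x (w : K)) = σ (y * x) (w : K)
    rw [map_mul]; rfl
  · let c : VV →* VV := ((MulAut.conj k).toMonoidHom.comp (VV).subtype).codRestrict VV
      fun v => (OmegaCenter.normal (p := p) (G := K)).conj_mem _ v.2 k
    show ((Φ w' : VV) : K) = ((c (Φ w) : VV) : K)
    rw [hΦ, hΦ, map_prod]
    congr 1
    refine Finset.prod_congr rfl fun x _ => Subtype.ext ?_
    show σ x (w' : K) = k * σ x (w : K) * k⁻¹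
    rw [hw', map_mul, map_mul, map_inv, hk x]

end CfsgLib.Fusion.OffenderFixed
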