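import Cfsg.Agent.Lib.Fusion.OffenderPlane
import Cfsg.Agent.Lib.Classical.SL2Sylow

/-!
The structure of a group generated by transvections with a self-centralising `p'`-subgroup.
-/

set_option autoImplicit false
set_option linter.style.haveILetI false
set_option linter.unusedSectionVars false

open scoped commutatorElement MatrixGroups

namespace CfsgLib.Fusion.OffenderMain

open CfsgLib.Fusion.OffenderBasic CfsgLib.Fusion.OffenderTv CfsgLib.Fusion.OffenderPlane

variable {G : Type*} [Group G] {p : ℕ}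
variable {V H K : Subgroup G} (S : Setup p V H K) [hp : Fact p.Prime] [Finite G]
include S

theorem eGrp_eq_of_mem {a c : G} (ha : Tv p V H a) (hc : Tv p V H c) (hca : c ∈ eGrp K a) :
    eGrp K c = eGrp K a := by
  have hsub : ∀ {a c : G}, Tv p V H a → Tv p V H c → c ∈ eGrp K a → eGrp K c ≤ eGrp K a := by
    intro a c ha hc hca
    obtain ⟨d, hd, hne⟩ := exists_other S hc
    rw [eGrp_eq S hc hd hne, Subgroup.closure_le]
    rintro x (rfl | rfl)
    · exact hca
    · obtain ⟨k, hk, rfl⟩ := hd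
      exact (Subgroup.mem_normalizer_iff.1 (K_le_normalizer S ha hk) c).1 hca
  have hle := hsub ha hc hca
  refine le_antisymm hle ?_
  have hW : ⁅V, eGrp K c⁆ = ⁅V, eGrp K a⁆ :=
    Subgroup.eq_of_le_of_card_ge (Subgroup.commutator_mono le_rfl hle)
      (le_of_eq ((plane S ha).2.2.1.trans (plane S hc).2.2.1.symm))
  rcases tv_cases S hc ha with h | h
  · exact hsub hc ha h
  · exfalso
    rw [hW] at h
    obtain ⟨b, hb, hne⟩ := exists_other S ha
    refine pair S ha (cls_tv S ha hb) (cls_div S ha hb) hne fun u hu => ?_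
    refine mem_axis.2 ⟨ctr_le_V S (cls_tv S ha hb) hu, ?_⟩
    exact Subgroup.mem_centralizer_iff.1 h u
      ((Subgroup.commutator_mono le_rfl (Subgroup.zpowers_le.2 (cls_le_eGrp hb))) hu)

variable (hgen : H ≤ Subgroup.closure {c | Tv p V H c})
include hgen

/-- `H` is the direct product of `eGrp K a` and the centraliser of its plane. -/
theorem decomp {a : G} (ha : Tv p V H a) :
    H ≤ Subgroup.normalizer (eGrp K a : Set G) ∧
    ⁅eGrp K a, H ⊓ Subgroup.centralizer ((⁅V, eGrp K a⁆ : Subgroup G) : Set G)⁆ = ⊥ ∧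
    eGrp K a ⊓ (H ⊓ Subgroup.centralizer ((⁅V, eGrp K a⁆ : Subgroup G) : Set G)) = ⊥ ∧
    eGrp K a ⊔ (H ⊓ Subgroup.centralizer ((⁅V, eGrp K a⁆ : Subgroup G) : Set G)) = H ∧
    ⁅V, H ⊓ Subgroup.centralizer ((⁅V, eGrp K a⁆ : Subgroup G) : Set G)⁆ ≤
      V ⊓ Subgroup.centralizer (eGrp K a : Set G) := by
  obtain ⟨hcap, hsup, -, hWV⟩ := plane S ha
  set W := ⁅V, eGrp K a⁆ with hW
  set C := V ⊓ Subgroup.centralizer (eGrp K a : Set G) with hC
  set M := H ⊓ Subgroup.centralizer (W : Set G) with hM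
  have hHW : H ≤ Subgroup.normalizer (W : Set G) ⊓ Subgroup.normalizer (C : Set G) :=
    hgen.trans ((Subgroup.closure_le _).2 fun c hc => tv_normalizes S ha hc)
  have hcomm : ∀ e ∈ eGrp K a, ∀ m ∈ M, e * m = m * e := by
    intro e he m hm
    have heH := eGrp_le S ha he
    have key : ⁅e, m⁆ = 1 := by
      refine eGrp_faithful S ha (Subgroup.commutator_le_self H
        (Subgroup.commutator_mem_commutator heH hm.1)) (fun w hw => ?_) (fun u hu => ?_)
      · -- on `W` the element `m` is trivial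
        have hm' : ∀ x ∈ W, x * m = m * x := fun x hx => Subgroup.mem_centralizer_iff.1 hm.2 x hx
        have h1 : e⁻¹ * w * e ∈ W := by
          have := (Subgroup.mem_normalizer_iff.1 (inv_mem (hHW heH).1) w).1 hw
          rwa [inv_inv] at this
        have c1 : Commute m⁻¹ w := (show Commute w m from hm' w hw).symm.inv_left
        have c2 : Commute m (e⁻¹ * w * e) := (hm' _ h1).symm
        show ⁅e, m⁆ * w = w * ⁅e, m⁆
        calc ⁅e, m⁆ * w = e * m * e⁻¹ * (m⁻¹ * w) := by rw [commutatorElement_def]; group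
          _ = e * (m * (e⁻¹ * w * e)) * e⁻¹ * m⁻¹ := by rw [c1.eq]; group
          _ = e * ((e⁻¹ * w * e) * m) * e⁻¹ * m⁻¹ := by rw [c2.eq]
          _ = _ := by rw [commutatorElement_def]; group
      · -- on `C` the element `e` is trivial
        have he' : ∀ x ∈ C, x * e = e * x := fun x hx => (Subgroup.mem_centralizer_iff.1 hx.2 e he).symm
        have h1 : m⁻¹ * u * m ∈ C := by
          have := (Subgroup.mem_normalizer_iff.1 (inv_mem (hHW hm.1).2) u).1 hu
          rwa [inv_inv] at this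
        have c1 : Commute e⁻¹ (m⁻¹ * u * m) := (show Commute _ e from he' _ h1).symm.inv_left
        have c2 : Commute e u := (he' u hu).symm
        show ⁅e, m⁆ * u = u * ⁅e, m⁆
        calc ⁅e, m⁆ * u = e * m * (e⁻¹ * (m⁻¹ * u * m)) * m⁻¹ := by rw [commutatorElement_def]; group
          _ = (e * u) * m * e⁻¹ * m⁻¹ := by rw [c1.eq]; group
          _ = _ := by rw [c2.eq, commutatorElement_def]; group
    exact commutatorElement_eq_one_iff_mul_comm.1 key
  have hsupH : eGrp K a ⊔ M = H := by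
    refine le_antisymm (sup_le (eGrp_le S ha) inf_le_left) (hgen.trans ((Subgroup.closure_le _).2 ?_))
    intro c hc
    rcases tv_cases S ha hc with h | h
    · exact Subgroup.mem_sup_left h
    · exact Subgroup.mem_sup_right ⟨hc.mem, h⟩
  refine ⟨?_, ?_, ?_, hsupH, ?_⟩
  · conv_lhs => rw [← hsupH]
    exact sup_le Subgroup.le_normalizer (fun m hm => Subgroup.centralizer_le_normalizer _
      (Subgroup.mem_centralizer_iff.2 fun e he => hcomm e he m hm))
  · rw [Subgroup.commutator_eq_bot_iff_le_centralizer]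
    exact fun e he => Subgroup.mem_centralizer_iff.2 fun m hm => (hcomm e he m hm).symm
  · exact le_bot_iff.1 ((inf_le_inf_left _ inf_le_right).trans (eGrp_inf S ha).le)
  · rw [Subgroup.commutator_le]
    intro v hv m hm
    rw [← hsup] at hv
    obtain ⟨x, hx, y, hy, rfl⟩ := mul_of_mem_sup S hWV inf_le_left hv
    have h1 : ⁅y, m⁆ ∈ C := by
      rw [commutatorElement_def, mul_assoc y, mul_assoc y]
      exact mul_mem hy ((Subgroup.mem_normalizer_iff.1 (hHW hm.1).2 _).1 (inv_mem hy))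
    rw [commutatorElement_mul_left_eq_conj_mul, comm_V S (hWV hx) h1.1, mul_inv_cancel_right,
      commutatorElement_eq_one_iff_mul_comm.2 (Subgroup.mem_centralizer_iff.1 hm.2 x hx), mul_one]
    exact h1

omit hgen in
/-- The elements acting on the plane through `SL(2, p)` and the resulting isomorphism. -/
theorem exists_equiv {a : G} (ha : Tv p V H a) :
    ∃ φ : eGrp K a ≃* SL(2, ZMod p), φ ⟨a, mem_eGrp_self K a⟩ =
      Matrix.SpecialLinearGroup.transvection (zero_ne_one : (0 : Fin 2) ≠ 1) (1 : ZMod p) := by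
  classical
  obtain ⟨b, hb, hne⟩ := exists_other S ha
  have hbt := cls_tv S ha hb
  have haV := ctr_le_V S ha
  have hbV := ctr_le_V S hbt
  have hba : b⁻¹ * a ∈ K := by simpa using inv_mem (cls_div S ha hb)
  have hcapa := ctr_inf_axis S ha hbt (cls_div S ha hb) hne
  have hcapb := ctr_inf_axis S hbt ha hba (Ne.symm hne)
  obtain ⟨-, hcb, hfb⟩ := ctr_props S hbt
  obtain ⟨-, hca, hfa⟩ := ctr_props S ha
  haveI : Nontrivial (ctr V b) := Finite.one_lt_card_iff_nontrivial.1 (hcb ▸ hp.out.one_lt)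
  obtain ⟨⟨e₂, he₂⟩, he₂1⟩ := exists_ne (1 : ctr V b)
  have he₂1' : e₂ ≠ 1 := fun h => he₂1 (Subtype.ext h)
  have hmv : ∀ {c : G}, Tv p V H c → ∀ v ∈ V, c * v * c⁻¹ * v⁻¹ ∈ ctr V c := fun {c} hc v hv => by
    have h := inv_mem ((ctr_props S hc).1 v hv)
    rw [commutatorElement_inv, commutatorElement_def] at h
    exact h
  set e₁ := a * e₂ * a⁻¹ * e₂⁻¹ with he₁def
  have he₁ : e₁ ∈ ctr V a := hmv ha e₂ (hbV he₂)
  have he₁1 : e₁ ≠ 1 := fun h => he₂1' (Subgroup.mem_bot.1 (hcapa ▸ Subgroup.mem_inf.2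
    ⟨he₂, mem_axis.2 ⟨hbV he₂, (mul_inv_eq_iff_eq_mul.1 (mul_inv_eq_one.1 h)).symm⟩⟩))
  have hord : ∀ {x : G}, x ∈ V → x ≠ 1 → orderOf x = p := fun {x} hx h1 => orderOf_eq_prime (S.ea.2 x hx) h1
  have hae₁ : a * e₁ = e₁ * a := (mem_axis.1 (hfa he₁)).2.symm
  have hbe₂ : b * e₂ = e₂ * b := (mem_axis.1 (hfb he₂)).2.symm
  have hgen₂ : Subgroup.zpowers e₂ = ctr V b := Subgroup.eq_of_le_of_card_ge
    (Subgroup.zpowers_le.2 he₂) (by rw [hcb, Nat.card_zpowers, hord (hbV he₂) he₂1'])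
  have hgen₁ : Subgroup.zpowers e₁ = ctr V a := Subgroup.eq_of_le_of_card_ge
    (Subgroup.zpowers_le.2 he₁) (by rw [hca, Nat.card_zpowers, hord (haV he₁) he₁1])
  obtain ⟨n, hn⟩ := (mem_powers_iff_mem_zpowers).2 (hgen₂.symm ▸ hmv hbt e₁ (haV he₁) :
    b * e₁ * b⁻¹ * e₁⁻¹ ∈ Subgroup.zpowers e₂)
  have hn' : e₂ ^ n = b * e₁ * b⁻¹ * e₁⁻¹ := hn
  have hd0 : (n : ZMod p) ≠ 0 := by
    intro h
    obtain ⟨k, rfl⟩ := (ZMod.natCast_eq_zero_iff n p).1 h
    rw [pow_mul, S.ea.2 e₂ (hbV he₂), one_pow] at hn'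
    exact he₁1 (Subgroup.mem_bot.1 (hcapb ▸ Subgroup.mem_inf.2
      ⟨he₁, mem_axis.2 ⟨haV he₁, (mul_inv_eq_iff_eq_mul.1 (mul_inv_eq_one.1 hn'.symm)).symm⟩⟩))
  -- coordinates
  have pv : ∀ {x : G}, x ∈ V → ∀ m : ℕ, x ^ (m : ZMod p).val = x ^ m := by
    intro x hx m
    rw [ZMod.val_natCast]
    conv_rhs => rw [← Nat.mod_add_div m p, pow_add, pow_mul, S.ea.2 x hx, one_pow, mul_one]
  let ε : (Fin 2 → ZMod p) → G := fun v => e₁ ^ (v 0).val * e₂ ^ (v 1).val
  have hεinj : ∀ v w, ε v = ε w → v = w := by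
    intro v w h
    have h' : (e₁ ^ (w 0).val)⁻¹ * e₁ ^ (v 0).val = e₂ ^ (w 1).val * (e₂ ^ (v 1).val)⁻¹ := by
      calc (e₁ ^ (w 0).val)⁻¹ * e₁ ^ (v 0).val
          = (e₁ ^ (w 0).val)⁻¹ * ε v * (e₂ ^ (v 1).val)⁻¹ := by simp only [ε]; group
        _ = (e₁ ^ (w 0).val)⁻¹ * ε w * (e₂ ^ (v 1).val)⁻¹ := by rw [h]
        _ = _ := by simp only [ε]; group
    have hmem : (e₁ ^ (w 0).val)⁻¹ * e₁ ^ (v 0).val ∈ ctr V b ⊓ axis V a :=
      Subgroup.mem_inf.2 ⟨h' ▸ mul_mem (pow_mem he₂ _) (inv_mem (pow_mem he₂ _)),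
        hfa (mul_mem (inv_mem (pow_mem he₁ _)) (pow_mem he₁ _))⟩
    rw [hcapa, Subgroup.mem_bot] at hmem
    have h2 : e₂ ^ (w 1).val * (e₂ ^ (v 1).val)⁻¹ = 1 := h'.symm.trans hmem
    funext i
    fin_cases i
    · refine ZMod.val_injective p (pow_injOn_Iio_orderOf (x := e₁) ?_ ?_ (inv_mul_eq_one.1 hmem).symm) <;>
        rw [Set.mem_Iio, hord (haV he₁) he₁1] <;> exact ZMod.val_lt _
    · refine ZMod.val_injective p (pow_injOn_Iio_orderOf (x := e₂) ?_ ?_ (mul_inv_eq_one.1 h2).symm) <;>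
        rw [Set.mem_Iio, hord (hbV he₂) he₂1'] <;> exact ZMod.val_lt _
  let Rel : G → SL(2, ZMod p) → Prop := fun e M => ∀ v, e * ε v * e⁻¹ = ε (M.1.mulVec v)
  have hRel_mul : ∀ {x y M N}, Rel x M → Rel y N → Rel (x * y) (M * N) := by
    intro x y M N hx hy v
    calc x * y * ε v * (x * y)⁻¹ = x * (y * ε v * y⁻¹) * x⁻¹ := by group
      _ = ε (M.1.mulVec (N.1.mulVec v)) := by rw [hy, hx]
      _ = _ := by rw [Matrix.SpecialLinearGroup.coe_mul, Matrix.mulVec_mulVec]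
  have hRel_one : Rel 1 1 := fun v => by simp
  have hRel_inv : ∀ {x M}, Rel x M → Rel x⁻¹ M⁻¹ := by
    intro x M hx v
    have h := hx ((M⁻¹).1.mulVec v)
    rw [Matrix.mulVec_mulVec, ← Matrix.SpecialLinearGroup.coe_mul, mul_inv_cancel,
      Matrix.SpecialLinearGroup.coe_one, Matrix.one_mulVec] at h
    rw [← h]; group
  have hRel_unique : ∀ {x M N}, Rel x M → Rel x N → M = N := by
    intro x M N hM hN
    apply Matrix.SpecialLinearGroup.ext
    intro i j
    have := congrFun (hεinj _ _ ((hM (Pi.single j 1)).symm.trans (hN (Pi.single j 1)))) i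
    simpa [Matrix.mulVec_single] using this
  -- the two generators
  have hu : Rel a (Matrix.SpecialLinearGroup.transvection (zero_ne_one : (0 : Fin 2) ≠ 1) (1 : ZMod p)) := by
    intro v
    have hM : (Matrix.SpecialLinearGroup.transvection (zero_ne_one : (0 : Fin 2) ≠ 1) (1 : ZMod p)).1.mulVec v =
        ![v 0 + v 1, v 1] := by
      rw [show (Matrix.SpecialLinearGroup.transvection (zero_ne_one : (0 : Fin 2) ≠ 1) (1 : ZMod p)).1 =
        !![1, 1; 0, 1] from CfsgLib.Classical.uSL_coe (1 : ZMod p)]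
      funext i; fin_cases i <;> simp [Matrix.mulVec, Matrix.vecHead, Matrix.vecTail]
    rw [hM]
    have e2 : a * e₂ * a⁻¹ = e₁ * e₂ := by rw [he₁def]; group
    have e : v 0 + v 1 = (((v 0).val + (v 1).val : ℕ) : ZMod p) := by simp
    have hc12 : Commute e₁ e₂ := comm_V S (haV he₁) (hbV he₂)
    show a * (e₁ ^ (v 0).val * e₂ ^ (v 1).val) * a⁻¹ = e₁ ^ (![v 0 + v 1, v 1] 0).val * e₂ ^ (![v 0 + v 1, v 1] 1).val
    simp only [Matrix.cons_val_zero, Matrix.cons_val_one]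
    rw [e, pv (haV he₁), ← conj_mul, ← conj_pow, ← conj_pow, e2, hae₁, mul_inv_cancel_right,
      hc12.mul_pow, pow_add, mul_assoc]
  have hl : Rel b (Matrix.SpecialLinearGroup.transvection (one_ne_zero : (1 : Fin 2) ≠ 0) (n : ZMod p)) := by
    intro v
    have hval : (Matrix.SpecialLinearGroup.transvection (one_ne_zero : (1 : Fin 2) ≠ 0) (n : ZMod p)).1 =
        !![1, 0; (n : ZMod p), 1] := by
      ext i j
      show (1 + Matrix.single (1 : Fin 2) (0 : Fin 2) (n : ZMod p) : Matrix _ _ (ZMod p)) i j = _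
      fin_cases i <;> fin_cases j <;> simp
    have hM : (Matrix.SpecialLinearGroup.transvection (one_ne_zero : (1 : Fin 2) ≠ 0) (n : ZMod p)).1.mulVec v =
        ![v 0, (n : ZMod p) * v 0 + v 1] := by
      rw [hval]
      funext i; fin_cases i <;> simp [Matrix.mulVec, Matrix.vecHead, Matrix.vecTail]
    rw [hM]
    have e1 : b * e₁ * b⁻¹ = e₁ * e₂ ^ n := by
      rw [comm_V S (haV he₁) (pow_mem (hbV he₂) n), hn']; group
    have e : (n : ZMod p) * v 0 + v 1 = ((n * (v 0).val + (v 1).val : ℕ) : ZMod p) := by simp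
    have hc12 : Commute e₁ (e₂ ^ n) := comm_V S (haV he₁) (pow_mem (hbV he₂) n)
    show b * (e₁ ^ (v 0).val * e₂ ^ (v 1).val) * b⁻¹ =
      e₁ ^ (![v 0, (n : ZMod p) * v 0 + v 1] 0).val * e₂ ^ (![v 0, (n : ZMod p) * v 0 + v 1] 1).val
    simp only [Matrix.cons_val_zero, Matrix.cons_val_one]
    rw [e, pv (hbV he₂), ← conj_mul, ← conj_pow, ← conj_pow, e1, hbe₂, mul_inv_cancel_right,
      hc12.mul_pow, ← pow_mul, pow_add, mul_assoc]
  let T : Subgroup G :=
    { carrier := {e | ∃ M, Rel e M}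
      one_mem' := ⟨1, hRel_one⟩
      mul_mem' := fun ⟨M, hM⟩ ⟨N, hN⟩ => ⟨M * N, hRel_mul hM hN⟩
      inv_mem' := fun ⟨M, hM⟩ => ⟨M⁻¹, hRel_inv hM⟩ }
  have hET : eGrp K a ≤ T := by
    rw [eGrp_eq S ha hb hne, Subgroup.closure_le]
    rintro x (rfl | rfl)
    · exact ⟨_, hu⟩
    · exact ⟨_, hl⟩
  choose f hf using fun e : eGrp K a => (hET e.2 : ∃ M, Rel (e : G) M)
  let φ : eGrp K a →* SL(2, ZMod p) := MonoidHom.mk' f fun x y =>
    hRel_unique (hf (x * y)) (hRel_mul (hf x) (hf y))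
  have hφinj : Function.Injective φ := by
    rw [injective_iff_map_eq_one]
    intro x hx
    have h := hf x
    rw [show f x = 1 from hx] at h
    refine Subtype.ext (Subgroup.mem_bot.1 (eGrp_inf S ha ▸ Subgroup.mem_inf.2 ⟨x.2, ?_⟩))
    rw [Subgroup.mem_centralizer_iff]
    intro w hw
    rw [mov_eq S ha hb hne] at hw
    obtain ⟨y, hy, z, hz, rfl⟩ := mul_of_mem_sup S haV hbV hw
    rw [← hgen₁] at hy
    rw [← hgen₂] at hz
    obtain ⟨i, hi⟩ := mem_powers_iff_mem_zpowers.2 hy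
    obtain ⟨j, hj⟩ := mem_powers_iff_mem_zpowers.2 hz
    have hh := h ![(i : ZMod p), (j : ZMod p)]
    simp only [Matrix.SpecialLinearGroup.coe_one, Matrix.one_mulVec, ε, Matrix.cons_val_zero,
      Matrix.cons_val_one, pv (haV he₁), pv (hbV he₂)] at hh
    rw [show e₁ ^ i = y from hi, show e₂ ^ j = z from hj] at hh
    exact (mul_inv_eq_iff_eq_mul.1 hh).symm
  have hφa : φ ⟨a, mem_eGrp_self K a⟩ =
      Matrix.SpecialLinearGroup.transvection (zero_ne_one : (0 : Fin 2) ≠ 1) (1 : ZMod p) :=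
    hRel_unique (hf ⟨a, mem_eGrp_self K a⟩) hu
  have hφb : φ ⟨b, cls_le_eGrp hb⟩ =
      Matrix.SpecialLinearGroup.transvection (one_ne_zero : (1 : Fin 2) ≠ 0) (n : ZMod p) :=
    hRel_unique (hf ⟨b, cls_le_eGrp hb⟩) hl
  have hpow : ∀ {i j : Fin 2} (h : i ≠ j) (c : ZMod p) (k : ℕ),
      (Matrix.SpecialLinearGroup.transvection h c) ^ k =
        Matrix.SpecialLinearGroup.transvection h ((k : ZMod p) * c) := by
    intro i j h c k
    induction k with
    | zero => simp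
    | succ k ih =>
      rw [pow_succ, ih, ← Matrix.SpecialLinearGroup.transvection_add, Nat.cast_succ, add_mul, one_mul]
  have hsurj : φ.range = ⊤ := by
    refine CfsgLib.Classical.sl2_transvections_generate _ (fun c => ?_) (fun c => ?_)
    · refine ⟨⟨a, mem_eGrp_self K a⟩ ^ c.val, ?_⟩
      rw [map_pow, hφa, hpow, ZMod.natCast_zmod_val, mul_one]
    · refine ⟨⟨b, cls_le_eGrp hb⟩ ^ (c / (n : ZMod p)).val, ?_⟩
      rw [map_pow, hφb, hpow, ZMod.natCast_zmod_val, div_mul_cancel₀ _ hd0]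
  exact ⟨MulEquiv.ofBijective φ ⟨hφinj, MonoidHom.range_eq_top.1 hsurj⟩, hφa⟩

omit hgen in
/-- A transvection forces `p ≤ 3`. -/
theorem prime_cases {a : G} (ha : Tv p V H a) : p = 2 ∨ p = 3 := by
  by_cases hp2 : p = 2
  · exact Or.inl hp2
  right
  obtain ⟨b, hb, hne⟩ := exists_other S ha
  let Q : Subgroup G :=
    { carrier := {e | e ∈ H ∧ e * a * e⁻¹ * a⁻¹ ∈ K}
      one_mem' := ⟨one_mem H, by simp [K.one_mem]⟩
      mul_mem' := by
        rintro x y ⟨hx, hxa⟩ ⟨hy, hya⟩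
        refine ⟨mul_mem hx hy, ?_⟩
        have e : x * y * a * (x * y)⁻¹ * a⁻¹ =
            x * (y * a * y⁻¹ * a⁻¹) * x⁻¹ * (x * a * x⁻¹ * a⁻¹) := by group
        rw [e]
        exact mul_mem (conj_mem_K S hx hya) hxa
      inv_mem' := by
        rintro x ⟨hx, hxa⟩
        refine ⟨inv_mem hx, ?_⟩
        have e : x⁻¹ * a * x⁻¹⁻¹ * a⁻¹ = x⁻¹ * (x * a * x⁻¹ * a⁻¹)⁻¹ * x⁻¹⁻¹ := by group
        rw [e]
        exact conj_mem_K S (inv_mem hx) (inv_mem hxa) }
  have hEQ : eGrp K a ≤ Q := by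
    rw [eGrp_eq S ha hb hne, Subgroup.closure_le]
    rintro x (rfl | rfl)
    · exact ⟨ha.mem, by simp [K.one_mem]⟩
    · refine ⟨(cls_tv S ha hb).mem, ?_⟩
      have h := cls_div S ha hb
      have h2 := conj_mem_K S ha.mem h
      have h3 := conj_mem_K S (cls_tv S ha hb).mem (inv_mem h)
      have := mul_mem h2 (conj_mem_K S ha.mem h3)
      simpa [mul_assoc] using this
  obtain ⟨φ, hφa⟩ := exists_equiv S ha
  have h20 : (2 : ZMod p) ≠ 0 := fun h => hp2 ((Nat.prime_dvd_prime_iff_eq hp.out Nat.prime_two).1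
    ((ZMod.natCast_eq_zero_iff 2 p).1 (by exact_mod_cast h)))
  let d : SL(2, ZMod p) := ⟨!![2, 0; 0, (2 : ZMod p)⁻¹], by rw [Matrix.det_fin_two_of]; simp [h20]⟩
  set e := φ.symm d
  have hconj : e * ⟨a, mem_eGrp_self K a⟩ = ⟨a, mem_eGrp_self K a⟩ ^ 4 * e := by
    apply φ.injective
    rw [map_mul, map_mul, map_pow, hφa, MulEquiv.apply_symm_apply]
    have hT : ∀ k : ℕ, ((Matrix.SpecialLinearGroup.transvection (zero_ne_one : (0 : Fin 2) ≠ 1) (1 : ZMod p)) ^ k :
        SL(2, ZMod p)).1 = !![1, (k : ZMod p); 0, 1] := by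
      intro k
      induction k with
      | zero => simp [Matrix.one_fin_two]
      | succ k ih =>
        rw [pow_succ, Matrix.SpecialLinearGroup.coe_mul, ih,
          show (Matrix.SpecialLinearGroup.transvection (zero_ne_one : (0 : Fin 2) ≠ 1) (1 : ZMod p)).1 =
            !![1, 1; 0, 1] from CfsgLib.Classical.uSL_coe (1 : ZMod p), Matrix.mul_fin_two]
        simp [add_comm]
    have hT1 := hT 1
    rw [pow_one, Nat.cast_one] at hT1
    apply Subtype.ext
    rw [Matrix.SpecialLinearGroup.coe_mul, Matrix.SpecialLinearGroup.coe_mul, hT, hT1]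
    show !![2, 0; 0, (2 : ZMod p)⁻¹] * !![1, 1; 0, 1] = !![1, ((4 : ℕ) : ZMod p); 0, 1] * !![2, 0; 0, (2 : ZMod p)⁻¹]
    rw [Matrix.mul_fin_two, Matrix.mul_fin_two]
    ext i j; fin_cases i <;> fin_cases j <;> simp
    field_simp
    norm_num
  have hconj' : (e : G) * a = a ^ 4 * e := congrArg Subtype.val hconj
  have hmem : a ^ 3 ∈ K := by
    have h := (hEQ e.2).2
    have : (e : G) * a * (e : G)⁻¹ * a⁻¹ = a ^ 3 := by rw [hconj']; group
    rwa [this] at h
  have h3 : a ^ 3 = 1 := orderOf_eq_one_iff.1 (Nat.eq_one_of_dvd_coprimes S.Kc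
    (Subgroup.orderOf_dvd_natCard K hmem)
    (orderOf_dvd_of_pow_eq_one (by rw [← pow_mul, mul_comm, pow_mul, ha.pow, one_pow])))
  have := orderOf_dvd_of_pow_eq_one h3
  rw [orderOf_tv S ha] at this
  exact (Nat.prime_dvd_prime_iff_eq hp.out Nat.prime_three).1 this

omit hgen in
/-- The order of `⁅K, ⟨a⟩⁆`. -/
theorem card_eGrp {a : G} (ha : Tv p V H a) :
    Nat.card (eGrp K a) = p * Nat.card ↥(⁅K, Subgroup.zpowers a⁆) := by
  set D := ⁅K, Subgroup.zpowers a⁆
  have hn : Subgroup.zpowers a ≤ Subgroup.normalizer (D : Set G) :=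
    Subgroup.normalizer_commutator_ge_right _ _
  have h1 := Thompson.card_sup_mul_card_inf (N := D) (K := Subgroup.zpowers a) hn
  have hinf : D ⊓ Subgroup.zpowers a = ⊥ := by
    rw [Subgroup.eq_bot_iff_forall]
    rintro x ⟨hxD, hxa⟩
    exact orderOf_eq_one_iff.1 (Nat.eq_one_of_dvd_coprimes S.Kc
      (Subgroup.orderOf_dvd_natCard K (commutator_le_K S ha hxD))
      (orderOf_tv S ha ▸ orderOf_dvd_of_mem_zpowers hxa))
  rw [hinf, Subgroup.card_bot, mul_one, Nat.card_zpowers, orderOf_tv S ha, mul_comm] at h1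
  exact h1

end CfsgLib.Fusion.OffenderMain
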