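import Cfsg.Agent.Lib.Fusion.OffenderTv

/-!
The direct factor spanned by a transvection and its conjugates under the `p'`-subgroup.
-/

set_option autoImplicit false
set_option linter.style.haveILetI false
set_option linter.unusedSectionVars false

open scoped commutatorElement

namespace CfsgLib.Fusion.OffenderPlane

open CfsgLib.Fusion.OffenderBasic CfsgLib.Fusion.OffenderTv

variable {G : Type*} [Group G] {p : ℕ}

/-- The subgroup spanned by `a` and its commutators with `K`. -/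
def eGrp (K : Subgroup G) (a : G) : Subgroup G := ⁅K, Subgroup.zpowers a⁆ ⊔ Subgroup.zpowers a

theorem mem_eGrp_self (K : Subgroup G) (a : G) : a ∈ eGrp K a :=
  Subgroup.mem_sup_right (Subgroup.mem_zpowers a)

theorem cls_le_eGrp {K : Subgroup G} {a b : G} (hb : b ∈ cls K a) : b ∈ eGrp K a := by
  obtain ⟨k, hk, rfl⟩ := hb
  have e : k * a * k⁻¹ = ⁅k, a⁆ * a := by rw [commutatorElement_def]; group
  rw [e]
  exact mul_mem (Subgroup.mem_sup_left (Subgroup.commutator_mem_commutator hk (Subgroup.mem_zpowers a)))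
    (mem_eGrp_self K a)

variable {V H K : Subgroup G} (S : Setup p V H K) [hp : Fact p.Prime] [Finite G]
include S

theorem commutator_le_K {a : G} (ha : Tv p V H a) : ⁅K, Subgroup.zpowers a⁆ ≤ K :=
  Subgroup.le_normalizer_iff_commutator_le_left.1 ((Subgroup.zpowers_le.2 ha.mem).trans S.Kn)

theorem eGrp_le {a : G} (ha : Tv p V H a) : eGrp K a ≤ H :=
  sup_le ((commutator_le_K S ha).trans S.KH) (Subgroup.zpowers_le.2 ha.mem)

theorem eGrp_eq {a b : G} (ha : Tv p V H a) (hb : b ∈ cls K a) (hne : a ≠ b) :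
    eGrp K a = Subgroup.closure {a, b} := by
  refine le_antisymm (sup_le ?_ ?_) ((Subgroup.closure_le _).2 ?_)
  · rw [Subgroup.commutator_le]
    intro k hk g hg
    obtain ⟨i, rfl⟩ := hg
    show ⁅k, a ^ i⁆ ∈ _
    have e : ⁅k, a ^ i⁆ = (k * a * k⁻¹) ^ i * (a ^ i)⁻¹ := by
      rw [conj_zpow, commutatorElement_def]
    rw [e]
    exact mul_mem (zpow_mem (cls_subset S ha hb hne ⟨k, hk, rfl⟩) i)
      (inv_mem (zpow_mem (Subgroup.subset_closure (by simp)) i))
  · exact Subgroup.zpowers_le.2 (Subgroup.subset_closure (by simp))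
  · rintro x (rfl | rfl)
    · exact mem_eGrp_self K x
    · exact cls_le_eGrp hb

theorem K_le_normalizer {a : G} (ha : Tv p V H a) : K ≤ Subgroup.normalizer (eGrp K a : Set G) := by
  intro k hk
  obtain ⟨b, hb, hne⟩ := exists_other S ha
  rw [Subgroup.mem_normalizer_iff_map_conj_eq]
  refine Subgroup.eq_of_le_of_card_ge ?_
    (le_of_eq (Subgroup.card_map_of_injective (MulAut.conj k).injective).symm)
  rw [Subgroup.map_le_iff_le_comap]
  conv_lhs => rw [eGrp_eq S ha hb hne]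
  rw [Subgroup.closure_le]
  rintro x (rfl | rfl)
  · exact cls_le_eGrp ⟨k, hk, rfl⟩
  · exact cls_le_eGrp (cls_conj S ha hb (Or.inl hk))

theorem fix_eq {a b : G} (ha : Tv p V H a) (hb : b ∈ cls K a) (hne : a ≠ b) :
    V ⊓ Subgroup.centralizer (eGrp K a : Set G) = axis V a ⊓ axis V b := by
  rw [eGrp_eq S ha hb hne, Subgroup.centralizer_closure]
  ext v
  simp only [Subgroup.mem_inf, mem_axis, Subgroup.mem_centralizer_iff]
  constructor
  · exact fun h => ⟨⟨h.1, (h.2 a (by simp)).symm⟩, ⟨h.1, (h.2 b (by simp)).symm⟩⟩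
  · rintro ⟨⟨hv, h1⟩, -, h2⟩
    refine ⟨hv, ?_⟩
    rintro x (rfl | rfl)
    · exact h1.symm
    · exact h2.symm

theorem mov_eq {a b : G} (ha : Tv p V H a) (hb : b ∈ cls K a) (hne : a ≠ b) :
    ⁅V, eGrp K a⁆ = ctr V a ⊔ ctr V b := by
  have hbt := cls_tv S ha hb
  refine le_antisymm ?_ (sup_le (Subgroup.commutator_mono le_rfl (Subgroup.zpowers_le.2 (mem_eGrp_self K a)))
    (Subgroup.commutator_mono le_rfl (Subgroup.zpowers_le.2 (cls_le_eGrp hb))))
  set U := ctr V a ⊔ ctr V b with hU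
  have hUV : U ≤ V := sup_le (ctr_le_V S ha) (ctr_le_V S hbt)
  have hE : eGrp K a ≤ moveSub V U := by
    rw [eGrp_eq S ha hb hne, Subgroup.closure_le]
    rintro x (rfl | rfl)
    · exact tv_mem_moveSub S ha hUV le_sup_left
    · exact tv_mem_moveSub S hbt hUV le_sup_right
  rw [Subgroup.commutator_le]
  intro v hv g hg
  have := inv_mem ((hE hg).2.2 v hv)
  rw [commutatorElement_def]
  simpa [mul_assoc] using this

theorem ctr_inf_axis {a b : G} (ha : Tv p V H a) (hb : Tv p V H b) (hK : a⁻¹ * b ∈ K) (hne : a ≠ b) :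
    ctr V b ⊓ axis V a = ⊥ := by
  by_contra h
  refine pair S ha hb hK hne ?_
  have hle : ctr V b ⊓ axis V a = ctr V b := by
    have hdvd := Subgroup.card_dvd_of_le (inf_le_left : ctr V b ⊓ axis V a ≤ ctr V b)
    rw [(ctr_props S hb).2.1] at hdvd
    rcases hp.out.eq_one_or_self_of_dvd _ hdvd with h1 | h1
    · exact absurd (Subgroup.eq_bot_of_card_eq _ h1) h
    · exact Subgroup.eq_of_le_of_card_ge inf_le_left (by rw [h1, (ctr_props S hb).2.1])
  exact inf_eq_left.1 hle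

theorem mul_of_mem_sup {A B : Subgroup G} (hA : A ≤ V) (hB : B ≤ V) {w : G} (hw : w ∈ A ⊔ B) :
    ∃ x ∈ A, ∃ y ∈ B, x * y = w := by
  rw [← SetLike.mem_coe, Subgroup.coe_mul_of_right_le_normalizer_left A B
    (le_trans (fun y hy => Subgroup.mem_centralizer_iff.2 fun x hx => comm_V S (hA hx) (hB hy))
      (Subgroup.centralizer_le_normalizer _))] at hw
  exact hw

theorem card_sup_of_disjoint {A B : Subgroup G} (hA : A ≤ V) (hB : B ≤ V) (h : A ⊓ B = ⊥) :
    Nat.card (A ⊔ B : Subgroup G) = Nat.card A * Nat.card B := by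
  have h1 := Thompson.card_sup_mul_card_inf (N := A) (K := B)
    (le_trans (fun y hy => Subgroup.mem_centralizer_iff.2 fun x hx => comm_V S (hA hx) (hB hy))
      (Subgroup.centralizer_le_normalizer _))
  rw [h, Subgroup.card_bot, mul_one] at h1
  exact h1

/-- The plane of a transvection and its complement. -/
theorem plane {a : G} (ha : Tv p V H a) :
    ⁅V, eGrp K a⁆ ⊓ (V ⊓ Subgroup.centralizer (eGrp K a : Set G)) = ⊥ ∧
      ⁅V, eGrp K a⁆ ⊔ (V ⊓ Subgroup.centralizer (eGrp K a : Set G)) = V ∧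
      Nat.card ↥(⁅V, eGrp K a⁆) = p ^ 2 ∧ ⁅V, eGrp K a⁆ ≤ V := by
  obtain ⟨b, hb, hne⟩ := exists_other S ha
  have hbt := cls_tv S ha hb
  have hab := cls_div S ha hb
  have hba : b⁻¹ * a ∈ K := by simpa using inv_mem hab
  rw [mov_eq S ha hb hne, fix_eq S ha hb hne]
  have haV := ctr_le_V S ha
  have hbV := ctr_le_V S hbt
  have hcapa := ctr_inf_axis S ha hbt hab hne
  have hcapb := ctr_inf_axis S hbt ha hba (Ne.symm hne)
  have hab0 : ctr V a ⊓ ctr V b = ⊥ :=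
    le_bot_iff.1 ((inf_le_inf_left _ (ctr_props S hbt).2.2).trans hcapb.le)
  have hcapW : (ctr V a ⊔ ctr V b) ⊓ (axis V a ⊓ axis V b) = ⊥ := by
    rw [Subgroup.eq_bot_iff_forall]
    rintro w ⟨hw, hwa, hwb⟩
    obtain ⟨x, hx, y, hy, rfl⟩ := mul_of_mem_sup S haV hbV hw
    have hy' : y ∈ axis V a := by
      have := mul_mem (inv_mem ((ctr_props S ha).2.2 hx)) hwa
      rwa [inv_mul_cancel_left] at this
    have hy1 : y = 1 := Subgroup.mem_bot.1 (hcapa ▸ Subgroup.mem_inf.2 ⟨hy, hy'⟩)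
    subst hy1
    rw [mul_one] at hwb ⊢
    exact Subgroup.mem_bot.1 (hcapb ▸ Subgroup.mem_inf.2 ⟨hx, hwb⟩)
  have hWV : ctr V a ⊔ ctr V b ≤ V := sup_le haV hbV
  have hCV : axis V a ⊓ axis V b ≤ V := inf_le_left.trans inf_le_left
  have hWcard : Nat.card (ctr V a ⊔ ctr V b : Subgroup G) = p ^ 2 := by
    rw [card_sup_of_disjoint S haV hbV hab0, (ctr_props S ha).2.1, (ctr_props S hbt).2.1, pow_two]
  refine ⟨hcapW, ?_, hWcard, hWV⟩
  refine Subgroup.eq_of_le_of_card_ge (sup_le hWV hCV) ?_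
  rw [card_sup_of_disjoint S hWV hCV hcapW, hWcard]
  -- the fixed points have index at most `p ^ 2`
  have h1 := Thompson.card_sup_mul_card_inf (N := axis V a) (K := axis V b)
    (le_trans (fun y hy => Subgroup.mem_centralizer_iff.2 fun x hx => comm_V S hx.1 hy.1)
      (Subgroup.centralizer_le_normalizer _))
  have h2 : Nat.card (axis V a ⊔ axis V b : Subgroup G) ≤ Nat.card V :=
    Subgroup.card_le_of_le (sup_le inf_le_left inf_le_left)
  have ea := card_axis S ha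
  have eb := card_axis S hbt
  refine Nat.le_of_mul_le_mul_left ?_ (Nat.card_pos (α := V))
  calc Nat.card V * Nat.card V
      = p ^ 2 * (Nat.card (axis V a) * Nat.card (axis V b)) := by
        rw [← ea]; nth_rewrite 2 [show p * Nat.card (axis V a) = p * Nat.card (axis V b) from ea.trans eb.symm]
        ring
    _ ≤ p ^ 2 * (Nat.card V * Nat.card (axis V a ⊓ axis V b : Subgroup G)) := by
        rw [← h1]; exact Nat.mul_le_mul_left _ (Nat.mul_le_mul_right _ h2)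
    _ = _ := by ring

theorem eGrp_faithful {a : G} (ha : Tv p V H a) {m : G} (hm : m ∈ H)
    (hW : ∀ w ∈ ⁅V, eGrp K a⁆, m * w = w * m)
    (hC : ∀ u ∈ V ⊓ Subgroup.centralizer (eGrp K a : Set G), m * u = u * m) : m = 1 := by
  refine eq_one_of_fixes S hm fun v hv => ?_
  obtain ⟨hcap, hsup, -, hWV⟩ := plane S ha
  rw [← hsup] at hv
  obtain ⟨x, hx, y, hy, rfl⟩ := mul_of_mem_sup S hWV inf_le_left hv
  rw [← mul_assoc, hW x hx, mul_assoc, hC y hy, mul_assoc]

theorem eGrp_inf {a : G} (ha : Tv p V H a) :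
    eGrp K a ⊓ Subgroup.centralizer ((⁅V, eGrp K a⁆ : Subgroup G) : Set G) = ⊥ := by
  rw [Subgroup.eq_bot_iff_forall]
  rintro m ⟨hmE, hmW⟩
  exact eGrp_faithful S ha (eGrp_le S ha hmE)
    (fun w hw => (Subgroup.mem_centralizer_iff.1 hmW w hw).symm)
    (fun u hu => Subgroup.mem_centralizer_iff.1 hu.2 m hmE)

theorem K_normalizes_mov {a : G} (ha : Tv p V H a) {k : G} (hk : k ∈ K) :
    (⁅V, eGrp K a⁆).map (MulAut.conj k).toMonoidHom = ⁅V, eGrp K a⁆ ∧
      (V ⊓ Subgroup.centralizer (eGrp K a : Set G)).map (MulAut.conj k).toMonoidHom =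
        V ⊓ Subgroup.centralizer (eGrp K a : Set G) := by
  have hV : V.map (MulAut.conj k).toMonoidHom = V :=
    Subgroup.mem_normalizer_iff_map_conj_eq.1 (S.hN (S.KH hk))
  have hE : (eGrp K a).map (MulAut.conj k).toMonoidHom = eGrp K a :=
    Subgroup.mem_normalizer_iff_map_conj_eq.1 (K_le_normalizer S ha hk)
  constructor
  · rw [Subgroup.map_commutator, hV, hE]
  · refine Subgroup.eq_of_le_of_card_ge ?_
      (le_of_eq (Subgroup.card_map_of_injective (MulAut.conj k).injective).symm)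
    rintro _ ⟨u, hu, rfl⟩
    refine Subgroup.mem_inf.2 ⟨conj_mem_V S (S.KH hk) hu.1, Subgroup.mem_centralizer_iff.2 fun e he => ?_⟩
    have he' : k⁻¹ * e * k ∈ eGrp K a := by
      have := (Subgroup.mem_normalizer_iff.1 (inv_mem (K_le_normalizer S ha hk)) e).1 he
      rwa [inv_inv] at this
    have h := Subgroup.mem_centralizer_iff.1 hu.2 _ he'
    show e * (k * u * k⁻¹) = k * u * k⁻¹ * e
    calc e * (k * u * k⁻¹) = k * (k⁻¹ * e * k * u) * k⁻¹ := by group
      _ = k * (u * (k⁻¹ * e * k)) * k⁻¹ := by rw [h]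
      _ = _ := by group

theorem ctr_le_of_mem {c : G} (hc : Tv p V H c) {U : Subgroup G} {x : G} (hxc : x ∈ ctr V c)
    (hxU : x ∈ U) (hx : x ≠ 1) : ctr V c ≤ U := by
  have : Subgroup.zpowers x = ctr V c := by
    refine Subgroup.eq_of_le_of_card_ge (Subgroup.zpowers_le.2 hxc) ?_
    rw [(ctr_props S hc).2.1, Nat.card_zpowers, orderOf_eq_prime (S.ea.2 x (ctr_le_V S hc hxc)) hx]
  rw [← this]
  exact Subgroup.zpowers_le.2 hxU

/-- The `p'`-subgroup acts irreducibly on the plane. -/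
theorem irred {a : G} (ha : Tv p V H a) {U : Subgroup G} (hU : U ≤ ⁅V, eGrp K a⁆)
    (hK : ∀ k ∈ K, ∀ u ∈ U, k * u * k⁻¹ ∈ U) (hne : U ≠ ⊥) : U = ⁅V, eGrp K a⁆ := by
  obtain ⟨b, hb, hab⟩ := exists_other S ha
  have hbt := cls_tv S ha hb
  have haV := ctr_le_V S ha
  have hbV := ctr_le_V S hbt
  have hba : b⁻¹ * a ∈ K := by simpa using inv_mem (cls_div S ha hb)
  rw [mov_eq S ha hb hab] at hU ⊢
  -- a `K`-invariant subgroup meeting one centre contains both
  have step : ∀ U : Subgroup G, (∀ k ∈ K, ∀ u ∈ U, k * u * k⁻¹ ∈ U) →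
      (ctr V a ≤ U ↔ ctr V b ≤ U) := by
    intro U hK
    obtain ⟨k, hk, rfl⟩ := hb
    rw [ctr_conj S (S.KH hk), Subgroup.map_le_iff_le_comap]
    constructor
    · exact fun h x hx => hK k hk x (h hx)
    · intro h x hx
      have := hK k⁻¹ (inv_mem hk) _ (h hx)
      simpa [mul_assoc] using this
  haveI : Nontrivial U := (Subgroup.nontrivial_iff_ne_bot _).2 hne
  obtain ⟨⟨u, hu⟩, hu1⟩ := exists_ne (1 : U)
  have hu1' : u ≠ 1 := fun h => hu1 (Subtype.ext h)
  obtain ⟨x, hx, y, hy, hxy⟩ := mul_of_mem_sup S haV hbV (hU hu)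
  by_cases hy1 : y = 1
  · have hax : ctr V a ≤ U := ctr_le_of_mem S ha hx (by rwa [← hxy, hy1, mul_one] at hu)
      (fun h => hu1' (by rw [← hxy, h, hy1, one_mul]))
    exact le_antisymm hU (sup_le hax ((step U hK).1 hax))
  -- move `u` into the centre of `b`
  have hya : ⁅y, a⁆ ≠ 1 := fun h => hy1 (Subgroup.mem_bot.1
    (ctr_inf_axis S ha hbt (cls_div S ha hb) hab ▸ Subgroup.mem_inf.2
      ⟨hy, mem_axis.2 ⟨hbV hy, commutatorElement_eq_one_iff_mul_comm.1 h⟩⟩))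
  set s := ⁅y, a⁆ with hs
  have hsP : s ∈ ctr V a := (ctr_props S ha).1 y (hbV hy)
  have hsgen : Subgroup.zpowers s = ctr V a := by
    refine Subgroup.eq_of_le_of_card_ge (Subgroup.zpowers_le.2 hsP) ?_
    rw [(ctr_props S ha).2.1, Nat.card_zpowers, orderOf_eq_prime (S.ea.2 _ (haV hsP)) hya]
  obtain ⟨i, hi⟩ := (mem_powers_iff_mem_zpowers).2 (hsgen.symm ▸ hx : x ∈ Subgroup.zpowers s)
  have hi' : s ^ i = x := hi
  have hax : a * x = x * a := (mem_axis.1 ((ctr_props S ha).2.2 hx)).2.symm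
  have has : a * s = s * a := (mem_axis.1 ((ctr_props S ha).2.2 hsP)).2.symm
  have h1 : a * y * a⁻¹ = y * s⁻¹ := by
    rw [comm_V S (hbV hy) (inv_mem (haV hsP)), hs, commutatorElement_def]; group
  have hai : ∀ j : ℕ, a ^ j * y * (a ^ j)⁻¹ = y * (s⁻¹) ^ j := by
    intro j
    induction j with
    | zero => simp
    | succ j ih =>
      calc a ^ (j + 1) * y * (a ^ (j + 1))⁻¹ = a * (a ^ j * y * (a ^ j)⁻¹) * a⁻¹ := by
            rw [pow_succ']; group
        _ = a * y * a⁻¹ * (a * (s⁻¹) ^ j * a⁻¹) := by rw [ih]; group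
        _ = y * s⁻¹ * (s⁻¹) ^ j := by
          rw [h1, ((Commute.inv_right (show Commute a s from has)).pow_right j).eq, mul_inv_cancel_right]
        _ = _ := by rw [pow_succ', mul_assoc]
  have hmove : a ^ i * u * (a ^ i)⁻¹ = y := by
    calc a ^ i * u * (a ^ i)⁻¹ = a ^ i * x * (a ^ i)⁻¹ * (a ^ i * y * (a ^ i)⁻¹) := by rw [← hxy]; group
      _ = x * (y * (s⁻¹) ^ i) := by
        rw [hai, ((show Commute a x from hax).pow_left i).eq, mul_inv_cancel_right]
      _ = y := by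
        rw [inv_pow, hi', comm_V S (hbV hy) (inv_mem (haV hx)), mul_inv_cancel_left]
  set U' := U.map (MulAut.conj (a ^ i)).toMonoidHom with hU'
  have hK' : ∀ k ∈ K, ∀ v ∈ U', k * v * k⁻¹ ∈ U' := by
    rintro k hk _ ⟨v, hv, rfl⟩
    refine ⟨((a ^ i)⁻¹ * k * a ^ i) * v * ((a ^ i)⁻¹ * k * a ^ i)⁻¹, hK _ ?_ v hv, ?_⟩
    · have := conj_mem_K S (inv_mem (pow_mem ha.mem i)) hk
      rwa [inv_inv] at this
    · show a ^ i * _ * (a ^ i)⁻¹ = k * (a ^ i * v * (a ^ i)⁻¹) * k⁻¹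
      group
  have hbU' : ctr V b ≤ U' := ctr_le_of_mem S hbt hy ⟨u, hu, hmove⟩ hy1
  refine Subgroup.eq_of_le_of_card_ge hU ?_
  calc Nat.card (ctr V a ⊔ ctr V b : Subgroup G) ≤ Nat.card U' :=
        Subgroup.card_le_of_le (sup_le ((step U' hK').2 hbU') hbU')
    _ = Nat.card U := Subgroup.card_map_of_injective (MulAut.conj _).injective

/-- Any transvection of `H` normalises the plane and its complement. -/
theorem tv_normalizes {a c : G} (ha : Tv p V H a) (hc : Tv p V H c) :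
    c ∈ Subgroup.normalizer ((⁅V, eGrp K a⁆ : Subgroup G) : Set G) ∧
      c ∈ Subgroup.normalizer ((V ⊓ Subgroup.centralizer (eGrp K a : Set G) : Subgroup G) : Set G) := by
  obtain ⟨hcap, hsup, hWcard, hWV⟩ := plane S ha
  set W := ⁅V, eGrp K a⁆ with hW
  set C := V ⊓ Subgroup.centralizer (eGrp K a : Set G) with hC
  have hKW : ∀ k ∈ K, ∀ u ∈ W, k * u * k⁻¹ ∈ W := fun k hk u hu =>
    (K_normalizes_mov S ha hk).1.le ⟨u, hu, rfl⟩
  have hKC : ∀ k ∈ K, ∀ u ∈ C, k * u * k⁻¹ ∈ C := fun k hk u hu =>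
    (K_normalizes_mov S ha hk).2.le ⟨u, hu, rfl⟩
  have hconjK : ∀ U : Subgroup G, (∀ k ∈ K, ∀ u ∈ U, k * u * k⁻¹ ∈ U) →
      ∀ k ∈ K, ∀ u ∈ U.map (MulAut.conj c).toMonoidHom, k * u * k⁻¹ ∈ U.map (MulAut.conj c).toMonoidHom := by
    rintro U hU k hk _ ⟨v, hv, rfl⟩
    refine ⟨(c⁻¹ * k * c) * v * (c⁻¹ * k * c)⁻¹, hU _ ?_ v hv, ?_⟩
    · have := conj_mem_K S (inv_mem hc.mem) hk
      rwa [inv_inv] at this
    · show c * _ * c⁻¹ = k * (c * v * c⁻¹) * k⁻¹
      group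
  have hmeet : W ⊓ W.map (MulAut.conj c).toMonoidHom ≠ ⊥ := by
    intro hb
    -- `W` meets the axis of `c`
    have hd : W ⊓ axis V c = ⊥ := by
      refine le_bot_iff.1 (le_trans (fun w hw => ?_) hb.le)
      have h : w * c = c * w := (mem_axis.1 hw.2).2
      exact Subgroup.mem_inf.2 ⟨hw.1, ⟨w, hw.1, show c * w * c⁻¹ = w by rw [← h, mul_inv_cancel_right]⟩⟩
    have h1 := card_sup_of_disjoint S (B := axis V c) hWV inf_le_left hd
    have h2 : Nat.card (W ⊔ axis V c : Subgroup G) ≤ Nat.card V :=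
      Subgroup.card_le_of_le (sup_le hWV inf_le_left)
    rw [h1, ← card_axis S hc, hWcard] at h2
    have h3 := Nat.le_of_mul_le_mul_right h2 Nat.card_pos
    have := hp.out.two_le
    nlinarith
  have hWc : c ∈ Subgroup.normalizer (W : Set G) := by
    rw [Subgroup.mem_normalizer_iff_map_conj_eq]
    have h := irred S ha (U := W ⊓ W.map (MulAut.conj c).toMonoidHom) inf_le_left
      (fun k hk u hu => Subgroup.mem_inf.2 ⟨hKW k hk u hu.1, hconjK W hKW k hk u hu.2⟩) hmeet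
    exact (Subgroup.eq_of_le_of_card_ge (inf_eq_left.1 h)
      (le_of_eq (Subgroup.card_map_of_injective (MulAut.conj c).injective))).symm
  refine ⟨hWc, ?_⟩
  obtain ⟨b, hb, hne⟩ := exists_other S ha
  have hbt := cls_tv S ha hb
  rw [Subgroup.mem_normalizer_iff_map_conj_eq]
  refine Subgroup.eq_of_le_of_card_ge ?_
    (le_of_eq (Subgroup.card_map_of_injective (MulAut.conj c).injective).symm)
  intro u hu
  have huV : u ∈ V := by
    obtain ⟨v, hv, rfl⟩ := hu
    exact conj_mem_V S hc.mem hv.1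
  have hdisj : W ⊓ C.map (MulAut.conj c).toMonoidHom = ⊥ := by
    have hWmap : W.map (MulAut.conj c).toMonoidHom = W := Subgroup.mem_normalizer_iff_map_conj_eq.1 hWc
    conv_lhs => rw [← hWmap]
    rw [← Subgroup.map_inf _ _ (MulAut.conj c).toMonoidHom (MulAut.conj c).injective, hcap, Subgroup.map_bot]
  set y := a⁻¹ * b with hy
  have hyK : y ∈ K := cls_div S ha hb
  have hyE : y ∈ eGrp K a := mul_mem (inv_mem (mem_eGrp_self K a)) (cls_le_eGrp hb)
  have h1 : ⁅u, y⁆ = 1 := by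
    refine Subgroup.mem_bot.1 (hdisj ▸ Subgroup.mem_inf.2
      ⟨Subgroup.commutator_mem_commutator huV hyE, ?_⟩)
    rw [commutatorElement_def, mul_assoc u, mul_assoc u]
    exact mul_mem hu (hconjK C hKC y hyK _ (inv_mem hu))
  have h2 : a * u * a⁻¹ = b * u * b⁻¹ := by
    have h := commutatorElement_eq_one_iff_mul_comm.1 h1
    calc a * u * a⁻¹ = a * (u * y) * b⁻¹ := by rw [hy]; group
      _ = a * (y * u) * b⁻¹ := by rw [h]
      _ = b * u * b⁻¹ := by rw [hy]; group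
  have ha2 : ⁅u, a⁆⁻¹ = a * u * a⁻¹ * u⁻¹ := by rw [commutatorElement_def]; group
  have hb2 : ⁅u, b⁆⁻¹ = b * u * b⁻¹ * u⁻¹ := by rw [commutatorElement_def]; group
  have heq : ⁅u, a⁆ = ⁅u, b⁆ := inv_injective (by rw [ha2, hb2, h2])
  have hua : ⁅u, a⁆ = 1 := Subgroup.mem_bot.1 ((ctr_inf_axis S hbt ha
    (by simpa using inv_mem (cls_div S ha hb)) (Ne.symm hne)) ▸ Subgroup.mem_inf.2
      ⟨(ctr_props S ha).1 u huV, (ctr_props S hbt).2.2 (heq ▸ (ctr_props S hbt).1 u huV)⟩)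
  rw [hC, fix_eq S ha hb hne]
  exact Subgroup.mem_inf.2 ⟨mem_axis.2 ⟨huV, commutatorElement_eq_one_iff_mul_comm.1 hua⟩,
    mem_axis.2 ⟨huV, commutatorElement_eq_one_iff_mul_comm.1 (heq ▸ hua)⟩⟩

theorem ctr_eq_of_mem_axis {a c d : G} (ha : Tv p V H a) (hc : Tv p V H c) (hd : d ∈ cls K a)
    (hcW : ctr V c ≤ ⁅V, eGrp K a⁆) (hcd : ctr V c ≤ axis V d) :
    ctr V c = ctr V d := by
  have hdt := cls_tv S ha hd
  have hdW : ctr V d ≤ ⁅V, eGrp K a⁆ :=
    Subgroup.commutator_mono le_rfl (Subgroup.zpowers_le.2 (cls_le_eGrp hd))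
  obtain ⟨-, hsup, hWcard, hWV⟩ := plane S ha
  set X := ⁅V, eGrp K a⁆ ⊓ axis V d with hX
  have hXne : X ≠ ⁅V, eGrp K a⁆ := by
    intro h
    refine hdt.ne (eq_one_of_fixes S hdt.mem fun v hv => ?_)
    rw [← hsup] at hv
    obtain ⟨x, hx, y, hy, rfl⟩ := mul_of_mem_sup S hWV inf_le_left hv
    have h1 : d * x = x * d := ((mem_axis.1 (inf_eq_left.1 h hx)).2).symm
    have h2 : d * y = y * d := Subgroup.mem_centralizer_iff.1 hy.2 d (cls_le_eGrp hd)
    rw [← mul_assoc, h1, mul_assoc, h2, mul_assoc]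
  have hcard : Nat.card X ≤ p := by
    have h := OffenderBasic.mul_card_le_of_lt S (Thompson.isPGroup_isEA S.ea) hWV
      (lt_of_le_of_ne inf_le_left hXne : X < _)
    rw [hWcard, pow_two] at h
    exact Nat.le_of_mul_le_mul_left h hp.out.pos
  have e1 : ctr V c = X := Subgroup.eq_of_le_of_card_ge (le_inf hcW hcd)
    (by rw [(ctr_props S hc).2.1]; exact hcard)
  have e2 : ctr V d = X := Subgroup.eq_of_le_of_card_ge (le_inf hdW (ctr_props S hdt).2.2)
    (by rw [(ctr_props S hdt).2.1]; exact hcard)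
  rw [e1, e2]

/-- Every transvection of `H` lies in `eGrp K a` or centralises the plane. -/
theorem tv_cases {a c : G} (ha : Tv p V H a) (hc : Tv p V H c) :
    c ∈ eGrp K a ∨ c ∈ Subgroup.centralizer ((⁅V, eGrp K a⁆ : Subgroup G) : Set G) := by
  by_cases hcW : c ∈ Subgroup.centralizer ((⁅V, eGrp K a⁆ : Subgroup G) : Set G)
  · exact Or.inr hcW
  left
  obtain ⟨hcap, hsup, hWcard, hWV⟩ := plane S ha
  obtain ⟨hcWn, hcCn⟩ := tv_normalizes S ha hc
  set W := ⁅V, eGrp K a⁆ with hW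
  set C := V ⊓ Subgroup.centralizer (eGrp K a : Set G) with hC
  have hPW : ctr V c ≤ W := by
    obtain ⟨w, hw, hwc⟩ : ∃ w ∈ W, c * w ≠ w * c := by
      by_contra hcon
      push Not at hcon
      exact hcW (Subgroup.mem_centralizer_iff.2 fun w hw => (hcon w hw).symm)
    refine ctr_le_of_mem S hc ((ctr_props S hc).1 w (hWV hw)) ?_ (fun h => hwc
      (commutatorElement_eq_one_iff_mul_comm.1 h).symm)
    rw [commutatorElement_def, mul_assoc w, mul_assoc w]
    exact mul_mem hw ((Subgroup.mem_normalizer_iff.1 hcWn _).1 (inv_mem hw))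
  have hCc : C ≤ axis V c := fun u hu => by
    refine mem_axis.2 ⟨hu.1, commutatorElement_eq_one_iff_mul_comm.1 (Subgroup.mem_bot.1
      (hcap ▸ Subgroup.mem_inf.2 ⟨hPW ((ctr_props S hc).1 u hu.1), ?_⟩))⟩
    rw [commutatorElement_def, mul_assoc u, mul_assoc u]
    exact mul_mem hu ((Subgroup.mem_normalizer_iff.1 hcCn _).1 (inv_mem hu))
  obtain ⟨b, hb, hne⟩ := exists_other S ha
  haveI : Nontrivial (ctr V c) := Finite.one_lt_card_iff_nontrivial.1
    ((ctr_props S hc).2.1 ▸ hp.out.one_lt)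
  obtain ⟨⟨w, hw⟩, hw1⟩ := exists_ne (1 : ctr V c)
  obtain ⟨d, hd, hwd⟩ : ∃ d ∈ cls K a, w ∈ axis V d := by
    rcases cover S ha (cls_tv S ha hb) (cls_div S ha hb) hne (ctr_le_V S hc hw) with h | ⟨i, h⟩
    · exact ⟨b, hb, h⟩
    · exact ⟨_, pow_conj_mem_cls S ha hb i, h⟩
  have hdt := cls_tv S ha hd
  have hdc : ctr V c = ctr V d := ctr_eq_of_mem_axis S ha hc hd hPW
    (ctr_le_of_mem S hc hw hwd (fun h => hw1 (Subtype.ext h)))
  have hCd : C ≤ axis V d := fun u hu =>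
    mem_axis.2 ⟨hu.1, (Subgroup.mem_centralizer_iff.1 hu.2 d (cls_le_eGrp hd)).symm⟩
  -- the axes agree
  have hcomm : ctr V c ⊓ C = ⊥ := le_bot_iff.1 ((inf_le_inf_right _ hPW).trans hcap.le)
  have hcardC : Nat.card (ctr V c ⊔ C : Subgroup G) * p = Nat.card V := by
    rw [card_sup_of_disjoint S (ctr_le_V S hc) inf_le_left hcomm, (ctr_props S hc).2.1]
    have h := card_sup_of_disjoint S hWV inf_le_left hcap
    rw [hsup, hWcard] at h
    rw [h]; ring
  have haxc : ctr V c ⊔ C = axis V c :=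
    Subgroup.eq_of_le_of_card_ge (sup_le (ctr_props S hc).2.2 hCc) (Nat.le_of_mul_le_mul_right
      (by rw [hcardC, mul_comm, card_axis S hc]) hp.out.pos)
  have haxd : ctr V c ⊔ C = axis V d :=
    Subgroup.eq_of_le_of_card_ge (sup_le (hdc ▸ (ctr_props S hdt).2.2) hCd) (Nat.le_of_mul_le_mul_right
      (by rw [hcardC, mul_comm, card_axis S hdt]) hp.out.pos)
  have hax : axis V c = axis V d := haxc.symm.trans haxd
  obtain ⟨v₀, hv₀, hv₀c⟩ : ∃ v ∈ V, v ∉ axis V c := by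
    by_contra hcon
    push Not at hcon
    exact hc.ne (eq_one_of_fixes S hc.mem fun v hv => (mem_axis.1 (hcon v hv)).2.symm)
  have hsd1 : ⁅v₀, d⁆ ≠ 1 := fun h => hv₀c (hax ▸ mem_axis.2
    ⟨hv₀, commutatorElement_eq_one_iff_mul_comm.1 h⟩)
  have hsdP := (ctr_props S hdt).1 v₀ hv₀
  have hgen : Subgroup.zpowers ⁅v₀, d⁆ = ctr V c := by
    rw [hdc]
    refine Subgroup.eq_of_le_of_card_ge (Subgroup.zpowers_le.2 hsdP) ?_
    rw [(ctr_props S hdt).2.1, Nat.card_zpowers, orderOf_eq_prime (S.ea.2 _ (ctr_le_V S hdt hsdP)) hsd1]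
  obtain ⟨n, hn⟩ := (mem_powers_iff_mem_zpowers).2 (hgen.symm ▸ (ctr_props S hc).1 v₀ hv₀ :
    ⁅v₀, c⁆ ∈ Subgroup.zpowers ⁅v₀, d⁆)
  have hdfix : d * ⁅v₀, d⁆ = ⁅v₀, d⁆ * d := (mem_axis.1 ((ctr_props S hdt).2.2 hsdP)).2.symm
  have hpw : ∀ k : ℕ, ⁅v₀, d ^ k⁆ = ⁅v₀, d⁆ ^ k := by
    intro k
    induction k with
    | zero => simp
    | succ k ih =>
      rw [pow_succ', commutatorElement_mul_right_eq_mul_conj, ih, pow_succ', mul_assoc ⁅v₀, d⁆ d,
        mul_assoc ⁅v₀, d⁆, ((show Commute d ⁅v₀, d⁆ from hdfix).pow_right k).eq, mul_inv_cancel_right]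
  set m := (d ^ n)⁻¹ * c with hm
  have hmv₀ : m * v₀ = v₀ * m := by
    have h : ⁅v₀, d ^ n⁆ = ⁅v₀, c⁆ := (hpw n).trans hn
    rw [commutatorElement_def, commutatorElement_def] at h
    have h' : d ^ n * v₀⁻¹ * (d ^ n)⁻¹ = c * v₀⁻¹ * c⁻¹ := by
      calc d ^ n * v₀⁻¹ * (d ^ n)⁻¹ = v₀⁻¹ * (v₀ * d ^ n * v₀⁻¹ * (d ^ n)⁻¹) := by group
        _ = v₀⁻¹ * (v₀ * c * v₀⁻¹ * c⁻¹) := by rw [h]
        _ = _ := by group
    calc m * v₀ = (d ^ n)⁻¹ * (c * v₀⁻¹ * c⁻¹)⁻¹ * c := by rw [hm]; group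
      _ = (d ^ n)⁻¹ * (d ^ n * v₀⁻¹ * (d ^ n)⁻¹)⁻¹ * c := by rw [h']
      _ = v₀ * m := by rw [hm]; group
  have hmH : m ∈ H := mul_mem (inv_mem (pow_mem hdt.mem n)) hc.mem
  have hm1 : m = 1 := by
    refine eq_one_of_fixes S hmH fun v hv => ?_
    have hVle : V ≤ axis V c ⊔ Subgroup.zpowers v₀ := by
      have hlt : axis V c < axis V c ⊔ Subgroup.zpowers v₀ :=
        left_lt_sup.2 fun h => hv₀c (h (Subgroup.mem_zpowers v₀))
      refine (Subgroup.eq_of_le_of_card_ge (sup_le inf_le_left (Subgroup.zpowers_le.2 hv₀)) ?_).ge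
      have h := OffenderBasic.mul_card_le_of_lt S (Thompson.isPGroup_isEA S.ea)
        (sup_le inf_le_left (Subgroup.zpowers_le.2 hv₀)) hlt
      rwa [card_axis S hc] at h
    have hle : axis V c ⊔ Subgroup.zpowers v₀ ≤ Subgroup.centralizer {m} := by
      refine sup_le (fun u hu => Subgroup.mem_centralizer_singleton_iff.2 ?_)
        (Subgroup.zpowers_le.2 (Subgroup.mem_centralizer_singleton_iff.2 hmv₀.symm))
      have h1 : Commute u c := (mem_axis.1 hu).2
      have h2 : Commute u d := (mem_axis.1 (hax ▸ hu)).2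
      exact ((h2.pow_right n).inv_right.mul_right h1).eq
    exact (Subgroup.mem_centralizer_singleton_iff.1 (hle (hVle hv))).symm
  rw [show c = d ^ n from (inv_mul_eq_one.1 hm1).symm]
  exact pow_mem (cls_le_eGrp hd) n

end CfsgLib.Fusion.OffenderPlane
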