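import Cfsg.Agent.Lib.Fusion.OffenderBasic

/-!
Transvections in a group with a self-centralising `p'`-subgroup, and the `SL(2, p)` each one spans
with its conjugates under that subgroup.
-/

set_option autoImplicit false
set_option linter.style.haveILetI false
set_option linter.unusedSectionVars false

open scoped commutatorElement

namespace CfsgLib.Fusion.OffenderTv

open CfsgLib.Fusion.OffenderBasic
open CfsgLib.Fusion.ReplacementEA (wt)

variable {G : Type*} [Group G] {p : ℕ}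

/-- An element of `H` of order `p` fixing a subgroup of index `p` of `V`. -/
structure Tv (p : ℕ) (V H : Subgroup G) (c : G) : Prop where
  mem : c ∈ H
  pow : c ^ p = 1
  ne : c ≠ 1
  idx : (V ⊓ Subgroup.centralizer {c}).relIndex V = p

/-- The centre of a transvection. -/
def ctr (V : Subgroup G) (c : G) : Subgroup G := ⁅V, Subgroup.zpowers c⁆

/-- The axis of a transvection. -/
def axis (V : Subgroup G) (c : G) : Subgroup G := V ⊓ Subgroup.centralizer {c}

theorem mem_axis {V : Subgroup G} {c v : G} : v ∈ axis V c ↔ v ∈ V ∧ v * c = c * v := by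
  rw [axis, Subgroup.mem_inf, Subgroup.mem_centralizer_singleton_iff]

/-- A subgroup of order `p` with a fixed hyperplane is generated by a transvection. -/
theorem centralizer_zpowers (c : G) :
    Subgroup.centralizer (Subgroup.zpowers c : Set G) = Subgroup.centralizer {c} := by
  rw [Subgroup.zpowers_eq_closure, Subgroup.centralizer_closure]

theorem wt_zpowers (V : Subgroup G) (c : G) :
    wt V (Subgroup.zpowers c) = orderOf c * Nat.card (axis V c) := by
  rw [wt, centralizer_zpowers, Nat.card_zpowers]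
  rfl

/-- If `y` has order prime to the exponent and fixes `U`, which contains all `[v, y]` for `v ∈ P`,
then `y` fixes `P`. -/
theorem fixes_of_stab (hp : p.Prime) {U P : Subgroup G} {y : G} (hy : (orderOf y).Coprime p)
    (hUp : ∀ u ∈ U, u ^ p = 1) (hU : ∀ u ∈ U, y * u = u * y)
    (hP : ∀ v ∈ P, y * v * y⁻¹ * v⁻¹ ∈ U) : ∀ v ∈ P, y * v = v * y := by
  intro v hv
  set u := y * v * y⁻¹ * v⁻¹ with hu
  have hk : ∀ k : ℕ, y ^ k * v * (y ^ k)⁻¹ = u ^ k * v := by
    intro k
    induction k with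
    | zero => simp
    | succ k ih =>
      have hc : y * u ^ k = u ^ k * y := Commute.pow_right (hU u (hP v hv)) k
      calc y ^ (k + 1) * v * (y ^ (k + 1))⁻¹ = y * (y ^ k * v * (y ^ k)⁻¹) * y⁻¹ := by
            rw [pow_succ']; group
        _ = y * u ^ k * v * y⁻¹ := by rw [ih]; group
        _ = u ^ k * y * v * y⁻¹ := by rw [hc]
        _ = u ^ (k + 1) * v := by rw [pow_succ, hu]; group
  have h1 : u ^ orderOf y = 1 := by
    have := hk (orderOf y)
    rw [pow_orderOf_eq_one, one_mul, inv_one, mul_one, eq_comm, mul_eq_right] at this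
    exact this
  have h2 : u = 1 := orderOf_eq_one_iff.1 (Nat.eq_one_of_dvd_coprimes hy
    (orderOf_dvd_of_pow_eq_one h1) (orderOf_dvd_of_pow_eq_one (hUp u (hP v hv))))
  exact mul_inv_eq_iff_eq_mul.1 (mul_inv_eq_one.1 h2)

variable {V H K : Subgroup G} (S : Setup p V H K)
include S

theorem tv_conj {h c : G} (hh : h ∈ H) (hc : Tv p V H c) : Tv p V H (h * c * h⁻¹) where
  mem := mul_mem (mul_mem hh hc.mem) (inv_mem hh)
  pow := by rw [conj_pow, hc.pow, mul_one, mul_inv_cancel]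
  ne := fun h1 => hc.ne (conj_eq_one_iff.1 h1)
  idx := by
    have hV : V.map (MulAut.conj h).toMonoidHom = V := by
      refine le_antisymm ?_ fun v hv => ?_
      · rintro _ ⟨v, hv, rfl⟩
        exact conj_mem_V S hh hv
      · refine ⟨h⁻¹ * v * h, ?_, by simp [mul_assoc]⟩
        have := conj_mem_V S (inv_mem hh) hv
        rwa [inv_inv] at this
    have hax : (V ⊓ Subgroup.centralizer {c}).map (MulAut.conj h).toMonoidHom =
        V ⊓ Subgroup.centralizer {h * c * h⁻¹} := by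
      ext x
      simp only [Subgroup.mem_map, Subgroup.mem_inf, Subgroup.mem_centralizer_singleton_iff,
        MulEquiv.coe_toMonoidHom, MulAut.conj_apply]
      constructor
      · rintro ⟨v, ⟨hv, hcv⟩, rfl⟩
        refine ⟨conj_mem_V S hh hv, ?_⟩
        calc h * v * h⁻¹ * (h * c * h⁻¹) = h * (v * c) * h⁻¹ := by group
          _ = h * (c * v) * h⁻¹ := by rw [hcv]
          _ = _ := by group
      · rintro ⟨hx, hcx⟩
        refine ⟨h⁻¹ * x * h, ⟨?_, ?_⟩, by group⟩
        · have := conj_mem_V S (inv_mem hh) hx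
          rwa [inv_inv] at this
        · calc h⁻¹ * x * h * c = h⁻¹ * (x * (h * c * h⁻¹)) * h := by group
            _ = h⁻¹ * (h * c * h⁻¹ * x) * h := by rw [hcx]
            _ = _ := by group
    rw [← hax]
    conv_lhs => arg 2; rw [← hV]
    rw [Subgroup.relIndex_map_map_of_injective _ _ (MulAut.conj h).injective]
    exact hc.idx

variable [hp : Fact p.Prime] [Finite G]

theorem orderOf_tv {c : G} (hc : Tv p V H c) : orderOf c = p :=
  orderOf_eq_prime hc.pow hc.ne

theorem card_axis {c : G} (hc : Tv p V H c) : p * Nat.card (axis V c) = Nat.card V := by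
  have h := Subgroup.relIndex_mul_relIndex (⊥ : Subgroup G) (V ⊓ Subgroup.centralizer {c}) V bot_le inf_le_left
  rw [Subgroup.relIndex_bot_left, Subgroup.relIndex_bot_left, hc.idx] at h
  rw [← h, mul_comm]; rfl

theorem isBest_zpowers {c : G} (hc : Tv p V H c) :
    Cfsg.IsBestOffenderOn p V (Subgroup.zpowers c) ∧ wt V (Subgroup.zpowers c) = Nat.card V := by
  have hw : wt V (Subgroup.zpowers c) = Nat.card V := by
    rw [wt_zpowers, orderOf_tv S hc, card_axis S hc]
  have hEA : Cfsg.IsElementaryAbelian p (Subgroup.zpowers c) := by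
    refine ⟨inferInstance, ?_⟩
    rintro _ ⟨k, rfl⟩
    show (c ^ k) ^ p = 1
    rw [← zpow_natCast, ← zpow_mul, mul_comm, zpow_mul, zpow_natCast, hc.pow, one_zpow]
  refine ⟨OffenderBasic.isBest_of S hEA fun B hB => ?_, hw⟩
  rw [hw]
  obtain ⟨k, hk, hkB⟩ := (Nat.dvd_prime_pow hp.out).1 (show Nat.card B ∣ p ^ 1 by
    rw [pow_one, ← orderOf_tv S hc, ← Nat.card_zpowers]
    exact Subgroup.card_dvd_of_le hB)
  interval_cases k
  · rw [Subgroup.eq_bot_of_card_eq B (by rw [hkB, pow_zero]), wt_bot S]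
  · rw [Subgroup.eq_of_le_of_card_ge hB (by rw [hkB, pow_one, Nat.card_zpowers, orderOf_tv S hc]), hw]

/-- Every best offender of order `p` is generated by a transvection. -/
theorem exists_tv_of_card {A : Subgroup G} (hAH : A ≤ H) (hA : Cfsg.IsBestOffenderOn p V A)
    (hcard : Nat.card A = p) : ∃ a, Tv p V H a ∧ A = Subgroup.zpowers a := by
  haveI : Nontrivial A := Finite.one_lt_card_iff_nontrivial.1 (hcard ▸ hp.out.one_lt)
  obtain ⟨⟨a, ha⟩, ha1⟩ := exists_ne (1 : A)
  have ha1' : a ≠ 1 := fun h => ha1 (Subtype.ext h)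
  have hpow := (OffenderBasic.isEA S hAH hA).2 a ha
  have hAeq : A = Subgroup.zpowers a := by
    refine (Subgroup.eq_of_le_of_card_ge (Subgroup.zpowers_le.2 ha) ?_).symm
    rw [hcard, Nat.card_zpowers, orderOf_eq_prime hpow ha1']
  refine ⟨a, ⟨hAH ha, hpow, ha1', ?_⟩, hAeq⟩
  have hw := wt_eq S hAH hA
  rw [hAeq, wt_zpowers, orderOf_eq_prime hpow ha1'] at hw
  have h := Subgroup.relIndex_mul_relIndex (⊥ : Subgroup G) (V ⊓ Subgroup.centralizer {a}) V bot_le inf_le_left
  rw [Subgroup.relIndex_bot_left, Subgroup.relIndex_bot_left, ← hw, mul_comm p] at h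
  exact Nat.eq_of_mul_eq_mul_left Nat.card_pos h

/-- A best offender is generated by the transvections it contains. -/
theorem le_closure_tv {A : Subgroup G} (hAH : A ≤ H) (hA : Cfsg.IsBestOffenderOn p V A) :
    A ≤ Subgroup.closure {a | a ∈ A ∧ Tv p V H a} := by
  induction hn : Nat.card A using Nat.strong_induction_on generalizing A with
  | _ n ih =>
    subst hn
    by_cases hp2 : p < Nat.card A
    · refine (le_iSup_proper S hAH hA hp2).trans (iSup₂_le fun B hB => ?_)
      refine (ih _ (lt_of_not_ge fun hge => hB.1.ne (Subgroup.eq_of_le_of_card_ge hB.1.le hge))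
        (hB.1.le.trans hAH) hB.2.1 rfl).trans (Subgroup.closure_mono ?_)
      exact fun a ha => ⟨hB.1.le ha.1, ha.2⟩
    · obtain ⟨k, hk⟩ := IsPGroup.iff_card.1 (Thompson.isPGroup_isEA (OffenderBasic.isEA S hAH hA))
      rcases Nat.eq_zero_or_pos k with rfl | hk0
      · rw [Subgroup.eq_bot_of_card_eq A (by rw [hk, pow_zero])]
        exact bot_le
      have hcard : Nat.card A = p := le_antisymm (Nat.le_of_not_lt hp2)
        (hk ▸ Nat.le_self_pow hk0.ne' p)
      obtain ⟨a, ha, rfl⟩ := exists_tv_of_card S hAH hA hcard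
      exact Subgroup.zpowers_le.2 (Subgroup.subset_closure ⟨Subgroup.mem_zpowers a, ha⟩)

/-- The centre of a transvection has order `p` and is fixed by it. -/
theorem ctr_props {c : G} (hc : Tv p V H c) :
    (∀ v ∈ V, ⁅v, c⁆ ∈ ctr V c) ∧ Nat.card (ctr V c) = p ∧ ctr V c ≤ axis V c := by
  have hmem : ∀ v ∈ V, ⁅v, c⁆ ∈ ctr V c := fun v hv =>
    Subgroup.commutator_mem_commutator hv (Subgroup.mem_zpowers c)
  have hPV : ctr V c ≤ V := Subgroup.le_normalizer_iff_commutator_le_left.1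
    (Subgroup.zpowers_le.2 (S.hN hc.mem))
  have hcR : Subgroup.zpowers c ≤ Subgroup.normalizer (ctr V c : Set G) :=
    Subgroup.normalizer_commutator_ge_right _ _
  let f : V →* G :=
    { toFun := fun v => ⁅(v : G), c⁆
      map_one' := commutatorElement_one_left c
      map_mul' := fun u v => by
        show ⁅(u : G) * v, c⁆ = ⁅(u : G), c⁆ * ⁅(v : G), c⁆
        rw [commutatorElement_mul_left_eq_conj_mul, comm_V S u.2 (hPV (hmem v v.2)), mul_inv_cancel_right,
          comm_V S (hPV (hmem v v.2)) (hPV (hmem u u.2))] }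
  set R := f.range with hR
  have hker : f.ker = (axis V c).subgroupOf V := by
    ext v
    rw [MonoidHom.mem_ker, Subgroup.mem_subgroupOf, mem_axis]
    constructor
    · exact fun h => ⟨v.2, commutatorElement_eq_one_iff_mul_comm.1 h⟩
    · exact fun h => commutatorElement_eq_one_iff_mul_comm.2 h.2
  have hRcard : Nat.card R = p := by
    rw [hR, ← Subgroup.index_ker, hker]
    exact hc.idx
  have hRle : R ≤ ctr V c := by
    rintro _ ⟨v, rfl⟩
    exact hmem v v.2
  -- `c` fixes `R`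
  have hRc : Subgroup.zpowers c ≤ Subgroup.normalizer (R : Set G) := by
    rw [Subgroup.zpowers_le, Subgroup.mem_normalizer_iff_map_conj_eq]
    refine Subgroup.eq_of_le_of_card_ge ?_
      (le_of_eq (Subgroup.card_map_of_injective (MulAut.conj c).injective).symm)
    rintro _ ⟨_, ⟨v, rfl⟩, rfl⟩
    refine ⟨⟨c * (v : G) * c⁻¹, conj_mem_V S hc.mem v.2⟩, ?_⟩
    show ⁅c * (v : G) * c⁻¹, c⁆ = c * ⁅(v : G), c⁆ * c⁻¹
    simp only [commutatorElement_def]; group
  have hzp : IsPGroup p (Subgroup.zpowers c) :=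
    IsPGroup.of_card (n := 1) (by rw [Nat.card_zpowers, orderOf_tv S hc, pow_one])
  have hRne : R ≠ ⊥ := fun h => by
    rw [h, Subgroup.card_bot] at hRcard
    exact hp.out.one_lt.ne hRcard
  have hlt := CfsgLib.Coprime.commutator_lt_of_isPGroup hzp
    ((Thompson.isPGroup_isEA S.ea).to_le (hRle.trans hPV)) hRc hRne
  have hRbot : ⁅R, Subgroup.zpowers c⁆ = ⊥ := by
    have hdvd := Subgroup.card_dvd_of_le hlt.le
    rw [hRcard] at hdvd
    rcases hp.out.eq_one_or_self_of_dvd _ hdvd with h | h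
    · exact Subgroup.eq_bot_of_card_eq _ h
    · exact absurd (Subgroup.eq_of_le_of_card_ge hlt.le (by rw [h, hRcard])) hlt.ne
  have hfix : ∀ r ∈ R, r * c = c * r := fun r hr =>
    (Subgroup.mem_centralizer_iff.1 (Subgroup.commutator_eq_bot_iff_le_centralizer.1 hRbot hr) c
      (Subgroup.mem_zpowers c)).symm
  have hle : ctr V c ≤ R := by
    rw [ctr, Subgroup.commutator_le]
    intro v hv g hg
    obtain ⟨k, rfl⟩ := (mem_powers_iff_mem_zpowers (x := c)).2 hg
    show ⁅v, c ^ k⁆ ∈ R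
    induction k with
    | zero => simp
    | succ k ih =>
      rw [pow_succ', commutatorElement_mul_right_eq_mul_conj]
      have h1 : ⁅v, c ^ k⁆ ∈ R := ih (pow_mem (Subgroup.mem_zpowers c) k)
      have h2 : c * ⁅v, c ^ k⁆ * c⁻¹ = ⁅v, c ^ k⁆ := by
        rw [← hfix _ h1, mul_inv_cancel_right]
      rw [mul_assoc ⁅v, c⁆ c, mul_assoc ⁅v, c⁆, h2]
      exact mul_mem ⟨⟨v, hv⟩, rfl⟩ h1
  have heq := le_antisymm hle hRle
  exact ⟨hmem, by rw [heq, hRcard], fun u hu => mem_axis.2 ⟨hPV hu, hfix u (hle hu)⟩⟩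

theorem ctr_le_V {c : G} (hc : Tv p V H c) : ctr V c ≤ V :=
  (ctr_props S hc).2.2.trans inf_le_left

theorem ctr_conj {h c : G} (hh : h ∈ H) :
    ctr V (h * c * h⁻¹) = (ctr V c).map (MulAut.conj h).toMonoidHom := by
  have hV : V.map (MulAut.conj h).toMonoidHom = V :=
    Subgroup.mem_normalizer_iff_map_conj_eq.1 (S.hN hh)
  rw [ctr, ctr, Subgroup.map_commutator, hV, MonoidHom.map_zpowers]
  rfl

/-- The elements stabilising the series `V ≥ U`. -/
def moveSub (V U : Subgroup G) : Subgroup G where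
  carrier := {h | h ∈ Subgroup.normalizer (V : Set G) ∧ h ∈ Subgroup.normalizer (U : Set G) ∧
    ∀ v ∈ V, h * v * h⁻¹ * v⁻¹ ∈ U}
  one_mem' := ⟨one_mem _, one_mem _, fun v _ => by simp [U.one_mem]⟩
  mul_mem' := by
    rintro a b ⟨haV, haW, ha⟩ ⟨hbV, hbW, hb⟩
    refine ⟨mul_mem haV hbV, mul_mem haW hbW, fun v hv => ?_⟩
    have e : a * b * v * (a * b)⁻¹ * v⁻¹ =
        (a * (b * v * b⁻¹ * v⁻¹) * a⁻¹) * (a * v * a⁻¹ * v⁻¹) := by group
    rw [e]
    exact mul_mem ((Subgroup.mem_normalizer_iff.1 haW _).1 (hb v hv)) (ha v hv)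
  inv_mem' := by
    rintro a ⟨haV, haW, ha⟩
    refine ⟨inv_mem haV, inv_mem haW, fun v hv => ?_⟩
    have e : a⁻¹ * v * a⁻¹⁻¹ * v⁻¹ = a⁻¹ * (a * v * a⁻¹ * v⁻¹)⁻¹ * a⁻¹⁻¹ := by group
    rw [e]
    exact (Subgroup.mem_normalizer_iff.1 (inv_mem haW) _).1 (inv_mem (ha v hv))

theorem tv_mem_moveSub {c : G} (hc : Tv p V H c) {U : Subgroup G} (hUV : U ≤ V)
    (hcU : ctr V c ≤ U) : c ∈ moveSub V U := by
  have hm : ∀ v ∈ V, c * v * c⁻¹ * v⁻¹ ∈ ctr V c := fun v hv => by
    have h := inv_mem ((ctr_props S hc).1 v hv)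
    rw [commutatorElement_inv, commutatorElement_def] at h
    exact h
  refine ⟨S.hN hc.mem, ?_, fun v hv => hcU (hm v hv)⟩
  rw [Subgroup.mem_normalizer_iff_map_conj_eq]
  refine Subgroup.eq_of_le_of_card_ge ?_
    (le_of_eq (Subgroup.card_map_of_injective (MulAut.conj c).injective).symm)
  rintro _ ⟨u, hu, rfl⟩
  have := mul_mem (hcU (hm u (hUV hu))) hu
  show c * u * c⁻¹ ∈ U
  simpa [mul_assoc] using this

/-- Distinct transvections congruent modulo `K`: the centre of one is off the axis of the other. -/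
theorem pair {a b : G} (ha : Tv p V H a) (hb : Tv p V H b) (hK : a⁻¹ * b ∈ K) (hne : a ≠ b) :
    ¬ ctr V b ≤ axis V a := by
  intro hle
  set y := a⁻¹ * b with hy
  have hycop : (orderOf y).Coprime p :=
    Nat.Coprime.coprime_dvd_left (Subgroup.orderOf_dvd_natCard K hK) S.Kc
  set U := ctr V b with hU
  set P := ctr V a ⊔ U with hP
  have hUV : U ≤ V := ctr_le_V S hb
  have hPV : P ≤ V := sup_le (ctr_le_V S ha) hUV
  have hUfix : ∀ u ∈ U, y * u = u * y := fun u hu =>
    (Commute.mul_left (Commute.inv_left (show Commute a u from (mem_axis.1 (hle hu)).2.symm))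
      (show Commute b u from (mem_axis.1 ((ctr_props S hb).2.2 hu)).2.symm)).eq
  have hyP : y ∈ moveSub V P := mul_mem
    (inv_mem (tv_mem_moveSub S ha hPV le_sup_left)) (tv_mem_moveSub S hb hPV le_sup_right)
  -- `[P, a]` and `[P, b]` lie in `U`
  have hPU : ∀ v ∈ P, y * v * y⁻¹ * v⁻¹ ∈ U := by
    intro v hv
    have hav : a * v = v * a := by
      have : P ≤ axis V a := sup_le (ctr_props S ha).2.2 hle
      exact (mem_axis.1 (this hv)).2.symm
    have hbv : b * v * b⁻¹ * v⁻¹ ∈ U := by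
      have h := inv_mem ((ctr_props S hb).1 v (hPV hv))
      rw [commutatorElement_inv, commutatorElement_def] at h
      exact h
    set r := b * v * b⁻¹ * v⁻¹ with hr
    have har : a⁻¹ * r = r * a⁻¹ :=
      (Commute.inv_left (show Commute a r from (mem_axis.1 (hle hbv)).2.symm)).eq
    have e : y * v * y⁻¹ * v⁻¹ = a⁻¹ * r * (v * a) * v⁻¹ := by rw [hy, hr]; group
    rw [e, har, ← hav]
    simpa using hbv
  have hUp : ∀ u ∈ U, u ^ p = 1 := fun u hu => S.ea.2 u (hUV hu)
  have hPfix := fixes_of_stab hp.out hycop hUp hUfix hPU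
  have hVfix := fixes_of_stab hp.out hycop (fun u hu => S.ea.2 u (hPV hu)) hPfix hyP.2.2
  exact hne (inv_mul_eq_one.1 (eq_one_of_fixes S (mul_mem (inv_mem ha.mem) hb.mem) hVfix))

theorem eq_of_ctr_le_axis {a b : G} (ha : Tv p V H a) (hb : Tv p V H b) (hK : a⁻¹ * b ∈ K)
    (hle : ctr V b ≤ axis V a) : a = b :=
  by_contra fun h => pair S ha hb hK h hle

/-- The conjugates of `a` under `K`. -/
def cls (K : Subgroup G) (a : G) : Set G := {b | ∃ k ∈ K, b = k * a * k⁻¹}

theorem cls_tv {a b : G} (ha : Tv p V H a) (hb : b ∈ cls K a) : Tv p V H b := by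
  obtain ⟨k, hk, rfl⟩ := hb
  exact tv_conj S (S.KH hk) ha

theorem cls_div {a b : G} (ha : Tv p V H a) (hb : b ∈ cls K a) : a⁻¹ * b ∈ K := by
  obtain ⟨k, hk, rfl⟩ := hb
  have := mul_mem (conj_mem_K S (inv_mem ha.mem) hk) (inv_mem hk)
  simpa [mul_assoc] using this

theorem cls_div' {a b c : G} (ha : Tv p V H a) (hb : b ∈ cls K a) (hc : c ∈ cls K a) :
    b⁻¹ * c ∈ K := by
  have := mul_mem (inv_mem (cls_div S ha hb)) (cls_div S ha hc)
  simpa [mul_assoc] using this

theorem cls_conj {a b h : G} (ha : Tv p V H a) (hb : b ∈ cls K a)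
    (hh : h ∈ K ∨ h ∈ Subgroup.zpowers a) : h * b * h⁻¹ ∈ cls K a := by
  obtain ⟨k, hk, rfl⟩ := hb
  rcases hh with hh | hh
  · exact ⟨h * k, mul_mem hh hk, by group⟩
  · obtain ⟨i, rfl⟩ := hh
    refine ⟨a ^ i * k * (a ^ i)⁻¹, conj_mem_K S (zpow_mem ha.mem i) hk, ?_⟩
    show a ^ i * (k * a * k⁻¹) * (a ^ i)⁻¹ = _
    group

/-- Every element of `V` is fixed by `b` or by a conjugate of `a` under a power of `b`. -/
theorem cover {a b : G} (ha : Tv p V H a) (hb : Tv p V H b) (hK : a⁻¹ * b ∈ K) (hne : a ≠ b)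
    {u : G} (hu : u ∈ V) :
    u ∈ axis V b ∨ ∃ i : ℕ, u ∈ axis V (b ^ i * a * (b ^ i)⁻¹) := by
  by_cases hub : u ∈ axis V b
  · exact Or.inl hub
  right
  obtain ⟨hPm, hPc, hPle⟩ := ctr_props S hb
  set t := ⁅u, b⁆ with ht
  have htP : t ∈ ctr V b := hPm u hu
  have ht1 : t ≠ 1 := fun h => hub (mem_axis.2 ⟨hu, commutatorElement_eq_one_iff_mul_comm.1 h⟩)
  have htV : t ∈ V := ctr_le_V S hb htP
  have htgen : Subgroup.zpowers t = ctr V b := by
    refine Subgroup.eq_of_le_of_card_ge (Subgroup.zpowers_le.2 htP) ?_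
    rw [hPc, Nat.card_zpowers, orderOf_eq_prime (S.ea.2 t htV) ht1]
  have hta : t ∉ axis V a := fun h => pair S ha hb hK hne
    (htgen ▸ Subgroup.zpowers_le.2 h)
  -- `⁅u, a⁆` is a power of `⁅t, a⁆`
  obtain ⟨hQm, hQc, -⟩ := ctr_props S ha
  have hs1 : ⁅t, a⁆ ≠ 1 := fun h => hta (mem_axis.2 ⟨htV, commutatorElement_eq_one_iff_mul_comm.1 h⟩)
  have hsgen : Subgroup.zpowers ⁅t, a⁆ = ctr V a := by
    refine Subgroup.eq_of_le_of_card_ge (Subgroup.zpowers_le.2 (hQm t htV)) ?_
    rw [hQc, Nat.card_zpowers, orderOf_eq_prime (S.ea.2 _ (ctr_le_V S ha (hQm t htV))) hs1]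
  obtain ⟨n, hn⟩ := (mem_powers_iff_mem_zpowers).2 (hsgen.symm ▸ inv_mem (hQm u hu) :
    ⁅u, a⁆⁻¹ ∈ Subgroup.zpowers ⁅t, a⁆)
  -- hence `u * t ^ n` is fixed by `a`
  have hpow : ⁅t ^ n, a⁆ = ⁅t, a⁆ ^ n := by
    clear hn
    induction n with
    | zero => simp
    | succ n ih =>
      rw [pow_succ, commutatorElement_mul_left_eq_conj_mul, ih, pow_succ']
      congr 1
      rw [comm_V S (pow_mem htV n) (ctr_le_V S ha (hQm t htV)), mul_inv_cancel_right]
  have hmul : ⁅u * t ^ n, a⁆ = 1 := by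
    rw [commutatorElement_mul_left_eq_conj_mul,
      comm_V S hu (ctr_le_V S ha (hQm _ (pow_mem htV n))), mul_inv_cancel_right, hpow]
    have hn' : ⁅t, a⁆ ^ n = ⁅u, a⁆⁻¹ := hn
    rw [hn', inv_mul_cancel]
  have hfix : u * t ^ n ∈ axis V a :=
    mem_axis.2 ⟨mul_mem hu (pow_mem htV n), commutatorElement_eq_one_iff_mul_comm.1 hmul⟩
  -- conjugation by powers of `b`
  have hbt : b * t = t * b := (mem_axis.1 (hPle htP)).2.symm
  have hbi : ∀ k : ℕ, b ^ k * u * (b ^ k)⁻¹ = u * (t⁻¹) ^ k := by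
    intro k
    induction k with
    | zero => simp
    | succ k ih =>
      have h1 : b * u * b⁻¹ = u * t⁻¹ := by
        rw [comm_V S hu (inv_mem htV), ht, commutatorElement_def]; group
      calc b ^ (k + 1) * u * (b ^ (k + 1))⁻¹ = b * (b ^ k * u * (b ^ k)⁻¹) * b⁻¹ := by
            rw [pow_succ']; group
        _ = b * u * b⁻¹ * (b * (t⁻¹) ^ k * b⁻¹) := by rw [ih]; group
        _ = u * t⁻¹ * (t⁻¹) ^ k := by
          rw [h1, ((Commute.inv_right (show Commute b t from hbt)).pow_right k).eq, mul_inv_cancel_right]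
        _ = _ := by rw [pow_succ', mul_assoc]
  refine ⟨n, mem_axis.2 ⟨hu, ?_⟩⟩
  have h3 : b ^ n * (u * t ^ n) * (b ^ n)⁻¹ = u := by
    have hc : Commute (b ^ n) (t ^ n) := Commute.pow_pow hbt n n
    calc b ^ n * (u * t ^ n) * (b ^ n)⁻¹ = b ^ n * u * (b ^ n)⁻¹ * (b ^ n * t ^ n * (b ^ n)⁻¹) := by group
      _ = u := by rw [hbi, hc.eq, mul_inv_cancel_right, inv_pow, inv_mul_cancel_right]
  have h4 := (mem_axis.1 hfix).2
  calc u * (b ^ n * a * (b ^ n)⁻¹) = b ^ n * (u * t ^ n * a) * (b ^ n)⁻¹ := by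
        conv_lhs => rw [← h3]
        group
    _ = b ^ n * (a * (u * t ^ n)) * (b ^ n)⁻¹ := by rw [h4]
    _ = (b ^ n * a * (b ^ n)⁻¹) * u := by
        conv_rhs => rw [← h3]
        group

theorem pow_conj_mem_cls {a b : G} (ha : Tv p V H a) (hb : b ∈ cls K a) (i : ℕ) :
    b ^ i * a * (b ^ i)⁻¹ ∈ cls K a := by
  obtain ⟨k, hk, rfl⟩ := hb
  rw [conj_pow]
  have h1 : k⁻¹ * a * k ∈ cls K a := ⟨k⁻¹, inv_mem hk, by rw [inv_inv]⟩
  have h2 := cls_conj S ha h1 (Or.inr (pow_mem (Subgroup.mem_zpowers a) i))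
  have h3 := cls_conj S ha h2 (Or.inl hk)
  simpa [mul_assoc] using h3

/-- The conjugates of `a` under `K` all lie in the subgroup generated by any two of them. -/
theorem cls_subset {a b : G} (ha : Tv p V H a) (hb : b ∈ cls K a) (hne : a ≠ b) :
    cls K a ⊆ (Subgroup.closure {a, b} : Subgroup G) := by
  intro c hc
  obtain ⟨hPm, hPc, hPle⟩ := ctr_props S (cls_tv S ha hc)
  haveI : Nontrivial (ctr V c) := Finite.one_lt_card_iff_nontrivial.1 (hPc ▸ hp.out.one_lt)
  obtain ⟨⟨w, hw⟩, hw1⟩ := exists_ne (1 : ctr V c)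
  have hwV : w ∈ V := ctr_le_V S (cls_tv S ha hc) hw
  have hgen : Subgroup.zpowers w = ctr V c := by
    refine Subgroup.eq_of_le_of_card_ge (Subgroup.zpowers_le.2 hw) ?_
    rw [hPc, Nat.card_zpowers, orderOf_eq_prime (S.ea.2 w hwV) fun h => hw1 (Subtype.ext h)]
  have key : ∀ d ∈ cls K a, w ∈ axis V d → d = c := fun d hd hwd =>
    eq_of_ctr_le_axis S (cls_tv S ha hd) (cls_tv S ha hc) (cls_div' S ha hd hc)
      (hgen ▸ Subgroup.zpowers_le.2 hwd)
  have haC : a ∈ (Subgroup.closure {a, b} : Subgroup G) := Subgroup.subset_closure (by simp)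
  have hbC : b ∈ (Subgroup.closure {a, b} : Subgroup G) := Subgroup.subset_closure (by simp)
  rcases cover S ha (cls_tv S ha hb) (cls_div S ha hb) hne hwV with h | ⟨i, h⟩
  · rw [← key b hb h]; exact hbC
  · rw [← key _ (pow_conj_mem_cls S ha hb i) h]
    exact mul_mem (mul_mem (pow_mem hbC i) haC) (inv_mem (pow_mem hbC i))

/-- A transvection has a second conjugate under `K`. -/
theorem exists_other {a : G} (ha : Tv p V H a) : ∃ b ∈ cls K a, a ≠ b := by
  by_contra hcon
  push Not at hcon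
  have hK : a ∈ K := by
    refine S.cK a ha.mem fun k hk => ?_
    have := hcon _ ⟨k, hk, rfl⟩
    exact (eq_mul_inv_iff_mul_eq.1 this).symm
  refine ha.ne (orderOf_eq_one_iff.1 (Nat.eq_one_of_dvd_coprimes S.Kc
    (Subgroup.orderOf_dvd_natCard K hK) (orderOf_dvd_of_pow_eq_one ha.pow)))

end CfsgLib.Fusion.OffenderTv
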