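import Cfsg.Prelude.Def_LocalEven
import Cfsg.Agent.Lib.Fusion.SL2Sections
import Cfsg.Agent.Lib.Components.QdRankTwo

/-!
For odd `p`, failure of `p`-stability produces a section `Qd(p)`.
-/

set_option autoImplicit false
set_option linter.style.haveILetI false
set_option linter.unusedSectionVars false

namespace CfsgLib.Fusion.QdSections

open Matrix CfsgLib.Solvable CfsgLib.Solvable.Basic CfsgLib.Fusion.QuadStable CfsgLib.Perm.SL2Unipotent
open scoped MatrixGroups commutatorElement IsMulCommutative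

universe v w

/-- A group has `Qd(p)` as a section. -/
def HasQdSection (p : ℕ) (X : Type*) [Group X] : Prop :=
  ∃ (L : Subgroup X) (f : L →* ↥(Cfsg.qd p)), Function.Surjective f

theorem HasQdSection.of_surjective {p : ℕ} {X Y : Type*} [Group X] [Group Y] (φ : X →* Y)
    (hφ : Function.Surjective φ) (h : HasQdSection p Y) : HasQdSection p X := by
  obtain ⟨L, f, hf⟩ := h
  refine ⟨L.comap φ, f.comp (φ.subgroupComap L), hf.comp ?_⟩
  rintro ⟨y, hy⟩
  obtain ⟨x, rfl⟩ := hφ y
  exact ⟨⟨x, hy⟩, rfl⟩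

theorem HasQdSection.of_subgroup {p : ℕ} {X : Type*} [Group X] (L : Subgroup X) (h : HasQdSection p L) :
    HasQdSection p X := by
  obtain ⟨L', f, hf⟩ := h
  let e := L'.equivMapOfInjective L.subtype L.subtype_injective
  exact ⟨L'.map L.subtype, f.comp e.symm.toMonoidHom, hf.comp e.symm.surjective⟩

theorem hasQdSection_iff {p : ℕ} {X : Type v} [Group X] :
    HasQdSection p X ↔ Cfsg.Involves ↥(Cfsg.qd p) X := by
  constructor
  · rintro ⟨L, f, hf⟩
    have e : (f.ker.map L.subtype).subgroupOf L = f.ker :=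
      Subgroup.comap_map_eq_self_of_injective L.subtype_injective f.ker
    have hn : ((f.ker.map L.subtype).subgroupOf L).Normal := by rw [e]; infer_instance
    exact ⟨L, f.ker.map L.subtype, hn,
      ⟨(QuotientGroup.quotientMulEquivOfEq e).trans (QuotientGroup.quotientKerEquivOfSurjective f hf)⟩⟩
  · rintro ⟨K, R, hn, ⟨e⟩⟩
    haveI := hn
    exact ⟨K, e.toMonoidHom.comp (QuotientGroup.mk' _),
      e.surjective.comp (QuotientGroup.mk'_surjective _)⟩

variable {p : ℕ} [Fact p.Prime]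

/-! ### From a natural module to `Qd(p)` -/

/-- The affine matrix with linear part `A` and translation part `a`. -/
def aff (A : SL(2, ZMod p)) (a : Fin 2 → ZMod p) : Matrix.SpecialLinearGroup (Fin 3) (ZMod p) :=
  ⟨!![A.1 0 0, A.1 0 1, a 0; A.1 1 0, A.1 1 1, a 1; 0, 0, 1], by
    have h := Dickson.sl_det A
    simp [Matrix.det_fin_three]
    linear_combination h⟩

theorem aff_val (A : SL(2, ZMod p)) (a : Fin 2 → ZMod p) :
    (aff A a).1 = !![A.1 0 0, A.1 0 1, a 0; A.1 1 0, A.1 1 1, a 1; 0, 0, 1] := rfl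

theorem aff_mem (A : SL(2, ZMod p)) (a : Fin 2 → ZMod p) : aff A a ∈ Cfsg.qd p :=
  Subgroup.subset_closure ⟨by simp [aff_val], by simp [aff_val], by simp [aff_val]⟩

theorem aff_mul (A B : SL(2, ZMod p)) (a b : Fin 2 → ZMod p) :
    aff A a * aff B b = aff (A * B) (a + A.1 *ᵥ b) := by
  apply Subtype.ext
  rw [Matrix.SpecialLinearGroup.coe_mul, aff_val, aff_val, aff_val]
  ext i j
  fin_cases i <;> fin_cases j <;>
    simp [Matrix.mul_apply, Fin.sum_univ_three, Fin.sum_univ_two, Dickson.sl_mul_apply, Matrix.mulVec,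
      dotProduct] <;> ring

set_option maxHeartbeats 800000 in
/-- A group acting as `SL(2, p)` on a natural module inside it has a section `Qd(p)`. -/
theorem hasQdSection_of_natural (hp : p ≠ 2) {G : Type v} [Group G] [Finite G]
    (σ : G →* SL(2, ZMod p)) (hσ : Function.Surjective σ) (ι : Multiplicative (Fin 2 → ZMod p) →* G)
    (hι : Function.Injective ι)
    (hconj : ∀ (g : G) (a : Fin 2 → ZMod p),
      g * ι (Multiplicative.ofAdd a) * g⁻¹ = ι (Multiplicative.ofAdd ((σ g).1 *ᵥ a))) :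
    HasQdSection p G := by
  haveI : Fact (Nat.Prime 2) := ⟨Nat.prime_two⟩
  set W := ι.range with hW
  haveI hWn : W.Normal := ⟨by
    rintro _ ⟨a, rfl⟩ g
    exact ⟨Multiplicative.ofAdd ((σ g).1 *ᵥ a.toAdd), (hconj g a.toAdd).symm⟩⟩
  have hσι : ∀ a, σ (ι a) = 1 := by
    intro a
    have h : ∀ b : Fin 2 → ZMod p, (σ (ι a)).1 *ᵥ b = b := fun b => by
      have h1 := hconj (ι a) b
      rw [← map_mul, mul_comm, map_mul, mul_inv_cancel_right] at h1
      exact (Multiplicative.ofAdd.injective (hι h1)).symm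
    exact Subtype.ext (Matrix.ext_iff_mulVec.mpr fun b => by
      rw [h b, Matrix.SpecialLinearGroup.coe_one, Matrix.one_mulVec])
  -- a subgroup covering `SL(2, p)` and avoiding the module
  set C : Subgroup SL(2, ZMod p) := Subgroup.zpowers QuadSL2.negI with hC
  haveI hCn : C.Normal := ⟨fun n hn g => by
    obtain ⟨j, rfl⟩ := hn
    have : g * QuadSL2.negI ^ j * g⁻¹ = QuadSL2.negI ^ j := by
      rw [mul_inv_eq_iff_eq_mul]
      exact ((show Commute g QuadSL2.negI from QuadSL2.negI_comm g).zpow_right j).eq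
    simp only [this]
    exact ⟨j, rfl⟩⟩
  set N := C.comap σ with hN
  haveI : N.Normal := inferInstance
  obtain ⟨S⟩ : Nonempty (Sylow 2 N) := inferInstance
  set S' := (S : Subgroup N).map N.subtype with hS'
  set M := Subgroup.normalizer (S' : Set G) with hM
  have hMN : M ⊔ N = ⊤ := Sylow.normalizer_sup_eq_top S
  let σN : N →* C := σ.subgroupComap C
  have hσN : Function.Surjective σN := fun y => by
    obtain ⟨x, hx⟩ := hσ y
    exact ⟨⟨x, by rw [hN, Subgroup.mem_comap, hx]; exact y.2⟩, Subtype.ext hx⟩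
  have hC2 : IsPGroup 2 C := fun x => ⟨1, by
    obtain ⟨j, hj⟩ := x.2
    apply Subtype.ext
    rw [Subgroup.coe_pow, ← hj, pow_one]
    show (QuadSL2.negI ^ j) ^ 2 = 1
    rw [← zpow_natCast, ← _root_.zpow_mul, mul_comm, _root_.zpow_mul, zpow_natCast,
      show (QuadSL2.negI : SL(2, ZMod p)) ^ 2 = 1 from Subtype.ext (by simp [sq, QuadSL2.negI_val]), _root_.one_zpow]⟩
  have hNS : ∀ y ∈ N, ∃ s ∈ S', σ s = σ y := by
    intro y hy
    have hmax := (S.mapSurjective hσN).3 (hC2.of_equiv Subgroup.topEquiv.symm) le_top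
    have : σN ⟨y, hy⟩ ∈ ((S.mapSurjective hσN : Sylow 2 C) : Subgroup C) := hmax ▸ Subgroup.mem_top _
    rw [Sylow.coe_mapSurjective] at this
    obtain ⟨s, hs, hse⟩ := this
    exact ⟨s, Subgroup.mem_map_of_mem N.subtype hs, congrArg Subtype.val hse⟩
  have hcover : ∀ A : SL(2, ZMod p), ∃ m ∈ M, σ m = A := by
    intro A
    obtain ⟨g, rfl⟩ := hσ A
    have hg : g ∈ M ⊔ N := hMN ▸ Subgroup.mem_top g
    obtain ⟨m, hm, y, hy, rfl⟩ := Subgroup.mem_sup_of_normal_right.mp hg
    obtain ⟨s, hs, hse⟩ := hNS y hy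
    exact ⟨m * s, M.mul_mem hm (Subgroup.le_normalizer hs), by rw [map_mul, map_mul, hse]⟩
  have h2 : (2 : ZMod p) ≠ 0 := Dickson.two_ne hp
  have hMW : ∀ a, ι a ∈ M → a = 1 := by
    intro a ha
    obtain ⟨y, hy⟩ := hσ QuadSL2.negI
    obtain ⟨s, hs, hse⟩ := hNS y (by rw [hN, Subgroup.mem_comap, hy]; exact Subgroup.mem_zpowers _)
    have h1 : s * ι a * s⁻¹ * (ι a)⁻¹ ∈ S' := by
      rw [show s * ι a * s⁻¹ * (ι a)⁻¹ = s * (ι a * s⁻¹ * (ι a)⁻¹) by group]
      exact S'.mul_mem hs ((Subgroup.mem_normalizer_iff.mp ha _).mp (S'.inv_mem hs))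
    have hval : s * ι a * s⁻¹ * (ι a)⁻¹ = ι (Multiplicative.ofAdd ((σ s).1 *ᵥ a.toAdd) * a⁻¹) := by
      rw [map_mul, map_inv, ← hconj]; rfl
    rw [hval] at h1
    obtain ⟨b, hb⟩ : ∃ b, b = Multiplicative.ofAdd ((σ s).1 *ᵥ a.toAdd) * a⁻¹ := ⟨_, rfl⟩
    rw [← hb] at h1
    have hbp : b ^ p = 1 := by
      apply Multiplicative.toAdd.injective
      rw [toAdd_pow]; ext i; simp
    obtain ⟨j, hj⟩ := (S.isPGroup'.map N.subtype) ⟨ι b, h1⟩
    have hb2 : b ^ 2 ^ j = 1 := hι (by rw [map_pow, map_one]; exact congrArg Subtype.val hj)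
    have hb1 : b = 1 := orderOf_eq_one_iff.mp (Nat.eq_one_of_dvd_coprimes
      (((Nat.coprime_primes (Fact.out : p.Prime) Nat.prime_two).mpr hp).pow_right j)
      (orderOf_dvd_of_pow_eq_one hbp) (orderOf_dvd_of_pow_eq_one hb2))
    rw [hb1, hse, hy] at hb
    have hb' : (QuadSL2.negI : SL(2, ZMod p)).1 *ᵥ a.toAdd = a.toAdd :=
      Multiplicative.ofAdd.injective ((mul_inv_eq_one.mp hb.symm).trans rfl)
    apply Multiplicative.toAdd.injective
    funext i
    have hi := congrFun hb' i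
    rw [QuadSL2.negI_val, Matrix.neg_mulVec, Matrix.one_mulVec, Pi.neg_apply] at hi
    exact (mul_eq_zero.mp (show (2 : ZMod p) * a.toAdd i = 0 by linear_combination -hi)).resolve_left h2
  -- coordinates on `W ⊔ M`
  set X := W ⊔ M with hX
  have hdec : ∀ x : X, ∃ a : Fin 2 → ZMod p, (ι (Multiplicative.ofAdd a))⁻¹ * (x : G) ∈ M := by
    intro x
    obtain ⟨_, ⟨a, rfl⟩, m, hm, he⟩ := Subgroup.mem_sup_of_normal_left.mp x.2
    exact ⟨a.toAdd, by rw [ofAdd_toAdd, ← he, inv_mul_cancel_left]; exact hm⟩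
  choose co hco using hdec
  have huniq : ∀ (x : X) (a : Fin 2 → ZMod p), (ι (Multiplicative.ofAdd a))⁻¹ * (x : G) ∈ M → a = co x := by
    intro x a h
    have h1 := M.mul_mem h (M.inv_mem (hco x))
    rw [_root_.mul_inv_rev, inv_inv, mul_assoc, mul_inv_cancel_left, ← map_inv, ← map_mul] at h1
    exact Multiplicative.ofAdd.injective (inv_mul_eq_one.mp (hMW _ h1))
  have hcomul : ∀ x y : X, co (x * y) = co x + (σ x).1 *ᵥ co y := by
    intro x y
    refine (huniq _ _ ?_).symm
    set m := (ι (Multiplicative.ofAdd (co x)))⁻¹ * (x : G) with hm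
    have hσm : σ m = σ x := by rw [hm, map_mul, map_inv, hσι, inv_one, one_mul]
    have hy := M.mul_mem (hco x) (hco y)
    convert hy using 1
    rw [← hm, ofAdd_add, map_mul, _root_.mul_inv_rev, ← hσm, ← hconj, Subgroup.coe_mul, hm]
    group
  let Ψ : X →* ↥(Cfsg.qd p) := MonoidHom.mk' (fun x => ⟨aff (σ x) (co x), aff_mem _ _⟩) (fun x y =>
    Subtype.ext (by rw [Subgroup.coe_mul, Subgroup.coe_mul, aff_mul, map_mul, hcomul]))
  refine ⟨X, Ψ, ?_⟩
  have hle : Cfsg.qd p ≤ Ψ.range.map (Cfsg.qd p).subtype := by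
    refine (Subgroup.closure_le _).mpr ?_
    rintro T ⟨t0, t1, t2⟩
    have hdet : (!![T.1 0 0, T.1 0 1; T.1 1 0, T.1 1 1]).det = 1 := by
      have h := T.2
      rw [Matrix.det_fin_three, t0, t1, t2] at h
      rw [Matrix.det_fin_two_of]
      linear_combination h
    obtain ⟨m, hm, hmA⟩ := hcover ⟨_, hdet⟩
    let a : Fin 2 → ZMod p := ![T.1 0 2, T.1 1 2]
    let x : X := ⟨ι (Multiplicative.ofAdd a) * m, Subgroup.mul_mem_sup ⟨_, rfl⟩ hm⟩
    have hx : co x = a := (huniq x a (by show _ * (ι _ * m) ∈ M; rw [inv_mul_cancel_left]; exact hm)).symm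
    refine ⟨Ψ x, ⟨x, rfl⟩, ?_⟩
    show aff (σ (ι (Multiplicative.ofAdd a) * m)) (co x) = T
    rw [map_mul, hσι, one_mul, hmA, hx]
    apply Subtype.ext
    refine (aff_val _ _).trans ?_
    ext i j
    fin_cases i <;> fin_cases j <;> simp [a, t0, t1, t2]
  intro q
  obtain ⟨q', hq', he⟩ := hle q.2
  obtain ⟨x, rfl⟩ := hq'
  exact ⟨x, Subtype.ext he⟩

/-! ### A natural factor from two quadratic elements -/

/-- Some subgroup acts as `SL(2, p)` on a natural factor of the module. -/
def NatFactor (p : ℕ) {H : Type w} [Group H] {V : Type v} [AddCommGroup V]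
    (ρ : H →* (AddMonoid.End V)ˣ) : Prop :=
  ∃ (L : Subgroup H) (σ : L →* SL(2, ZMod p)) (U : AddSubgroup V) (ι : (Fin 2 → ZMod p) →+ V),
    Function.Surjective σ ∧ (∀ l : L, ∀ u ∈ U, (ρ l : AddMonoid.End V) u ∈ U) ∧
      (∀ z, ι z ∈ U → z = 0) ∧
      ∀ (l : L) (z : Fin 2 → ZMod p), (ρ l : AddMonoid.End V) (ι z) - ι ((σ l).1 *ᵥ z) ∈ U

/-- A linear map determined by the images of the basis. -/
theorem exists_lin {V : Type v} [AddCommGroup V] (hV : ∀ u : V, p • u = 0) (v w : V) :
    ∃ ι : (Fin 2 → ZMod p) →+ V, ∀ z, ι z = (z 0).val • v + (z 1).val • w := by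
  have hlin : ∀ (u : V) (a b : ZMod p), (a + b).val • u = a.val • u + b.val • u := fun u a b => by
    rw [ZMod.val_add, ← add_nsmul]
    conv_rhs => rw [← Nat.mod_add_div (a.val + b.val) p, add_nsmul, mul_nsmul, hV, nsmul_zero, add_zero]
  exact ⟨AddMonoidHom.mk' (fun z => (z 0).val • v + (z 1).val • w) (fun z z' => by
    simp only [Pi.add_apply, hlin]; abel), fun z => rfl⟩

theorem natFactor_irreducible (hp : p ≠ 2) {H : Type w} [Group H] [Finite H] {V : Type v} [AddCommGroup V]
    [Finite V] (hV : ∀ u : V, p • u = 0) (ρ : H →* (AddMonoid.End V)ˣ) (a b : H)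
    (hgen : Subgroup.closure ({a, b} : Set H) = ⊤) (ha : IsQuad ρ a) (hb : IsQuad ρ b)
    (hne : ¬ (ρ a = 1 ∧ ρ b = 1))
    (hirr : ∀ W : AddSubgroup V, (∀ w ∈ W, (ρ a : AddMonoid.End V) w ∈ W) →
      (∀ w ∈ W, (ρ b : AddMonoid.End V) w ∈ W) → W = ⊥ ∨ W = ⊤) :
    NatFactor p ρ := by
  obtain ⟨K, _, _, _, k, f, hk, hf, hfx, hfy, Φ, hΦ, hΦeq⟩ :=
    QuadSL2.exists_sl2_module hV (ρ a) (ρ b) ha hb hne hirr
  have hmem : ∀ h, ρ h ∈ Subgroup.closure ({ρ a, ρ b} : Set (AddMonoid.End V)ˣ) := fun h => by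
    have h1 : h ∈ Subgroup.closure ({a, b} : Set H) := hgen ▸ Subgroup.mem_top h
    have := Subgroup.mem_map_of_mem ρ h1
    rwa [MonoidHom.map_closure, Set.image_insert_eq, Set.image_singleton] at this
  set φ : H →* SL(2, K) := f.comp (ρ.codRestrict _ hmem) with hφ
  obtain ⟨ψ, hψ, hle⟩ := Dickson.exists_slp hp hk (X := φ.range) ⟨a, hfx⟩ ⟨b, hfy⟩
  set L := ψ.range.comap φ with hL
  set σ : L →* SL(2, ZMod p) := (MonoidHom.ofInjective hψ).symm.toMonoidHom.comp (φ.subgroupComap ψ.range)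
    with hσdef
  have hσ : Function.Surjective σ := (MonoidHom.ofInjective hψ).symm.surjective.comp (by
    rintro ⟨y, hy⟩
    obtain ⟨x, rfl⟩ := hle hy
    exact ⟨⟨x, hy⟩, rfl⟩)
  have hψσ : ∀ l : L, ψ (σ l) = φ l := fun l => by
    have h := (MonoidHom.ofInjective hψ).apply_symm_apply ((φ.subgroupComap ψ.range) l)
    exact congrArg Subtype.val h
  -- the two unipotent generators
  set X1 := (ψ (up 1)).1 with hX1
  set Y1 := (ψ (low 1)).1 with hY1
  obtain ⟨A, hA⟩ : ∃ A, A = X1 - 1 := ⟨_, rfl⟩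
  obtain ⟨B, hB⟩ : ∃ B, B = Y1 - 1 := ⟨_, rfl⟩
  have hpow : ∀ M : SL(2, ZMod p), M ^ p = 1 → ((ψ M).1 - 1) * ((ψ M).1 - 1) = 0 := by
    intro M hM
    have ht := Dickson.trace_eq_two (p := p) (u := ψ M) ⟨1, by rw [pow_one, ← map_pow, hM, map_one]⟩
    have hsq := CfsgLib.Classical.sl2_sq (ψ M)
    rw [Matrix.trace_fin_two, ht] at hsq
    rw [sub_mul, mul_sub, mul_one, one_mul, hsq, two_smul]
    abel
  have hAA : A * A = 0 := by rw [hA]; exact hpow _ (by rw [QuadSL2.up_pow, CharP.cast_eq_zero, zero_mul, up_zero])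
  have hBB : B * B = 0 := by rw [hB]; exact hpow _ (by rw [Dickson.low_pow, CharP.cast_eq_zero, zero_mul, low_zero])
  set s : SL(2, ZMod p) := up 1 * low (-1) * up 1 with hs
  have hss : s * s = QuadSL2.negI := by
    rw [hs]
    apply sl_ext <;> simp [Dickson.sl_mul_apply, up_val, low_val, QuadSL2.negI_val]
  have hsx : s * up 1 = low (-1) * s := by
    rw [hs]
    apply sl_ext <;> simp [Dickson.sl_mul_apply, up_val, low_val]
  have h2p : (2 : ZMod p) ≠ 0 := Dickson.two_ne hp
  have hneg : (ψ QuadSL2.negI).1 = -1 := by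
    refine QuadSL2.val_eq_neg_one (p := p) hp (fun e => ?_) ?_
    · have h00 := congrArg (fun g : SL(2, ZMod p) => g.1 0 0) (hψ (e.trans (map_one ψ).symm))
      simp [QuadSL2.negI_val] at h00
      exact h2p (by linear_combination -h00)
    · rw [← map_mul, show (QuadSL2.negI : SL(2, ZMod p)) * QuadSL2.negI = 1 from
        Subtype.ext (by simp [QuadSL2.negI_val]), map_one]
  have hYinv : (ψ (low (-1))).1 = 1 - B := by
    have h1 : (ψ (low (-1))).1 * (1 + B) = 1 := by
      rw [show 1 + B = Y1 by rw [hB]; abel, hY1, ← Matrix.SpecialLinearGroup.coe_mul, ← map_mul, low_mul,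
        neg_add_cancel, low_zero, map_one, Matrix.SpecialLinearGroup.coe_one]
    calc (ψ (low (-1))).1 = (ψ (low (-1))).1 * ((1 + B) * (1 - B)) := by
          rw [show (1 + B) * (1 - B) = 1 - B * B by noncomm_ring, hBB, sub_zero, mul_one]
      _ = 1 - B := by rw [← mul_assoc, h1, one_mul]
  have hXe : X1 = 1 + A := by rw [hA]; abel
  have hYe : Y1 = 1 + B := by rw [hB]; abel
  -- a fixed vector
  obtain ⟨v0, hv0, hAv⟩ : ∃ v0 : Fin 2 → K, v0 ≠ 0 ∧ A *ᵥ v0 = 0 := by
    by_cases hA0 : A *ᵥ ![1, 0] = 0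
    · exact ⟨_, fun e => one_ne_zero (congrFun e 0), hA0⟩
    · exact ⟨_, hA0, by rw [Matrix.mulVec_mulVec, hAA, Matrix.zero_mulVec]⟩
  set w0 := B *ᵥ v0 with hw0
  have hBw : B *ᵥ w0 = 0 := by rw [hw0, Matrix.mulVec_mulVec, hBB, Matrix.zero_mulVec]
  have hAw : A *ᵥ w0 = v0 := by
    set u := v0 - A *ᵥ w0 with hu
    have hs0 : (ψ s).1 *ᵥ v0 = v0 - w0 - A *ᵥ w0 := by
      rw [hs, map_mul, map_mul, Matrix.SpecialLinearGroup.coe_mul, Matrix.SpecialLinearGroup.coe_mul, ← hX1,
        hYinv, hXe, ← Matrix.mulVec_mulVec, ← Matrix.mulVec_mulVec]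
      simp only [Matrix.add_mulVec, Matrix.sub_mulVec, Matrix.one_mulVec, hAv, add_zero, ← hw0, Matrix.mulVec_sub]
      abel
    have hfix := congrArg (fun g => (ψ g).1 *ᵥ v0) hsx
    simp only [map_mul, Matrix.SpecialLinearGroup.coe_mul] at hfix
    rw [← Matrix.mulVec_mulVec, ← Matrix.mulVec_mulVec, ← hX1, hXe, Matrix.add_mulVec, Matrix.one_mulVec, hAv,
      add_zero, hYinv, hs0, Matrix.sub_mulVec, Matrix.one_mulVec] at hfix
    have hBs : B *ᵥ (v0 - w0 - A *ᵥ w0) = 0 := sub_eq_self.mp hfix.symm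
    have hBu : B *ᵥ u = 0 := by
      rw [sub_right_comm, Matrix.mulVec_sub, hBw, sub_zero] at hBs
      exact hBs
    have hAu : A *ᵥ u = 0 := by
      rw [hu, Matrix.mulVec_sub, hAv, Matrix.mulVec_mulVec, hAA, Matrix.zero_mulVec, sub_zero]
    have hsu : (ψ s).1 *ᵥ u = u := by
      rw [hs, map_mul, map_mul, Matrix.SpecialLinearGroup.coe_mul, Matrix.SpecialLinearGroup.coe_mul, ← hX1,
        hYinv, hXe, ← Matrix.mulVec_mulVec, ← Matrix.mulVec_mulVec]
      simp only [Matrix.add_mulVec, Matrix.sub_mulVec, Matrix.one_mulVec, hAu, hBu, add_zero, sub_zero]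
    have hnegu : -u = u := by
      have h := congrArg (fun g => (ψ g).1 *ᵥ u) hss
      simp only [hneg, Matrix.neg_mulVec, Matrix.one_mulVec, map_mul, Matrix.SpecialLinearGroup.coe_mul] at h
      rw [← Matrix.mulVec_mulVec, hsu, hsu] at h
      exact h.symm
    refine (sub_eq_zero.mp ?_).symm
    rw [← hu]
    funext i
    exact (mul_eq_zero.mp (show (2 : K) * u i = 0 by
      have := congrFun hnegu i
      rw [Pi.neg_apply] at this
      linear_combination -this)).resolve_left (Dickson.two_ne hp)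
  -- the prime field span
  set c := ZMod.castHom (dvd_refl p) K with hc
  let ι0 : (Fin 2 → ZMod p) →+ (Fin 2 → K) := AddMonoidHom.mk' (fun z => c (z 0) • v0 + c (z 1) • w0)
    (fun z z' => by simp only [Pi.add_apply, map_add, add_smul]; abel)
  have hι0 : ∀ z, ι0 z = c (z 0) • v0 + c (z 1) • w0 := fun z => rfl
  let E : Subgroup SL(2, ZMod p) :=
    { carrier := {M | ∀ z, (ψ M).1 *ᵥ ι0 z = ι0 (M.1 *ᵥ z)}
      one_mem' := fun z => by simp
      mul_mem' := fun {M N} hM hN z => by
        rw [map_mul, Matrix.SpecialLinearGroup.coe_mul, Matrix.SpecialLinearGroup.coe_mul, ← Matrix.mulVec_mulVec,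
          hN z, hM _, Matrix.mulVec_mulVec]
      inv_mem' := fun {M} hM z => by
        have h := congrArg (fun t => (ψ M⁻¹).1 *ᵥ t) (hM ((M⁻¹).1 *ᵥ z))
        simp only [Matrix.mulVec_mulVec, ← Matrix.SpecialLinearGroup.coe_mul, ← map_mul, inv_mul_cancel, map_one,
          mul_inv_cancel, Matrix.SpecialLinearGroup.coe_one, Matrix.one_mulVec] at h
        exact h.symm }
  have hup : up (1 : ZMod p) ∈ E := fun z => by
    rw [← hX1, hXe, Matrix.add_mulVec, Matrix.one_mulVec, hι0, hι0, Matrix.mulVec_add, Matrix.mulVec_smul,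
      Matrix.mulVec_smul, hAv, hAw]
    simp [up_val, Matrix.mulVec, dotProduct, Fin.sum_univ_two, add_smul]
    abel
  have hlow : low (1 : ZMod p) ∈ E := fun z => by
    rw [← hY1, hYe, Matrix.add_mulVec, Matrix.one_mulVec, hι0, hι0, Matrix.mulVec_add, Matrix.mulVec_smul,
      Matrix.mulVec_smul, ← hw0, hBw]
    simp [low_val, Matrix.mulVec, dotProduct, Fin.sum_univ_two, add_smul]
    abel
  have hE : (⊤ : Subgroup SL(2, ZMod p)) ≤ E := by
    refine le_of_eq (CfsgLib.Classical.sl2_transvections_generate E (fun d => ?_) (fun d => ?_)).symm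
    · have := pow_mem hup d.val
      rw [QuadSL2.up_pow, mul_one, ZMod.natCast_zmod_val] at this
      convert this using 1
      apply Subtype.ext; ext i j
      fin_cases i <;> fin_cases j <;> simp [up_val, Matrix.SpecialLinearGroup.transvection, Matrix.transvection]
    · have := pow_mem hlow d.val
      rw [Dickson.low_pow, mul_one, ZMod.natCast_zmod_val] at this
      convert this using 1
      apply Subtype.ext; ext i j
      fin_cases i <;> fin_cases j <;> simp [low_val, Matrix.SpecialLinearGroup.transvection, Matrix.transvection]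
  refine ⟨L, σ, ⊥, Φ.comp ι0, hσ, fun l u hu => ?_, fun z hz => ?_, fun l z => ?_⟩
  · rw [AddSubgroup.mem_bot] at hu ⊢
    rw [hu, map_zero]
  · rw [AddSubgroup.mem_bot, AddMonoidHom.comp_apply, ← map_zero Φ] at hz
    have h0 := hΦ.injective hz
    have h1 := congrArg (fun t => A *ᵥ t) h0
    simp only [hι0, Matrix.mulVec_add, Matrix.mulVec_smul, hAv, hAw, smul_zero, zero_add, Matrix.mulVec_zero] at h1
    have hz1 : z 1 = 0 := c.injective (((smul_eq_zero.mp h1).resolve_right hv0).trans (map_zero c).symm)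
    rw [hι0, hz1, map_zero, zero_smul, add_zero] at h0
    have hz0 : z 0 = 0 := c.injective (((smul_eq_zero.mp h0).resolve_right hv0).trans (map_zero c).symm)
    funext i
    fin_cases i
    · exact hz0
    · exact hz1
  · rw [AddSubgroup.mem_bot, sub_eq_zero, AddMonoidHom.comp_apply, AddMonoidHom.comp_apply,
      ← hE (Subgroup.mem_top (σ l)) z, hψσ]
    exact (hΦeq ⟨ρ l, hmem l⟩ (ι0 z)).symm

theorem natFactor_of_pair (hp : p ≠ 2) {H : Type w} [Group H] [Finite H] (a b : H)
    (hgen : Subgroup.closure ({a, b} : Set H) = ⊤) :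
    ∀ (n : ℕ) (V : Type v) [AddCommGroup V] [Finite V], Nat.card V = n → (∀ u : V, p • u = 0) →
    ∀ ρ : H →* (AddMonoid.End V)ˣ, IsQuad ρ a → IsQuad ρ b →
      ∀ c : H, (orderOf c).Coprime p → ρ c ≠ 1 → NatFactor p ρ := by
  intro n
  induction n using Nat.strong_induction_on with
  | _ n ih =>
  intro V _ _ hn hV ρ ha hb c hcp hρc
  by_cases hirr : ∀ W : AddSubgroup V, (∀ w ∈ W, (ρ a : AddMonoid.End V) w ∈ W) →
      (∀ w ∈ W, (ρ b : AddMonoid.End V) w ∈ W) → W = ⊥ ∨ W = ⊤
  · refine natFactor_irreducible hp hV ρ a b hgen ha hb (fun h => hρc ?_) hirr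
    have h1 : c ∈ Subgroup.closure ({a, b} : Set H) := hgen ▸ Subgroup.mem_top c
    have h2 : Subgroup.closure ({a, b} : Set H) ≤ ρ.ker := (Subgroup.closure_le _).mpr (by
      rintro g (rfl | rfl)
      · exact h.1
      · exact h.2)
    exact h2 h1
  push Not at hirr
  obtain ⟨W, hWa, hWb, hW0, hWt⟩ := hirr
  have hclosed : ∀ g : H, ∀ u ∈ W, (ρ g : AddMonoid.End V) u ∈ W := by
    let S : Submonoid H :=
      { carrier := {g | ∀ u ∈ W, (ρ g : AddMonoid.End V) u ∈ W}
        one_mem' := fun u hu => by rw [map_one]; exact hu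
        mul_mem' := fun {g g'} h h' u hu => by rw [map_mul, Units.val_mul]; exact h _ (h' u hu) }
    have hS : Submonoid.closure ({a, b} : Set H) ≤ S := Submonoid.closure_le.mpr (by
      rintro g (rfl | rfl)
      · exact hWa
      · exact hWb)
    intro g
    have hg : g ∈ Subgroup.closure ({a, b} : Set H) := hgen ▸ Subgroup.mem_top g
    rw [← Subgroup.mem_toSubmonoid, Subgroup.closure_toSubmonoid_of_finite] at hg
    exact hS hg
  let ρW₀ : H →* AddMonoid.End W :=
    { toFun := fun g => AddMonoidHom.codRestrict ((ρ g : V →+ V).comp W.subtype) W (fun u => hclosed g u u.2)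
      map_one' := by
        refine AddMonoidHom.ext fun u => Subtype.ext ?_
        show (ρ (1 : H) : AddMonoid.End V) u = u
        rw [map_one]; rfl
      map_mul' := fun g g' => by
        refine AddMonoidHom.ext fun u => Subtype.ext ?_
        show (ρ (g * g') : AddMonoid.End V) u = (ρ g : AddMonoid.End V) ((ρ g' : AddMonoid.End V) u)
        rw [map_mul]; rfl }
  let ρQ₀ : H →* AddMonoid.End (V ⧸ W) :=
    { toFun := fun g => QuotientAddGroup.map W W (ρ g : AddMonoid.End V) (fun u hu => hclosed g u hu)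
      map_one' := by
        refine AddMonoidHom.ext fun u => ?_
        induction u using QuotientAddGroup.induction_on with
        | _ u =>
          show QuotientAddGroup.mk ((ρ (1 : H) : AddMonoid.End V) u) = _
          rw [map_one]; rfl
      map_mul' := fun g g' => by
        refine AddMonoidHom.ext fun u => ?_
        induction u using QuotientAddGroup.induction_on with
        | _ u =>
          show QuotientAddGroup.mk ((ρ (g * g') : AddMonoid.End V) u) = _
          rw [map_mul]; rfl }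
  have hcard := W.card_eq_card_quotient_mul_card_addSubgroup
  have hW2 : 1 < Nat.card W := by
    haveI : Nontrivial W := (AddSubgroup.nontrivial_iff_ne_bot W).mpr hW0
    exact Finite.one_lt_card
  have hQ2 : 1 < Nat.card (V ⧸ W) := by
    haveI : Nontrivial (V ⧸ W) := QuotientAddGroup.nontrivial_iff.mpr hWt
    exact Finite.one_lt_card
  by_cases hcW : ρW₀ c = 1
  · by_cases hcQ : ρQ₀ c = 1
    · exfalso
      refine hρc (orderOf_eq_one_iff.mp (Nat.eq_one_of_dvd_coprimes hcp (orderOf_map_dvd ρ c) ?_))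
      refine orderOf_dvd_of_pow_eq_one (Units.ext (AddMonoidHom.ext fun u => ?_))
      rw [Units.val_pow_eq_pow_val]
      show ((ρ c : AddMonoid.End V) ^ p) u = u
      have h1 : ∀ z ∈ W, (ρ c : AddMonoid.End V) z = z := fun z hz =>
        congrArg Subtype.val (DFunLike.congr_fun hcW (⟨z, hz⟩ : W))
      set d := (ρ c : AddMonoid.End V) u - u with hd
      have h2 : d ∈ W := (QuotientAddGroup.eq_iff_sub_mem).mp (DFunLike.congr_fun hcQ (QuotientAddGroup.mk u))
      have hpow : ∀ i : ℕ, ((ρ c : AddMonoid.End V) ^ i) u = u + i • d := by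
        intro i
        induction i with
        | zero => simp
        | succ i ih =>
          rw [pow_succ', AddMonoid.End.coe_mul, Function.comp_apply, ih, map_add, map_nsmul, h1 d h2,
            succ_nsmul, show (ρ c : AddMonoid.End V) u = u + d by rw [hd]; abel]
          abel
      rw [hpow, hV, add_zero]
    · have hQp : ∀ u : V ⧸ W, p • u = 0 := fun u => by
        induction u using QuotientAddGroup.induction_on with
        | _ u => rw [← QuotientAddGroup.mk_nsmul, hV, QuotientAddGroup.mk_zero]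
      obtain ⟨L, σ, U, ι, hσ, hU, hinj, heq⟩ := ih (Nat.card (V ⧸ W)) (by rw [← hn, hcard]; nlinarith)
        (V ⧸ W) rfl hQp ρQ₀.toHomUnits
        (fun u => by
          induction u using QuotientAddGroup.induction_on with
          | _ u => exact congrArg QuotientAddGroup.mk (ha u))
        (fun u => by
          induction u using QuotientAddGroup.induction_on with
          | _ u => exact congrArg QuotientAddGroup.mk (hb u))
        c hcp (fun e => hcQ (congrArg Units.val e))
      obtain ⟨v, hv⟩ := QuotientAddGroup.mk'_surjective W (ι ![1, 0])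
      obtain ⟨w, hw⟩ := QuotientAddGroup.mk'_surjective W (ι ![0, 1])
      obtain ⟨ι', hι'⟩ := exists_lin hV v w
      have hlift : ∀ z, QuotientAddGroup.mk' W (ι' z) = ι z := by
        intro z
        rw [hι', map_add, map_nsmul, map_nsmul, hv, hw, ← map_nsmul, ← map_nsmul, ← map_add]
        congr 1
        funext i
        fin_cases i <;> simp
      refine ⟨L, σ, U.comap (QuotientAddGroup.mk' W), ι', hσ, fun l u hu => ?_,
        fun z hz => hinj z (by rw [← hlift]; exact hz), fun l z => ?_⟩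
      · exact hU l _ hu
      · show QuotientAddGroup.mk' W _ ∈ U
        rw [map_sub, hlift]
        have h := heq l z
        rw [← hlift z] at h
        exact h
  · obtain ⟨L, σ, U, ι, hσ, hU, hinj, heq⟩ := ih (Nat.card W) (by rw [← hn, hcard]; nlinarith) W rfl
      (fun u => Subtype.ext (hV u)) ρW₀.toHomUnits (fun u => Subtype.ext (ha u)) (fun u => Subtype.ext (hb u))
      c hcp (fun e => hcW (congrArg Units.val e))
    refine ⟨L, σ, U.map W.subtype, W.subtype.comp ι, hσ, ?_, fun z hz => ?_, fun l z => ?_⟩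
    · rintro l _ ⟨u, hu, rfl⟩
      exact ⟨_, hU l u hu, rfl⟩
    · obtain ⟨u, hu, he⟩ := hz
      exact hinj z (Subtype.ext he ▸ hu)
    · exact ⟨_, heq l z, rfl⟩

theorem natFactor_of_not_mem_pCore (hp : p ≠ 2) {H : Type w} [Group H] [Finite H] {W : Type v}
    [AddCommGroup W] [Finite W] (hW : ∀ u : W, p • u = 0) (ρ : H →* (AddMonoid.End W)ˣ)
    (hρ : Function.Injective ρ) {a : H} (ha : IsQuad ρ a) (hna : a ∉ Cfsg.pCore p H) :
    NatFactor p ρ := by
  obtain ⟨L, a', b', hgen, hqa, hqb, hnp⟩ := exists_pair hW ρ hρ ha hna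
  obtain ⟨c, hc, hc1⟩ := exists_coprime_ne_one hnp
  obtain ⟨L', σ, U, ι, hσ, hU, hinj, heq⟩ := natFactor_of_pair hp a' b' hgen (Nat.card W) W rfl hW
    (ρ.comp L.subtype) hqa hqb c hc (fun e => hc1 ((hρ.comp L.subtype_injective) (e.trans (map_one _).symm)))
  let e := L'.equivMapOfInjective L.subtype L.subtype_injective
  refine ⟨L'.map L.subtype, σ.comp e.symm.toMonoidHom, U, ι, hσ.comp e.symm.surjective, fun l u hu => ?_,
    hinj, fun l z => ?_⟩
  · obtain ⟨x, hx, hxl⟩ := l.2
    rw [← hxl]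
    exact hU ⟨x, hx⟩ u hu
  · obtain ⟨x, hx, hxl⟩ := l.2
    have he : e.symm l = ⟨x, hx⟩ := e.symm_apply_eq.mpr (Subtype.ext hxl.symm)
    show (ρ (l : H) : AddMonoid.End W) (ι z) - ι ((σ (e.symm l)).1 *ᵥ z) ∈ U
    rw [he, ← hxl]
    exact heq ⟨x, hx⟩ z

/-! ### Stability -/

/-- Without a section `Qd(p)` the action on every normal elementary abelian subgroup is `p`-stable. -/
theorem isPStableOn_of_qdFree_EA (hp : p ≠ 2) {G : Type v} [Group G] [Finite G] (hfree : ¬ HasQdSection p G)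
    (V : Subgroup G) [hVn : V.Normal] (hV : Cfsg.IsElementaryAbelian p V) : Cfsg.IsPStableOn p V := by
  haveI := hV.1
  have hle : (⊤ : Subgroup G) ≤ Subgroup.normalizer (V : Set G) := by rw [Subgroup.normalizer_eq_top]
  set C := Subgroup.centralizer (V : Set G) with hC
  let ρ₀ : G →* (AddMonoid.End (Additive V))ˣ := (conjEnd V ⊤ hle).comp Subgroup.topEquiv.symm.toMonoidHom
  have hker : ∀ g : G, ρ₀ g = 1 ↔ g ∈ C := by
    intro g
    rw [hC, Subgroup.mem_centralizer_iff]
    constructor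
    · intro e v hv
      have h1 := conjEnd_apply V ⊤ hle ⟨g, trivial⟩ (Additive.ofMul ⟨v, hv⟩)
      rw [show conjEnd V ⊤ hle ⟨g, trivial⟩ = 1 from e] at h1
      exact (mul_inv_eq_iff_eq_mul.mp h1.symm).symm
    · intro e
      refine Units.ext (AddMonoidHom.ext fun u => ?_)
      apply Additive.toMul.injective
      apply Subtype.ext
      show g * ((Additive.toMul u : V) : G) * g⁻¹ = ((Additive.toMul u : V) : G)
      rw [← e _ (Additive.toMul u : V).2, mul_inv_cancel_right]
  let ρ : G ⧸ C →* (AddMonoid.End (Additive V))ˣ := QuotientGroup.lift C ρ₀ fun g hg => (hker g).mpr hg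
  have hρ : Function.Injective ρ := by
    rw [injective_iff_map_eq_one]
    intro x hx
    obtain ⟨g, rfl⟩ := QuotientGroup.mk'_surjective _ x
    exact (QuotientGroup.eq_one_iff g).mpr ((hker g).mp hx)
  intro a hq
  by_contra hna
  obtain ⟨L, σ, U, ι, hσ, hU, hinj, heq⟩ := natFactor_of_not_mem_pCore hp (additive_exponent hV) ρ hρ
    (a := (QuotientGroup.mk a : G ⧸ C)) (conjEnd_isQuad hle (Subgroup.mem_top a) hq) hna
  set Lt := L.comap (QuotientGroup.mk' C) with hLt
  have hVC : V ≤ C := fun v hv => Subgroup.mem_centralizer_iff.mpr fun w hw =>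
    congrArg Subtype.val (mul_comm (⟨w, hw⟩ : V) ⟨v, hv⟩)
  have hCLt : C ≤ Lt := fun x hx => by
    show QuotientGroup.mk' C x ∈ L
    rw [show QuotientGroup.mk' C x = 1 from (QuotientGroup.eq_one_iff x).mpr hx]; exact L.one_mem
  set R : Subgroup G := (AddSubgroup.toSubgroup' U).map V.subtype with hR
  have hmemR : ∀ u : Additive V, u ∈ U → ((Additive.toMul u : V) : G) ∈ R := fun u hu => ⟨_, hu, rfl⟩
  have hact : ∀ (g : G) (u : Additive V),
      ((Additive.toMul ((ρ (QuotientGroup.mk g) : AddMonoid.End (Additive V)) u) : V) : G) =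
        g * ((Additive.toMul u : V) : G) * g⁻¹ := fun g u => conjEnd_apply V ⊤ hle ⟨g, trivial⟩ u
  set N := R.subgroupOf Lt with hN
  haveI hNn : N.Normal := ⟨fun n hn g => by
    rw [hN, Subgroup.mem_subgroupOf] at hn ⊢
    obtain ⟨u, hu, he⟩ := hn
    rw [Subgroup.coe_mul, Subgroup.coe_mul, Subgroup.coe_inv, ← he]
    have h := hmemR _ (hU ⟨QuotientGroup.mk (g : G), g.2⟩ (Additive.ofMul u) hu)
    rw [hact] at h
    exact h⟩
  let σL : Lt →* SL(2, ZMod p) := σ.comp ((QuotientGroup.mk' C).subgroupComap L)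
  have hNker : N ≤ σL.ker := by
    intro n hn
    rw [hN, Subgroup.mem_subgroupOf] at hn
    obtain ⟨u, -, he⟩ := hn
    rw [MonoidHom.mem_ker]
    show σ _ = 1
    rw [← map_one σ]
    congr 1
    apply Subtype.ext
    exact (QuotientGroup.eq_one_iff _).mpr (he ▸ hVC u.2)
  let σY : Lt ⧸ N →* SL(2, ZMod p) := QuotientGroup.lift N σL hNker
  have hσY : Function.Surjective σY := by
    intro M
    obtain ⟨⟨l, hl⟩, rfl⟩ := hσ M
    obtain ⟨g, rfl⟩ := QuotientGroup.mk'_surjective C l
    exact ⟨QuotientGroup.mk ⟨g, hl⟩, rfl⟩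
  let ιL : Multiplicative (Fin 2 → ZMod p) →* Lt :=
    (V.subtype.comp (MonoidHom.mk' (fun z => Additive.toMul (ι z.toAdd)) (fun z z' => by
      rw [toAdd_mul, map_add, toMul_add]))).codRestrict Lt fun z => hCLt (hVC (Additive.toMul (ι z.toAdd) : V).2)
  let ιY : Multiplicative (Fin 2 → ZMod p) →* Lt ⧸ N := (QuotientGroup.mk' N).comp ιL
  refine hfree (HasQdSection.of_subgroup Lt (HasQdSection.of_surjective (QuotientGroup.mk' N)
    (QuotientGroup.mk'_surjective N) (hasQdSection_of_natural hp σY hσY ιY ?_ ?_)))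
  · rw [injective_iff_map_eq_one]
    intro z hz
    have hz' : ιL z ∈ N := (QuotientGroup.eq_one_iff _).mp hz
    rw [hN, Subgroup.mem_subgroupOf] at hz'
    obtain ⟨u, hu, he⟩ := hz'
    have hu' : u = Additive.toMul (ι z.toAdd) := V.subtype_injective he
    rw [hu'] at hu
    exact Multiplicative.toAdd.injective (hinj _ hu)
  · intro g z
    obtain ⟨l, rfl⟩ := QuotientGroup.mk'_surjective N g
    show QuotientGroup.mk' N l * QuotientGroup.mk' N (ιL _) * (QuotientGroup.mk' N l)⁻¹ = QuotientGroup.mk' N (ιL _)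
    rw [← map_inv, ← map_mul, ← map_mul]
    refine (QuotientGroup.eq_iff_div_mem).mpr (Subgroup.mem_subgroupOf.mpr ?_)
    have h := hmemR _ (heq ⟨QuotientGroup.mk (l : G), l.2⟩ z)
    rw [toMul_sub, div_eq_mul_inv, Subgroup.coe_mul, Subgroup.coe_inv, hact] at h
    rw [div_eq_mul_inv]
    exact h

/-- Without a section `Qd(p)` the action on every normal `p`-subgroup is `p`-stable. -/
theorem isPStableOn_of_qdFree (hp : p ≠ 2) {G : Type v} [Group G] [Finite G] (hfree : ¬ HasQdSection p G)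
    (P : Subgroup G) [hPn : P.Normal] (hP : IsPGroup p P) : Cfsg.IsPStableOn p P :=
  SL2Sections.isPStableOn_of_frattini P hP fun V _ hV => isPStableOn_of_qdFree_EA hp
    (fun h => hfree (h.of_surjective (QuotientGroup.mk' _) (QuotientGroup.mk'_surjective _))) V hV

/-- Stability on normal `p`-subgroups of normalisers gives the normaliser form. -/
theorem isNormalizerPStable_of_locals {G : Type v} [Group G] [Finite G]
    (h : ∀ P : Subgroup G, IsPGroup p P →
      Cfsg.IsPStableOn p (P.subgroupOf (Subgroup.normalizer (P : Set G)))) :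
    Cfsg.IsNormalizerPStable p G := by
  intro P hP g hg hq
  set N := Subgroup.normalizer (P : Set G) with hN
  set P' := P.subgroupOf N with hP'
  have hPN : P ≤ N := Subgroup.le_normalizer
  have hCeq : Subgroup.centralizer (P' : Set N) = (Subgroup.centralizer (P : Set G)).subgroupOf N := by
    ext x
    rw [Subgroup.mem_subgroupOf, Subgroup.mem_centralizer_iff, Subgroup.mem_centralizer_iff]
    constructor
    · intro hx y hy
      exact congrArg Subtype.val (hx ⟨y, hPN hy⟩ hy)
    · intro hx y hy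
      exact Subtype.ext (hx y hy)
  have hq' : ⁅⁅P', Subgroup.zpowers (⟨g, hg⟩ : N)⁆, Subgroup.zpowers (⟨g, hg⟩ : N)⁆ = ⊥ := by
    apply Subgroup.map_injective N.subtype_injective
    rw [Subgroup.map_commutator, Subgroup.map_commutator, MonoidHom.map_zpowers, Subgroup.map_bot, hP',
      Subgroup.map_subgroupOf_eq_of_le hPN]
    exact hq
  have hmem := h P hP ⟨g, hg⟩ hq'
  have hK : ((Subgroup.centralizer (P : Set G)).subgroupOf N).Normal :=
    hCeq ▸ (inferInstance : (Subgroup.centralizer (P' : Set N)).Normal)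
  let e := QuotientGroup.quotientMulEquivOfEq hCeq
  haveI : (Cfsg.pCore p (N ⧸ Subgroup.centralizer (P' : Set N))).Normal :=
    Subgroup.sSup_normal _ fun _ h => h.1
  haveI := Subgroup.Normal.map (inferInstance :
    (Cfsg.pCore p (N ⧸ Subgroup.centralizer (P' : Set N))).Normal) e.toMonoidHom e.surjective
  exact Cores.le_pCore ((Cores.isPGroup_pCore p).map e.toMonoidHom) ⟨_, hmem, rfl⟩

/-- Without a section `Qd(p)` a group is `p`-stable in the normaliser form. -/
theorem isNormalizerPStable_of_qdFree (hp : p ≠ 2) {G : Type v} [Group G] [Finite G]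
    (hfree : ¬ HasQdSection p G) : Cfsg.IsNormalizerPStable p G :=
  isNormalizerPStable_of_locals fun P hP => isPStableOn_of_qdFree hp (fun h => hfree (h.of_subgroup _)) _
    (hP.of_equiv (Subgroup.subgroupOfEquivOfLe Subgroup.le_normalizer).symm)

/-- All sections of a group without a section `Qd(p)` are `p`-stable in the normaliser form. -/
theorem sections_stable_of_qdFree (hp : p ≠ 2) {G : Type v} [Group G] [Finite G]
    (hfree : ¬ HasQdSection p G) (K R : Subgroup G) [hR : (R.subgroupOf K).Normal] :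
    Cfsg.IsNormalizerPStable p (K ⧸ R.subgroupOf K) :=
  isNormalizerPStable_of_qdFree hp fun h =>
    hfree (HasQdSection.of_subgroup K (h.of_surjective (QuotientGroup.mk' _) (QuotientGroup.mk'_surjective _)))

end CfsgLib.Fusion.QdSections
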