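import Cfsg.Agent.Lib.Fusion.QuadStable
import Mathlib.FieldTheory.Finite.Basic
import Mathlib.LinearAlgebra.Determinant

/-!
Two quadratic linear maps whose product has its eigenvalues in the ground field.
-/

set_option autoImplicit false
set_option linter.style.haveILetI false
set_option linter.unusedSectionVars false

namespace CfsgLib.Fusion.QuadSplit

open Polynomial

universe u v w

variable {K : Type u} [Field K] [Fintype K] {p : ℕ} [Fact p.Prime] [CharP K p] {H : Type w} [Group H] [Finite H]

/-- An endomorphism annihilated by `(X ^ q - X) ^ N` has an eigenvector. -/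
theorem exists_eigenvector {W : Type v} [AddCommGroup W] [Module K W] [Nontrivial W] (T : Module.End K W)
    (N : ℕ) (h : (T ^ Fintype.card K - T) ^ N = 0) : ∃ (c : K) (w : W), w ≠ 0 ∧ T w = c • w := by
  by_contra hall
  push Not at hall
  have hinj1 : ∀ c : K, Function.Injective (aeval T (X - C c)) := by
    intro c
    rw [injective_iff_map_eq_zero]
    intro w hw
    by_contra hne
    refine hall c w hne ?_
    rw [map_sub, aeval_X, aeval_C, LinearMap.sub_apply, Module.algebraMap_end_apply, sub_eq_zero] at hw
    exact hw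
  have hprod : ∀ s : Multiset K, Function.Injective (aeval T (s.map fun c => X - C c).prod) := by
    intro s
    induction s using Multiset.induction with
    | empty =>
      rw [Multiset.map_zero, Multiset.prod_zero, map_one]
      exact fun _ _ h => h
    | cons c s ih =>
      rw [Multiset.map_cons, Multiset.prod_cons, map_mul]
      exact (hinj1 c).comp ih
  have hq : 1 < Fintype.card K := Fintype.one_lt_card
  have hmon : (X ^ Fintype.card K - X : K[X]).Monic :=
    monic_X_pow_sub (by rw [degree_X]; exact_mod_cast hq)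
  have hroots : (X ^ Fintype.card K - X : K[X]) =
      ((X ^ Fintype.card K - X : K[X]).roots.map fun c => X - C c).prod := by
    refine (prod_multiset_X_sub_C_of_monic_of_roots_card_eq hmon ?_).symm
    rw [FiniteField.roots_X_pow_card_sub_X, natDegree_sub_eq_left_of_natDegree_lt
      (by rw [natDegree_X, natDegree_X_pow]; exact hq), natDegree_X_pow]
    rfl
  have hinj : Function.Injective (T ^ Fintype.card K - T : Module.End K W) := by
    have := hprod (X ^ Fintype.card K - X : K[X]).roots
    rw [← hroots, map_sub, map_pow, aeval_X] at this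
    exact this
  have hpow : ∀ n : ℕ, Function.Injective ((T ^ Fintype.card K - T : Module.End K W) ^ n) := by
    intro n
    induction n with
    | zero => exact fun _ _ h => h
    | succ n ih => rw [pow_succ]; exact ih.comp hinj
  obtain ⟨w, hw⟩ := exists_ne (0 : W)
  exact hw (hpow N (by rw [h]; rfl))

/-- If `ab` has its eigenvalues in `K`, some element of order prime to `p` survives in `SL(2, K)`. -/
theorem exists_hom (a b : H) (hgen : Subgroup.closure ({a, b} : Set H) = ⊤)
    (hk : ∃ e k : ℕ, orderOf (a * b) ∣ p ^ e * k ∧ k ∣ Fintype.card K - 1) :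
    ∀ (n : ℕ) (W : Type v) [AddCommGroup W] [Module K W] [Finite W], Nat.card W = n →
      ∀ ρ : H →* Module.End K W, (∀ u : W, ρ a (ρ a u - u) = ρ a u - u) →
        (∀ u : W, ρ b (ρ b u - u) = ρ b u - u) → ∀ c : H, (orderOf c).Coprime p → ρ c ≠ 1 →
        ∃ φ : H →* Matrix.SpecialLinearGroup (Fin 2) K, φ c ≠ 1 := by
  intro n
  induction n using Nat.strong_induction_on with
  | _ n ih =>
  intro W _ _ _ hn ρ ha hb c hcp hρc
  haveI : Nontrivial W := by
    rcases subsingleton_or_nontrivial W with h | h
    · exact absurd (LinearMap.ext fun u => Subsingleton.elim _ _) hρc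
    · exact h
  have hclosed : ∀ U : Submodule K W, (∀ u ∈ U, ρ a u ∈ U) → (∀ u ∈ U, ρ b u ∈ U) →
      ∀ g : H, ∀ u ∈ U, ρ g u ∈ U := by
    intro U hUa hUb g
    have hg : g ∈ Subgroup.closure ({a, b} : Set H) := hgen ▸ Subgroup.mem_top g
    refine Subgroup.closure_induction (p := fun g _ => ∀ u ∈ U, ρ g u ∈ U) ?_ ?_ ?_ ?_ hg
    · rintro g (rfl | rfl)
      · exact hUa
      · exact hUb
    · intro u hu; rw [map_one]; exact hu
    · intro g g' _ _ h h' u hu
      rw [map_mul]; exact h _ (h' u hu)
    · intro g _ h u hu
      have hpow : ∀ i : ℕ, ∀ u ∈ U, ρ (g ^ i) u ∈ U := by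
        intro i
        induction i with
        | zero => intro u hu; rw [pow_zero, map_one]; exact hu
        | succ i ihi => intro u hu; rw [pow_succ', map_mul]; exact h _ (ihi u hu)
      have hinv : g⁻¹ = g ^ (orderOf g - 1) := by
        refine inv_eq_of_mul_eq_one_right ?_
        rw [← pow_succ', Nat.sub_add_cancel (orderOf_pos g), pow_orderOf_eq_one]
      rw [hinv]; exact hpow _ u hu
  have hfrob : ∀ g : H, ∀ (W' : Type v) [AddCommGroup W'] [Module K W'], ∀ σ : H →* Module.End K W',
      (∀ u : W', σ g (σ g u - u) = σ g u - u) → σ g ^ p = 1 := by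
    intro g W' _ _ σ hσ
    refine LinearMap.ext fun u => ?_
    have hpow : ∀ i : ℕ, (σ g ^ i) u = u + i • (σ g u - u) := by
      intro i
      induction i with
      | zero => simp
      | succ i ihi =>
        rw [pow_succ', Module.End.mul_apply, ihi, map_add, map_nsmul, hσ u, succ_nsmul]
        abel
    rw [hpow, ← Nat.cast_smul_eq_nsmul K, CharP.cast_eq_zero, zero_smul, add_zero]
    rfl
  by_cases hred : ∃ U : Submodule K W, U ≠ ⊥ ∧ U ≠ ⊤ ∧ (∀ u ∈ U, ρ a u ∈ U) ∧ ∀ u ∈ U, ρ b u ∈ U
  · obtain ⟨U, hU0, hUt, hUa, hUb⟩ := hred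
    have hU := hclosed U hUa hUb
    let ρU : H →* Module.End K U :=
      { toFun := fun g => (ρ g).restrict (hU g)
        map_one' := LinearMap.ext fun u => Subtype.ext (by
          show ρ 1 u = u; rw [map_one]; rfl)
        map_mul' := fun g g' => LinearMap.ext fun u => Subtype.ext (by
          show ρ (g * g') u = ρ g (ρ g' u); rw [map_mul]; rfl) }
    let ρQ : H →* Module.End K (W ⧸ U) :=
      { toFun := fun g => U.mapQ U (ρ g) (hU g)
        map_one' := LinearMap.ext fun u => by
          induction u using Submodule.Quotient.induction_on with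
          | _ u => show Submodule.Quotient.mk (ρ 1 u) = _; rw [map_one]; rfl
        map_mul' := fun g g' => LinearMap.ext fun u => by
          induction u using Submodule.Quotient.induction_on with
          | _ u => show Submodule.Quotient.mk (ρ (g * g') u) = _; rw [map_mul]; rfl }
    haveI : Finite (W ⧸ U) := Finite.of_surjective _ (Submodule.Quotient.mk_surjective U)
    have hcard := U.card_eq_card_quotient_mul_card
    have hU2 : 1 < Nat.card U := by
      haveI : Nontrivial U := (Submodule.nontrivial_iff_ne_bot).mpr hU0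
      exact Finite.one_lt_card
    have hQ2 : 1 < Nat.card (W ⧸ U) := by
      haveI : Nontrivial (W ⧸ U) := Submodule.Quotient.nontrivial_iff.mpr hUt
      exact Finite.one_lt_card
    by_cases hcU : ρU c = 1
    · by_cases hcQ : ρQ c = 1
      · exfalso
        have hq : ∀ u : W, ρ c (ρ c u - u) = ρ c u - u := fun u => by
          have h2 : ρ c u - u ∈ U := (Submodule.Quotient.eq U).mp (LinearMap.congr_fun hcQ (Submodule.Quotient.mk u))
          exact congrArg Subtype.val (LinearMap.congr_fun hcU ⟨_, h2⟩)
        refine hρc ?_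
        have h1 : ρ c ^ p = 1 := hfrob c W ρ hq
        have h2 : ρ c ^ orderOf c = 1 := by rw [← map_pow, pow_orderOf_eq_one, map_one]
        have h3 := pow_gcd_eq_one.mpr ⟨h2, h1⟩
        rwa [hcp.gcd_eq_one, pow_one] at h3
      · refine ih (Nat.card (W ⧸ U)) (by rw [← hn, hcard]; nlinarith) (W ⧸ U) rfl ρQ ?_ ?_ c hcp hcQ
        · intro u
          induction u using Submodule.Quotient.induction_on with
          | _ u => exact congrArg Submodule.Quotient.mk (ha u)
        · intro u
          induction u using Submodule.Quotient.induction_on with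
          | _ u => exact congrArg Submodule.Quotient.mk (hb u)
    · exact ih (Nat.card U) (by rw [← hn, hcard]; nlinarith) U rfl ρU (fun u => Subtype.ext (ha u))
        (fun u => Subtype.ext (hb u)) c hcp hcU
  -- the irreducible case
  push Not at hred
  haveI : Module.Finite K W := Module.Finite.of_finite
  obtain ⟨e, k, hord, hkq⟩ := hk
  set T := ρ (a * b) with hT
  have hTN : (T ^ Fintype.card K - T) ^ (p ^ e) = 0 := by
    obtain ⟨m, hm⟩ := hkq
    have hq1 : 1 ≤ Fintype.card K := Fintype.card_pos
    have h1 : (T ^ (Fintype.card K - 1)) ^ (p ^ e) = 1 := by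
      rw [← pow_mul, hT, ← map_pow, orderOf_dvd_iff_pow_eq_one.mp (dvd_trans hord ⟨m, by rw [hm]; ring⟩),
        map_one]
    haveI : CharP (Module.End K W) p := charP_of_injective_algebraMap
      (FaithfulSMul.algebraMap_injective K (Module.End K W)) p
    have hfac : T ^ Fintype.card K - T = T * (T ^ (Fintype.card K - 1) - 1) := by
      rw [mul_sub, mul_one, ← pow_succ', Nat.sub_add_cancel hq1]
    rw [hfac, (Commute.sub_right (Commute.pow_self T _).symm (Commute.one_right T)).mul_pow,
      sub_pow_char_pow_of_commute p e (Commute.one_right _), h1, one_pow, sub_self, mul_zero]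
  obtain ⟨μ, w, hw, hwμ⟩ := exists_eigenvector T (p ^ e) hTN
  set U := Submodule.span K ({w, ρ a w} : Set W) with hU
  have haa : ∀ u : W, ρ a (ρ a u) = 2 • ρ a u - u := fun u => by
    have := ha u
    rw [map_sub, sub_eq_iff_eq_add] at this
    rw [this, two_smul]; abel
  have hbb : ∀ u : W, ρ b (ρ b u) = 2 • ρ b u - u := fun u => by
    have := hb u
    rw [map_sub, sub_eq_iff_eq_add] at this
    rw [this, two_smul]; abel
  have habw : ρ a (ρ b w) = μ • w := by
    rw [← hwμ, hT, map_mul]; rfl
  have hbw : ρ b w = μ • (2 • w - ρ a w) := by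
    have h1 := congrArg (ρ a) habw
    rw [haa, habw, map_smul] at h1
    rw [smul_sub, ← h1, smul_comm, sub_sub_cancel]
  have hwU : w ∈ U := Submodule.subset_span (Or.inl rfl)
  have hawU : ρ a w ∈ U := Submodule.subset_span (Or.inr rfl)
  have hbwU : ρ b w ∈ U := by
    rw [hbw]; exact U.smul_mem μ (U.sub_mem (U.smul_of_tower_mem 2 hwU) hawU)
  have hμ : μ ≠ 0 := fun h0 => by
    rw [h0, zero_smul] at habw
    have h1 : ρ ((a * b)⁻¹) (ρ a (ρ b w)) = 0 := by rw [habw, map_zero]
    rw [← Module.End.mul_apply, ← Module.End.mul_apply, ← map_mul, ← map_mul, mul_assoc,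
      inv_mul_cancel, map_one] at h1
    exact hw h1
  have hbawU : ρ b (ρ a w) ∈ U := by
    have e1 : ρ a w = 2 • w - μ⁻¹ • ρ b w := by rw [hbw, inv_smul_smul₀ hμ, sub_sub_cancel]
    rw [e1, map_sub, map_nsmul, map_smul, hbb]
    exact U.sub_mem (U.smul_of_tower_mem 2 hbwU)
      (U.smul_mem _ (U.sub_mem (U.smul_of_tower_mem 2 hbwU) hwU))
  have hUa : ∀ u ∈ U, ρ a u ∈ U := by
    intro u hu
    refine Submodule.span_induction ?_ ?_ ?_ ?_ hu
    · rintro x (rfl | rfl)
      · exact hawU
      · rw [haa]; exact U.sub_mem (U.smul_of_tower_mem 2 hawU) hwU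
    · rw [map_zero]; exact U.zero_mem
    · intro x y _ _ hx hy; rw [map_add]; exact U.add_mem hx hy
    · intro r x _ hx; rw [map_smul]; exact U.smul_mem r hx
  have hUb : ∀ u ∈ U, ρ b u ∈ U := by
    intro u hu
    refine Submodule.span_induction ?_ ?_ ?_ ?_ hu
    · rintro x (rfl | rfl)
      · exact hbwU
      · exact hbawU
    · rw [map_zero]; exact U.zero_mem
    · intro x y _ _ hx hy; rw [map_add]; exact U.add_mem hx hy
    · intro r x _ hx; rw [map_smul]; exact U.smul_mem r hx
  have hUtop : U = ⊤ := by
    by_contra hne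
    obtain ⟨u, hu, hu'⟩ := hred U (fun e0 => hw (by
      have := e0 ▸ hwU; exact (Submodule.mem_bot K).mp this)) hne hUa
    exact hu' (hUb u hu)
  classical
  have hfin : Module.finrank K W ≤ 2 := by
    rw [← finrank_top, ← hUtop, hU]
    refine le_trans (finrank_span_le_card _) ?_
    simp only [Set.toFinset_insert, Set.toFinset_singleton]
    exact Finset.card_le_two
  have hdet : ∀ g : H, LinearMap.det (ρ g) = 1 := by
    intro g
    have hg : g ∈ Subgroup.closure ({a, b} : Set H) := hgen ▸ Subgroup.mem_top g
    refine Subgroup.closure_induction (p := fun g _ => LinearMap.det (ρ g) = 1) ?_ ?_ ?_ ?_ hg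
    · intro x hx
      have hx' : ∀ u : W, ρ x (ρ x u - u) = ρ x u - u := by
        rcases hx with rfl | rfl
        · exact ha
        · exact hb
      have h1 : LinearMap.det (ρ x) ^ (p ^ 1) = 1 := by
        rw [pow_one, ← map_pow, hfrob x W ρ hx', map_one]
      exact iterateFrobenius_inj K p 1 (h1.trans (one_pow _).symm)
    · rw [map_one, map_one]
    · intro x y _ _ hx hy; rw [map_mul, map_mul, hx, hy, one_mul]
    · intro x _ hx
      have := congrArg (fun f => LinearMap.det f) (ρ.map_mul x⁻¹ x)
      simp only [inv_mul_cancel, map_one, map_mul, hx, mul_one] at this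
      exact this.symm
  have hfin2 : Module.finrank K W = 2 := by
    rcases Nat.lt_or_ge (Module.finrank K W) 2 with h | h
    · exfalso
      have hpos : 0 < Module.finrank K W := Module.finrank_pos
      have h1 : Module.finrank K W = 1 := by omega
      obtain ⟨v, hv, hspan⟩ := finrank_eq_one_iff'.mp h1
      obtain ⟨t, ht⟩ := hspan (ρ c v)
      have hscal : ρ c = t • (1 : Module.End K W) := by
        refine LinearMap.ext fun u => ?_
        obtain ⟨s, rfl⟩ := hspan u
        rw [map_smul, ← ht, LinearMap.smul_apply, Module.End.one_apply, smul_comm]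
      have := hdet c
      rw [hscal, LinearMap.det_smul, h1, pow_one, map_one, mul_one] at this
      exact hρc (by rw [hscal, this, one_smul])
    · omega
  let B := Module.finBasisOfFinrankEq K W hfin2
  refine ⟨{ toFun := fun g => ⟨LinearMap.toMatrixAlgEquiv B (ρ g), by
              show (LinearMap.toMatrix B B (ρ g)).det = 1
              rw [LinearMap.det_toMatrix]; exact hdet g⟩
            map_one' := Subtype.ext (by simp)
            map_mul' := fun g g' => Subtype.ext (by
              show LinearMap.toMatrixAlgEquiv B (ρ (g * g')) = LinearMap.toMatrixAlgEquiv B (ρ g) * LinearMap.toMatrixAlgEquiv B (ρ g')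
              rw [map_mul, map_mul]) }, fun e => hρc ?_⟩
  have e' : LinearMap.toMatrixAlgEquiv B (ρ c) = 1 := congrArg Subtype.val e
  exact (LinearMap.toMatrixAlgEquiv B).injective (e'.trans (map_one _).symm)

end CfsgLib.Fusion.QuadSplit
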