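import Cfsg.Agent.Lib.OddOrder.SCNTransitivity
import Cfsg.Agent.Lib.Fusion.NormalRankTwo
import Cfsg.Agent.Lib.Fusion.ClassThree
import Cfsg.Agent.Lib.Fusion.Thompson
import Cfsg.Agent.Lib.Solvable.ThompsonReplacement
import Cfsg.Agent.Lib.PGroup.Regular
import Mathlib

/-!
`Ω₁` of a `p`-group of rank at most two, `p > 3`.
-/

set_option autoImplicit false
set_option linter.style.haveILetI false

open scoped commutatorElement

namespace CfsgLib.Fusion.RankTwoOmega

variable {R : Type*} [Group R] [Finite R] {p : ℕ} [hp : Fact p.Prime]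

theorem card_le_sq {A : Subgroup R} (hrk : ∀ E : Subgroup R, Cfsg.IsElementaryAbelian p E → Nat.card E ≤ p ^ 2)
    {E : Subgroup R} (hE : Cfsg.IsElementaryAbelian p E) (hE2 : Nat.card E = p ^ 2) (hA : A ≤ Subgroup.centralizer (E : Set R))
    {a : R} (ha : a ∈ A) (hap : a ^ p = 1) : a ∈ E := by
  have hc := Subgroup.mem_centralizer_iff.1 (hA ha)
  have hEA : Cfsg.IsElementaryAbelian p (E ⊔ Subgroup.zpowers a : Subgroup R) := by
    refine CfsgLib.Solvable.ThompsonReplacement.isEA_sup hE ⟨inferInstance, fun x hx => ?_⟩ ?_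
    · obtain ⟨k, rfl⟩ := Subgroup.mem_zpowers_iff.1 hx
      rw [← zpow_natCast, ← zpow_mul, mul_comm, zpow_mul, zpow_natCast, hap, one_zpow]
    · intro e he x hx
      obtain ⟨k, rfl⟩ := Subgroup.mem_zpowers_iff.1 hx
      exact ((show Commute e a from hc e he).zpow_right k).eq
  have heq : E = E ⊔ Subgroup.zpowers a :=
    Subgroup.eq_of_le_of_card_ge le_sup_left ((hrk _ hEA).trans hE2.ge)
  rw [heq]
  exact Subgroup.mem_sup_right (Subgroup.mem_zpowers a)

/-- The derived subgroup centralises a normal subgroup of order `p ^ 2`. -/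
theorem commutator_mem_centralizer (hR : IsPGroup p R) {E : Subgroup R} [E.Normal] (hE2 : Nat.card E = p ^ 2)
    (x y : R) : ⁅x, y⁆ ∈ Subgroup.centralizer (E : Set R) := by
  refine Subgroup.mem_centralizer_iff.2 fun e he => ?_
  have h1 := CfsgLib.OddOrder.SCNTransitivity.relIndex_centralizer_le (P := (⊤ : Subgroup R)) (hR.to_subgroup ⊤)
    le_top (by rw [Subgroup.normalizer_eq_top]) hE2 he
  rw [Subgroup.relIndex_top_right] at h1
  set C := Subgroup.centralizer ({e} : Set R)
  obtain ⟨k, hk⟩ := hR.index C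
  suffices ⁅x, y⁆ ∈ C from (Subgroup.mem_centralizer_singleton_iff.1 this).symm
  have hk1 : k ≤ 1 := by
    rw [hk] at h1
    exact (Nat.pow_le_pow_iff_right hp.out.one_lt).1 (h1.trans_eq (pow_one p).symm)
  rcases Nat.le_one_iff_eq_zero_or_eq_one.1 hk1 with rfl | rfl
  · rw [pow_zero, Subgroup.index_eq_one] at hk
    rw [hk]; exact Subgroup.mem_top _
  · rw [pow_one] at hk
    have hmin : (Nat.card R).minFac = p := by
      obtain ⟨n, hn⟩ := hR.exists_card_eq
      rw [hn]
      refine hp.out.pow_minFac fun h => ?_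
      have h2 := C.index_dvd_card
      rw [hn, h, pow_zero, hk, Nat.dvd_one] at h2
      exact hp.out.ne_one h2
    haveI : C.Normal := Subgroup.normal_of_index_eq_minFac_card (hk.trans hmin.symm)
    haveI : IsCyclic (R ⧸ C) := isCyclic_of_prime_card (p := p) (by rw [← Subgroup.index_eq_card, hk])
    rw [← QuotientGroup.eq_one_iff]
    show QuotientGroup.mk' C ⁅x, y⁆ = 1
    rw [map_commutatorElement, commutatorElement_eq_one_iff_mul_comm]
    letI : CommGroup (R ⧸ C) := IsCyclic.commGroup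
    exact mul_comm _ _

/-- For `p > 3` the elements of order dividing `p` form a subgroup in rank at most two. -/
theorem pow_eq_one_of_mem_closure (hp3 : 3 < p) (hR : IsPGroup p R)
    (hrk : ∀ E : Subgroup R, Cfsg.IsElementaryAbelian p E → Nat.card E ≤ p ^ 2) :
    ∀ g ∈ Subgroup.closure {x : R | x ^ p = 1}, g ^ p = 1 := by
  by_cases hcyc : IsCyclic R
  · letI : CommGroup R := IsCyclic.commGroup
    exact fun g hg => (Subgroup.closure_le (powMonoidHom p : R →* R).ker).2 (fun x hx => hx) hg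
  obtain ⟨E, -, hEn, hE, hE2⟩ := NormalRankTwo.exists_normal_rankTwo hR (by omega) (S := (⊤ : Subgroup R))
    (fun h => hcyc (isCyclic_of_surjective _ (Subgroup.topEquiv (G := R)).surjective))
  haveI := hEn
  suffices h : ∀ U : Subgroup R, ∀ g ∈ Subgroup.closure {x : R | x ∈ U ∧ x ^ p = 1}, g ^ p = 1 by
    intro g hg
    exact h ⊤ g (Subgroup.closure_mono (show {x : R | x ^ p = 1} ⊆ {x : R | x ∈ (⊤ : Subgroup R) ∧ x ^ p = 1} from
      fun x hx => ⟨Subgroup.mem_top x, hx⟩) hg)
  intro U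
  induction hn : Nat.card U using Nat.strong_induction_on generalizing U with
  | _ n ih =>
    subst hn
    set V := Subgroup.closure {x : R | x ∈ U ∧ x ^ p = 1} with hV
    have hVU : V ≤ U := (Subgroup.closure_le _).2 fun x hx => hx.1
    by_cases hlt : V < U
    · intro g hg
      exact ih _ (CfsgLib.PGroup.Regular.card_lt_of_lt hlt) V rfl g (Subgroup.closure_mono
        (show {x : R | x ∈ U ∧ x ^ p = 1} ⊆ {x : R | x ∈ V ∧ x ^ p = 1} from
          fun x hx => ⟨Subgroup.subset_closure hx, hx.2⟩) hg)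
    have hVeq : V = U := (hVU.lt_or_eq.resolve_left hlt)
    -- commutators of the generators lie in `E`
    have hgen : ∀ x ∈ {x : R | x ∈ U ∧ x ^ p = 1}, ∀ y ∈ {x : R | x ∈ U ∧ x ^ p = 1}, ⁅x, y⁆ ∈ E := by
      rintro x ⟨hx, hxp⟩ y ⟨hy, hyp⟩
      by_cases hc : x⁻¹ * y⁻¹ = y⁻¹ * x⁻¹
      · rw [commutatorElement_eq_one_iff_mul_comm.2 (by simpa using (congrArg (·⁻¹) hc).symm)]
        exact one_mem E
      refine card_le_sq hrk hE hE2 (A := Subgroup.centralizer (E : Set R)) le_rfl
        (commutator_mem_centralizer hR hE2 x y) ?_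
      have hlt' := CfsgLib.PGroup.Regular.closure_conj_lt hR hc
      set W := Subgroup.closure ({x⁻¹, y⁻¹⁻¹ * x⁻¹ * y⁻¹} : Set R) with hW
      have hWU : W < U := lt_of_lt_of_le hlt' ((Subgroup.closure_le _).2 (by
        rintro u (rfl | rfl)
        · exact inv_mem hx
        · exact inv_mem hy))
      have h1 : ∀ u ∈ ({x⁻¹, y⁻¹⁻¹ * x⁻¹ * y⁻¹} : Set R), u ^ p = 1 := by
        rintro u (rfl | rfl)
        · rw [inv_pow, hxp, inv_one]
        · rw [inv_inv, conj_pow, inv_pow, hxp, inv_one, mul_one, mul_inv_cancel]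
      refine ih _ (CfsgLib.PGroup.Regular.card_lt_of_lt hWU) W rfl _ ?_
      rw [show ⁅x, y⁆ = x * (y⁻¹⁻¹ * x⁻¹ * y⁻¹) by rw [commutatorElement_def]; group]
      refine mul_mem ?_ ?_
      · rw [← inv_inv x]
        exact inv_mem (Subgroup.subset_closure
          ⟨Subgroup.subset_closure (Set.mem_insert _ _), h1 _ (Set.mem_insert _ _)⟩)
      · exact Subgroup.subset_closure ⟨Subgroup.subset_closure (Set.mem_insert_of_mem _ rfl),
          h1 _ (Set.mem_insert_of_mem _ rfl)⟩
    have hcommU : ∀ h ∈ U, ∀ k ∈ U, ⁅h, k⁆ ∈ E := by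
      rw [← hVeq]
      intro h hh k hk
      rw [← QuotientGroup.eq_one_iff]
      show QuotientGroup.mk' E ⁅h, k⁆ = 1
      rw [map_commutatorElement, commutatorElement_eq_one_iff_mul_comm]
      have hcomm : ∀ a ∈ (QuotientGroup.mk' E) '' {x : R | x ∈ U ∧ x ^ p = 1},
          ∀ b ∈ (QuotientGroup.mk' E) '' {x : R | x ∈ U ∧ x ^ p = 1}, a * b = b * a := by
        rintro _ ⟨a, ha, rfl⟩ _ ⟨b, hb, rfl⟩
        rw [← commutatorElement_eq_one_iff_mul_comm, ← map_commutatorElement]
        exact (QuotientGroup.eq_one_iff _).2 (hgen a ha b hb)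
      have hh' := Subgroup.mem_map_of_mem (QuotientGroup.mk' E) hh
      have hk' := Subgroup.mem_map_of_mem (QuotientGroup.mk' E) hk
      rw [hV, MonoidHom.map_closure] at hh' hk'
      haveI := Subgroup.isMulCommutative_closure hcomm
      exact congrArg Subtype.val (mul_comm' (⟨_, hh'⟩ : Subgroup.closure _) ⟨_, hk'⟩)
    -- `⁅E, R⁆` is central
    set F := ⁅E, (⊤ : Subgroup R)⁆ with hF
    have hFc : F ≤ Subgroup.center R := by
      have hFlt : F < E := CfsgLib.Coprime.commutator_lt_of_isPGroup (hR.to_subgroup ⊤) (hR.to_subgroup E)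
        (by rw [Subgroup.normalizer_eq_top]) (fun h => by
          rw [h, Subgroup.card_bot] at hE2
          exact absurd hE2.symm (Nat.one_lt_pow (by norm_num) hp.out.one_lt).ne')
      rcases eq_or_ne F ⊥ with h | h
      · rw [h]; exact bot_le
      haveI := hR.isNilpotent
      have hne := CfsgLib.Solvable.FrattiniFitting.inf_center_ne_bot F h
      obtain ⟨i, hi⟩ := (hR.to_subgroup F).exists_card_eq
      obtain ⟨j, hj⟩ := (hR.to_subgroup (F ⊓ Subgroup.center R : Subgroup R)).exists_card_eq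
      have hi1 : i ≤ 1 := by
        have := CfsgLib.PGroup.Regular.card_lt_of_lt hFlt
        rw [hi, hE2] at this
        exact Nat.lt_succ_iff.1 ((Nat.pow_lt_pow_iff_right hp.out.one_lt).1 this)
      have hj1 : 1 ≤ j := Nat.one_le_iff_ne_zero.2 fun h0 => hne (Subgroup.eq_bot_of_card_eq _ (by
        rw [hj, h0, pow_zero]))
      exact inf_eq_left.1 (Subgroup.eq_of_le_of_card_ge inf_le_left (by
        rw [hi, hj]; exact Nat.pow_le_pow_right hp.out.pos (by omega)))
    have hsc : ClassThree.SmallClass p U := by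
      refine ⟨by omega, fun g h k => Subgroup.mem_center_iff.2 fun t => Subtype.ext ?_, Or.inl hp3⟩
      have hmem : ⁅(g : R), ⁅(h : R), (k : R)⁆⁆ ∈ Subgroup.center R := by
        rw [← commutatorElement_inv]
        exact inv_mem (hFc (Subgroup.commutator_mem_commutator (hcommU h h.2 k k.2) (Subgroup.mem_top _)))
      exact Subgroup.mem_center_iff.1 hmem (t : R)
    intro g hg
    have hg' : g ∈ (Subgroup.closure {x : U | x ^ p = 1}).map U.subtype := by
      rw [MonoidHom.map_closure]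
      refine Subgroup.closure_mono ?_ hg
      rintro x ⟨hx, hxp⟩
      exact ⟨⟨x, hx⟩, Subtype.ext hxp, rfl⟩
    obtain ⟨u, hu, rfl⟩ := hg'
    exact congrArg Subtype.val (ClassThree.pow_eq_one_of_mem_closure hsc hu)

end CfsgLib.Fusion.RankTwoOmega
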