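import Cfsg.Agent.Lib.Fusion.Basic
import Mathlib.GroupTheory.Transfer
import Mathlib.GroupTheory.Perm.Cycle.Type
import Mathlib.GroupTheory.SpecificGroups.Dihedral

/-!
A transfer criterion of Thompson type: the sign of the action of a subgroup of odd index on the
cosets of a smaller subgroup, transferred up, detects an element of order equal to that index whose
involution has no conjugate in the smaller subgroup.
-/

set_option autoImplicit false

namespace CfsgLib.Fusion.SemiregularTransfer

open Subgroup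

/-- The sign of a semiregular permutation of two-power order on a two-power set. -/
theorem sign_semiregular {α : Type*} [Fintype α] [DecidableEq α] (σ : Equiv.Perm α) {i j : ℕ}
    (hi : 1 ≤ i) (h1 : σ ^ (2 ^ i) = 1) (h2 : ∀ d, 0 < d → d < 2 ^ i → ∀ a, (σ ^ d) a ≠ a)
    (hc : Fintype.card α = 2 ^ j) :
    (i = j → Equiv.Perm.sign σ = -1) ∧ (i < j → Equiv.Perm.sign σ = 1) := by
  have hone : 1 < 2 ^ i := Nat.one_lt_two_pow (by omega)
  have hall : ∀ n ∈ σ.cycleType, n = 2 ^ i := by
    intro n hn
    have hdvd : n ∣ 2 ^ i :=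
      (Equiv.Perm.dvd_of_mem_cycleType hn).trans (orderOf_dvd_of_pow_eq_one h1)
    rw [Equiv.Perm.cycleType_def, Multiset.mem_map] at hn
    obtain ⟨c, hcm, rfl⟩ := hn
    have hcy := (Equiv.Perm.mem_cycleFactorsFinset_iff.mp hcm).1
    obtain ⟨a, ha⟩ := Finset.card_pos.mp (by simpa using (hcy.two_le_card_support.trans_lt' two_pos))
    have hfix : (σ ^ c.support.card) a = a := by
      rw [← Equiv.Perm.cycleOf_pow_apply_self, ← Equiv.Perm.cycle_is_cycleOf ha hcm, ← hcy.orderOf,
        pow_orderOf_eq_one]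
      rfl
    by_contra hne
    refine h2 _ ?_ (lt_of_le_of_ne (Nat.le_of_dvd (by positivity) hdvd) hne) a hfix
    exact Finset.card_pos.mpr ⟨a, ha⟩
  have hsupp : σ.support = Finset.univ := by
    ext a
    simpa using h2 1 one_pos hone a
  have hsum : σ.cycleType.sum = 2 ^ j := by
    rw [Equiv.Perm.sum_cycleType, hsupp, Finset.card_univ, hc]
  rw [Multiset.eq_replicate_card.mpr hall, Multiset.sum_replicate, smul_eq_mul] at hsum
  rw [Equiv.Perm.sign_of_cycleType, Equiv.Perm.sum_cycleType, hsupp, Finset.card_univ, hc]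
  refine ⟨fun h => ?_, fun h => ?_⟩
  · subst h
    have hr : Multiset.card σ.cycleType = 1 :=
      Nat.eq_of_mul_eq_mul_right (by positivity : 0 < 2 ^ i) (by simpa using hsum)
    rw [hr, pow_succ, Even.neg_one_pow (Nat.even_pow.mpr ⟨even_two, by omega⟩), one_mul]
  · have hr : Multiset.card σ.cycleType = 2 ^ (j - i) := by
      apply Nat.eq_of_mul_eq_mul_right (by positivity : 0 < 2 ^ i)
      rw [hsum, ← pow_add, Nat.sub_add_cancel h.le]
    rw [hr, Even.neg_one_pow ((Nat.even_pow.mpr ⟨even_two, by omega⟩).add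
      (Nat.even_pow.mpr ⟨even_two, by omega⟩))]

variable {G : Type*} [Group G]

/-- A nontrivial power of an element of two-power order has a power equal to the involution. -/
theorem exists_pow_eq_involution {x : G} {j : ℕ} (hx : x ^ (2 ^ j) = 1) {n : ℕ}
    (hn : x ^ n ≠ 1) : ∃ e : ℕ, (x ^ n) ^ e = x ^ 2 ^ (j - 1) := by
  have hn0 : n ≠ 0 := fun h => hn (by rw [h, pow_zero])
  obtain ⟨a, m, hm, rfl⟩ := Nat.exists_eq_pow_mul_and_not_dvd hn0 2 (by norm_num)
  have hlt : a < j := by
    by_contra h
    apply hn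
    rw [← Nat.add_sub_cancel' (not_lt.mp h), pow_add, mul_assoc, pow_mul, hx, one_pow]
  refine ⟨2 ^ (j - 1 - a), ?_⟩
  obtain ⟨k, rfl⟩ := Nat.odd_iff.mpr (show m % 2 = 1 by omega)
  have e1 : 2 ^ a * (2 * k + 1) * 2 ^ (j - 1 - a) = 2 ^ j * k + 2 ^ (j - 1) := by
    have e2 : 2 ^ a * 2 ^ (j - 1 - a) = 2 ^ (j - 1) := by rw [← pow_add]; congr 1; omega
    have e3 : 2 ^ j = 2 * 2 ^ (j - 1) := by rw [← pow_succ']; congr 1; omega
    rw [e3, mul_right_comm, e2]; ring
  rw [← pow_mul, e1, pow_add, pow_mul, hx, one_pow, one_mul]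

/-- If `N` has odd index, `T ≤ N` has index `2 ^ j ≥ 2` in `N`, `x ∈ N` has order `2 ^ j` and the
involution of `⟨x⟩` has no conjugate in `T`, then `O²(G) ≠ G`. -/
theorem pResidual_ne_top [Finite G] (N : Subgroup G) (hN : Odd N.index) (T : Subgroup G) {j : ℕ}
    (hj : 1 ≤ j) (hidx : T.relIndex N = 2 ^ j) {x : G} (hx : orderOf x = 2 ^ j)
    (hz : ∀ g : G, g⁻¹ * x ^ 2 ^ (j - 1) * g ∉ T) : Cfsg.pResidual 2 G ≠ ⊤ := by
  classical
  intro htop
  let Q := ↥N ⧸ T.subgroupOf N
  have : Fintype Q := Fintype.ofFinite _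
  have hQ : Fintype.card Q = 2 ^ j := by
    rw [← Nat.card_eq_fintype_card, ← hidx]; rfl
  have hx1 : x ^ 2 ^ j = 1 := by rw [← hx, pow_orderOf_eq_one]
  let ψ : ↥N →* ℤˣ := Equiv.Perm.sign.comp (MulAction.toPermHom ↥N Q)
  have key : ∀ (g : G) (k : ℕ) (hu : g⁻¹ * x ^ k * g ∈ N),
      ψ ⟨g⁻¹ * x ^ k * g, hu⟩ = (-1 : ℤˣ) ^ k := by
    intro g k hu
    set u : ↥N := ⟨g⁻¹ * x ^ k * g, hu⟩ with hudef
    have hpow : ∀ d : ℕ, ((u ^ d : ↥N) : G) = g⁻¹ * x ^ (k * d) * g := by
      intro d
      rw [SubgroupClass.coe_pow, hudef, pow_mul]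
      induction d with
      | zero => simp
      | succ d ih => rw [pow_succ, ih, pow_succ]; group
    have hord : orderOf u = orderOf (x ^ k) := by
      rw [← Subgroup.orderOf_coe]
      exact (MulAut.conj g⁻¹).orderOf_eq (x ^ k) ▸ by simp [hudef, mul_assoc]
    obtain ⟨i, hij, hi⟩ : ∃ i, i ≤ j ∧ orderOf u = 2 ^ i := by
      rw [hord]
      exact (Nat.dvd_prime_pow Nat.prime_two).mp
        (orderOf_dvd_of_pow_eq_one (by rw [← pow_mul, mul_comm, pow_mul, hx1, one_pow]))
    have hsemi : ∀ d, 0 < d → d < 2 ^ i → ∀ q : Q, ((MulAction.toPermHom ↥N Q u) ^ d) q ≠ q := by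
      intro d hd0 hd q
      induction q using QuotientGroup.induction_on with
      | H a =>
        intro hfix
        rw [← map_pow] at hfix
        have h2 : (u ^ d * a)⁻¹ * a ∈ T.subgroupOf N := QuotientGroup.eq.mp hfix
        have h3 : a⁻¹ * (u ^ d) * a ∈ T.subgroupOf N := by
          have := inv_mem h2
          simpa [mul_assoc] using this
        have hne : x ^ (k * d) ≠ 1 := by
          intro he
          have : u ^ d = 1 := Subtype.ext (by rw [hpow, he]; simp)
          exact absurd (Nat.le_of_dvd hd0 (orderOf_dvd_of_pow_eq_one this)) (by omega)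
        obtain ⟨e, he⟩ := exists_pow_eq_involution hx1 hne
        apply hz (g * (a : G))
        have h4 : ((a⁻¹ * (u ^ d) * a) ^ e : ↥N) ∈ T.subgroupOf N := pow_mem h3 e
        rw [mem_subgroupOf, SubgroupClass.coe_pow] at h4
        rw [← he]
        convert h4 using 1
        rw [coe_mul, coe_mul, hpow, coe_inv]
        have := map_pow (MulAut.conj (g * (a : G))⁻¹) (x ^ (k * d)) e
        simp only [MulAut.conj_apply, inv_inv] at this
        rw [this]
        congr 1
        group
    rcases Nat.eq_zero_or_pos i with rfl | hi0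
    · have hu1 : u = 1 := orderOf_eq_one_iff.mp (by simpa using hi)
      have hk : Even k := by
        by_contra hk
        rw [hi, orderOf_pow, hx, Nat.Coprime.gcd_eq_one (Nat.Coprime.pow_left j
          (Nat.prime_two.coprime_iff_not_dvd.mpr fun h => hk (even_iff_two_dvd.mpr h)))] at hord
        have := Nat.one_lt_two_pow (n := j) (by omega)
        simp at hord
        omega
      rw [hu1, map_one, hk.neg_one_pow]
    · have hs := sign_semiregular (MulAction.toPermHom ↥N Q u) hi0
        (by rw [← map_pow, ← hi, pow_orderOf_eq_one, map_one]) hsemi hQ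
      rcases Nat.even_or_odd k with hk | hk
      · rw [hk.neg_one_pow]
        refine hs.2 (lt_of_le_of_ne hij fun hij' => ?_)
        obtain ⟨m, rfl⟩ := hk
        have : (x ^ (m + m)) ^ 2 ^ (j - 1) = 1 := by
          rw [← pow_mul, show (m + m) * 2 ^ (j - 1) = 2 ^ j * m by
            rw [show 2 ^ j = 2 * 2 ^ (j - 1) by rw [← pow_succ']; congr 1; omega]; ring,
            pow_mul, hx1, one_pow]
        have h5 := Nat.le_of_dvd (by positivity) (orderOf_dvd_of_pow_eq_one this)
        rw [← hord, hi, hij'] at h5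
        have : 2 ^ (j - 1) < 2 ^ j := Nat.pow_lt_pow_right (by norm_num) (by omega)
        omega
      · rw [hk.neg_one_pow]
        refine hs.1 ?_
        rw [hi, orderOf_pow, hx, Nat.Coprime.gcd_eq_one (Nat.Coprime.pow_left j
          (Nat.prime_two.coprime_iff_not_dvd.mpr (by obtain ⟨m, rfl⟩ := hk; omega))),
          Nat.div_one] at hord
        exact Nat.pow_right_injective le_rfl hord
  have : Fintype (Quotient (MulAction.orbitRel (zpowers x) (G ⧸ N))) := Fintype.ofFinite _
  have hval : MonoidHom.transfer ψ x = -1 := by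
    rw [MonoidHom.transfer_eq_prod_quotient_orbitRel_zpowers_quot]
    rw [Finset.prod_congr rfl fun q _ => key q.out.out _
      (QuotientGroup.out_conj_pow_minimalPeriod_mem N x q.out), Finset.prod_pow_eq_pow_sum,
      ← Subgroup.index_eq_sum_minimalPeriod N x, hN.neg_one_pow]
  have hker := CfsgLib.Fusion.Basic.pResidual_le_ker (p := 2) (MonoidHom.transfer ψ)
    (IsPGroup.of_card (n := 1) (by simp [Nat.card_eq_fintype_card, Fintype.card_units_int]))
  have := hker (htop ▸ mem_top x)
  rw [MonoidHom.mem_ker, hval] at this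
  exact absurd this (by decide)

/-- Outside a cyclic subgroup of index two of a dihedral two-group there are only involutions. -/
theorem dihedral_orderOf_eq_two {D : Type*} [Group D] {n : ℕ} (hn : 2 ≤ n)
    (e : D ≃* DihedralGroup n) (C : Subgroup D) (hC : IsCyclic C) (hCi : C.index = 2) {a : D}
    (ha : a ∉ C) : orderOf a = 2 := by
  have : NeZero n := ⟨by omega⟩
  obtain ⟨⟨c, hc⟩, hgen⟩ := hC.exists_generator
  have hcard : Nat.card C = n := by
    have := C.card_mul_index
    rw [hCi, Nat.card_congr e.toEquiv, DihedralGroup.nat_card] at this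
    omega
  have hoc : orderOf c = n := by
    rw [← hcard, ← orderOf_eq_card_of_forall_mem_zpowers hgen, Subgroup.orderOf_mk]
  have ha1 : a ≠ 1 := fun h => ha (h ▸ C.one_mem)
  rw [← e.orderOf_eq a]
  cases h : e a with
  | sr i => exact DihedralGroup.orderOf_sr i
  | r i =>
    have hi : i ≠ 0 := by
      rintro rfl
      exact ha1 (e.injective (by rw [h, map_one, DihedralGroup.one_def]))
    cases h' : e c with
    | sr k =>
      have : n = 2 := by rw [← hoc, ← e.orderOf_eq, h', DihedralGroup.orderOf_sr]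
      subst this
      have hi1 : ∀ i : ZMod 2, i ≠ 0 → i = 1 := by decide
      rw [hi1 i hi, DihedralGroup.orderOf_r_one]
    | r k =>
      exfalso
      apply ha
      have hk : orderOf (DihedralGroup.r k : DihedralGroup n) = n := by
        rw [← h', e.orderOf_eq, hoc]
      let R : Subgroup (DihedralGroup n) := zpowers (DihedralGroup.r 1)
      have hRk : zpowers (DihedralGroup.r k : DihedralGroup n) = R := by
        apply Subgroup.eq_of_le_of_card_ge
        · rw [zpowers_le]
          exact ⟨(k.val : ℤ), by simp⟩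
        · rw [Nat.card_zpowers, Nat.card_zpowers, hk, DihedralGroup.orderOf_r_one]
      have : e a ∈ zpowers (e c) := by
        rw [h', hRk, h]
        exact ⟨(i.val : ℤ), by simp⟩
      obtain ⟨z, hz⟩ := this
      have : a = c ^ z := e.injective (by rw [map_zpow]; exact hz.symm)
      rw [this]
      exact C.zpow_mem hc z

end CfsgLib.Fusion.SemiregularTransfer
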