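import Mathlib
import Cfsg.Agent.Lib.Frobenius.Zipper

/-!
Wielandt's join theorem: in a finite group the join of two subnormal subgroups is subnormal.
-/

set_option autoImplicit false

namespace CfsgLib.Fusion.SubnormalJoin

universe u

open Subgroup

theorem sup_isSubnormal_aux (n : ℕ) : ∀ (G : Type u) [Group G] [Finite G], Nat.card G ≤ n →
    ∀ A B : Subgroup G, A.IsSubnormal → B.IsSubnormal → (A ⊔ B).IsSubnormal := by
  induction n with
  | zero =>
    intro G _ _ hc
    exact absurd (Nat.le_zero.1 hc) Nat.card_pos.ne'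
  | succ n ih =>
    intro G _ _ hc A B hA hB
    by_cases hAtop : A = ⊤
    · rw [hAtop, top_sup_eq]; exact Subgroup.IsSubnormal.top
    obtain ⟨N, hN, hAN, hNlt⟩ := (hA.lt_normal).resolve_left hAtop
    have hcN : Nat.card N ≤ n := by
      rcases Nat.lt_or_ge (Nat.card N) (Nat.card G) with h | h
      · omega
      · exact absurd (Subgroup.eq_top_of_card_eq N (le_antisymm (Subgroup.card_le_card_group N) h))
          hNlt.ne
    classical
    haveI := Fintype.ofFinite G
    -- the join of the `B`-conjugates of `A`
    set f : G → Subgroup G := fun b =>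
      if b ∈ B then A.map (MulAut.conj b).toMonoidHom else ⊥ with hf
    have hfsn : ∀ b, (f b).IsSubnormal ∧ f b ≤ N := by
      intro b
      by_cases hb : b ∈ B
      · simp only [hf, if_pos hb]
        exact ⟨hA.map (MulAut.conj b).surjective, by
          rintro _ ⟨a, ha, rfl⟩
          exact hN.conj_mem a (hAN ha) b⟩
      · simp only [hf, if_neg hb]
        exact ⟨Subgroup.IsSubnormal.bot, bot_le⟩
    set C : Subgroup G := Finset.univ.sup f with hC
    have hCsn : C.IsSubnormal ∧ C ≤ N := by
      refine Finset.sup_induction (p := fun X : Subgroup G => X.IsSubnormal ∧ X ≤ N)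
        ⟨Subgroup.IsSubnormal.bot, bot_le⟩ ?_ (fun b _ => hfsn b)
      rintro X ⟨hX, hXN⟩ Y ⟨hY, hYN⟩
      refine ⟨?_, sup_le hXN hYN⟩
      have h1 := ih N hcN (X.subgroupOf N) (Y.subgroupOf N) hX.subgroupOf hY.subgroupOf
      rw [← Subgroup.subgroupOf_sup hXN hYN] at h1
      exact Subgroup.IsSubnormal.trans (sup_le hXN hYN) h1 hN.isSubnormal
    have hle : ∀ b, f b ≤ C := fun b => Finset.le_sup (Finset.mem_univ b)
    have hAC : A ≤ C := by
      have h1 := hle 1
      simp only [hf, if_pos B.one_mem] at h1
      intro a ha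
      exact h1 ⟨a, ha, by simp⟩
    have hCAB : C ≤ A ⊔ B := by
      refine Finset.sup_le fun b _ => ?_
      by_cases hb : b ∈ B
      · simp only [hf, if_pos hb]
        rintro _ ⟨a, ha, rfl⟩
        exact mul_mem (mul_mem (mem_sup_right hb) (mem_sup_left ha)) (inv_mem (mem_sup_right hb))
      · simp only [hf, if_neg hb]; exact bot_le
    have hconj : ∀ b ∈ B, ∀ x ∈ C, b * x * b⁻¹ ∈ C := by
      intro b hb
      have : C ≤ C.comap (MulAut.conj b).toMonoidHom := by
        refine Finset.sup_le fun c _ => ?_
        by_cases hc' : c ∈ B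
        · simp only [hf, if_pos hc']
          rintro _ ⟨a, ha, rfl⟩
          rw [Subgroup.mem_comap]
          have h1 := hle (b * c)
          simp only [hf, if_pos (B.mul_mem hb hc')] at h1
          exact h1 ⟨a, ha, by simp [mul_assoc]⟩
        · simp only [hf, if_neg hc']; exact bot_le
      exact fun x hx => this hx
    have hBC : B ≤ normalizer (C : Set G) := by
      intro b hb
      rw [mem_normalizer_iff]
      intro x
      refine ⟨hconj b hb x, fun hx => ?_⟩
      have := hconj b⁻¹ (inv_mem hb) _ hx
      simpa [mul_assoc] using this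
    have e : A ⊔ B = C ⊔ B :=
      le_antisymm (sup_le_sup_right hAC B) (sup_le hCAB le_sup_right)
    rw [e]
    exact CfsgLib.Frobenius.Zipper.sup_isSubnormal hCsn.1 hB hBC

/-- Wielandt: the join of two subnormal subgroups of a finite group is subnormal. -/
theorem sup_isSubnormal {G : Type u} [Group G] [Finite G] {A B : Subgroup G}
    (hA : A.IsSubnormal) (hB : B.IsSubnormal) : (A ⊔ B).IsSubnormal :=
  sup_isSubnormal_aux (Nat.card G) G le_rfl A B hA hB

end CfsgLib.Fusion.SubnormalJoin
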