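import Cfsg.Agent.S0597
import Cfsg.Agent.Lib.Fusion.SubnormalJoin
import Cfsg.Agent.Lib.LocalEven.Residual
import Cfsg.Agent.Lib.Solvable.Basic
import Cfsg.Agent.Lib.Solvable.Cores

/-!
Two subnormal subgroups acting irreducibly on incomparable commutator modules commute.
-/

set_option autoImplicit false
set_option linter.style.haveILetI false
set_option linter.unusedSectionVars false

open scoped commutatorElement

namespace CfsgLib.Fusion.SubnormalPair

variable {G : Type*} [Group G] [Finite G] {p : ℕ} [Fact p.Prime]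

/-- The data: `E` faithful on `V` without normal `p`-subgroups, `E'` a subnormal subgroup of it
irreducible on `[V, E']`. -/
structure Piece (V E X : Subgroup G) : Prop where
  le : X ≤ E
  sn : (X.subgroupOf E).IsSubnormal
  irr : ∀ U : Subgroup G, U ≤ ⁅V, X⁆ → X ≤ Subgroup.normalizer (U : Set G) → U = ⊥ ∨ U = ⁅V, X⁆
  two : 2 < Nat.card X

theorem eq_bot_of_normal {E X R : Subgroup G} (hOp : Cfsg.pCore p ↥E = ⊥) (hXE : X ≤ E)
    (hsn : (X.subgroupOf E).IsSubnormal) (hRX : R ≤ X) (hn : X ≤ Subgroup.normalizer (R : Set G))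
    (hRp : IsPGroup p R) : R = ⊥ := by
  have hsn' : (R.subgroupOf E).IsSubnormal := by
    have hle : R.subgroupOf E ≤ X.subgroupOf E := Subgroup.comap_mono hRX
    refine Subgroup.IsSubnormal.step _ _ hle hsn ?_
    rw [Subgroup.normal_subgroupOf_iff_le_normalizer hle]
    intro x hx
    have hx' : (x : G) ∈ Subgroup.normalizer (R : Set G) := hn hx
    rw [Subgroup.mem_normalizer_iff] at hx' ⊢
    exact fun y => hx' y
  have h := CfsgLib.LocalEven.Residual.le_pCore_of_isSubnormal (p := p) hsn'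
    (hRp.of_equiv (Subgroup.subgroupOfEquivOfLe (hRX.trans hXE)).symm)
  rw [hOp, le_bot_iff, Subgroup.subgroupOf_eq_bot] at h
  exact h.eq_bot_of_le (hRX.trans hXE)

variable {V E : Subgroup G}

theorem commutator_le (hEV : E ≤ Subgroup.normalizer (V : Set G)) {X : Subgroup G} (hX : X ≤ E) :
    ⁅V, X⁆ ≤ V :=
  Subgroup.le_normalizer_iff_commutator_le_left.1 (hX.trans hEV)

theorem mul_of_mem_sup (hV : IsMulCommutative V) {A B : Subgroup G} (hA : A ≤ V) (hB : B ≤ V) {w : G}
    (hw : w ∈ A ⊔ B) : ∃ x ∈ A, ∃ y ∈ B, x * y = w := by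
  have hVc := CfsgLib.Solvable.Basic.isMulCommutative_subgroup_iff.1 hV
  rw [← SetLike.mem_coe, Subgroup.coe_mul_of_right_le_normalizer_left A B
    (le_trans (fun y hy => Subgroup.mem_centralizer_iff.2 fun x hx => hVc x (hA hx) y (hB hy))
      (Subgroup.centralizer_le_normalizer _))] at hw
  exact hw

theorem card_sup (hV : IsMulCommutative V) {A B : Subgroup G} (hA : A ≤ V) (hB : B ≤ V)
    (h : A ⊓ B = ⊥) : Nat.card (A ⊔ B : Subgroup G) = Nat.card A * Nat.card B := by
  have hVc := CfsgLib.Solvable.Basic.isMulCommutative_subgroup_iff.1 hV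
  have key : Set.SurjOn (fun z : G × G => z.1 * z.2) ((A : Set G) ×ˢ (B : Set G))
      ((A ⊔ B : Subgroup G) : Set G) := by
    intro w hw
    obtain ⟨x, hx, y, hy, rfl⟩ := mul_of_mem_sup hV hA hB hw
    exact ⟨(x, y), ⟨hx, hy⟩, rfl⟩
  let f : A × B → (A ⊔ B : Subgroup G) := fun z =>
    ⟨z.1 * z.2, mul_mem (Subgroup.mem_sup_left z.1.2) (Subgroup.mem_sup_right z.2.2)⟩
  have hf : Function.Bijective f := by
    constructor
    · rintro ⟨x, y⟩ ⟨x', y'⟩ he
      have he' : (x : G) * y = x' * y' := congrArg (fun w : (A ⊔ B : Subgroup G) => (w : G)) he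
      have h1 : (x' : G)⁻¹ * x = y' * (y : G)⁻¹ := by
        rw [inv_mul_eq_iff_eq_mul, ← mul_assoc, ← he', mul_inv_cancel_right]
      have h2 : (x' : G)⁻¹ * x ∈ A ⊓ B :=
        Subgroup.mem_inf.2 ⟨mul_mem (inv_mem x'.2) x.2, h1 ▸ mul_mem y'.2 (inv_mem y.2)⟩
      rw [h, Subgroup.mem_bot] at h2
      have hy : (y' : G) * (y : G)⁻¹ = 1 := h1.symm.trans h2
      exact Prod.ext (Subtype.ext (inv_mul_eq_one.1 h2).symm) (Subtype.ext (mul_inv_eq_one.1 hy).symm)
    · rintro ⟨w, hw⟩
      obtain ⟨⟨x, y⟩, ⟨hx, hy⟩, he⟩ := key hw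
      exact ⟨(⟨x, hx⟩, ⟨y, hy⟩), Subtype.ext he⟩
  rw [← Nat.card_prod, Nat.card_eq_of_bijective f hf]

/-- A subgroup fixing the commutator module of a piece pointwise inside it is trivial. -/
theorem fixer_eq_bot (hV : Cfsg.IsElementaryAbelian p V) (hEV : E ≤ Subgroup.normalizer (V : Set G))
    (hf : E ⊓ Subgroup.centralizer (V : Set G) = ⊥) (hOp : Cfsg.pCore p ↥E = ⊥) {X : Subgroup G}
    (hX : X ≤ E) (hsn : (X.subgroupOf E).IsSubnormal) {R : Subgroup G} (hRX : R ≤ X)
    (hn : X ≤ Subgroup.normalizer (R : Set G))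
    (hfix : ∀ r ∈ R, ∀ w ∈ ⁅V, X⁆, r * w = w * r) : R = ⊥ := by
  refine eq_bot_of_normal hOp hX hsn hRX hn fun r => ⟨1, Subtype.ext ?_⟩
  rw [pow_one, Subgroup.coe_pow, Subgroup.coe_one]
  obtain ⟨r, hr⟩ := r
  show r ^ p = 1
  have hmem : r ^ p ∈ E ⊓ Subgroup.centralizer (V : Set G) := by
    refine Subgroup.mem_inf.2 ⟨pow_mem (hX (hRX hr)) p, Subgroup.mem_centralizer_iff.2 fun v hv => ?_⟩
    have hw : v⁻¹ * r * v * r⁻¹ ∈ ⁅V, X⁆ := by
      have := Subgroup.commutator_mem_commutator (inv_mem hv) (hRX hr)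
      rw [commutatorElement_def, inv_inv] at this
      exact this
    set w := v⁻¹ * r * v * r⁻¹ with hwdef
    have hwV := commutator_le hEV hX hw
    have hk : ∀ k : ℕ, r ^ k * v = v * w ^ k * r ^ k := by
      intro k
      induction k with
      | zero => simp
      | succ k ih =>
        have h1 : r * v = v * w * r := by rw [hwdef]; group
        have h2 : r * w ^ k = w ^ k * r := (Commute.pow_right (hfix r hr w hw) k)
        calc r ^ (k + 1) * v = r * v * (w ^ k * r ^ k) := by rw [pow_succ', mul_assoc, ih]; group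
          _ = v * w * (r * w ^ k) * r ^ k := by rw [h1]; group
          _ = v * w ^ (k + 1) * r ^ (k + 1) := by rw [h2, pow_succ' r, pow_succ' w]; group
    have h := hk p
    rw [hV.2 w hwV, mul_one] at h
    exact h.symm
  rwa [hf, Subgroup.mem_bot] at hmem

/-- If `X` normalises `⁅V, Y⁆`, which is not above `⁅V, X⁆`, then `X` fixes it. -/
theorem fixes_of_normalizes (hEV : E ≤ Subgroup.normalizer (V : Set G))
    {X Y : Subgroup G} (hX : Piece V E X) (hY : Piece V E Y)
    (hn : X ≤ Subgroup.normalizer ((⁅V, Y⁆ : Subgroup G) : Set G)) (hle : ¬ ⁅V, X⁆ ≤ ⁅V, Y⁆) :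
    ⁅V, Y⁆ ⊓ ⁅V, X⁆ = ⊥ ∧ ⁅⁅V, Y⁆, X⁆ = ⊥ := by
  have hinf : ⁅V, Y⁆ ⊓ ⁅V, X⁆ = ⊥ := by
    refine (hX.irr _ inf_le_right ?_).resolve_right fun h => hle (inf_eq_right.1 h)
    intro x hx
    rw [Subgroup.mem_normalizer_iff]
    intro u
    simp only [Subgroup.mem_inf]
    exact and_congr (Subgroup.mem_normalizer_iff.1 (hn hx) u)
      (Subgroup.mem_normalizer_iff.1 (Subgroup.normalizer_commutator_ge_right V X hx) u)
  refine ⟨hinf, le_bot_iff.1 (le_trans (le_inf ?_ ?_) hinf.le)⟩
  · exact Subgroup.le_normalizer_iff_commutator_le_left.1 hn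
  · exact Subgroup.commutator_mono (commutator_le hEV hY.le) le_rfl

theorem map_commutator_conj (hEV : E ≤ Subgroup.normalizer (V : Set G)) (X : Subgroup G) {e : G}
    (he : e ∈ E) :
    (⁅V, X⁆).map (MulAut.conj e).toMonoidHom = ⁅V, X.map (MulAut.conj e).toMonoidHom⁆ := by
  have hVe : V.map (MulAut.conj e).toMonoidHom = V := Subgroup.mem_normalizer_iff_map_conj_eq.1 (hEV he)
  rw [Subgroup.map_commutator, hVe]

theorem Piece.conj (hEV : E ≤ Subgroup.normalizer (V : Set G)) {X : Subgroup G} (hX : Piece V E X)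
    {e : G} (he : e ∈ E) : Piece V E (X.map (MulAut.conj e).toMonoidHom) where
  le := by
    rintro _ ⟨x, hx, rfl⟩
    exact mul_mem (mul_mem he (hX.le hx)) (inv_mem he)
  sn := by
    have h := hX.sn.map (f := (MulAut.conj (⟨e, he⟩ : E)).toMonoidHom) (MulAut.conj _).surjective
    convert h using 1
    ext x
    simp only [Subgroup.mem_subgroupOf, Subgroup.mem_map]
    constructor
    · rintro ⟨y, hy, hyx⟩
      exact ⟨⟨y, hX.le hy⟩, hy, Subtype.ext hyx⟩
    · rintro ⟨y, hy, hyx⟩
      exact ⟨y, hy, congrArg Subtype.val hyx⟩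
  irr := by
    intro U hU hn
    rw [← map_commutator_conj hEV X he] at hU ⊢
    set U₀ := U.comap (MulAut.conj e).toMonoidHom with hU₀
    have hUU : U₀.map (MulAut.conj e).toMonoidHom = U :=
      Subgroup.map_comap_eq_self_of_surjective (MulAut.conj e).surjective U
    have h1 : U₀ ≤ ⁅V, X⁆ := fun u hu => by
      obtain ⟨w, hw, hwu⟩ := hU hu
      rwa [(MulAut.conj e).injective hwu] at hw
    have h2 : X ≤ Subgroup.normalizer (U₀ : Set G) := by
      intro x hx
      rw [Subgroup.mem_normalizer_iff]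
      intro u
      have := Subgroup.mem_normalizer_iff.1 (hn ⟨x, hx, rfl⟩) ((MulAut.conj e) u)
      simp only [hU₀, Subgroup.mem_comap, MulEquiv.coe_toMonoidHom] at this ⊢
      rw [map_mul, map_mul, map_inv]
      exact this
    rcases hX.irr U₀ h1 h2 with h | h
    · exact Or.inl (by rw [← hUU, h, Subgroup.map_bot])
    · exact Or.inr (by rw [← hUU, h])
  two := by
    rw [Subgroup.card_map_of_injective (MulAut.conj e).injective]
    exact hX.two

theorem key (n : ℕ) : ∀ E : Subgroup G, Nat.card E ≤ n → Cfsg.IsElementaryAbelian p V →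
    E ≤ Subgroup.normalizer (V : Set G) → E ⊓ Subgroup.centralizer (V : Set G) = ⊥ →
    Cfsg.pCore p ↥E = ⊥ → ∀ X Y : Subgroup G, Piece V E X → Piece V E Y →
      ¬ ⁅V, X⁆ ≤ ⁅V, Y⁆ → ¬ ⁅V, Y⁆ ≤ ⁅V, X⁆ → ⁅X, Y⁆ = ⊥ := by
  induction n with
  | zero =>
    intro E hn
    exact absurd (Nat.le_zero.1 hn) Nat.card_pos.ne'
  | succ n ih =>
    intro E hn hV hEV hf hOp X Y hX hY hXY hYX
    -- commuting from a vanishing double commutator
    have fin : ∀ X Y : Subgroup G, Piece V E X → Piece V E Y → ⁅⁅V, X⁆, Y⁆ = ⊥ → ⁅X, Y⁆ = ⊥ := by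
      intro X Y hX hY h
      have := Cfsg.Agent.S0597.result V E hV hEV hf X Y hX.le hY.le hX.sn hY.sn h
      rwa [hOp, Subgroup.map_bot, le_bot_iff] at this
    by_cases hA : Y ≤ Subgroup.normalizer ((⁅V, X⁆ : Subgroup G) : Set G)
    · exact fin X Y hX hY (fixes_of_normalizes hEV hY hX hA hYX).2
    by_cases hB : X ≤ Subgroup.normalizer ((⁅V, Y⁆ : Subgroup G) : Set G)
    · rw [Subgroup.commutator_comm]
      exact fin Y X hY hX (fixes_of_normalizes hEV hX hY hB hXY).2
    exfalso
    -- conjugates of a piece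
    have hpair : ∀ X Y : Subgroup G, Piece V E X → Piece V E Y → ¬ ⁅V, Y⁆ ≤ ⁅V, X⁆ →
        ∀ g ∈ Y, ∀ g' ∈ Y, (⁅V, X⁆).map (MulAut.conj g).toMonoidHom ≠ (⁅V, X⁆).map (MulAut.conj g').toMonoidHom →
        (⁅V, X⁆).map (MulAut.conj g).toMonoidHom ⊓ (⁅V, X⁆).map (MulAut.conj g').toMonoidHom = ⊥ ∧
        ⁅(⁅V, X⁆).map (MulAut.conj g).toMonoidHom, X.map (MulAut.conj g').toMonoidHom⁆ = ⊥ := by
      intro X Y hX hY hYX g hg g' hg' hne
      rw [map_commutator_conj hEV X (hY.le hg), map_commutator_conj hEV X (hY.le hg')] at hne ⊢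
      set P := X.map (MulAut.conj g).toMonoidHom with hP
      set Q := X.map (MulAut.conj g').toMonoidHom with hQ
      have hP' := hX.conj hEV (hY.le hg)
      have hQ' := hX.conj hEV (hY.le hg')
      have hcard : Nat.card ↥(⁅V, P⁆) = Nat.card ↥(⁅V, Q⁆) := by
        rw [← map_commutator_conj hEV X (hY.le hg), ← map_commutator_conj hEV X (hY.le hg'),
          Subgroup.card_map_of_injective (MulAut.conj g).injective,
          Subgroup.card_map_of_injective (MulAut.conj g').injective]
      have i1 : ¬ ⁅V, P⁆ ≤ ⁅V, Q⁆ := fun h => hne (Subgroup.eq_of_le_of_card_ge h hcard.ge)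
      have i2 : ¬ ⁅V, Q⁆ ≤ ⁅V, P⁆ := fun h => hne (Subgroup.eq_of_le_of_card_ge h hcard.le).symm
      set F := P ⊔ Q with hF
      have hFE : F ≤ E := sup_le hP'.le hQ'.le
      have hFsn : (F.subgroupOf E).IsSubnormal := by
        rw [hF, Subgroup.subgroupOf_sup hP'.le hQ'.le]
        exact SubnormalJoin.sup_isSubnormal hP'.sn hQ'.sn
      -- `F` is proper
      have hXne : X.subgroupOf E ≠ ⊤ := fun h => hYX (Subgroup.commutator_mono le_rfl
        (hY.le.trans (Subgroup.subgroupOf_eq_top.1 h)))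
      obtain ⟨N, hN, hXN, hNlt⟩ := (hX.sn.lt_normal).resolve_left hXne
      have hFN : ∀ f ∈ F, ∀ hf : f ∈ E, (⟨f, hf⟩ : E) ∈ N := by
        have hle : F ≤ N.map E.subtype := by
          have hc : ∀ e : G, ∀ he : e ∈ E, X.map (MulAut.conj e).toMonoidHom ≤ N.map E.subtype := by
            rintro e he _ ⟨x, hx, rfl⟩
            exact ⟨⟨e, he⟩ * ⟨x, hX.le hx⟩ * ⟨e, he⟩⁻¹,
              hN.conj_mem _ (hXN (show (⟨x, hX.le hx⟩ : E) ∈ X.subgroupOf E from hx)) _, rfl⟩
          exact sup_le (hc g (hY.le hg)) (hc g' (hY.le hg'))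
        intro f hf hfE
        obtain ⟨z, hz, hzf⟩ := hle hf
        have : z = ⟨f, hfE⟩ := Subtype.ext hzf
        exact this ▸ hz
      have hFcard : Nat.card F ≤ n := by
        have hlt : Nat.card F < Nat.card E := by
          refine lt_of_not_ge fun hge => hNlt.ne ((Subgroup.eq_top_iff' N).2 fun z => ?_)
          exact hFN z ((Subgroup.eq_of_le_of_card_ge hFE hge).ge z.2) z.2
        omega
      have hFOp : Cfsg.pCore p ↥F = ⊥ := by
        haveI : (Cfsg.pCore p ↥F).Normal := CfsgLib.Solvable.Cores.pCore_normal p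
        have h := eq_bot_of_normal hOp hFE hFsn (Subgroup.map_subtype_le (Cfsg.pCore p ↥F)) ?_
          ((CfsgLib.Solvable.Cores.isPGroup_pCore p).map F.subtype)
        · exact Subgroup.map_injective F.subtype_injective (h.trans (Subgroup.map_bot _).symm)
        · intro f hf
          rw [Subgroup.mem_normalizer_iff]
          intro z
          constructor
          · rintro ⟨y, hy, rfl⟩
            exact ⟨⟨f, hf⟩ * y * ⟨f, hf⟩⁻¹, Subgroup.Normal.conj_mem inferInstance y hy _, rfl⟩
          · rintro ⟨y, hy, hyz⟩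
            refine ⟨⟨f, hf⟩⁻¹ * y * ⟨f, hf⟩, ?_, ?_⟩
            · have := Subgroup.Normal.conj_mem inferInstance y hy (⟨f, hf⟩⁻¹ : F)
              rwa [inv_inv] at this
            · show f⁻¹ * (y : G) * f = z
              rw [show (y : G) = f * z * f⁻¹ from hyz]; group
      have hpieceF : ∀ Z : Subgroup G, Piece V E Z → Z ≤ F → Piece V F Z := by
        intro Z hZ hZF
        refine ⟨hZF, ?_, hZ.irr, hZ.two⟩
        have := hZ.sn.comap (Subgroup.inclusion hFE)
        convert this using 1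
        rfl
      have hfF : F ⊓ Subgroup.centralizer (V : Set G) = ⊥ :=
        le_bot_iff.1 ((inf_le_inf_right _ hFE).trans hf.le)
      have hcomm : ⁅P, Q⁆ = ⊥ := ih F hFcard hV (hFE.trans hEV) hfF hFOp P Q
        (hpieceF P hP' le_sup_left) (hpieceF Q hQ' le_sup_right) i1 i2
      have hn : Q ≤ Subgroup.normalizer ((⁅V, P⁆ : Subgroup G) : Set G) := by
        intro q hq
        have hqP : P.map (MulAut.conj q).toMonoidHom = P := Subgroup.mem_normalizer_iff_map_conj_eq.1
          (Subgroup.centralizer_le_normalizer _ (Subgroup.commutator_eq_bot_iff_le_centralizer.1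
            (by rw [Subgroup.commutator_comm, hcomm]) hq))
        rw [Subgroup.mem_normalizer_iff_map_conj_eq]
        show (⁅V, P⁆).map (MulAut.conj q).toMonoidHom = ⁅V, P⁆
        rw [map_commutator_conj hEV P (hQ'.le hq), hqP]
      exact fixes_of_normalizes hEV hQ' hP' hn i2
    -- sizes of the two modules
    have hone : ∀ Z : Subgroup G, Z.map (MulAut.conj (1 : G)).toMonoidHom = Z := fun Z => by
      ext z; simp
    have hsize : ∀ X Y : Subgroup G, Piece V E X → Piece V E Y → ¬ ⁅V, Y⁆ ≤ ⁅V, X⁆ →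
        ¬ Y ≤ Subgroup.normalizer ((⁅V, X⁆ : Subgroup G) : Set G) →
        Nat.card ↥(⁅V, X⁆) ≤ Nat.card ↥(⁅V, Y⁆) := by
      intro X Y hX hY hYX hn
      obtain ⟨g, hg, hgn⟩ := SetLike.not_le_iff_exists.1 hn
      have hne : (⁅V, X⁆).map (MulAut.conj g).toMonoidHom ≠ ⁅V, X⁆ := fun h =>
        hgn (Subgroup.mem_normalizer_iff_map_conj_eq.2 h)
      have hd := (hpair X Y hX hY hYX g hg 1 (one_mem _) (by rwa [hone])).1
      rw [hone] at hd
      refine Nat.card_le_card_of_injective (fun w : ↥(⁅V, X⁆) =>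
        (⟨⁅(w : G), g⁆, Subgroup.commutator_mem_commutator (commutator_le hEV hX.le w.2) hg⟩ : ↥(⁅V, Y⁆))) ?_
      intro w w' hww
      have h : (w : G) * g * (w : G)⁻¹ * g⁻¹ = w' * g * (w' : G)⁻¹ * g⁻¹ := by
        have := congrArg (fun z : ↥(⁅V, Y⁆) => (z : G)) hww
        simpa [commutatorElement_def] using this
      have hz : (w' : G)⁻¹ * w ∈ (⁅V, X⁆).map (MulAut.conj g).toMonoidHom ⊓ ⁅V, X⁆ := by
        refine Subgroup.mem_inf.2 ⟨⟨(w' : G)⁻¹ * w, mul_mem (inv_mem w'.2) w.2, ?_⟩,
          mul_mem (inv_mem w'.2) w.2⟩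
        show g * ((w' : G)⁻¹ * w) * g⁻¹ = (w' : G)⁻¹ * w
        have h2 : g * (w : G)⁻¹ * g⁻¹ = (w : G)⁻¹ * (w' * g * (w' : G)⁻¹ * g⁻¹) := by rw [← h]; group
        have h3 : g * ((w' : G)⁻¹ * w) * g⁻¹ = (g * (w' : G)⁻¹ * g⁻¹) * (g * (w : G)⁻¹ * g⁻¹)⁻¹ := by group
        rw [h3, h2]; group
      rw [hd, Subgroup.mem_bot] at hz
      exact Subtype.ext (inv_mul_eq_one.1 hz).symm
    have hWX := commutator_le hEV hX.le
    have hWY := commutator_le hEV hY.le
    have hcardeq : Nat.card ↥(⁅V, X⁆) = Nat.card ↥(⁅V, Y⁆) :=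
      le_antisymm (hsize X Y hX hY hYX hA) (hsize Y X hY hX hXY hB)
    set U := ⁅V, X⁆ ⊔ ⁅V, Y⁆ with hU
    have hconjU : ∀ g ∈ Y, (⁅V, X⁆).map (MulAut.conj g).toMonoidHom ≤ U := by
      rintro g hg _ ⟨w, hw, rfl⟩
      have h := inv_mem (Subgroup.commutator_mem_commutator (hWX hw) hg : ⁅w, g⁆ ∈ ⁅V, Y⁆)
      rw [commutatorElement_inv, commutatorElement_def] at h
      have := mul_mem (Subgroup.mem_sup_right h : _ ∈ U) (Subgroup.mem_sup_left hw)
      simpa [mul_assoc] using this
    have hfill : ∀ g ∈ Y, ∀ g' ∈ Y,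
        (⁅V, X⁆).map (MulAut.conj g).toMonoidHom ≠ (⁅V, X⁆).map (MulAut.conj g').toMonoidHom →
        (⁅V, X⁆).map (MulAut.conj g).toMonoidHom ⊔ (⁅V, X⁆).map (MulAut.conj g').toMonoidHom = U := by
      intro g hg g' hg' hne
      refine Subgroup.eq_of_le_of_card_ge (sup_le (hconjU g hg) (hconjU g' hg')) ?_
      have hle : ∀ g ∈ Y, (⁅V, X⁆).map (MulAut.conj g).toMonoidHom ≤ V := fun g hg => by
        rw [map_commutator_conj hEV X (hY.le hg)]
        exact commutator_le hEV (hX.conj hEV (hY.le hg)).le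
      rw [card_sup hV.1 (hle g hg) (hle g' hg') (hpair X Y hX hY hYX g hg g' hg' hne).1,
        Subgroup.card_map_of_injective (MulAut.conj g).injective,
        Subgroup.card_map_of_injective (MulAut.conj g').injective]
      conv_rhs => arg 2; rw [hcardeq]
      refine le_trans ?_ (le_of_eq rfl)
      have hVc := CfsgLib.Solvable.Basic.isMulCommutative_subgroup_iff.1 hV.1
      have key : ∀ w : U, ∃ z : ↥(⁅V, X⁆) × ↥(⁅V, Y⁆), (z.1 : G) * z.2 = w := fun w => by
        obtain ⟨x, hx, y, hy, he⟩ := mul_of_mem_sup hV.1 hWX hWY w.2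
        exact ⟨(⟨x, hx⟩, ⟨y, hy⟩), he⟩
      choose f hf using key
      rw [← Nat.card_prod]
      exact Nat.card_le_card_of_injective f fun w w' h => Subtype.ext (by rw [← hf w, ← hf w', h])
    obtain ⟨g, hg, hgn⟩ := SetLike.not_le_iff_exists.1 hA
    have hgne : (⁅V, X⁆).map (MulAut.conj g).toMonoidHom ≠ (⁅V, X⁆).map (MulAut.conj (1 : G)).toMonoidHom := by
      rw [hone]; exact fun h => hgn (Subgroup.mem_normalizer_iff_map_conj_eq.2 h)
    by_cases hthree : ∃ g' ∈ Y, (⁅V, X⁆).map (MulAut.conj g').toMonoidHom ≠ ⁅V, X⁆ ∧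
        (⁅V, X⁆).map (MulAut.conj g').toMonoidHom ≠ (⁅V, X⁆).map (MulAut.conj g).toMonoidHom
    · obtain ⟨g', hg', hne1, hne2⟩ := hthree
      -- `X` fixes `U` pointwise
      have h1 := (hpair X Y hX hY hYX g hg 1 (one_mem _) hgne).2
      have h2 := (hpair X Y hX hY hYX g' hg' 1 (one_mem _) (by rwa [hone])).2
      rw [hone, Subgroup.commutator_eq_bot_iff_le_centralizer] at h1 h2
      have hUX : U ≤ Subgroup.centralizer (X : Set G) := by
        rw [← hfill g hg g' hg' (Ne.symm hne2)]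
        exact sup_le h1 h2
      have hb := fixer_eq_bot hV hEV hf hOp hX.le hX.sn le_rfl Subgroup.le_normalizer
        (fun r hr w hw => Subgroup.mem_centralizer_iff.1 (hUX (Subgroup.mem_sup_left hw)) r hr)
      have := hX.two
      rw [hb, Subgroup.card_bot] at this
      omega
    · push Not at hthree
      -- the stabiliser of `⁅V, X⁆` in `Y` fixes `U` pointwise
      set R := Y ⊓ Subgroup.centralizer (U : Set G) with hR
      have hYU : Y ≤ Subgroup.normalizer (U : Set G) := by
        intro y hy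
        rw [Subgroup.mem_normalizer_iff_map_conj_eq]
        refine Subgroup.eq_of_le_of_card_ge ?_
          (le_of_eq (Subgroup.card_map_of_injective (MulAut.conj y).injective).symm)
        show U.map (MulAut.conj y).toMonoidHom ≤ U
        rw [hU, Subgroup.map_sup]
        refine sup_le (hconjU y hy) ?_
        have hYy : Y.map (MulAut.conj y).toMonoidHom = Y :=
          Subgroup.mem_normalizer_iff_map_conj_eq.1 (Subgroup.le_normalizer hy)
        rw [map_commutator_conj hEV Y (hY.le hy), hYy]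
        exact le_sup_right
      have hRn : Y ≤ Subgroup.normalizer (R : Set G) := by
        intro y hy
        rw [Subgroup.mem_normalizer_iff]
        intro r
        simp only [hR, Subgroup.mem_inf]
        refine and_congr (Subgroup.mem_normalizer_iff.1 (Subgroup.le_normalizer hy) r) ?_
        rw [Subgroup.mem_centralizer_iff, Subgroup.mem_centralizer_iff]
        constructor
        · intro h u hu
          have h1 : y⁻¹ * u * y ∈ U := by
            have := (Subgroup.mem_normalizer_iff.1 (inv_mem (hYU hy)) u).1 hu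
            rwa [inv_inv] at this
          have h2 := h _ h1
          calc u * (y * r * y⁻¹) = y * ((y⁻¹ * u * y) * r) * y⁻¹ := by group
            _ = y * (r * (y⁻¹ * u * y)) * y⁻¹ := by rw [h2]
            _ = _ := by group
        · intro h u hu
          have h2 := h _ ((Subgroup.mem_normalizer_iff.1 (hYU hy) u).1 hu)
          calc u * r = y⁻¹ * ((y * u * y⁻¹) * (y * r * y⁻¹)) * y := by group
            _ = y⁻¹ * ((y * r * y⁻¹) * (y * u * y⁻¹)) * y := by rw [h2]
            _ = _ := by group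
      have hstab : ∀ s ∈ Y, (⁅V, X⁆).map (MulAut.conj s).toMonoidHom = ⁅V, X⁆ →
          ∀ w ∈ ⁅V, X⁆, s * w = w * s := by
        intro s hs hsn w hw
        have hinf : ⁅V, X⁆ ⊓ ⁅V, Y⁆ = ⊥ := by
          have hc := hfill g hg 1 (one_mem _) hgne
          have hle : Nat.card ↥(⁅V, X⁆) * Nat.card ↥(⁅V, Y⁆) ≤ Nat.card U := by
            rw [← hc, card_sup hV.1 ((hconjU g hg).trans (sup_le hWX hWY)) (by rwa [hone])
              (hpair X Y hX hY hYX g hg 1 (one_mem _) hgne).1,
              Subgroup.card_map_of_injective (MulAut.conj g).injective, hone, hcardeq]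
          by_contra hne
          let f : ↥(⁅V, X⁆) × ↥(⁅V, Y⁆) → U := fun z =>
            ⟨z.1 * z.2, mul_mem (Subgroup.mem_sup_left z.1.2) (Subgroup.mem_sup_right z.2.2)⟩
          have hsur : Function.Surjective f := fun w => by
            obtain ⟨x, hx, y, hy, he⟩ := mul_of_mem_sup hV.1 hWX hWY w.2
            exact ⟨(⟨x, hx⟩, ⟨y, hy⟩), Subtype.ext he⟩
          have hinj : Function.Injective f :=
            (hsur.bijective_of_nat_card_le (by rw [Nat.card_prod]; exact hle)).1
          haveI : Nontrivial (⁅V, X⁆ ⊓ ⁅V, Y⁆ : Subgroup G) := (Subgroup.nontrivial_iff_ne_bot _).2 hne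
          obtain ⟨⟨x, hx⟩, hx1⟩ := exists_ne (1 : (⁅V, X⁆ ⊓ ⁅V, Y⁆ : Subgroup G))
          have := hinj (a₁ := (⟨x, hx.1⟩, ⟨x⁻¹, inv_mem hx.2⟩)) (a₂ := (1, 1))
            (Subtype.ext (by simp [f]))
          exact hx1 (Subtype.ext (congrArg (fun z : ↥(⁅V, X⁆) × ↥(⁅V, Y⁆) => (z.1 : G)) this :))
        have h1 : ⁅w, s⁆ ∈ ⁅V, X⁆ ⊓ ⁅V, Y⁆ := by
          refine Subgroup.mem_inf.2 ⟨?_, Subgroup.commutator_mem_commutator (hWX hw) hs⟩
          rw [commutatorElement_def, mul_assoc w, mul_assoc w]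
          exact mul_mem hw (hsn.le ⟨w⁻¹, inv_mem hw, rfl⟩)
        rw [hinf, Subgroup.mem_bot] at h1
        exact (commutatorElement_eq_one_iff_mul_comm.1 h1).symm
      have hmul : ∀ a b : G, ∀ Z : Subgroup G, Z.map (MulAut.conj (a * b)).toMonoidHom =
          (Z.map (MulAut.conj b).toMonoidHom).map (MulAut.conj a).toMonoidHom := fun a b Z => by
        rw [Subgroup.map_map]; congr 1; ext z; simp [mul_assoc]
      -- every element either fixes or swaps
      have hcases : ∀ y ∈ Y, (⁅V, X⁆).map (MulAut.conj y).toMonoidHom = ⁅V, X⁆ ∨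
          (⁅V, X⁆).map (MulAut.conj y).toMonoidHom = (⁅V, X⁆).map (MulAut.conj g).toMonoidHom :=
        fun y hy => or_iff_not_imp_left.2 (hthree y hy)
      have hsR : ∀ s ∈ Y, (⁅V, X⁆).map (MulAut.conj s).toMonoidHom = ⁅V, X⁆ → s ∈ R := by
        intro s hs hsn
        refine Subgroup.mem_inf.2 ⟨hs, ?_⟩
        have hle : U ≤ Subgroup.centralizer {s} := by
          rw [← hfill g hg 1 (one_mem _) hgne, hone]
          refine sup_le ?_ (fun w hw => Subgroup.mem_centralizer_singleton_iff.2 (hstab s hs hsn w hw).symm)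
          rintro _ ⟨w, hw, rfl⟩
          set s' := g⁻¹ * s * g
          have hs' : s' ∈ Y := mul_mem (mul_mem (inv_mem hg) hs) hg
          have hfix' : (⁅V, X⁆).map (MulAut.conj s').toMonoidHom = ⁅V, X⁆ := by
            refine (hcases s' hs').resolve_right fun h => ?_
            rcases hcases (s * g) (mul_mem hs hg) with h2 | h2
            · apply hgn
              rw [hmul] at h2
              have h3 := congrArg (fun Z : Subgroup G => Z.map (MulAut.conj s⁻¹).toMonoidHom) h2
              skip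
              rw [← hmul, inv_mul_cancel, hone] at h3
              have hsi : (⁅V, X⁆).map (MulAut.conj s⁻¹).toMonoidHom = ⁅V, X⁆ := by
                conv_lhs => rw [← hsn]
                rw [← hmul, inv_mul_cancel, hone]
              rw [hsi] at h3
              exact Subgroup.mem_normalizer_iff_map_conj_eq.2 h3
            · apply hgn
              have h3 := congrArg (fun Z : Subgroup G => Z.map (MulAut.conj g⁻¹).toMonoidHom) h2
              skip
              rw [← hmul, ← hmul, inv_mul_cancel, hone, ← mul_assoc] at h3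
              exact Subgroup.mem_normalizer_iff_map_conj_eq.2 (h.symm.trans h3)
          have := hstab s' hs' hfix' w hw
          rw [Subgroup.mem_centralizer_singleton_iff]
          show g * w * g⁻¹ * s = s * (g * w * g⁻¹)
          calc g * w * g⁻¹ * s = g * (w * s') * g⁻¹ := by simp only [s']; group
            _ = g * (s' * w) * g⁻¹ := by rw [this]
            _ = _ := by simp only [s']; group
        exact Subgroup.mem_centralizer_iff.2 fun u hu => Subgroup.mem_centralizer_singleton_iff.1 (hle hu)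
      have hRb := fixer_eq_bot hV hEV hf hOp hY.le hY.sn inf_le_left hRn
        (fun r hr w hw => (Subgroup.mem_centralizer_iff.1 (Subgroup.mem_inf.1 hr).2 w
          (Subgroup.mem_sup_right hw)).symm)
      -- so `Y` has at most two elements
      have hsmall : ∀ y ∈ Y, y = 1 ∨ y = g := by
        intro y hy
        rcases hcases y hy with h | h
        · exact Or.inl (Subgroup.mem_bot.1 (hRb ▸ hsR y hy h))
        · right
          have h2 : (⁅V, X⁆).map (MulAut.conj (g⁻¹ * y)).toMonoidHom = ⁅V, X⁆ := by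
            rw [hmul, h, ← hmul, inv_mul_cancel, hone]
          exact (inv_mul_eq_one.1 (Subgroup.mem_bot.1 (hRb ▸ hsR _ (mul_mem (inv_mem hg) hy) h2))).symm
      have hcle : Nat.card Y ≤ Nat.card Bool := by
        classical
        refine Nat.card_le_card_of_injective (fun y : Y => decide ((y : G) = 1)) ?_
        intro a b hab
        simp only [decide_eq_decide] at hab
        rcases hsmall a a.2 with h1 | h1 <;> rcases hsmall b b.2 with h2 | h2
        · exact Subtype.ext (h1.trans h2.symm)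
        · exact Subtype.ext (h1.trans (hab.1 h1).symm)
        · exact Subtype.ext ((hab.2 h2).trans h2.symm)
        · exact Subtype.ext (h1.trans h2.symm)
      have := hY.two
      rw [Nat.card_eq_fintype_card (α := Bool), Fintype.card_bool] at hcle
      omega

end CfsgLib.Fusion.SubnormalPair
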