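import Cfsg.Prelude.Def_Transfer
import Cfsg.Agent.Lib.Fusion.Thompson
import Cfsg.Agent.Lib.PGroup.Frattini
import Mathlib

/-!
Symplectic bases of extraspecial groups and the resulting isomorphism criterion.
-/

set_option autoImplicit false
set_option linter.style.haveILetI false
set_option linter.unusedSectionVars false

open scoped commutatorElement

namespace CfsgLib.Fusion.SymplecticBasis

/-- A group which is elementary abelian modulo a central subgroup `⟨z⟩` of order `p`. -/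
structure IsCentralBase (p : ℕ) {E : Type*} [Group E] (z : E) : Prop where
  zc : ∀ g : E, g * z = z * g
  zord : orderOf z = p
  comm : ∀ g h : E, ⁅g, h⁆ ∈ Subgroup.zpowers z
  pow : ∀ g : E, g ^ p ∈ Subgroup.zpowers z

variable {E : Type*} [Group E] {p : ℕ} [hp : Fact p.Prime]

/-- `B` has a symplectic basis whose elements have the `p`-th powers given by `q`. -/
def HasBasis (p : ℕ) (z : E) (B : Subgroup E) (n : ℕ) (q : Fin n → ℕ) : Prop :=
  ∃ x y : Fin n → E, B ≤ Subgroup.closure (Set.range x ∪ Set.range y ∪ {z}) ∧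
    Nat.card B = p ^ (2 * n + 1) ∧ (∀ i, x i ∈ B) ∧ (∀ i, y i ∈ B) ∧
    (∀ i j, ⁅x i, y j⁆ = if i = j then z else 1) ∧ (∀ i j, ⁅x i, x j⁆ = 1) ∧ (∀ i j, ⁅y i, y j⁆ = 1) ∧
    (∀ i, x i ^ p = z ^ q i) ∧ ∀ i, y i ^ p = z ^ q i

theorem card_closure_le [Finite E] (z : E) (hz : ∀ g : E, g * z = z * g) (hzp : z ^ p = 1) :
    ∀ s : Finset E, (∀ a ∈ s, ∀ b ∈ s, ⁅a, b⁆ ∈ Subgroup.zpowers z) →
      (∀ a ∈ s, a ^ p ∈ Subgroup.zpowers z) →
      Nat.card (Subgroup.closure ((s : Set E) ∪ {z})) ≤ p ^ (s.card + 1) := by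
  classical
  intro s
  induction s using Finset.induction_on with
  | empty =>
    intro _ _
    simp only [Finset.coe_empty, Set.empty_union, Finset.card_empty, zero_add, pow_one]
    rw [← Subgroup.zpowers_eq_closure, Nat.card_zpowers]
    exact orderOf_le_of_pow_eq_one hp.out.pos hzp
  | @insert a s ha ih =>
    intro hc hpw
    have ih' := ih (fun u hu v hv => hc u (Finset.mem_insert_of_mem hu) v (Finset.mem_insert_of_mem hv))
      (fun u hu => hpw u (Finset.mem_insert_of_mem hu))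
    set T := Subgroup.closure ((s : Set E) ∪ {z}) with hT
    have hzT : Subgroup.zpowers z ≤ T := Subgroup.zpowers_le.2 (Subgroup.subset_closure (Or.inr rfl))
    have hnorm : Subgroup.zpowers a ≤ Subgroup.normalizer (T : Set E) := by
      have h : T.map (MulAut.conj a).toMonoidHom ≤ T := by
        rw [hT, MonoidHom.map_closure, Subgroup.closure_le]
        rintro _ ⟨u, hu | hu, rfl⟩
        · show a * u * a⁻¹ ∈ T
          rw [show a * u * a⁻¹ = ⁅a, u⁆ * u by rw [commutatorElement_def]; group]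
          exact mul_mem (hzT (hc a (Finset.mem_insert_self a s) u (Finset.mem_insert_of_mem hu)))
            (Subgroup.subset_closure (Or.inl hu))
        · rw [Set.mem_singleton_iff] at hu
          subst hu
          show a * u * a⁻¹ ∈ T
          rw [hz a, mul_inv_cancel_right]
          exact Subgroup.subset_closure (Or.inr rfl)
      refine Subgroup.zpowers_le.2 (Subgroup.mem_normalizer_iff_map_conj_eq.2 ?_)
      exact Subgroup.eq_of_le_of_card_ge h
        (le_of_eq (Nat.card_congr (T.equivMapOfInjective _ (MulAut.conj a).injective).toEquiv))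
    have h1 := Thompson.card_sup_mul_card_inf (N := T) (K := Subgroup.zpowers a) hnorm
    have hinf : orderOf (a ^ p) ≤ Nat.card ↥(T ⊓ Subgroup.zpowers a) := by
      rw [← Nat.card_zpowers]
      exact Subgroup.card_le_of_le (le_inf (Subgroup.zpowers_le.2 (hzT (hpw a (Finset.mem_insert_self a s))))
        (Subgroup.zpowers_le.2 (pow_mem (Subgroup.mem_zpowers a) p)))
    have hord : orderOf a ≤ p * orderOf (a ^ p) := by
      refine orderOf_le_of_pow_eq_one (Nat.mul_pos hp.out.pos (orderOf_pos _)) ?_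
      rw [pow_mul, pow_orderOf_eq_one]
    have hsup : Nat.card ↥(T ⊔ Subgroup.zpowers a) ≤ Nat.card T * p := by
      refine Nat.le_of_mul_le_mul_right ?_ (orderOf_pos (a ^ p))
      calc Nat.card ↥(T ⊔ Subgroup.zpowers a) * orderOf (a ^ p)
          ≤ Nat.card ↥(T ⊔ Subgroup.zpowers a) * Nat.card ↥(T ⊓ Subgroup.zpowers a) :=
            Nat.mul_le_mul_left _ hinf
        _ = Nat.card T * orderOf a := by rw [h1, Nat.card_zpowers]
        _ ≤ Nat.card T * (p * orderOf (a ^ p)) := Nat.mul_le_mul_left _ hord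
        _ = _ := (mul_assoc _ _ _).symm
    rw [Finset.card_insert_of_notMem ha, pow_succ]
    refine le_trans (le_trans (Subgroup.card_le_of_le ?_) hsup) (Nat.mul_le_mul_right _ ih')
    rw [Subgroup.closure_le]
    rintro u (hu | hu)
    · rcases Finset.mem_insert.1 hu with rfl | hu
      · exact Subgroup.mem_sup_right (Subgroup.mem_zpowers u)
      · exact Subgroup.mem_sup_left (Subgroup.subset_closure (Or.inl hu))
    · exact Subgroup.mem_sup_left (Subgroup.subset_closure (Or.inr hu))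

/-- Groups with the same symplectic basis data are isomorphic. -/
theorem nonempty_mulEquiv [Finite E] {F : Type*} [Group F] [Finite F] {z : E} {w : F}
    (hz : IsCentralBase p z) (hw : IsCentralBase p w) {n : ℕ} {q : Fin n → ℕ}
    (hE : HasBasis p z ⊤ n q) (hF : HasBasis p w ⊤ n q) : Nonempty (E ≃* F) := by
  classical
  obtain ⟨x, y, hgen, hcard, -, -, hxy, hxx, hyy, hxp, hyp⟩ := hE
  obtain ⟨x', y', hgen', hcard', -, -, hxy', hxx', hyy', hxp', hyp'⟩ := hF
  let v : Fin n ⊕ Fin n → E × F := Sum.elim (fun i => (x i, x' i)) (fun i => (y i, y' i))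
  let s : Finset (E × F) := Finset.univ.image v
  have hmem : ∀ a ∈ s, ∀ b ∈ s, ⁅a, b⁆ ∈ Subgroup.zpowers (z, w) := by
    intro a ha b hb
    obtain ⟨i, -, rfl⟩ := Finset.mem_image.1 ha
    obtain ⟨j, -, rfl⟩ := Finset.mem_image.1 hb
    have key : ∀ (c : ℤ) (e : E × F), e.1 = z ^ c → e.2 = w ^ c → e ∈ Subgroup.zpowers (z, w) :=
      fun c e h1 h2 => ⟨c, Prod.ext h1.symm h2.symm⟩
    rcases i with i | i <;> rcases j with j | j
    · exact key 0 _ (by show ⁅x i, x j⁆ = _; rw [hxx, zpow_zero]) (by show ⁅x' i, x' j⁆ = _; rw [hxx', zpow_zero])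
    · by_cases h : i = j
      · exact key 1 _ (by show ⁅x i, y j⁆ = _; rw [hxy, if_pos h, zpow_one])
          (by show ⁅x' i, y' j⁆ = _; rw [hxy', if_pos h, zpow_one])
      · exact key 0 _ (by show ⁅x i, y j⁆ = _; rw [hxy, if_neg h, zpow_zero])
          (by show ⁅x' i, y' j⁆ = _; rw [hxy', if_neg h, zpow_zero])
    · by_cases h : j = i
      · exact key (-1) _ (by show ⁅y i, x j⁆ = _; rw [← commutatorElement_inv, hxy, if_pos h, zpow_neg_one])
          (by show ⁅y' i, x' j⁆ = _; rw [← commutatorElement_inv, hxy', if_pos h, zpow_neg_one])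
      · exact key 0 _ (by show ⁅y i, x j⁆ = _; rw [← commutatorElement_inv, hxy, if_neg h, inv_one, zpow_zero])
          (by show ⁅y' i, x' j⁆ = _; rw [← commutatorElement_inv, hxy', if_neg h, inv_one, zpow_zero])
    · exact key 0 _ (by show ⁅y i, y j⁆ = _; rw [hyy, zpow_zero]) (by show ⁅y' i, y' j⁆ = _; rw [hyy', zpow_zero])
  have hpow : ∀ a ∈ s, a ^ p ∈ Subgroup.zpowers (z, w) := by
    intro a ha
    obtain ⟨i, -, rfl⟩ := Finset.mem_image.1 ha
    rcases i with i | i
    · exact ⟨q i, Prod.ext (by simpa [v] using (hxp i).symm) (by simpa [v] using (hxp' i).symm)⟩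
    · exact ⟨q i, Prod.ext (by simpa [v] using (hyp i).symm) (by simpa [v] using (hyp' i).symm)⟩
  set H := Subgroup.closure ((s : Set (E × F)) ∪ {(z, w)}) with hH
  have hle := card_closure_le (p := p) (z, w) (fun g => Prod.ext (hz.zc g.1) (hw.zc g.2))
    (Prod.ext (by show z ^ p = 1; rw [← hz.zord, pow_orderOf_eq_one])
      (by show w ^ p = 1; rw [← hw.zord, pow_orderOf_eq_one])) s hmem hpow
  have hscard : s.card ≤ 2 * n := (Finset.card_image_le).trans (by simp [two_mul])
  have hHcard : Nat.card H ≤ p ^ (2 * n + 1) :=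
    hle.trans (Nat.pow_le_pow_right hp.out.pos (by omega))
  have hv : ∀ i, v i ∈ H := fun i =>
    Subgroup.subset_closure (Or.inl (Finset.mem_image_of_mem v (Finset.mem_univ i)))
  have hzw : (z, w) ∈ H := Subgroup.subset_closure (Or.inr rfl)
  have hf : Function.Surjective ((MonoidHom.fst E F).comp H.subtype) := by
    rw [← MonoidHom.range_eq_top, eq_top_iff]
    refine hgen.trans ((Subgroup.closure_le _).2 ?_)
    rintro u ((⟨i, rfl⟩ | ⟨i, rfl⟩) | hu)
    · exact ⟨⟨_, hv (Sum.inl i)⟩, rfl⟩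
    · exact ⟨⟨_, hv (Sum.inr i)⟩, rfl⟩
    · exact ⟨⟨_, hzw⟩, hu.symm⟩
  have hg : Function.Surjective ((MonoidHom.snd E F).comp H.subtype) := by
    rw [← MonoidHom.range_eq_top, eq_top_iff]
    refine hgen'.trans ((Subgroup.closure_le _).2 ?_)
    rintro u ((⟨i, rfl⟩ | ⟨i, rfl⟩) | hu)
    · exact ⟨⟨_, hv (Sum.inl i)⟩, rfl⟩
    · exact ⟨⟨_, hv (Sum.inr i)⟩, rfl⟩
    · exact ⟨⟨_, hzw⟩, hu.symm⟩
  rw [Subgroup.card_top] at hcard hcard'
  have hb1 := Function.Surjective.bijective_of_nat_card_le hf (hHcard.trans hcard.ge)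
  have hb2 := Function.Surjective.bijective_of_nat_card_le hg (hHcard.trans hcard'.ge)
  exact ⟨(MulEquiv.ofBijective _ hb1).symm.trans (MulEquiv.ofBijective _ hb2)⟩

section
variable {z : E}

theorem comm_mul_left (hz : IsCentralBase p z) (a b c : E) : ⁅a * b, c⁆ = ⁅a, c⁆ * ⁅b, c⁆ := by
  obtain ⟨k, hk⟩ := hz.comm b c
  obtain ⟨l, hl⟩ := hz.comm a c
  have hk' := hk
  have hca : a * ⁅b, c⁆ = ⁅b, c⁆ * a := by
    rw [← hk]; exact Commute.zpow_right (hz.zc a) k
  calc ⁅a * b, c⁆ = a * ⁅b, c⁆ * a⁻¹ * ⁅a, c⁆ := by simp only [commutatorElement_def]; group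
    _ = ⁅b, c⁆ * ⁅a, c⁆ := by rw [hca]; group
    _ = _ := by rw [← hk, ← hl, ← zpow_add, ← zpow_add, add_comm]

/-- The commutator with a fixed element, as a homomorphism. -/
def commHom (hz : IsCentralBase p z) (x : E) : E →* Subgroup.zpowers z :=
  MonoidHom.mk' (fun g => ⟨⁅g, x⁆, hz.comm g x⟩) fun a b => Subtype.ext (comm_mul_left hz a b x)

/-- The hyperbolic step. -/
theorem step [Finite E] (hz : IsCentralBase p z) {B : Subgroup E} (hzB : z ∈ B)
    (hnd : ∀ g ∈ B, (∀ h ∈ B, g * h = h * g) → g ∈ Subgroup.zpowers z) {x y : E} (hx : x ∈ B)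
    (hy : y ∈ B) (hxy : ⁅x, y⁆ = z) :
    ∃ B' : Subgroup E, B' ≤ B ∧ z ∈ B' ∧ (∀ g ∈ B', (∀ h ∈ B', g * h = h * g) → g ∈ Subgroup.zpowers z) ∧
      (∀ g ∈ B', ⁅x, g⁆ = 1 ∧ ⁅y, g⁆ = 1) ∧ Nat.card B = p ^ 2 * Nat.card B' ∧
      ∀ h ∈ B, ∃ a b : ℤ, ∃ g ∈ B', h = g * y ^ a * x ^ b := by
  let φ : E →* Subgroup.zpowers z × Subgroup.zpowers z := (commHom hz x).prod (commHom hz y)
  refine ⟨B ⊓ φ.ker, inf_le_left, ?_, ?_, ?_, ?_, ?_⟩
  · refine ⟨hzB, Prod.ext (Subtype.ext ?_) (Subtype.ext ?_)⟩ <;>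
      exact commutatorElement_eq_one_iff_mul_comm.2 (hz.zc _).symm
  swap
  · intro g hg
    have h1 : ⁅g, x⁆ = 1 := congrArg Subtype.val (congrArg Prod.fst hg.2)
    have h2 : ⁅g, y⁆ = 1 := congrArg Subtype.val (congrArg Prod.snd hg.2)
    exact ⟨by rw [← commutatorElement_inv, h1, inv_one], by rw [← commutatorElement_inv, h2, inv_one]⟩
  all_goals
    have hφ : ∀ a b : ℤ, φ (y ^ a * x ^ b) =
        ((⟨z, Subgroup.mem_zpowers z⟩ : Subgroup.zpowers z) ^ (-a),
          (⟨z, Subgroup.mem_zpowers z⟩ : Subgroup.zpowers z) ^ b) := by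
      intro a b
      have h1 : φ y = ((⟨z, Subgroup.mem_zpowers z⟩ : Subgroup.zpowers z)⁻¹, 1) :=
        Prod.ext (Subtype.ext (by show ⁅y, x⁆ = z⁻¹; rw [← commutatorElement_inv, hxy]))
          (Subtype.ext (by show ⁅y, y⁆ = 1; exact commutatorElement_self y))
      have h2 : φ x = (1, (⟨z, Subgroup.mem_zpowers z⟩ : Subgroup.zpowers z)) :=
        Prod.ext (Subtype.ext (by show ⁅x, x⁆ = 1; exact commutatorElement_self x))
          (Subtype.ext (by show ⁅x, y⁆ = z; exact hxy))
      rw [map_mul, map_zpow, map_zpow, h1, h2]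
      simp
    have hsplit : ∀ h ∈ B, ∃ a b : ℤ, ∃ g ∈ B ⊓ φ.ker, h = g * y ^ a * x ^ b := by
      intro h hh
      obtain ⟨a, ha⟩ := (φ h).1.2
      obtain ⟨b, hb⟩ := (φ h).2.2
      refine ⟨-a, b, h * (y ^ (-a) * x ^ b)⁻¹, Subgroup.mem_inf.2
        ⟨mul_mem hh (inv_mem (mul_mem (zpow_mem hy _) (zpow_mem hx _))), ?_⟩, by group⟩
      rw [MonoidHom.mem_ker, map_mul, map_inv, hφ, neg_neg, mul_inv_eq_one]
      exact Prod.ext (Subtype.ext (by rw [Subgroup.coe_zpow]; exact ha.symm))
        (Subtype.ext (by rw [Subgroup.coe_zpow]; exact hb.symm))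
  · intro g hg hcomm
    refine hnd g hg.1 fun h hh => ?_
    obtain ⟨a, b, k, hk, rfl⟩ := hsplit h hh
    have c1 : Commute g x :=
      commutatorElement_eq_one_iff_commute.1 (congrArg Subtype.val (congrArg Prod.fst hg.2))
    have c2 : Commute g y :=
      commutatorElement_eq_one_iff_commute.1 (congrArg Subtype.val (congrArg Prod.snd hg.2))
    exact (((show Commute g k from hcomm k hk).mul_right (c2.zpow_right a)).mul_right (c1.zpow_right b)).eq
  · let f : B →* Subgroup.zpowers z × Subgroup.zpowers z := φ.comp B.subtype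
    have hsurj : Function.Surjective f := by
      rintro ⟨⟨u, a, rfl⟩, ⟨v, b, rfl⟩⟩
      refine ⟨⟨y ^ (-a) * x ^ b, mul_mem (zpow_mem hy _) (zpow_mem hx _)⟩, ?_⟩
      show φ (y ^ (-a) * x ^ b) = _
      rw [hφ, neg_neg]
      exact Prod.ext (Subtype.ext (by rw [Subgroup.coe_zpow])) (Subtype.ext (by rw [Subgroup.coe_zpow]))
    have hker : f.ker = (B ⊓ φ.ker).subgroupOf B := by
      ext u
      exact ⟨fun h => Subgroup.mem_subgroupOf.2 ⟨u.2, h⟩, fun h => (Subgroup.mem_subgroupOf.1 h).2⟩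
    rw [← Subgroup.card_mul_index f.ker, Subgroup.index_ker, MonoidHom.range_eq_top.2 hsurj,
      Subgroup.card_top, Nat.card_prod, Nat.card_zpowers, hz.zord, hker,
      Nat.card_congr (Subgroup.subgroupOfEquivOfLe inf_le_left).toEquiv]
    ring
  · exact hsplit

theorem exists_partner (hz : IsCentralBase p z) {B : Subgroup E}
    (hnd : ∀ g ∈ B, (∀ h ∈ B, g * h = h * g) → g ∈ Subgroup.zpowers z) {x : E} (hx : x ∈ B)
    (hxz : x ∉ Subgroup.zpowers z) : ∃ y ∈ B, ⁅x, y⁆ = z := by
  obtain ⟨h, hh, hne⟩ : ∃ h ∈ B, x * h ≠ h * x := by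
    by_contra hc
    push Not at hc
    exact hxz (hnd x hx hc)
  have hc1 : ⁅h, x⁆ ≠ 1 := fun e => hne (commutatorElement_eq_one_iff_mul_comm.1 e).symm
  have hc2 : Subgroup.zpowers ⁅h, x⁆ = Subgroup.zpowers z := by
    haveI : Finite (Subgroup.zpowers z) :=
      Nat.finite_of_card_ne_zero (by rw [Nat.card_zpowers, hz.zord]; exact hp.out.ne_zero)
    refine Subgroup.eq_of_le_of_card_ge (Subgroup.zpowers_le.2 (hz.comm h x)) ?_
    have hd := Subgroup.card_dvd_of_le (Subgroup.zpowers_le.2 (hz.comm h x))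
    rw [Nat.card_zpowers, Nat.card_zpowers, hz.zord] at hd ⊢
    rcases hp.out.eq_one_or_self_of_dvd _ hd with e | e
    · exact absurd (orderOf_eq_one_iff.1 e) hc1
    · exact e.ge
  obtain ⟨m, hm⟩ := hc2.ge (Subgroup.mem_zpowers z)
  refine ⟨h ^ (-m), zpow_mem hh _, ?_⟩
  have := congrArg Subtype.val ((commHom hz x).map_zpow h (-m))
  rw [Subgroup.coe_zpow] at this
  rw [← commutatorElement_inv, show ⁅h ^ (-m), x⁆ = ⁅h, x⁆ ^ (-m) from this, zpow_neg, inv_inv]
  exact hm

/-- The powers in a basis: all trivial except possibly in the last pair. -/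
def flag (t : Bool) (n : ℕ) : Fin n → ℕ := fun i => if t = true ∧ (i : ℕ) + 1 = n then 1 else 0

theorem extend [Finite E] (hz : IsCentralBase p z) {B B' : Subgroup E} {x y : E} (hx : x ∈ B) (hy : y ∈ B)
    (hxy : ⁅x, y⁆ = z) (hle : B' ≤ B) (hzero : ∀ g ∈ B', ⁅x, g⁆ = 1 ∧ ⁅y, g⁆ = 1)
    (hcard : Nat.card B = p ^ 2 * Nat.card B')
    (hsplit : ∀ h ∈ B, ∃ a b : ℤ, ∃ g ∈ B', h = g * y ^ a * x ^ b) {n : ℕ} {q : Fin n → ℕ} {q₀ : ℕ}
    (hb : HasBasis p z B' n q) (hxp : x ^ p = z ^ q₀) (hyp : y ^ p = z ^ q₀) :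
    HasBasis p z B (n + 1) (Fin.cons q₀ q) := by
  obtain ⟨u, v, hgen, hc, hu, hv, huv, huu, hvv, hup, hvp⟩ := hb
  refine ⟨Fin.cons x u, Fin.cons y v, ?_, ?_, ?_, ?_, ?_, ?_, ?_, ?_, ?_⟩
  · intro h hh
    obtain ⟨a, b, g, hg, rfl⟩ := hsplit h hh
    have hy0 : y ∈ Subgroup.closure (Set.range (Fin.cons x u : Fin (n + 1) → E) ∪
        Set.range (Fin.cons y v : Fin (n + 1) → E) ∪ {z}) := Subgroup.subset_closure (Or.inl (Or.inr ⟨0, rfl⟩))
    have hx0 : x ∈ Subgroup.closure (Set.range (Fin.cons x u : Fin (n + 1) → E) ∪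
        Set.range (Fin.cons y v : Fin (n + 1) → E) ∪ {z}) := Subgroup.subset_closure (Or.inl (Or.inl ⟨0, rfl⟩))
    refine mul_mem (mul_mem ?_ (zpow_mem hy0 a)) (zpow_mem hx0 b)
    refine Subgroup.closure_mono ?_ (hgen hg)
    rintro w ((⟨i, rfl⟩ | ⟨i, rfl⟩) | hw)
    · exact Or.inl (Or.inl ⟨i.succ, rfl⟩)
    · exact Or.inl (Or.inr ⟨i.succ, rfl⟩)
    · exact Or.inr hw
  · rw [hcard, hc, ← pow_add]; congr 1; ring
  · exact Fin.cases hx fun i => hle (hu i)
  · exact Fin.cases hy fun i => hle (hv i)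
  · refine Fin.cases (Fin.cases ?_ fun j => ?_) fun i => Fin.cases ?_ fun j => ?_
    · simpa using hxy
    · simpa [(Fin.succ_ne_zero j).symm] using (hzero _ (hv j)).1
    · simpa [Fin.succ_ne_zero i] using (by rw [← commutatorElement_inv, (hzero _ (hu i)).2, inv_one] : ⁅u i, y⁆ = 1)
    · simpa using huv i j
  · refine Fin.cases (Fin.cases ?_ fun j => ?_) fun i => Fin.cases ?_ fun j => ?_
    · exact commutatorElement_self x
    · simpa using (hzero _ (hu j)).1
    · simpa using (by rw [← commutatorElement_inv, (hzero _ (hu i)).1, inv_one] : ⁅u i, x⁆ = 1)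
    · simpa using huu i j
  · refine Fin.cases (Fin.cases ?_ fun j => ?_) fun i => Fin.cases ?_ fun j => ?_
    · exact commutatorElement_self y
    · simpa using (hzero _ (hv j)).2
    · simpa using (by rw [← commutatorElement_inv, (hzero _ (hv i)).2, inv_one] : ⁅v i, y⁆ = 1)
    · simpa using hvv i j
  · exact Fin.cases (by simpa using hxp) fun i => by simpa using hup i
  · exact Fin.cases (by simpa using hyp) fun i => by simpa using hvp i

theorem basis_zero [Finite E] (hz : IsCentralBase p z) {B : Subgroup E} (hB : B = Subgroup.zpowers z)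
    (q : Fin 0 → ℕ) : HasBasis p z B 0 q := by
  refine ⟨Fin.elim0, Fin.elim0, ?_, ?_, fun i => i.elim0, fun i => i.elim0, fun i => i.elim0,
    fun i => i.elim0, fun i => i.elim0, fun i => i.elim0, fun i => i.elim0⟩
  · rw [hB]; exact Subgroup.zpowers_le.2 (Subgroup.subset_closure (Or.inr rfl))
  · rw [hB, Nat.card_zpowers, hz.zord]; simp

/-- A symplectic basis in exponent `p`. -/
theorem exists_basis_exponent [Finite E] (hz : IsCentralBase p z) (he : ∀ g : E, g ^ p = 1)
    (B : Subgroup E) (hzB : z ∈ B)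
    (hnd : ∀ g ∈ B, (∀ h ∈ B, g * h = h * g) → g ∈ Subgroup.zpowers z) :
    ∃ n, HasBasis p z B n fun _ => 0 := by
  induction hc : Nat.card B using Nat.strong_induction_on generalizing B with
  | _ k ih =>
    subst hc
    by_cases hB : B = Subgroup.zpowers z
    · exact ⟨0, basis_zero hz hB _⟩
    obtain ⟨x, hx, hxz⟩ := SetLike.not_le_iff_exists.1 fun h =>
      hB (le_antisymm h (Subgroup.zpowers_le.2 hzB))
    obtain ⟨y, hy, hxy⟩ := exists_partner hz hnd hx hxz
    obtain ⟨B', hle, hzB', hnd', hzero, hcard, hsplit⟩ := step hz hzB hnd hx hy hxy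
    have hpp : 1 < p ^ 2 := Nat.one_lt_pow (by norm_num) hp.out.one_lt
    obtain ⟨n, hn⟩ := ih _ (by rw [hcard]; exact lt_mul_of_one_lt_left Nat.card_pos hpp) B' hzB' hnd' rfl
    refine ⟨n + 1, ?_⟩
    have := extend hz hx hy hxy hle hzero hcard hsplit hn (q₀ := 0) (by rw [he, pow_zero]) (by rw [he, pow_zero])
    convert this using 1
    funext i
    refine Fin.cases ?_ (fun j => ?_) i <;> simp

end

/-- A symplectic basis of a `2`-group with all pairs dihedral except possibly the last one. -/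
theorem exists_basis_two [Finite E] {z : E} (hz : IsCentralBase 2 z) (B : Subgroup E) (hzB : z ∈ B)
    (hnd : ∀ g ∈ B, (∀ h ∈ B, g * h = h * g) → g ∈ Subgroup.zpowers z) :
    ∃ n t, HasBasis 2 z B n (flag t n) := by
  have hz2 : z ^ 2 = 1 := by rw [← hz.zord, pow_orderOf_eq_one]
  have hzz : z⁻¹ = z := inv_eq_of_mul_eq_one_right (by rw [← sq]; exact hz2)
  have hval : ∀ g : E, g ^ 2 = 1 ∨ g ^ 2 = z := by
    intro g
    obtain ⟨k, hk⟩ := hz.pow g
    rw [← hk]
    show z ^ k = 1 ∨ z ^ k = z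
    rw [← zpow_mod_orderOf, hz.zord]
    rcases Int.emod_two_eq_zero_or_one k with h | h
    · exact Or.inl (by rw [show k % ((2 : ℕ) : ℤ) = 0 from h, zpow_zero])
    · exact Or.inr (by rw [show k % ((2 : ℕ) : ℤ) = 1 from h, zpow_one])
  induction hc : Nat.card B using Nat.strong_induction_on generalizing B with
  | _ k ih =>
    subst hc
    by_cases hB : B = Subgroup.zpowers z
    · exact ⟨0, false, basis_zero hz hB _⟩
    by_cases hinv : ∃ x ∈ B, x ∉ Subgroup.zpowers z ∧ x ^ 2 = 1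
    · obtain ⟨x, hx, hxz, hx2⟩ := hinv
      obtain ⟨y, hy, hxy, hy2⟩ : ∃ y ∈ B, ⁅x, y⁆ = z ∧ y ^ 2 = 1 := by
        obtain ⟨y, hy, hxy⟩ := exists_partner hz hnd hx hxz
        rcases hval y with h | h
        · exact ⟨y, hy, hxy, h⟩
        refine ⟨x * y, mul_mem hx hy, ?_, ?_⟩
        · rw [show ⁅x, x * y⁆ = x * ⁅x, y⁆ * x⁻¹ by simp only [commutatorElement_def]; group, hxy,
            hz.zc x, mul_inv_cancel_right]
        · have hy' : z * y = y * z := (hz.zc y).symm
          have hxy' : y * x = z * (x * y) := by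
            rw [← hzz, ← hxy, commutatorElement_def]; group
          calc (x * y) ^ 2 = x * (y * x) * y := by rw [sq]; group
            _ = x * (z * (x * y)) * y := by rw [hxy']
            _ = z * (x ^ 2 * y ^ 2) := by
                rw [show x * (z * (x * y)) = z * (x * (x * y)) by rw [← mul_assoc, hz.zc x, mul_assoc]]
                rw [sq, sq]; group
            _ = 1 := by rw [hx2, h, one_mul, ← sq, hz2]
      obtain ⟨B', hle, hzB', hnd', hzero, hcard, hsplit⟩ := step hz hzB hnd hx hy hxy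
      obtain ⟨n, t, hn⟩ := ih _ (by rw [hcard]; exact lt_mul_of_one_lt_left Nat.card_pos (by norm_num))
        B' hzB' hnd' rfl
      refine ⟨n + 1, t && decide (n ≠ 0), ?_⟩
      have := extend hz hx hy hxy hle hzero hcard hsplit hn (q₀ := 0) (by rw [hx2, pow_zero]) (by rw [hy2, pow_zero])
      convert this using 1
      funext i
      refine Fin.cases ?_ (fun j => ?_) i
      · simp [flag]
      · have := j.2
        simp only [flag, Fin.cons_succ, Fin.val_succ]
        cases t <;> simp <;> grind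
    · push Not at hinv
      have hsq : ∀ g ∈ B, g ∉ Subgroup.zpowers z → g ^ 2 = z := fun g hg hgz =>
        (hval g).resolve_left (hinv g hg hgz)
      obtain ⟨x, hx, hxz⟩ := SetLike.not_le_iff_exists.1 fun h =>
        hB (le_antisymm h (Subgroup.zpowers_le.2 hzB))
      obtain ⟨y, hy, hxy⟩ := exists_partner hz hnd hx hxz
      have hyz : y ∉ Subgroup.zpowers z := by
        rintro ⟨k, rfl⟩
        have h : ⁅x, z ^ k⁆ = 1 := commutatorElement_eq_one_iff_commute.2 ((show Commute x z from hz.zc x).zpow_right k)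
        have hz1 := hz.zord
        rw [← hxy, h, orderOf_one] at hz1
        norm_num at hz1
      obtain ⟨B', hle, hzB', hnd', hzero, hcard, hsplit⟩ := step hz hzB hnd hx hy hxy
      have hB' : B' = Subgroup.zpowers z := by
        refine le_antisymm (fun w hw => ?_) (Subgroup.zpowers_le.2 hzB')
        by_contra hwz
        have c1 : Commute x w := commutatorElement_eq_one_iff_commute.1 (hzero w hw).1
        have h1 : (x * w) ^ 2 = 1 := by rw [c1.mul_pow, hsq x hx hxz, hsq w (hle hw) hwz, ← sq, hz2]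
        by_cases hxw : x * w ∈ Subgroup.zpowers z
        · obtain ⟨k, hk⟩ := hxw
          have c3 : Commute (z ^ k) y := (show Commute y z from hz.zc y).symm.zpow_left k
          have c4 : Commute w y := (commutatorElement_eq_one_iff_commute.1 (hzero w hw).2).symm
          have c5 : Commute x y := by
            rw [show x = z ^ k * w⁻¹ by rw [show z ^ k = x * w from hk]; group]
            exact c3.mul_left c4.inv_left
          have hz1 := hz.zord
          rw [← hxy, commutatorElement_eq_one_iff_commute.2 c5, orderOf_one] at hz1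
          norm_num at hz1
        · exact hinv _ (mul_mem hx (hle hw)) hxw h1
      refine ⟨1, true, ?_⟩
      have := extend hz hx hy hxy hle hzero hcard hsplit (basis_zero hz hB' Fin.elim0) (q₀ := 1)
        (by rw [hsq x hx hxz, pow_one]) (by rw [hsq y hy hyz, pow_one])
      convert this using 1
      funext i
      refine Fin.cases ?_ (fun j => j.elim0) i
      simp [flag]

theorem of_extraspecial [Finite E] (hE : Cfsg.IsExtraspecial p E) :
    ∃ z : E, IsCentralBase p z ∧ ∀ g : E, (∀ h : E, g * h = h * g) → g ∈ Subgroup.zpowers z := by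
  obtain ⟨⟨hpg, hfr, hco⟩, hcard⟩ := hE
  obtain ⟨z, hzne⟩ : ∃ z : Subgroup.center E, z ≠ 1 := by
    haveI : Nontrivial (Subgroup.center E) := Finite.one_lt_card_iff_nontrivial.1 (by rw [hcard]; exact hp.out.one_lt)
    exact exists_ne 1
  have hord : orderOf (z : E) = p := by
    rw [Subgroup.orderOf_coe]
    refine ((hp.out.eq_one_or_self_of_dvd _ (hcard ▸ orderOf_dvd_natCard z)).resolve_left fun h => ?_)
    exact hzne (orderOf_eq_one_iff.1 h)
  have hcen : Subgroup.zpowers (z : E) = Subgroup.center E :=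
    Subgroup.eq_of_le_of_card_ge (Subgroup.zpowers_le.2 z.2) (by rw [hcard, Nat.card_zpowers, hord])
  refine ⟨z, ⟨fun g => Subgroup.mem_center_iff.1 z.2 g, hord, fun g h => ?_, fun g => ?_⟩, fun g hg => ?_⟩
  · rw [hcen, ← hco]
    exact Subgroup.commutator_mem_commutator (Subgroup.mem_top g) (Subgroup.mem_top h)
  · rw [hcen, ← hfr]
    exact PGroup.Frattini.pow_mem_frattini hpg g
  · rw [hcen]
    exact Subgroup.mem_center_iff.2 fun h => (hg h).symm

end CfsgLib.Fusion.SymplecticBasis
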