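import Mathlib
import Cfsg.Prelude.Def_PLocal

/-!
Uniserial actions of `p`-groups on `p`-groups and the iterated commutator chain.
-/

set_option autoImplicit false

namespace CfsgLib.Fusion.Uniserial

open Subgroup
open scoped commutatorElement

variable {L : Type*} [Group L] [Finite L] {p : ℕ} [Fact p.Prime]

omit [Fact p.Prime] in
theorem lowerCentral_step {K : Type*} [Group K] [Group.IsNilpotent K] {A : Subgroup K}
    (h : A ≤ ⁅A, (⊤ : Subgroup K)⁆) : A = ⊥ := by
  obtain ⟨m, hm⟩ := Subgroup.nilpotent_iff_lowerCentralSeries.1 ‹Group.IsNilpotent K›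
  have : ∀ k, A ≤ (Subgroup.lowerCentralSeries (⊤ : Subgroup K) k) := by
    intro k
    induction k with
    | zero => simp
    | succ k ih =>
      rw [Subgroup.lowerCentralSeries_succ]
      exact h.trans (Subgroup.commutator_mono ih le_rfl)
  exact le_bot_iff.1 (hm ▸ this m)

/-- If `H` is a `G`-invariant subgroup of `C` with `H [C, G] = C`, then `H = C`. -/
theorem eq_of_sup_commutator {C G H : Subgroup L} (hC : IsPGroup p C) (hG : IsPGroup p G)
    (hGC : G ≤ normalizer (C : Set L)) (hHC : H ≤ C) (hGH : G ≤ normalizer (H : Set L))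
    (hsup : H ⊔ ⁅C, G⁆ = C) : H = C := by
  by_contra hne
  obtain ⟨H', ⟨hHH', hH'⟩, hmax⟩ :=
    Set.Finite.exists_maximal (s := {X : Subgroup L | H ≤ X ∧ (X ≤ C ∧ X ≠ C ∧
      G ≤ normalizer (X : Set L))}) (Set.toFinite _) ⟨H, le_rfl, hHC, hne, hGH⟩
  obtain ⟨hH'C, hH'ne, hGH'⟩ := hH'
  -- `H'` is normal in `C`
  have hCH' : C ≤ normalizer (H' : Set L) := by
    by_contra hcon
    haveI : Group.IsNilpotent C := hC.isNilpotent
    have hlt : H'.subgroupOf C < ⊤ := lt_top_iff_ne_top.2 fun h =>
      hH'ne (le_antisymm hH'C (subgroupOf_eq_top.1 h))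
    have h1 := normalizerCondition_of_isNilpotent (G := C) (H'.subgroupOf C) hlt
    obtain ⟨x, hx, hxH⟩ := SetLike.exists_of_lt h1
    have hX : C ⊓ normalizer (H' : Set L) ≤ H' := by
      refine hmax ⟨hHH'.trans (le_inf hH'C le_normalizer), inf_le_left,
        fun h => hcon (h ▸ inf_le_right), ?_⟩ (le_inf hH'C le_normalizer)
      intro g hg
      rw [mem_normalizer_iff]
      intro y
      simp only [Subgroup.mem_inf]
      refine and_congr (mem_normalizer_iff.1 (hGC hg) y) ?_
      have hgn := hGH' hg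
      refine ⟨fun hy => mul_mem (mul_mem hgn hy) (inv_mem hgn), fun hy => ?_⟩
      have := mul_mem (mul_mem (inv_mem hgn) hy) hgn
      simpa [mul_assoc] using this
    refine hxH (Subgroup.mem_subgroupOf.2 (hX ⟨x.2, ?_⟩))
    show (x : L) ∈ normalizer (H' : Set L)
    rw [mem_normalizer_iff] at hx ⊢
    intro y
    constructor
    · intro hy
      have := (hx ⟨y, hH'C hy⟩).1 hy
      exact this
    · intro hy
      have hyC : y ∈ C := by
        have := mul_mem (mul_mem (inv_mem x.2) (hH'C hy)) x.2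
        simpa [mul_assoc] using this
      exact (hx ⟨y, hyC⟩).2 hy
  set K := C ⊔ G with hK
  have hKp : IsPGroup p K := IsPGroup.to_sup_of_normal_left' hC hG hGC
  haveI : Group.IsNilpotent K := hKp.isNilpotent
  haveI hn : (H'.subgroupOf K).Normal :=
    (normal_subgroupOf_iff_le_normalizer (hH'C.trans le_sup_left)).2 (sup_le hCH' hGH')
  set q := QuotientGroup.mk' (H'.subgroupOf K) with hq
  have hsupK : H.subgroupOf K ⊔ ⁅C.subgroupOf K, G.subgroupOf K⁆ = C.subgroupOf K := by
    refine Subgroup.map_injective K.subtype_injective ?_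
    rw [Subgroup.map_sup, Subgroup.map_commutator,
      Subgroup.map_subgroupOf_eq_of_le (hHC.trans le_sup_left),
      Subgroup.map_subgroupOf_eq_of_le le_sup_left, Subgroup.map_subgroupOf_eq_of_le le_sup_right]
    exact hsup
  have hA : (C.subgroupOf K).map q ≤ ⁅(C.subgroupOf K).map q, (⊤ : Subgroup _)⁆ := by
    conv_lhs => rw [← hsupK, Subgroup.map_sup]
    refine sup_le ?_ ?_
    · rintro _ ⟨x, hx, rfl⟩
      have : q x = 1 := (QuotientGroup.eq_one_iff x).2 (hHH' hx)
      rw [this]; exact one_mem _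
    · rw [Subgroup.map_commutator]
      exact Subgroup.commutator_mono le_rfl le_top
  haveI : Group.IsNilpotent (K ⧸ H'.subgroupOf K) := nilpotent_quotient_of_nilpotent _
  have hbot := lowerCentral_step hA
  refine hH'ne (le_antisymm hH'C fun x hx => ?_)
  have : q ⟨x, mem_sup_left hx⟩ ∈ (C.subgroupOf K).map q := ⟨_, hx, rfl⟩
  rw [hbot, Subgroup.mem_bot] at this
  exact (QuotientGroup.eq_one_iff (⟨x, mem_sup_left hx⟩ : K)).1 this

omit [Finite L] [Fact p.Prime] in
theorem relIndex_mul_card' {A B : Subgroup L} (h : A ≤ B) :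
    A.relIndex B * Nat.card A = Nat.card B := by
  rw [mul_comm, ← Subgroup.relIndex_bot_left, ← Subgroup.relIndex_bot_left,
    Subgroup.relIndex_mul_relIndex ⊥ A B bot_le h]

variable {N G : Subgroup L}

theorem commutator_le_self' {H : Subgroup L} (hGH : G ≤ normalizer (H : Set L)) : ⁅H, G⁆ ≤ H :=
  le_normalizer_iff_commutator_le_left.1 hGH

theorem commutator_ne (hG : IsPGroup p G) {H : Subgroup L} (hH : IsPGroup p H)
    (hGH : G ≤ normalizer (H : Set L)) (h1 : H ≠ ⊥) : ⁅H, G⁆ ≠ H := by
  intro h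
  refine h1 (eq_of_sup_commutator hH hG hGH bot_le ?_ ?_).symm
  · intro g _
    rw [mem_normalizer_iff]
    intro x
    simp only [Subgroup.mem_bot]
    constructor
    · rintro rfl; simp
    · intro hx
      calc x = g⁻¹ * (g * x * g⁻¹) * g := by group
        _ = 1 := by rw [hx]; group
  · rw [bot_sup_eq, h]

theorem chain_le_normalizer (hGN : G ≤ normalizer (N : Set L)) :
    ∀ i, G ≤ normalizer (Cfsg.iterCommutator N G i : Set L)
  | 0 => hGN
  | _ + 1 => normalizer_commutator_ge_right _ _

theorem chain_succ_le (hGN : G ≤ normalizer (N : Set L)) (i : ℕ) :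
    Cfsg.iterCommutator N G (i + 1) ≤ Cfsg.iterCommutator N G i :=
  commutator_le_self' (chain_le_normalizer hGN i)

theorem chain_antitone (hGN : G ≤ normalizer (N : Set L)) {i j : ℕ} (h : i ≤ j) :
    Cfsg.iterCommutator N G j ≤ Cfsg.iterCommutator N G i :=
  antitone_nat_of_succ_le (chain_succ_le hGN) h

theorem chain_le (hGN : G ≤ normalizer (N : Set L)) (i : ℕ) :
    Cfsg.iterCommutator N G i ≤ N :=
  chain_antitone hGN (Nat.zero_le i)

/-- Orders along a chain of length `n`. -/
theorem card_chain (hN : IsPGroup p N) (hG : IsPGroup p G) (hGN : G ≤ normalizer (N : Set L))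
    {n : ℕ} (hn : Nat.card N = p ^ n) (h : Cfsg.iterCommutator N G (n - 1) ≠ ⊥ ∨ n = 0) :
    ∀ i ≤ n, Nat.card (Cfsg.iterCommutator N G i) = p ^ (n - i) := by
  have hp : p.Prime := Fact.out
  have he : ∀ i, ∃ e, Nat.card (Cfsg.iterCommutator N G i) = p ^ e := fun i =>
    IsPGroup.iff_card.1 (hN.to_le (chain_le hGN i))
  choose e he using he
  have he0 : e 0 = n := Nat.pow_right_injective hp.two_le ((he 0).symm.trans hn)
  have hstep : ∀ i, e (i + 1) ≤ e i ∧ (Cfsg.iterCommutator N G i ≠ ⊥ → e (i + 1) < e i) := by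
    intro i
    have hle := chain_succ_le hGN i
    have h1 := Subgroup.card_le_of_le hle
    rw [he, he] at h1
    have h2 := (Nat.pow_le_pow_iff_right hp.one_lt).1 h1
    refine ⟨h2, fun hne => lt_of_le_of_ne h2 fun h3 => ?_⟩
    exact commutator_ne hG (hN.to_le (chain_le hGN i)) (chain_le_normalizer hGN i) hne
      (Subgroup.eq_of_le_of_card_ge hle (le_of_eq ((he i).trans (h3 ▸ (he (i + 1)).symm))))
  have hanti : ∀ i j, i ≤ j → e j ≤ e i := fun i j hij =>
    antitone_nat_of_succ_le (fun k => (hstep k).1) hij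
  intro i hi
  rw [he]
  congr 1
  rcases h with h | h
  swap
  · obtain rfl : i = 0 := by omega
    omega
  rcases Nat.eq_zero_or_pos n with hn0 | hn0
  · obtain rfl : i = 0 := by omega
    omega
  have hne : ∀ k ≤ n - 1, Cfsg.iterCommutator N G k ≠ ⊥ := fun k hk hb =>
    h (le_bot_iff.1 (hb ▸ chain_antitone hGN hk))
  have hlast : 1 ≤ e (n - 1) := by
    by_contra h0
    exact h (Subgroup.eq_bot_of_card_eq _ (by rw [he, show e (n - 1) = 0 by omega, pow_zero]))
  have hup : ∀ k ≤ n, e k + k ≤ n := by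
    intro k
    induction k with
    | zero => omega
    | succ k ih =>
      intro hk
      have := (hstep k).2 (hne k (by omega))
      have := ih (by omega)
      omega
  have hlow : ∀ d k, k + d = n - 1 → d + 1 ≤ e k := by
    intro d
    induction d with
    | zero => intro k hk; simp only [Nat.add_zero] at hk; subst hk; omega
    | succ d ih =>
      intro k hk
      have := (hstep k).2 (hne k (by omega))
      have := ih (k + 1) (by omega)
      omega
  rcases Nat.eq_or_lt_of_le hi with rfl | hlt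
  · have := hup i le_rfl
    omega
  · have := hlow (n - 1 - i) i (by omega)
    have := hup i hi
    omega

/-- With a chain of length `n` the invariant subgroups are the terms of the chain. -/
theorem eq_chain (hN : IsPGroup p N) (hG : IsPGroup p G) (hGN : G ≤ normalizer (N : Set L))
    {n : ℕ} (hn : Nat.card N = p ^ n) (h : Cfsg.iterCommutator N G (n - 1) ≠ ⊥ ∨ n = 0)
    {H : Subgroup L} (hHN : H ≤ N) (hGH : G ≤ normalizer (H : Set L)) :
    ∃ i ≤ n, H = Cfsg.iterCommutator N G i := by
  have hc := card_chain hN hG hGN hn h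
  have hp : p.Prime := Fact.out
  classical
  obtain ⟨i, hi, hmax⟩ : ∃ i, (i ≤ n ∧ H ≤ Cfsg.iterCommutator N G i) ∧
      ∀ j, (j ≤ n ∧ H ≤ Cfsg.iterCommutator N G j) → j ≤ i := by
    refine ⟨Nat.findGreatest (fun j => H ≤ Cfsg.iterCommutator N G j) n,
      ⟨Nat.findGreatest_le n, Nat.findGreatest_spec (P := fun j => H ≤ Cfsg.iterCommutator N G j)
        (Nat.zero_le n) hHN⟩, fun j hj => Nat.le_findGreatest hj.1 hj.2⟩
  refine ⟨i, hi.1, ?_⟩
  rcases Nat.eq_or_lt_of_le hi.1 with rfl | hlt
  · have hb : Cfsg.iterCommutator N G i = ⊥ :=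
      Subgroup.eq_bot_of_card_eq _ (by rw [hc i le_rfl, Nat.sub_self, pow_zero])
    exact le_antisymm hi.2 (hb ▸ bot_le)
  · have hnot : ¬ H ≤ Cfsg.iterCommutator N G (i + 1) := fun hh => by
      have := hmax (i + 1) ⟨hlt, hh⟩
      omega
    refine eq_of_sup_commutator (hN.to_le (chain_le hGN i)) hG (chain_le_normalizer hGN i) hi.2 hGH ?_
    have hle : H ⊔ Cfsg.iterCommutator N G (i + 1) ≤ Cfsg.iterCommutator N G i :=
      sup_le hi.2 (chain_succ_le hGN i)
    refine Subgroup.eq_of_le_of_card_ge hle ?_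
    obtain ⟨k, hk⟩ := IsPGroup.iff_card.1 (hN.to_le (hle.trans (chain_le hGN i)))
    have hlt' : Cfsg.iterCommutator N G (i + 1) < H ⊔ Cfsg.iterCommutator N G (i + 1) :=
      right_lt_sup.2 hnot
    have h1 : Nat.card (Cfsg.iterCommutator N G (i + 1)) <
        Nat.card (H ⊔ Cfsg.iterCommutator N G (i + 1) : Subgroup L) := by
      rcases (Subgroup.card_le_of_le hlt'.le).eq_or_lt with h2 | h2
      · exact absurd (Subgroup.eq_of_le_of_card_ge hlt'.le h2.ge) hlt'.ne
      · exact h2
    rw [hc (i + 1) hlt, hk, Nat.pow_lt_pow_iff_right hp.one_lt] at h1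
    exact (hc i hi.1).trans_le ((Nat.pow_le_pow_right hp.pos (by omega)).trans hk.ge)

/-- Uniserial actions have a chain of length `n`. -/
theorem chain_of_uniserial (hGN : G ≤ normalizer (N : Set L)) {n : ℕ}
    (hn : Nat.card N = p ^ n)
    (h : ∀ H : Subgroup L, H ≤ N → G ≤ normalizer (H : Set L) → H ≠ ⊥ → (⁅H, G⁆).relIndex H = p) :
    Cfsg.iterCommutator N G (n - 1) ≠ ⊥ ∨ n = 0 := by
  have hp : p.Prime := Fact.out
  rcases Nat.eq_zero_or_pos n with hn0 | hn0
  · exact Or.inr hn0
  left
  have hc : ∀ i ≤ n, Nat.card (Cfsg.iterCommutator N G i) = p ^ (n - i) := by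
    intro i
    induction i with
    | zero => intro _; exact hn
    | succ i ih =>
      intro hi
      have hci := ih (by omega)
      have hne : Cfsg.iterCommutator N G i ≠ ⊥ := fun hb => by
        rw [hb, Subgroup.card_bot] at hci
        have := Nat.one_lt_pow (show n - i ≠ 0 by omega) hp.one_lt
        omega
      have hr := h _ (chain_le hGN i) (chain_le_normalizer hGN i) hne
      have hm := relIndex_mul_card' (chain_succ_le hGN i)
      rw [show Cfsg.iterCommutator N G (i + 1) = ⁅Cfsg.iterCommutator N G i, G⁆ from rfl] at hm ⊢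
      rw [hr, hci] at hm
      have e : n - i = n - (i + 1) + 1 := by omega
      rw [e, pow_succ'] at hm
      exact Nat.eq_of_mul_eq_mul_left hp.pos hm
  intro hb
  have := hc (n - 1) (by omega)
  rw [hb, Subgroup.card_bot, show n - (n - 1) = 1 by omega, pow_one] at this
  exact hp.ne_one this.symm

/-- A chain of length `n` makes the action uniserial. -/
theorem uniserial_of_chain (hN : IsPGroup p N) (hG : IsPGroup p G)
    (hGN : G ≤ normalizer (N : Set L)) {n : ℕ} (hn : Nat.card N = p ^ n)
    (h : Cfsg.iterCommutator N G (n - 1) ≠ ⊥ ∨ n = 0)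
    {H : Subgroup L} (hHN : H ≤ N) (hGH : G ≤ normalizer (H : Set L)) (hne : H ≠ ⊥) :
    (⁅H, G⁆).relIndex H = p := by
  have hp : p.Prime := Fact.out
  have hc := card_chain hN hG hGN hn h
  obtain ⟨i, hi, rfl⟩ := eq_chain hN hG hGN hn h hHN hGH
  have hlt : i < n := by
    rcases Nat.eq_or_lt_of_le hi with rfl | h'
    · exact absurd (Subgroup.eq_bot_of_card_eq _ (by rw [hc i le_rfl, Nat.sub_self, pow_zero])) hne
    · exact h'
  have hm := relIndex_mul_card' (chain_succ_le hGN i)
  rw [hc i hi, hc (i + 1) hlt, show n - i = n - (i + 1) + 1 by omega, pow_succ'] at hm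
  exact Nat.eq_of_mul_eq_mul_right (pow_pos hp.pos _) hm

/-- With a chain of length `n` the terms of the chain are normal in `N`. -/
theorem chain_normal (hN : IsPGroup p N) (hG : IsPGroup p G) (hGN : G ≤ normalizer (N : Set L))
    {n : ℕ} (hn : Nat.card N = p ^ n) (h : Cfsg.iterCommutator N G (n - 1) ≠ ⊥ ∨ n = 0) :
    ∀ i ≤ n, N ≤ normalizer (Cfsg.iterCommutator N G i : Set L) := by
  intro i
  induction i with
  | zero => intro _; exact le_normalizer
  | succ i ih =>
    intro hi
    have hp : p.Prime := Fact.out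
    set C := Cfsg.iterCommutator N G i with hC
    have hCN : C ≤ N := chain_le hGN i
    have hP : N ⊔ G ≤ normalizer (C : Set L) := sup_le (ih (by omega)) (chain_le_normalizer hGN i)
    have hPp : IsPGroup p (N ⊔ G : Subgroup L) := IsPGroup.to_sup_of_normal_left' hN hG hGN
    have hc := card_chain hN hG hGN hn h
    have hne : C ≠ ⊥ := fun hb => by
      have := hc i (by omega)
      rw [← hC, hb, Subgroup.card_bot] at this
      have := Nat.one_lt_pow (show n - i ≠ 0 by omega) hp.one_lt
      omega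
    have hD : ⁅C, N ⊔ G⁆ ≤ C := commutator_le_self' hP
    have hDne : ⁅C, N ⊔ G⁆ ≠ C := commutator_ne hPp (hN.to_le hCN) hP hne
    have hDn : N ⊔ G ≤ normalizer ((⁅C, N ⊔ G⁆ : Subgroup L) : Set L) :=
      normalizer_commutator_ge_right _ _
    obtain ⟨j, hj, hjeq⟩ := eq_chain hN hG hGN hn h (hD.trans hCN) (le_sup_right.trans hDn)
    have hij : i < j := by
      by_contra hij
      have hji : j ≤ i := Nat.le_of_not_lt hij
      exact hDne (le_antisymm hD (hjeq ▸ chain_antitone hGN hji))
    have heq : Cfsg.iterCommutator N G (i + 1) = ⁅C, N ⊔ G⁆ :=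
      le_antisymm (Subgroup.commutator_mono le_rfl le_sup_right)
        (hjeq ▸ chain_antitone hGN hij)
    rw [heq]
    exact le_sup_left.trans hDn

end CfsgLib.Fusion.Uniserial
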